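import Mathlib

set_option autoImplicit false
set_option linter.unusedVariables false
set_option linter.style.haveILetI false

/-! A finite field with an involutory automorphism: trace, norm, fixed field. -/

namespace Cfsg.Lib.Classical

universe u

variable {F : Type u} [Field F]

/-- `σ` is an involutory automorphism different from the identity. -/
structure IsConj (σ : F →+* F) : Prop where
  invol : ∀ a, σ (σ a) = a
  ne_id : ∃ a, σ a ≠ a

variable {σ : F →+* F}

theorem IsConj.inj (hσ : IsConj σ) {a b : F} (h : σ a = σ b) : a = b := by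
  rw [← hσ.invol a, h, hσ.invol]

theorem IsConj.eq_zero (hσ : IsConj σ) {a : F} : σ a = 0 ↔ a = 0 := map_eq_zero σ

theorem IsConj.exists_trace_one (hσ : IsConj σ) : ∃ θ : F, θ + σ θ = 1 := by
  obtain ⟨b, hb⟩ : ∃ b : F, b + σ b ≠ 0 := by
    by_contra h
    push Not at h
    obtain ⟨a, ha⟩ := hσ.ne_id
    have h1 := h 1
    rw [map_one] at h1
    have h2 := h a
    exact ha (by linear_combination h2 - a * h1)
  refine ⟨b / (b + σ b), ?_⟩
  rw [map_div₀, map_add, hσ.invol, add_comm (σ b) b, ← add_div, div_self hb]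

theorem IsConj.exists_skew (hσ : IsConj σ) : ∃ c : F, c ≠ 0 ∧ c + σ c = 0 := by
  obtain ⟨a, ha⟩ := hσ.ne_id
  exact ⟨a - σ a, sub_ne_zero.mpr (Ne.symm ha), by rw [map_sub, hσ.invol]; ring⟩

/-- The fixed field. -/
def fixedField (σ : F →+* F) : Subfield F := σ.eqLocusField (RingHom.id F)

theorem mem_fixedField {a : F} : a ∈ fixedField σ ↔ σ a = a := Iff.rfl

theorem IsConj.norm_mem (hσ : IsConj σ) (a : F) : σ (a * σ a) = a * σ a := by
  rw [map_mul, hσ.invol, mul_comm]

theorem IsConj.trace_mem (hσ : IsConj σ) (a : F) : σ (a + σ a) = a + σ a := by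
  rw [map_add, hσ.invol, add_comm]

/-- Elementary Hilbert 90. -/
theorem IsConj.exists_div_eq (hσ : IsConj σ) {c : F} (hc : c * σ c = 1) :
    ∃ x : F, x ≠ 0 ∧ x = c * σ x := by
  obtain ⟨b, hb⟩ : ∃ b : F, b + c * σ b ≠ 0 := by
    by_contra h
    push Not at h
    obtain ⟨a, ha⟩ := hσ.ne_id
    have h1 := h 1
    rw [map_one, mul_one] at h1
    have h2 := h a
    exact ha (by linear_combination -h2 + σ a * h1)
  refine ⟨b + c * σ b, hb, ?_⟩
  rw [map_add, map_mul, hσ.invol]
  linear_combination (-b) * hc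

theorem IsConj.card_eq_sq [Finite F] (hσ : IsConj σ) :
    Nat.card F = Nat.card (fixedField σ) ^ 2 := by
  obtain ⟨θ, hθ⟩ := hσ.exists_trace_one
  obtain ⟨c, hc0, hc⟩ := hσ.exists_skew
  have e : fixedField σ × fixedField σ ≃ F :=
    { toFun := fun p => (p.1 : F) * θ + (p.2 : F) * c
      invFun := fun x => (⟨x + σ x, hσ.trace_mem x⟩,
        ⟨(x - (x + σ x) * θ) / c, by
          rw [mem_fixedField, map_div₀, map_sub, map_mul, hσ.trace_mem,
            eq_neg_of_add_eq_zero_right hc, div_eq_div_iff (neg_ne_zero.mpr hc0) hc0]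
          linear_combination (-(x + σ x) * c) * hθ⟩)
      left_inv := fun p => by
        obtain ⟨⟨a, ha⟩, ⟨b, hb⟩⟩ := p
        rw [mem_fixedField] at ha hb
        have h1 : a * θ + b * c + σ (a * θ + b * c) = a := by
          rw [map_add, map_mul, map_mul, ha, hb]
          linear_combination a * hθ + b * hc
        refine Prod.ext (Subtype.ext h1) (Subtype.ext ?_)
        change (a * θ + b * c - (a * θ + b * c + σ (a * θ + b * c)) * θ) / c = b
        rw [h1]
        field_simp
        ring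
      right_inv := fun x => by
        change (x + σ x) * θ + (x - (x + σ x) * θ) / c * c = x
        rw [div_mul_cancel₀ _ hc0]
        ring }
  rw [← Nat.card_congr e, Nat.card_prod, sq]

theorem IsConj.two_le_card_fixed [Finite F] (hσ : IsConj σ) : 2 ≤ Nat.card (fixedField σ) :=
  Finite.one_lt_card

/-- The norm on units. -/
def normUnits (σ : F →+* F) : Fˣ →* Fˣ where
  toFun x := x * Units.map σ.toMonoidHom x
  map_one' := by simp
  map_mul' a b := by rw [map_mul, mul_mul_mul_comm]

theorem coe_normUnits (x : Fˣ) : (normUnits σ x : F) = x * σ x := rfl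

theorem IsConj.card_fixedUnits [Finite F] (hσ : IsConj σ) :
    Nat.card {x : Fˣ // σ x = x} = Nat.card (fixedField σ) - 1 := by
  rw [← Nat.card_units]
  exact Nat.card_congr
    { toFun := fun x => Units.mk0 ⟨x.1, x.2⟩ (fun h => x.1.ne_zero (congrArg Subtype.val h))
      invFun := fun x => ⟨Units.mk0 (x.1 : F) (fun h => x.ne_zero (Subtype.ext h)), x.1.2⟩
      left_inv := fun x => Subtype.ext (Units.ext rfl)
      right_inv := fun x => Units.ext rfl }

theorem IsConj.card_norm_ker [Finite F] (hσ : IsConj σ) :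
    Nat.card (normUnits σ).ker = Nat.card (fixedField σ) + 1 := by
  let θ : Fˣ →* Fˣ := MonoidHom.id Fˣ / Units.map σ.toMonoidHom
  have hr : θ.range = (normUnits σ).ker := by
    ext c
    constructor
    · rintro ⟨x, rfl⟩
      rw [MonoidHom.mem_ker]
      apply Units.ext
      simp only [θ, coe_normUnits, MonoidHom.div_apply, MonoidHom.id_apply, Units.val_div_eq_div_val,
        Units.coe_map, map_div₀, Units.val_one]
      change (x : F) / σ x * (σ x / σ (σ x)) = 1
      rw [hσ.invol]
      have : σ (x : F) ≠ 0 := (map_ne_zero σ).mpr x.ne_zero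
      field_simp
    · intro hc
      obtain ⟨x, hx, hxe⟩ := hσ.exists_div_eq (c := (c : F))
        (by simpa [coe_normUnits] using congrArg Units.val (MonoidHom.mem_ker.mp hc))
      refine ⟨Units.mk0 x hx, Units.ext ?_⟩
      simp only [θ, MonoidHom.div_apply, MonoidHom.id_apply, Units.val_div_eq_div_val, Units.coe_map]
      change x / σ x = c
      rw [div_eq_iff ((map_ne_zero σ).mpr hx), ← hxe]
  have hk : Nat.card θ.ker = Nat.card (fixedField σ) - 1 := by
    rw [← hσ.card_fixedUnits]
    refine Nat.card_congr (Equiv.subtypeEquivRight fun x => ?_)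
    simp only [θ, MonoidHom.mem_ker, MonoidHom.div_apply, div_eq_one, MonoidHom.id_apply]
    exact ⟨fun h => (congrArg Units.val h).symm, fun h => Units.ext h.symm⟩
  have h1 := θ.ker.card_mul_index
  rw [Subgroup.index_ker, hr, hk, Nat.card_units, hσ.card_eq_sq,
    show Nat.card (fixedField σ) ^ 2 - 1 = (Nat.card (fixedField σ) - 1) * (Nat.card (fixedField σ) + 1) by
      rw [mul_comm, ← Nat.sq_sub_sq, one_pow]] at h1
  exact Nat.eq_of_mul_eq_mul_left (by have := hσ.two_le_card_fixed; omega) h1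

theorem IsConj.norm_surjective [Finite F] (hσ : IsConj σ) {a : F} (ha : σ a = a) :
    ∃ b : F, b * σ b = a := by
  rcases eq_or_ne a 0 with rfl | ha0
  · exact ⟨0, zero_mul _⟩
  have hle : ((normUnits σ).range : Set Fˣ) ⊆ {x : Fˣ | σ x = x} := by
    rintro _ ⟨x, rfl⟩; exact hσ.norm_mem x
  have h1 := (normUnits σ).ker.card_mul_index
  rw [Subgroup.index_ker, hσ.card_norm_ker, Nat.card_units, hσ.card_eq_sq,
    show Nat.card (fixedField σ) ^ 2 - 1 = (Nat.card (fixedField σ) + 1) * (Nat.card (fixedField σ) - 1) by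
      rw [← Nat.sq_sub_sq, one_pow]] at h1
  have h2 := Nat.eq_of_mul_eq_mul_left (by omega) h1
  have heq := Set.eq_of_subset_of_ncard_le hle (le_of_eq (by
    rw [← Nat.card_coe_set_eq, ← Nat.card_coe_set_eq]
    exact (hσ.card_fixedUnits).trans h2.symm)) (Set.toFinite _)
  obtain ⟨x, hx⟩ : Units.mk0 a ha0 ∈ ((normUnits σ).range : Set Fˣ) := by rw [heq]; exact ha
  exact ⟨x, congrArg Units.val hx⟩

theorem IsConj.card_norm_fiber [Finite F] (hσ : IsConj σ) {a : F} (ha : σ a = a) (ha0 : a ≠ 0) :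
    Nat.card {b : F // b * σ b = a} = Nat.card (fixedField σ) + 1 := by
  obtain ⟨b₀, hb₀⟩ := hσ.norm_surjective ha
  have hb : b₀ ≠ 0 := fun h => ha0 (by rw [← hb₀, h, zero_mul])
  have hσb : σ b₀ ≠ 0 := (map_ne_zero σ).mpr hb
  rw [← hσ.card_norm_ker]
  refine Nat.card_congr
    { toFun := fun b => ⟨Units.mk0 (b.1 / b₀) (div_ne_zero (fun h => ha0 (by rw [← b.2, h, zero_mul])) hb), ?_⟩
      invFun := fun c => ⟨(c.1 : F) * b₀, ?_⟩
      left_inv := fun b => Subtype.ext (div_mul_cancel₀ _ hb)
      right_inv := fun c => Subtype.ext (Units.ext (mul_div_cancel_right₀ _ hb)) }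
  · rw [MonoidHom.mem_ker]
    apply Units.ext
    rw [coe_normUnits, Units.val_mk0, map_div₀, Units.val_one, div_mul_div_comm, b.2, hb₀, div_self ha0]
  · have : (c.1 : F) * σ c.1 = 1 := congrArg Units.val (MonoidHom.mem_ker.mp c.2)
    rw [map_mul, mul_mul_mul_comm, this, one_mul, hb₀]

/-- `x ↦ x ^ q` on a field with `q²` elements. -/
theorem exists_conj_pow [Fintype F] {q : ℕ} (hF : Fintype.card F = q ^ 2) :
    ∃ σ : F →+* F, IsConj σ ∧ (∀ x, σ x = x ^ q) ∧ Nat.card (fixedField σ) = q := by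
  obtain ⟨p, k, hp, hp', hk⟩ : ∃ p k : ℕ, p.Prime ∧ CharP F p ∧ q = p ^ k := by
    obtain ⟨p, hp⟩ := CharP.exists F
    obtain ⟨n, hpr, hn⟩ := FiniteField.card F p
    obtain ⟨k, -, hk⟩ := (Nat.dvd_prime_pow hpr).mp (hn ▸ (hF ▸ dvd_pow_self q two_ne_zero))
    exact ⟨p, k, hpr, hp, hk⟩
  haveI := hp'
  haveI : ExpChar F p := ExpChar.prime hp
  have hq2 : 2 ≤ q := by
    have h := Fintype.one_lt_card (α := F)
    rw [hF] at h
    by_contra hc
    interval_cases q <;> simp at h
  refine ⟨iterateFrobenius F p k, ?_⟩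
  have hpow : ∀ x : F, iterateFrobenius F p k x = x ^ q := fun x => by rw [iterateFrobenius_def, hk]
  have hconj : IsConj (iterateFrobenius F p k) := by
    refine ⟨fun a => ?_, ?_⟩
    · rw [hpow, hpow, ← pow_mul, ← sq, ← hF, FiniteField.pow_card]
    · by_contra h
      push Not at h
      obtain ⟨g, hg⟩ := IsCyclic.exists_generator (α := Fˣ)
      have h1 : g ^ q = g := Units.ext (by rw [Units.val_pow_eq_pow_val, ← hpow]; exact h g)
      have hord : orderOf g = q ^ 2 - 1 := by
        rw [orderOf_eq_card_of_forall_mem_zpowers hg, Nat.card_units, Nat.card_eq_fintype_card, hF]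
      have h2 : g ^ (q - 1) = 1 := by
        rw [← mul_left_inj g, ← pow_succ, Nat.sub_add_cancel (by omega), one_mul, h1]
      have h3 := Nat.le_of_dvd (by omega) (orderOf_dvd_of_pow_eq_one h2)
      rw [hord] at h3
      have : 2 * q ≤ q ^ 2 := by nlinarith
      omega
  refine ⟨hconj, hpow, ?_⟩
  have := hconj.card_eq_sq
  rw [Nat.card_eq_fintype_card (α := F), hF] at this
  exact (Nat.pow_left_injective two_ne_zero this).symm

end Cfsg.Lib.Classical
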