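import Mathlib
import Cfsg.Agent.Classical.Unitary.Field

set_option autoImplicit false
set_option linter.unusedVariables false
set_option linter.unusedSimpArgs false
set_option linter.style.haveILetI false

/-! Hermitian spaces over finite fields: orthonormal bases, hyperbolic pairs, Witt's lemma. -/

namespace Cfsg.Lib.Classical

universe u v w

/-- A nondegenerate Hermitian form, linear in the first argument. -/
structure HermSpace (F : Type u) [Field F] (V : Type v) [AddCommGroup V] [Module F V] where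
  σ : F →+* F
  h : V → V → F
  conj : IsConj σ
  add_left : ∀ x y z, h (x + y) z = h x z + h y z
  smul_left : ∀ (c : F) (x z : V), h (c • x) z = c * h x z
  symm : ∀ x y, h x y = σ (h y x)
  nondeg : ∀ v, (∀ x, h x v = 0) → v = 0

variable {F : Type u} [Field F] {V : Type v} [AddCommGroup V] [Module F V]

namespace HermSpace

variable (H : HermSpace F V)

theorem add_right (x y z : V) : H.h x (y + z) = H.h x y + H.h x z := by
  rw [H.symm, H.add_left, map_add, ← H.symm, ← H.symm]

theorem smul_right (c : F) (x z : V) : H.h x (c • z) = H.σ c * H.h x z := by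
  rw [H.symm, H.smul_left, map_mul, ← H.symm]

/-- `h (·) v` as a functional. -/
def lin (v : V) : Module.Dual F V where
  toFun x := H.h x v
  map_add' x y := H.add_left x y v
  map_smul' c x := H.smul_left c x v

theorem lin_apply (v x : V) : H.lin v x = H.h x v := rfl

theorem zero_left (x : V) : H.h 0 x = 0 := map_zero (H.lin x)

theorem zero_right (x : V) : H.h x 0 = 0 := by rw [H.symm, H.zero_left, map_zero]

theorem neg_left (x y : V) : H.h (-x) y = -H.h x y := map_neg (H.lin y) x

theorem neg_right (x y : V) : H.h x (-y) = -H.h x y := by rw [H.symm, H.neg_left, map_neg, ← H.symm]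

theorem sub_left (x y z : V) : H.h (x - y) z = H.h x z - H.h y z := map_sub (H.lin z) x y

theorem sub_right (x y z : V) : H.h x (y - z) = H.h x y - H.h x z := by
  rw [H.symm, H.sub_left, map_sub, ← H.symm, ← H.symm]

theorem sum_left {ι : Type*} (s : Finset ι) (f : ι → V) (y : V) :
    H.h (∑ i ∈ s, f i) y = ∑ i ∈ s, H.h (f i) y := map_sum (H.lin y) f s

theorem sum_right {ι : Type*} (s : Finset ι) (f : ι → V) (x : V) :
    H.h x (∑ i ∈ s, f i) = ∑ i ∈ s, H.h x (f i) := by
  rw [H.symm, H.sum_left, map_sum]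
  exact Finset.sum_congr rfl fun i _ => (H.symm _ _).symm

theorem self_fixed (x : V) : H.σ (H.h x x) = H.h x x := (H.symm x x).symm

theorem eq_zero_symm {x y : V} (h : H.h x y = 0) : H.h y x = 0 := by rw [H.symm, h, map_zero]

theorem ext_of_forall {v w : V} (h : ∀ x, H.h x v = H.h x w) : v = w :=
  sub_eq_zero.mp (H.nondeg _ fun x => by rw [H.sub_right, h, sub_self])

/-- Every functional is given by the form. -/
theorem exists_lin [Finite F] [FiniteDimensional F V] (φ : Module.Dual F V) :
    ∃ w, ∀ x, H.h x w = φ x := by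
  haveI : Finite V := Module.finite_of_finite F
  haveI : Finite (Module.Dual F V) := Module.finite_of_finite F
  have hinj : Function.Injective H.lin := fun a b hab =>
    H.ext_of_forall fun x => LinearMap.congr_fun hab x
  have hc : Nat.card V = Nat.card (Module.Dual F V) := by
    rw [Module.natCard_eq_pow_finrank (K := F), Module.natCard_eq_pow_finrank (K := F) (V := Module.Dual F V),
      Subspace.dual_finrank_eq]
  obtain ⟨w, hw⟩ := ((Nat.bijective_iff_injective_and_card _).mpr ⟨hinj, hc⟩).2 φ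
  exact ⟨w, fun x => by rw [← hw]; rfl⟩

theorem exists_partner [Finite F] [FiniteDimensional F V] {v : V} (hv : v ≠ 0) : ∃ u, H.h v u = 1 := by
  obtain ⟨φ, hφ⟩ := Module.Projective.exists_dual_ne_zero F hv
  obtain ⟨w, hw⟩ := H.exists_lin ((φ v)⁻¹ • φ)
  exact ⟨w, by rw [hw, LinearMap.smul_apply, smul_eq_mul, inv_mul_cancel₀ hφ]⟩

theorem exists_hyperbolic [Finite F] [FiniteDimensional F V] {v : V} (hv : v ≠ 0) (hvv : H.h v v = 0) :
    ∃ u, H.h v u = 1 ∧ H.h u u = 0 := by
  obtain ⟨u, hu⟩ := H.exists_partner hv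
  obtain ⟨θ, hθ⟩ := H.conj.exists_trace_one
  refine ⟨u - (θ * H.h u u) • v, ?_, ?_⟩
  · rw [H.sub_right, H.smul_right, hvv, mul_zero, sub_zero, hu]
  · rw [H.sub_left, H.sub_right, H.sub_right, H.smul_left, H.smul_left, H.smul_right, H.smul_right, hvv,
      hu, H.symm u v, hu, map_one, map_mul, H.self_fixed]
    linear_combination (-H.h u u) * hθ

/-- Orthogonal of a subspace. -/
def orth (W : Submodule F V) : Submodule F V where
  carrier := {x | ∀ w ∈ W, H.h x w = 0}
  add_mem' {a b} ha hb w hw := by rw [H.add_left, ha w hw, hb w hw, add_zero]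
  zero_mem' w hw := H.zero_left w
  smul_mem' c a ha w hw := by rw [H.smul_left, ha w hw, mul_zero]

theorem mem_orth {W : Submodule F V} {x : V} : x ∈ H.orth W ↔ ∀ w ∈ W, H.h x w = 0 := Iff.rfl

theorem mem_orth_span {s : Set V} {x : V} : x ∈ H.orth (Submodule.span F s) ↔ ∀ w ∈ s, H.h x w = 0 := by
  refine ⟨fun h w hw => h w (Submodule.subset_span hw), fun h w hw => ?_⟩
  induction hw using Submodule.span_induction with
  | mem w hw => exact h w hw
  | zero => exact H.zero_right x
  | add a b _ _ ha hb => rw [H.add_right, ha, hb, add_zero]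
  | smul c a _ ha => rw [H.smul_right, ha, mul_zero]

theorem le_orth_orth (W : Submodule F V) : W ≤ H.orth (H.orth W) :=
  fun w hw x hx => H.eq_zero_symm (hx w hw)

theorem exists_extend_dual [Finite F] [FiniteDimensional F V] {W : Submodule F V} (ψ : Module.Dual F W) :
    ∃ y, ∀ w : W, H.h (w : V) y = ψ w := by
  obtain ⟨φ, hφ⟩ := LinearMap.exists_extend ψ
  obtain ⟨y, hy⟩ := H.exists_lin φ
  exact ⟨y, fun w => by rw [hy]; exact LinearMap.congr_fun hφ w⟩

theorem finrank_orth [Finite F] [FiniteDimensional F V] (W : Submodule F V) :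
    Module.finrank F (H.orth W) = Module.finrank F V - Module.finrank F W := by
  let b := Module.finBasis F W
  let L : V →ₗ[F] (Fin (Module.finrank F W) → F) := LinearMap.pi fun i => H.lin (b i : V)
  have hker : LinearMap.ker L = H.orth W := by
    ext x
    rw [LinearMap.mem_ker]
    refine ⟨fun h w hw => ?_, fun h => funext fun i => h _ (b i).2⟩
    have h0 : ∀ i, H.h x (b i : V) = 0 := fun i => congrFun h i
    have e := congrArg Subtype.val (b.sum_repr ⟨w, hw⟩)
    rw [← show _ = w from e, AddSubmonoidClass.coe_finsetSum, H.sum_right]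
    exact Finset.sum_eq_zero fun i _ => by rw [Submodule.coe_smul, H.smul_right, h0, mul_zero]
  have hsurj : LinearMap.range L = ⊤ := by
    rw [LinearMap.range_eq_top]
    intro c
    obtain ⟨y, hy⟩ := H.exists_extend_dual (b.constr F fun i => H.σ (c i))
    refine ⟨y, funext fun i => ?_⟩
    change H.h y (b i : V) = c i
    rw [H.symm, hy, b.constr_basis, H.conj.invol]
  have := L.finrank_range_add_finrank_ker
  rw [hsurj, finrank_top, Module.finrank_fin_fun, hker] at this
  omega

theorem orth_orth [Finite F] [FiniteDimensional F V] (W : Submodule F V) : H.orth (H.orth W) = W := by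
  refine (Submodule.eq_of_le_of_finrank_le (H.le_orth_orth W) ?_).symm
  rw [H.finrank_orth, H.finrank_orth]
  have := Submodule.finrank_le W
  omega

/-- `h` is nondegenerate on `W`. -/
def NondegOn (W : Submodule F V) : Prop := ∀ v ∈ W, (∀ x ∈ W, H.h x v = 0) → v = 0

theorem nondegOn_iff_disjoint (W : Submodule F V) : H.NondegOn W ↔ Disjoint W (H.orth W) := by
  rw [Submodule.disjoint_def]
  constructor
  · exact fun h x hx hxo => h x hx fun y hy => H.eq_zero_symm (hxo y hy)
  · exact fun h x hx hxo => h x hx fun y hy => H.eq_zero_symm (hxo y hy)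

theorem isCompl_orth [Finite F] [FiniteDimensional F V] {W : Submodule F V} (hW : H.NondegOn W) :
    IsCompl W (H.orth W) := by
  have hd := (H.nondegOn_iff_disjoint W).mp hW
  refine ⟨hd, codisjoint_iff.mpr (Submodule.eq_top_of_finrank_eq ?_)⟩
  have := Submodule.finrank_sup_add_finrank_inf_eq W (H.orth W)
  rw [hd.eq_bot, finrank_bot, H.finrank_orth] at this
  have := Submodule.finrank_le W
  omega

theorem nondegOn_orth [Finite F] [FiniteDimensional F V] {W : Submodule F V} (hW : H.NondegOn W) :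
    H.NondegOn (H.orth W) := by
  rw [H.nondegOn_iff_disjoint, H.orth_orth]
  exact ((H.nondegOn_iff_disjoint W).mp hW).symm

/-- The restriction to a nondegenerate subspace. -/
def restrict (W : Submodule F V) (hW : H.NondegOn W) : HermSpace F W where
  σ := H.σ
  h x y := H.h x y
  conj := H.conj
  add_left x y z := H.add_left _ _ _
  smul_left c x z := H.smul_left _ _ _
  symm x y := H.symm _ _
  nondeg v hv := Subtype.ext (hW v v.2 fun x hx => hv ⟨x, hx⟩)

theorem nondegOn_span_singleton {v : V} (hv : H.h v v ≠ 0) : H.NondegOn (Submodule.span F {v}) := by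
  intro x hx hxo
  obtain ⟨c, rfl⟩ := Submodule.mem_span_singleton.mp hx
  have := hxo v (Submodule.mem_span_singleton_self v)
  rw [H.smul_right, mul_eq_zero] at this
  rcases this with h | h
  · rw [H.conj.eq_zero.mp h, zero_smul]
  · exact absurd h hv

theorem nondegOn_hyperbolic {v u : V} (hvv : H.h v v = 0) (hvu : H.h v u = 1) :
    H.NondegOn (Submodule.span F {v, u}) := by
  intro x hx hxo
  obtain ⟨a, b, rfl⟩ := Submodule.mem_span_pair.mp hx
  have h1 := hxo v (Submodule.subset_span (by simp))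
  rw [H.add_right, H.smul_right, H.smul_right, hvv, hvu, mul_zero, zero_add, mul_one] at h1
  have hb := H.conj.eq_zero.mp h1
  subst hb
  have h2 := hxo u (Submodule.subset_span (by simp))
  rw [H.add_right, H.smul_right, zero_smul, H.zero_right, add_zero, H.symm u v, hvu, map_one, mul_one] at h2
  rw [H.conj.eq_zero.mp h2, zero_smul, zero_smul, add_zero]

theorem finrank_hyperbolic {v u : V} (hvv : H.h v v = 0) (hvu : H.h v u = 1) :
    Module.finrank F (Submodule.span F ({v, u} : Set V)) = 2 := by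
  have hli : LinearIndependent F ![v, u] := by
    rw [LinearIndependent.pair_iff]
    intro a b hab
    have h1 := congrArg (H.h v) hab
    rw [H.add_right, H.smul_right, H.smul_right, hvv, hvu, H.zero_right, mul_zero, zero_add, mul_one] at h1
    have hb := H.conj.eq_zero.mp h1
    subst hb
    rw [zero_smul, add_zero] at hab
    have hv : v ≠ 0 := fun h => by rw [h, H.zero_left] at hvu; exact zero_ne_one hvu
    exact ⟨(smul_eq_zero.mp hab).resolve_right hv, rfl⟩
  have := finrank_span_eq_card hli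
  rwa [Matrix.range_cons_cons_empty, Fintype.card_fin] at this

theorem exists_anisotropic [Finite F] [FiniteDimensional F V] [Nontrivial V] : ∃ v, H.h v v ≠ 0 := by
  by_contra hc
  push Not at hc
  obtain ⟨v, hv⟩ := exists_ne (0 : V)
  obtain ⟨u, hu⟩ := H.exists_partner hv
  obtain ⟨θ, hθ⟩ := H.conj.exists_trace_one
  have := hc (θ • v + u)
  simp only [H.add_left, H.add_right, H.smul_left, H.smul_right, hc, hu, H.symm u v, map_one, mul_one,
    mul_zero, zero_add, add_zero] at this
  rw [hθ] at this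
  exact one_ne_zero this

theorem exists_norm_one [Finite F] [FiniteDimensional F V] [Nontrivial V] : ∃ v, H.h v v = 1 := by
  obtain ⟨v, hv⟩ := H.exists_anisotropic
  obtain ⟨b, hb⟩ := H.conj.norm_surjective (a := (H.h v v)⁻¹) (by rw [map_inv₀, H.self_fixed])
  exact ⟨b • v, by rw [H.smul_left, H.smul_right, ← mul_assoc, hb, inv_mul_cancel₀ hv]⟩

theorem orthonormal_aux [Finite F] : ∀ (n : ℕ) {V : Type v} [AddCommGroup V] [Module F V]
    [FiniteDimensional F V] (H : HermSpace F V), Module.finrank F V = n →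
    ∃ b : Module.Basis (Fin n) F V, ∀ i j, H.h (b i) (b j) = if i = j then 1 else 0 := by
  intro n
  induction n with
  | zero => intro V _ _ _ H hn; exact ⟨Module.finBasisOfFinrankEq F V hn, fun i => i.elim0⟩
  | succ n ih =>
    intro V _ _ _ H hn
    haveI : Nontrivial V := Module.nontrivial_of_finrank_pos (R := F) (by omega)
    obtain ⟨v, hv⟩ := H.exists_norm_one
    have hW := H.nondegOn_span_singleton (v := v) (by rw [hv]; exact one_ne_zero)
    have hv0 : v ≠ 0 := fun h => by rw [h, H.zero_left] at hv; exact zero_ne_one hv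
    have hc := H.isCompl_orth hW
    have hfr : Module.finrank F (H.orth (Submodule.span F {v})) = n := by
      rw [H.finrank_orth, finrank_span_singleton hv0, hn]; omega
    obtain ⟨b, hb⟩ := ih (H.restrict _ (H.nondegOn_orth hW)) hfr
    let w : Fin (n + 1) → V := Fin.cons v fun i => (b i : V)
    have hspan : ⊤ ≤ Submodule.span F (Set.range w) := by
      rw [← hc.sup_eq_top, sup_le_iff]
      refine ⟨(Submodule.span_singleton_le_iff_mem _ _).mpr (Submodule.subset_span ⟨0, rfl⟩), fun z hz => ?_⟩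
      have h1 : (⟨z, hz⟩ : H.orth (Submodule.span F {v})) ∈ Submodule.span F (Set.range b) := by
        rw [b.span_eq]; trivial
      refine Submodule.span_mono ?_ (Submodule.apply_mem_span_image_of_mem_span (Submodule.subtype _) h1)
      rintro _ ⟨_, ⟨i, rfl⟩, rfl⟩
      exact ⟨i.succ, rfl⟩
    refine ⟨basisOfTopLeSpanOfCardEqFinrank w hspan (by rw [Fintype.card_fin, hn]), ?_⟩
    simp only [coe_basisOfTopLeSpanOfCardEqFinrank]
    have o1 : ∀ i, H.h (b i : V) v = 0 := fun i => (b i).2 v (Submodule.mem_span_singleton_self v)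
    intro i j
    refine Fin.cases ?_ (fun i => ?_) i <;> refine Fin.cases ?_ (fun j => ?_) j
    · simp [w, hv]
    · simp [w, H.eq_zero_symm (o1 j), (Fin.succ_ne_zero j).symm]
    · simp [w, o1 i, Fin.succ_ne_zero i]
    · simp only [w, Fin.cons_succ, Fin.succ_inj]
      exact hb i j

theorem exists_orthonormal [Finite F] [FiniteDimensional F V] :
    ∃ b : Module.Basis (Fin (Module.finrank F V)) F V, ∀ i j, H.h (b i) (b j) = if i = j then 1 else 0 :=
  orthonormal_aux _ H rfl

theorem h_eq_sum {ι : Type*} [Fintype ι] [DecidableEq ι] (b : Module.Basis ι F V)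
    (hb : ∀ i j, H.h (b i) (b j) = if i = j then 1 else 0) (x y : V) :
    H.h x y = ∑ i, b.repr x i * H.σ (b.repr y i) := by
  conv_lhs => rw [← b.sum_repr x, ← b.sum_repr y]
  simp only [H.sum_left, H.smul_left, H.sum_right, H.smul_right, hb, mul_ite, mul_one, mul_zero,
    Finset.sum_ite_eq, Finset.mem_univ, if_true]

/-- Spaces of the same dimension are isometric. -/
theorem exists_isometry [Finite F] [FiniteDimensional F V] {V' : Type w} [AddCommGroup V'] [Module F V']
    [FiniteDimensional F V'] (H' : HermSpace F V') (hσ : H'.σ = H.σ)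
    (hd : Module.finrank F V = Module.finrank F V') :
    ∃ e : V ≃ₗ[F] V', ∀ x y, H'.h (e x) (e y) = H.h x y := by
  obtain ⟨b, hb⟩ := H.exists_orthonormal
  obtain ⟨b', hb'⟩ := H'.exists_orthonormal
  refine ⟨b.equiv b' (finCongr hd), fun x y => ?_⟩
  rw [H'.h_eq_sum b' hb', H.h_eq_sum b hb, hσ, ← Equiv.sum_comp (finCongr hd)]
  have hrep : ∀ (x : V) (i : Fin (Module.finrank F V)),
      b'.repr (b.equiv b' (finCongr hd) x) (finCongr hd i) = b.repr x i := fun x i => by
    have : (b'.coord (finCongr hd i)).comp (b.equiv b' (finCongr hd)).toLinearMap = b.coord i :=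
      b.ext fun j => by simp [Finsupp.single_apply]
    exact LinearMap.congr_fun this x
  exact Finset.sum_congr rfl fun i _ => by rw [hrep, hrep]

/-- The isometry group. -/
def Isom : Subgroup (V ≃ₗ[F] V) where
  carrier := {g | ∀ x y, H.h (g x) (g y) = H.h x y}
  mul_mem' {a b} ha hb := by
    intro x y
    change H.h (a (b x)) (a (b y)) = _
    rw [ha, hb]
  one_mem' := fun x y => rfl
  inv_mem' {a} ha := by
    intro x y
    have := ha (a.symm x) (a.symm y)
    rw [LinearEquiv.apply_symm_apply, LinearEquiv.apply_symm_apply] at this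
    exact this.symm

theorem map_form (g : H.Isom) (x y : V) : H.h (g.1 x) (g.1 y) = H.h x y := g.2 x y

theorem isom_ext {g h : H.Isom} (e : ∀ x, g.1 x = h.1 x) : g = h := Subtype.ext (LinearEquiv.ext e)

theorem mul_apply' (g k : H.Isom) (x : V) : (g * k).1 x = g.1 (k.1 x) := rfl

theorem inv_apply_self (g : H.Isom) (x : V) : (g⁻¹).1 (g.1 x) = x := g.1.symm_apply_apply x

theorem apply_inv_self (g : H.Isom) (x : V) : g.1 ((g⁻¹).1 x) = x := g.1.apply_symm_apply x

/-- Combine isometries on `W` and on `Wᗮ` (into a possibly different decomposition). -/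
theorem exists_glue [Finite F] [FiniteDimensional F V] {W W' : Submodule F V} (hW : H.NondegOn W)
    (hW' : H.NondegOn W') (e₁ : W →ₗ[F] W') (e₂ : H.orth W →ₗ[F] H.orth W')
    (h₁ : ∀ x y, H.h (e₁ x : V) (e₁ y) = H.h (x : V) y)
    (h₂ : ∀ x y, H.h (e₂ x : V) (e₂ y) = H.h (x : V) y) :
    ∃ g : H.Isom, (∀ w : W, g.1 w = (e₁ w : V)) ∧ ∀ w : H.orth W, g.1 w = (e₂ w : V) := by
  have hc := H.isCompl_orth hW
  let φ : V →ₗ[F] V := LinearMap.ofIsCompl hc (W'.subtype ∘ₗ e₁) ((H.orth W').subtype ∘ₗ e₂)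
  have hl : ∀ w : W, φ w = (e₁ w : V) := fun w => LinearMap.ofIsCompl_apply_left hc w
  have hr : ∀ w : H.orth W, φ w = (e₂ w : V) := fun w => LinearMap.ofIsCompl_apply_right hc w
  have hiso : ∀ x y, H.h (φ x) (φ y) = H.h x y := by
    intro x y
    obtain ⟨a, ha, b, hb, rfl⟩ := Submodule.mem_sup.mp
      (hc.sup_eq_top ▸ Submodule.mem_top : x ∈ W ⊔ H.orth W)
    obtain ⟨c, hc', d, hd, rfl⟩ := Submodule.mem_sup.mp
      (hc.sup_eq_top ▸ Submodule.mem_top : y ∈ W ⊔ H.orth W)
    have p1 : H.h (e₁ ⟨a, ha⟩ : V) (e₁ ⟨c, hc'⟩) = H.h a c := h₁ _ _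
    have p2 : H.h (e₂ ⟨b, hb⟩ : V) (e₂ ⟨d, hd⟩) = H.h b d := h₂ _ _
    have p3 : H.h (e₁ ⟨a, ha⟩ : V) (e₂ ⟨d, hd⟩) = 0 :=
      H.eq_zero_symm ((e₂ ⟨d, hd⟩).2 _ (e₁ ⟨a, ha⟩).2)
    have p4 : H.h (e₂ ⟨b, hb⟩ : V) (e₁ ⟨c, hc'⟩) = 0 := (e₂ ⟨b, hb⟩).2 _ (e₁ ⟨c, hc'⟩).2
    rw [map_add, map_add, hl ⟨a, ha⟩, hl ⟨c, hc'⟩, hr ⟨b, hb⟩, hr ⟨d, hd⟩]
    simp only [H.add_left, H.add_right, p1, p2, p3, p4, hb c hc', H.eq_zero_symm (hd a ha)]
  have hinj : Function.Injective φ := by
    rw [injective_iff_map_eq_zero]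
    exact fun x hx => H.nondeg x fun y => by rw [← hiso, hx, H.zero_right]
  exact ⟨⟨LinearEquiv.ofBijective φ ⟨hinj, LinearMap.injective_iff_surjective.mp hinj⟩, hiso⟩, hl, hr⟩

/-- An isometry between nondegenerate subspaces extends. -/
theorem exists_extend_nondeg [Finite F] [FiniteDimensional F V] {W W' : Submodule F V} (hW : H.NondegOn W)
    (hW' : H.NondegOn W') (e : W ≃ₗ[F] W') (he : ∀ x y, H.h (e x : V) (e y) = H.h (x : V) y) :
    ∃ g : H.Isom, ∀ w : W, g.1 w = (e w : V) := by
  obtain ⟨e₂, he₂⟩ := (H.restrict _ (H.nondegOn_orth hW)).exists_isometry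
    (H.restrict _ (H.nondegOn_orth hW')) rfl (by rw [H.finrank_orth, H.finrank_orth, e.finrank_eq])
  obtain ⟨g, hg, -⟩ := H.exists_glue hW hW' e.toLinearMap e₂.toLinearMap he he₂
  exact ⟨g, hg⟩

/-- Transitivity on vectors of a given nonzero norm. -/
theorem transitive_anisotropic [Finite F] [FiniteDimensional F V] {v v' : V} (hv : H.h v v ≠ 0)
    (h : H.h v' v' = H.h v v) : ∃ g : H.Isom, g.1 v = v' := by
  have hv0 : v ≠ 0 := fun e => hv (by rw [e, H.zero_left])
  have hv0' : v' ≠ 0 := fun e => hv (by rw [← h, e, H.zero_left])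
  let e := (LinearEquiv.toSpanNonzeroSingleton F V v hv0).symm.trans
    (LinearEquiv.toSpanNonzeroSingleton F V v' hv0')
  have hev : ∀ r : F, e (LinearEquiv.toSpanNonzeroSingleton F V v hv0 r) =
      LinearEquiv.toSpanNonzeroSingleton F V v' hv0' r :=
    fun r => by rw [LinearEquiv.trans_apply, LinearEquiv.symm_apply_apply]
  have hcoe : ∀ (w : V) (hw : w ≠ 0) (r : F), (LinearEquiv.toSpanNonzeroSingleton F V w hw r : V) = r • w :=
    fun w hw r => rfl
  obtain ⟨g, hg⟩ := H.exists_extend_nondeg (H.nondegOn_span_singleton hv)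
    (H.nondegOn_span_singleton (v := v') (by rwa [h])) e (fun x y => by
      obtain ⟨a, rfl⟩ := (LinearEquiv.toSpanNonzeroSingleton F V v hv0).surjective x
      obtain ⟨b, rfl⟩ := (LinearEquiv.toSpanNonzeroSingleton F V v hv0).surjective y
      rw [hev, hev, hcoe, hcoe, hcoe, hcoe, H.smul_left, H.smul_left, H.smul_right, H.smul_right, h])
  refine ⟨g, ?_⟩
  have := hg (LinearEquiv.toSpanNonzeroSingleton F V v hv0 1)
  rwa [hev, hcoe, hcoe, one_smul, one_smul] at this

/-- Transitivity on hyperbolic pairs. -/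
theorem transitive_hyperbolic [Finite F] [FiniteDimensional F V] {v u v' u' : V} (hvv : H.h v v = 0)
    (huu : H.h u u = 0) (hvu : H.h v u = 1) (hvv' : H.h v' v' = 0) (huu' : H.h u' u' = 0)
    (hvu' : H.h v' u' = 1) : ∃ g : H.Isom, g.1 v = v' ∧ g.1 u = u' := by
  set W := Submodule.span F ({v, u} : Set V)
  set W' := Submodule.span F ({v', u'} : Set V)
  let b : Module.Basis (Fin 2) F W := basisOfTopLeSpanOfCardEqFinrank
    ![⟨v, Submodule.subset_span (by simp)⟩, ⟨u, Submodule.subset_span (by simp)⟩]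
    (by
      rintro ⟨z, hz⟩ -
      obtain ⟨a, c, rfl⟩ := Submodule.mem_span_pair.mp hz
      rw [Matrix.range_cons_cons_empty, Submodule.mem_span_pair]
      exact ⟨a, c, Subtype.ext rfl⟩)
    (by rw [H.finrank_hyperbolic hvv hvu, Fintype.card_fin])
  let b' : Module.Basis (Fin 2) F W' := basisOfTopLeSpanOfCardEqFinrank
    ![⟨v', Submodule.subset_span (by simp)⟩, ⟨u', Submodule.subset_span (by simp)⟩]
    (by
      rintro ⟨z, hz⟩ -
      obtain ⟨a, c, rfl⟩ := Submodule.mem_span_pair.mp hz
      rw [Matrix.range_cons_cons_empty, Submodule.mem_span_pair]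
      exact ⟨a, c, Subtype.ext rfl⟩)
    (by rw [H.finrank_hyperbolic hvv' hvu', Fintype.card_fin])
  let e := b.equiv b' (Equiv.refl _)
  have hbv : (b 0 : V) = v ∧ (b 1 : V) = u := by simp [b]
  have hbv' : (b' 0 : V) = v' ∧ (b' 1 : V) = u' := by simp [b']
  obtain ⟨g, hg⟩ := H.exists_extend_nondeg (H.nondegOn_hyperbolic hvv hvu) (H.nondegOn_hyperbolic hvv' hvu')
    e (fun x y => by
      rw [← b.sum_repr x, ← b.sum_repr y]
      simp only [Fin.sum_univ_two, map_add, map_smul, e, Module.Basis.equiv_apply, Equiv.refl_apply,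
        Submodule.coe_add, Submodule.coe_smul, hbv.1, hbv.2, hbv'.1, hbv'.2, H.add_left, H.add_right,
        H.smul_left, H.smul_right, hvv, huu, hvu, hvv', huu', hvu', H.symm u v, H.symm u' v'])
  refine ⟨g, ?_, ?_⟩
  · have := hg (b 0); rwa [Module.Basis.equiv_apply, Equiv.refl_apply, hbv.1, hbv'.1] at this
  · have := hg (b 1); rwa [Module.Basis.equiv_apply, Equiv.refl_apply, hbv.2, hbv'.2] at this

theorem transitive_isotropic [Finite F] [FiniteDimensional F V] {v v' : V} (hv : v ≠ 0) (hv' : v' ≠ 0)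
    (h : H.h v v = 0) (h' : H.h v' v' = 0) : ∃ g : H.Isom, g.1 v = v' := by
  obtain ⟨u, hu, huu⟩ := H.exists_hyperbolic hv h
  obtain ⟨u', hu', huu'⟩ := H.exists_hyperbolic hv' h'
  obtain ⟨g, hg, -⟩ := H.transitive_hyperbolic h huu hu h' huu' hu'
  exact ⟨g, hg⟩

end HermSpace

end Cfsg.Lib.Classical
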