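import Mathlib
import Cfsg.Agent.Classical.Unitary.Basic

set_option autoImplicit false
set_option linter.unusedVariables false
set_option linter.unusedSimpArgs false
set_option linter.style.haveILetI false

/-! Orders of unitary groups. -/

namespace Cfsg.Lib.Classical

universe u v

variable {F : Type u} [Field F]

/-- `q^(n(n-1)/2) ∏ (q^i - (-1)^i)`. -/
def cardGUFormula (q n : ℕ) : ℕ :=
  q ^ (n * (n - 1) / 2) * ∏ i ∈ Finset.range n, (if Even i then q ^ (i + 1) + 1 else q ^ (i + 1) - 1)

/-- The number of vectors of norm one. -/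
def cardNormOne (q n : ℕ) : ℕ :=
  q ^ (n - 1) * (if Even n then q ^ n - 1 else q ^ n + 1)

theorem cardNormOne_mul (q n : ℕ) :
    cardNormOne q (n + 1) * cardGUFormula q n = cardGUFormula q (n + 1) := by
  have e : (n + 1) * (n + 1 - 1) / 2 = n * (n - 1) / 2 + n := by
    rw [Nat.add_sub_cancel, show (n + 1) * n = n * (n - 1) + n * 2 by
      rcases n with _ | k
      · rfl
      · simp only [Nat.add_sub_cancel]; ring]
    omega
  rw [cardNormOne, cardGUFormula, cardGUFormula, Finset.prod_range_succ, e, pow_add, Nat.add_sub_cancel]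
  by_cases h : Even n
  · rw [if_neg (by simpa [Nat.even_add_one] using h), if_pos h]; ring
  · rw [if_pos (Nat.even_add_one.mpr h), if_neg h]; ring

/-- `q^(n-1) (q^n - (-1)^n)` satisfies the recursion. -/
theorem cardNormOne_succ {q : ℕ} (hq : 1 ≤ q) (n : ℕ) :
    cardNormOne q (n + 1) + q * cardNormOne q n = (q + 1) * q ^ (2 * n) := by
  rcases n with _ | k
  · simp [cardNormOne]
  have h1 : 1 ≤ q ^ (k + 1) := Nat.one_le_pow _ _ hq
  have h2 : 1 ≤ q ^ (k + 1 + 1) := Nat.one_le_pow _ _ hq
  simp only [cardNormOne, Nat.add_sub_cancel]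
  by_cases h : Even (k + 1)
  · rw [if_neg (fun hh => (Nat.even_add_one.mp hh) h), if_pos h]
    zify [h1]
    ring
  · rw [if_pos (Nat.even_add_one.mpr h), if_neg h]
    zify [h2]
    ring

variable {V : Type v} [AddCommGroup V] [Module F V]

namespace HermSpace

variable (H : HermSpace F V)

/-- The parameter `q`. -/
noncomputable def q : ℕ := Nat.card (fixedField H.σ)

theorem card_field [Finite F] : Nat.card F = H.q ^ 2 := H.conj.card_eq_sq

theorem two_le_q [Finite F] : 2 ≤ H.q := H.conj.two_le_card_fixed

theorem card_normOne_aux [Finite F] : ∀ (n : ℕ) {V : Type v} [AddCommGroup V] [Module F V]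
    [FiniteDimensional F V] (H : HermSpace F V), Module.finrank F V = n →
    Nat.card {x : V // H.h x x = 1} = cardNormOne H.q n := by
  intro n
  induction n with
  | zero =>
    intro V _ _ _ H hn
    haveI : Subsingleton V := Module.finrank_zero_iff.mp hn
    haveI : IsEmpty {x : V // H.h x x = 1} := ⟨fun x => by
      have := x.2
      rw [Subsingleton.elim x.1 0, H.zero_left] at this
      exact zero_ne_one this⟩
    simp [cardNormOne]
  | succ n ih =>
    intro V _ _ _ H hn
    classical
    haveI : Nontrivial V := Module.nontrivial_of_finrank_pos (R := F) (by omega)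
    haveI : Finite V := Module.finite_of_finite F
    obtain ⟨v, hv⟩ := H.exists_norm_one
    have hW := H.nondegOn_span_singleton (v := v) (by rw [hv]; exact one_ne_zero)
    have hv0 : v ≠ 0 := fun h => by rw [h, H.zero_left] at hv; exact zero_ne_one hv
    set W := Submodule.span F ({v} : Set V)
    set U := H.orth W
    have hc := H.isCompl_orth hW
    have hfr : Module.finrank F U = n := by
      rw [H.finrank_orth, finrank_span_singleton hv0, hn]; omega
    have hrec := ih (H.restrict U (H.nondegOn_orth hW)) hfr
    let e₀ : F × U ≃ V :=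
      ((LinearEquiv.toSpanNonzeroSingleton F V v hv0).prodCongr (LinearEquiv.refl F U)).toEquiv.trans
        (Submodule.prodEquivOfIsCompl W U hc).toEquiv
    have he₀ : ∀ (a : F) (z : U), e₀ (a, z) = a • v + (z : V) := fun a z => rfl
    have hform : ∀ (a : F) (z : U), H.h (a • v + (z : V)) (a • v + z) = a * H.σ a + H.h (z : V) z := by
      intro a z
      have h1 : H.h (z : V) v = 0 := z.2 v (Submodule.mem_span_singleton_self v)
      simp only [H.add_left, H.add_right, H.smul_left, H.smul_right, hv, h1, H.eq_zero_symm h1]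
      ring
    let e : (Σ z : U, {a : F // a * H.σ a = 1 - H.h (z : V) z}) ≃ {x : V // H.h x x = 1} :=
      { toFun := fun s => ⟨e₀ (s.2.1, s.1), by rw [he₀, hform, s.2.2, sub_add_cancel]⟩
        invFun := fun x => ⟨(e₀.symm x.1).2, (e₀.symm x.1).1, by
          have := hform (e₀.symm x.1).1 (e₀.symm x.1).2
          rw [← he₀, Equiv.apply_symm_apply, x.2] at this
          linear_combination -this⟩
        left_inv := fun s => by
          refine Sigma.subtype_ext ?_ ?_ <;> simp
        right_inv := fun x => Subtype.ext (by simp) }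
    haveI := Fintype.ofFinite U
    rw [← Nat.card_congr e, Nat.card_sigma]
    have hfib : ∀ z : U, Nat.card {a : F // a * H.σ a = 1 - H.h (z : V) z} =
        if H.h (z : V) z = 1 then 1 else H.q + 1 := by
      intro z
      split_ifs with h
      · haveI : Unique {a : F // a * H.σ a = 1 - H.h (z : V) z} :=
          ⟨⟨⟨0, by rw [zero_mul, h, sub_self]⟩⟩, fun a => Subtype.ext (by
            have h' : a.1 * H.σ a.1 = 0 := a.2.trans (by rw [h, sub_self])
            rw [mul_eq_zero, H.conj.eq_zero, or_self] at h'
            exact h')⟩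
        exact Nat.card_unique
      · exact H.conj.card_norm_fiber (by rw [map_sub, map_one, H.self_fixed]) (sub_ne_zero.mpr (Ne.symm h))
    rw [Finset.sum_congr rfl (fun z _ => hfib z), Finset.sum_ite, Finset.sum_const, Finset.sum_const,
      smul_eq_mul, smul_eq_mul, mul_one]
    have h1 : (Finset.univ.filter fun z : U => H.h (z : V) z = 1).card = cardNormOne H.q n := by
      rw [← Fintype.card_subtype, ← Nat.card_eq_fintype_card]
      exact hrec
    have h2 := Finset.card_filter_add_card_filter_not (s := (Finset.univ : Finset U))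
      (fun z : U => H.h (z : V) z = 1)
    rw [h1, Finset.card_univ, ← Nat.card_eq_fintype_card, Module.natCard_eq_pow_finrank (K := F), hfr,
      H.card_field, ← pow_mul] at h2
    rw [h1]
    have h3 := cardNormOne_succ (q := H.q) (by have := H.two_le_q; omega) n
    rw [← h2, mul_add] at h3
    linarith

theorem card_normOne [Finite F] [FiniteDimensional F V] :
    Nat.card {x : V // H.h x x = 1} = cardNormOne H.q (Module.finrank F V) :=
  card_normOne_aux _ H rfl

theorem card_stabilizer [Finite F] [FiniteDimensional F V] {v : V} (hv : H.h v v = 1) :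
    Nat.card {g : H.Isom // g.1 v = v} =
      Nat.card (H.restrict _ (H.nondegOn_orth (H.nondegOn_span_singleton (v := v)
        (by rw [hv]; exact one_ne_zero)))).Isom := by
  set W := Submodule.span F ({v} : Set V)
  have hW : H.NondegOn W := H.nondegOn_span_singleton (v := v) (by rw [hv]; exact one_ne_zero)
  set U := H.orth W
  have hfix : ∀ g : {g : H.Isom // g.1 v = v}, ∀ x ∈ U, g.1.1 x ∈ U := by
    intro g x hx
    rw [H.mem_orth_span]
    rintro w rfl
    calc H.h (g.1.1 x) w = H.h (g.1.1 x) (g.1.1 w) := congrArg _ g.2.symm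
      _ = H.h x w := H.map_form g.1 x w
      _ = 0 := hx _ (Submodule.mem_span_singleton_self _)
  let f : {g : H.Isom // g.1 v = v} → (H.restrict U (H.nondegOn_orth hW)).Isom := fun g =>
    ⟨LinearEquiv.ofBijective (g.1.1.toLinearMap.restrict (hfix g))
      ((LinearMap.injective_iff_surjective (f := g.1.1.toLinearMap.restrict (hfix g))).mp
        (fun a b h => Subtype.ext (g.1.1.injective (congrArg Subtype.val h))) |> fun hs =>
        ⟨fun a b h => Subtype.ext (g.1.1.injective (congrArg Subtype.val h)), hs⟩),
      fun x y => H.map_form g.1 _ _⟩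
  refine Nat.card_congr (Equiv.ofBijective f ⟨fun a b hab => ?_, fun k => ?_⟩)
  · apply Subtype.ext
    refine H.isom_ext fun x => ?_
    obtain ⟨p, hp, w, hw, rfl⟩ := Submodule.mem_sup.mp
      ((H.isCompl_orth hW).sup_eq_top ▸ Submodule.mem_top : x ∈ W ⊔ U)
    obtain ⟨r, rfl⟩ := Submodule.mem_span_singleton.mp hp
    have e2 : a.1.1 w = b.1.1 w :=
      congrArg (fun t : (H.restrict U (H.nondegOn_orth hW)).Isom => ((t.1 ⟨w, hw⟩ : U) : V)) hab
    rw [map_add, map_add, map_smul, map_smul, a.2, b.2, e2]
  · obtain ⟨g, hg1, hg2⟩ := H.exists_glue hW hW LinearMap.id k.1.toLinearMap (fun x y => rfl) k.2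
    refine ⟨⟨g, ?_⟩, Subtype.ext (LinearEquiv.ext fun w => Subtype.ext (hg2 w))⟩
    exact hg1 ⟨v, Submodule.mem_span_singleton_self v⟩

instance isomMulAction : MulAction H.Isom V where
  smul g x := g.1 x
  one_smul x := rfl
  mul_smul a b x := rfl

theorem card_isom_aux [Finite F] : ∀ (n : ℕ) {V : Type v} [AddCommGroup V] [Module F V]
    [FiniteDimensional F V] (H : HermSpace F V), Module.finrank F V = n →
    Nat.card H.Isom = cardGUFormula H.q n := by
  intro n
  induction n with
  | zero =>
    intro V _ _ _ H hn
    haveI : Subsingleton V := Module.finrank_zero_iff.mp hn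
    haveI : Subsingleton H.Isom := ⟨fun a b => H.isom_ext fun x => Subsingleton.elim _ _⟩
    simp [cardGUFormula]
  | succ n ih =>
    intro V _ _ _ H hn
    haveI : Nontrivial V := Module.nontrivial_of_finrank_pos (R := F) (by omega)
    obtain ⟨v, hv⟩ := H.exists_norm_one
    rw [← Nat.card_congr (MulAction.orbitProdStabilizerEquivGroup H.Isom v), Nat.card_prod,
      ← cardNormOne_mul]
    congr 1
    · rw [← hn, ← H.card_normOne]
      refine Nat.card_congr (Equiv.subtypeEquivRight fun x => ⟨?_, fun hx => ?_⟩)
      · rintro ⟨g, rfl⟩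
        change H.h (g.1 v) (g.1 v) = 1
        rw [H.map_form, hv]
      · obtain ⟨g, hg⟩ := H.transitive_anisotropic (v := v) (by rw [hv]; exact one_ne_zero)
          (v' := x) (by rw [hx, hv])
        exact ⟨g, hg⟩
    · have e : Nat.card (MulAction.stabilizer H.Isom v) = Nat.card {g : H.Isom // g.1 v = v} := rfl
      rw [e, H.card_stabilizer hv]
      have hv0 : v ≠ 0 := fun h => by rw [h, H.zero_left] at hv; exact zero_ne_one hv
      exact ih _ (by rw [H.finrank_orth, finrank_span_singleton hv0, hn]; omega)

/-- Order of the unitary group. -/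
theorem card_isom [Finite F] [FiniteDimensional F V] :
    Nat.card H.Isom = cardGUFormula H.q (Module.finrank F V) :=
  card_isom_aux _ H rfl

end HermSpace

end Cfsg.Lib.Classical
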