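import Mathlib
import Cfsg.Agent.Classical.Unitary.Card

set_option autoImplicit false
set_option linter.unusedVariables false
set_option linter.unusedSimpArgs false
set_option linter.style.haveILetI false

/-! Special unitary groups: determinant, quasi-reflections, centre. -/

namespace Cfsg.Lib.Classical

universe u v

variable {F : Type u} [Field F] {V : Type v} [AddCommGroup V] [Module F V]

namespace HermSpace

variable (H : HermSpace F V)

/-- Determinant of an isometry. -/
noncomputable def detHom : H.Isom →* Fˣ := (LinearEquiv.det : (V ≃ₗ[F] V) →* Fˣ).comp H.Isom.subtype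

/-- The special unitary group. -/
noncomputable def SIsom : Subgroup H.Isom := H.detHom.ker

theorem mem_SIsom {g : H.Isom} : g ∈ H.SIsom ↔ LinearEquiv.det g.1 = 1 := Iff.rfl

/-- Quasi-reflection `x ↦ x + (z - 1) h(x,v) v`. -/
noncomputable def qrefl {v : V} (hv : H.h v v = 1) (z : (normUnits H.σ).ker) : H.Isom :=
  ⟨LinearEquiv.dilatransvection (f := ((z.1 : F) - 1) • H.lin v) (v := v)
    (by simp [lin_apply, hv]),
  fun x y => by
    have hz : (z.1 : F) * H.σ z.1 = 1 := congrArg Units.val (MonoidHom.mem_ker.mp z.2)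
    simp only [LinearEquiv.dilatransvection.apply, LinearMap.smul_apply, lin_apply, smul_eq_mul,
      H.add_left, H.add_right, H.smul_left, H.smul_right, hv, map_mul, map_sub, map_one, mul_one,
      ← H.symm v y]
    linear_combination (H.h x v * H.h v y) * hz⟩

theorem qrefl_apply {v : V} (hv : H.h v v = 1) (z : (normUnits H.σ).ker) (x : V) :
    (H.qrefl hv z).1 x = x + (((z.1 : F) - 1) * H.h x v) • v := by
  simp [qrefl, LinearEquiv.dilatransvection.apply, lin_apply]

theorem qrefl_self {v : V} (hv : H.h v v = 1) (z : (normUnits H.σ).ker) :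
    (H.qrefl hv z).1 v = (z.1 : F) • v := by
  rw [qrefl_apply, hv, mul_one, sub_smul, one_smul, add_sub_cancel]

theorem qrefl_orth {v : V} (hv : H.h v v = 1) (z : (normUnits H.σ).ker) {x : V} (hx : H.h x v = 0) :
    (H.qrefl hv z).1 x = x := by
  rw [qrefl_apply, hx, mul_zero, zero_smul, add_zero]

theorem det_qrefl [FiniteDimensional F V] {v : V} (hv : H.h v v = 1) (z : (normUnits H.σ).ker) :
    H.detHom (H.qrefl hv z) = z.1 := by
  apply Units.ext
  change ((LinearEquiv.det (H.qrefl hv z).1 : Fˣ) : F) = _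
  rw [LinearEquiv.coe_det, qrefl, LinearEquiv.dilatransvection.coe_toLinearMap, LinearMap.transvection.det]
  simp [lin_apply, hv]

theorem det_mem_norm_ker [Finite F] [FiniteDimensional F V] (g : H.Isom) :
    H.detHom g ∈ (normUnits H.σ).ker := by
  classical
  obtain ⟨b, hb⟩ := H.exists_orthonormal
  set M := LinearMap.toMatrix b b g.1.toLinearMap with hM
  have h1 : M.transpose * M.map H.σ = 1 := by
    ext i j
    have := H.map_form g (b i) (b j)
    rw [hb, H.h_eq_sum b hb] at this
    rw [Matrix.mul_apply, Matrix.one_apply, ← this]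
    exact Finset.sum_congr rfl fun k _ => by simp [hM, LinearMap.toMatrix_apply]
  have h2 : M.det * H.σ M.det = 1 := by
    have := congrArg Matrix.det h1
    rwa [Matrix.det_mul, Matrix.det_transpose, Matrix.det_one, show (M.map H.σ).det = H.σ M.det from
      (RingHom.map_det H.σ M).symm] at this
  rw [MonoidHom.mem_ker]
  apply Units.ext
  rw [coe_normUnits]
  change (LinearEquiv.det g.1 : F) * H.σ (LinearEquiv.det g.1 : F) = 1
  rw [LinearEquiv.coe_det, ← LinearMap.det_toMatrix b]
  exact h2

theorem range_detHom [Finite F] [FiniteDimensional F V] [Nontrivial V] :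
    H.detHom.range = (normUnits H.σ).ker := by
  apply le_antisymm
  · rintro _ ⟨g, rfl⟩; exact H.det_mem_norm_ker g
  · intro z hz
    obtain ⟨v, hv⟩ := H.exists_norm_one
    exact ⟨H.qrefl hv ⟨z, hz⟩, H.det_qrefl hv _⟩

theorem card_SIsom_mul [Finite F] [FiniteDimensional F V] [Nontrivial V] :
    (H.q + 1) * Nat.card H.SIsom = cardGUFormula H.q (Module.finrank F V) := by
  rw [← H.card_isom, ← H.detHom.ker.card_mul_index, Subgroup.index_ker, H.range_detHom,
    H.conj.card_norm_ker, mul_comm]
  rfl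

theorem exists_norm_ker_sq_ne_one [Finite F] : ∃ z : (normUnits H.σ).ker, (z.1 : F) ^ 2 ≠ 1 := by
  haveI : IsCyclic (normUnits H.σ).ker := Subgroup.isCyclic _
  obtain ⟨z, hz⟩ := IsCyclic.exists_generator (α := (normUnits H.σ).ker)
  refine ⟨z, fun h => ?_⟩
  have hord : orderOf z = Nat.card (fixedField H.σ) + 1 := by
    rw [orderOf_eq_card_of_forall_mem_zpowers hz, H.conj.card_norm_ker]
  have h2 := H.conj.two_le_card_fixed
  have h3 := Nat.le_of_dvd (by norm_num) (orderOf_dvd_of_pow_eq_one (x := z) (n := 2)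
    (Subtype.ext (Units.ext (by simpa using h))))
  omega

/-- Every isometry can be corrected to determinant one by a quasi-reflection. -/
theorem exists_SIsom_correct [Finite F] [FiniteDimensional F V] (g : H.Isom) {v : V} (hv : H.h v v = 1) :
    ∃ z : (normUnits H.σ).ker, H.qrefl hv z * g ∈ H.SIsom :=
  ⟨⟨(H.detHom g)⁻¹, inv_mem (H.det_mem_norm_ker g)⟩, by
    rw [SIsom, MonoidHom.mem_ker, map_mul, det_qrefl, inv_mul_cancel]⟩

theorem scalar_of_commute_SIsom [Finite F] [FiniteDimensional F V] (hd : 2 ≤ Module.finrank F V)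
    {g : H.Isom} (hg : ∀ k ∈ H.SIsom, k * g = g * k) :
    ∃ a : F, a * H.σ a = 1 ∧ ∀ x, g.1 x = a • x := by
  classical
  obtain ⟨n, hn, b, hb⟩ : ∃ n, Module.finrank F V = n ∧ ∃ b : Module.Basis (Fin n) F V,
      ∀ i j, H.h (b i) (b j) = if i = j then 1 else 0 := ⟨_, rfl, H.exists_orthonormal⟩
  rw [hn] at hd
  have hb1 : ∀ i, H.h (b i) (b i) = 1 := fun i => by simp [hb]
  have hrep : ∀ x j, H.h x (b j) = b.repr x j := fun x j => by
    rw [H.h_eq_sum b hb]
    simp [Finsupp.single_apply, apply_ite H.σ]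
  obtain ⟨z, hz⟩ := H.exists_norm_ker_sq_ne_one
  have hdiag : ∀ i k, k ≠ i → b.repr (g.1 (b i)) k = 0 := by
    intro i k hki
    set d := H.qrefl (hb1 i) z * H.qrefl (hb1 k) z⁻¹ with hd'
    have hdS : d ∈ H.SIsom := by
      rw [SIsom, MonoidHom.mem_ker, hd', map_mul, det_qrefl, det_qrefl]
      exact mul_inv_cancel _
    have hdi : d.1 (b i) = (z.1 : F) • b i := by
      rw [hd', mul_apply', H.qrefl_orth (hb1 k) _ (by simp [hb, hki.symm]), H.qrefl_self]
    have := congrArg (fun t : H.Isom => H.h (t.1 (b i)) (b k)) (hg d hdS)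
    simp only [mul_apply', hdi, map_smul, H.smul_left] at this
    have e : ∀ x, H.h (d.1 x) (b k) = ((z⁻¹).1 : F) * H.h x (b k) := fun x => by
      rw [hd', mul_apply', qrefl_apply, qrefl_apply]
      simp only [H.add_left, H.smul_left, hb, hki.symm, if_false, if_true, mul_zero, mul_one, add_zero]
      ring
    rw [e, hrep] at this
    have hzi : (z.1 : F) * ((z⁻¹).1 : F) = 1 := by simp
    have : ((z.1 : F) ^ 2 - 1) * b.repr (g.1 (b i)) k = 0 := by
      linear_combination (-(z.1 : F)) * this + b.repr (g.1 (b i)) k * hzi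
    exact (mul_eq_zero.mp this).resolve_left (sub_ne_zero.mpr hz)
  let a : Fin n → F := fun i => b.repr (g.1 (b i)) i
  have hgb : ∀ i, g.1 (b i) = a i • b i := fun i => by
    conv_lhs => rw [← b.sum_repr (g.1 (b i))]
    exact Finset.sum_eq_single i (fun k _ hk => by rw [hdiag i k hk, zero_smul])
      (fun h => absurd (Finset.mem_univ i) h)
  have haeq : ∀ i j, a i = a j := fun i j => by
    obtain ⟨e, he⟩ := H.transitive_anisotropic (v := b i) (by rw [hb1]; exact one_ne_zero) (v' := b j)
      (by rw [hb1, hb1])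
    obtain ⟨w, hw⟩ := H.exists_SIsom_correct e (hb1 j)
    have := congrArg (fun t : H.Isom => t.1 (b i)) (hg _ hw)
    simp only [mul_apply', hgb, map_smul, he, H.qrefl_self, smul_smul] at this
    have h2 := smul_left_injective F (b.ne_zero j) this
    exact mul_left_cancel₀ w.1.ne_zero (show (w.1 : F) * a i = (w.1 : F) * a j by linear_combination h2)
  let i₀ : Fin n := ⟨0, by omega⟩
  refine ⟨a i₀, ?_, fun x => ?_⟩
  · have := H.map_form g (b i₀) (b i₀)
    rw [hgb, H.smul_left, H.smul_right, hb1, mul_one] at this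
    exact this
  · have : g.1.toLinearMap = a i₀ • LinearMap.id := b.ext fun i => by simp [hgb, haeq i i₀]
    exact LinearMap.congr_fun this x

theorem mem_center_SIsom_iff [Finite F] [FiniteDimensional F V] (hd : 2 ≤ Module.finrank F V)
    {g : H.SIsom} :
    g ∈ Subgroup.center H.SIsom ↔
      ∃ a : F, a * H.σ a = 1 ∧ a ^ Module.finrank F V = 1 ∧ ∀ x, g.1.1 x = a • x := by
  constructor
  · intro hg
    obtain ⟨a, ha, hga⟩ := H.scalar_of_commute_SIsom hd (g := g.1) fun k hk =>
      congrArg Subtype.val (Subgroup.mem_center_iff.mp hg ⟨k, hk⟩)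
    refine ⟨a, ha, ?_, hga⟩
    have h := congrArg Units.val (MonoidHom.mem_ker.mp g.2)
    change ((LinearEquiv.det g.1.1 : Fˣ) : F) = _ at h
    rw [LinearEquiv.coe_det, show g.1.1.toLinearMap = a • LinearMap.id from LinearMap.ext hga,
      LinearMap.det_smul, LinearMap.det_id, mul_one, Units.val_one] at h
    exact h
  · rintro ⟨a, -, -, hg⟩
    rw [Subgroup.mem_center_iff]
    intro k
    exact Subtype.ext (H.isom_ext fun x => by simp [mul_apply', hg, map_smul])

theorem card_center_SIsom [Finite F] [FiniteDimensional F V] (hd : 2 ≤ Module.finrank F V) :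
    Nat.card (Subgroup.center H.SIsom) = Nat.gcd (Module.finrank F V) (H.q + 1) := by
  set n := Module.finrank F V with hn
  haveI : Nontrivial V := Module.nontrivial_of_finrank_pos (R := F) (by omega)
  haveI : IsCyclic (normUnits H.σ).ker := Subgroup.isCyclic _
  rw [q, Nat.gcd_comm, ← H.conj.card_norm_ker, ← IsCyclic.card_powMonoidHom_ker]
  symm
  have hmem : ∀ (z : (powMonoidHom n : (normUnits H.σ).ker →* (normUnits H.σ).ker).ker),
      ((z.1.1 : F) * H.σ z.1.1 = 1) ∧ (z.1.1 : F) ^ n = 1 := fun z =>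
    ⟨congrArg Units.val (MonoidHom.mem_ker.mp z.1.2),
      by simpa using congrArg (fun t : (normUnits H.σ).ker => ((t.1 : Fˣ) : F)) (MonoidHom.mem_ker.mp z.2)⟩
  let f : (powMonoidHom n : (normUnits H.σ).ker →* (normUnits H.σ).ker).ker → Subgroup.center H.SIsom :=
    fun z => ⟨⟨⟨LinearEquiv.smulOfUnit z.1.1, fun x y => by
        change H.h ((z.1.1 : F) • x) ((z.1.1 : F) • y) = H.h x y
        rw [H.smul_left, H.smul_right, ← mul_assoc, (hmem z).1, one_mul]⟩, by
      rw [mem_SIsom]
      apply Units.ext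
      rw [LinearEquiv.coe_det, Units.val_one]
      change LinearMap.det ((z.1.1 : F) • (LinearMap.id : V →ₗ[F] V)) = 1
      rw [LinearMap.det_smul, LinearMap.det_id, mul_one, ← hn, (hmem z).2]⟩,
      (H.mem_center_SIsom_iff hd).mpr ⟨(z.1.1 : F), (hmem z).1, (hmem z).2, fun x => rfl⟩⟩
  refine Nat.card_congr (Equiv.ofBijective f ⟨fun a b h => ?_, fun g => ?_⟩)
  · obtain ⟨v, hv⟩ := exists_ne (0 : V)
    exact Subtype.ext (Subtype.ext (Units.ext (smul_left_injective F hv
      (congrArg (fun g : Subgroup.center H.SIsom => g.1.1.1 v) h))))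
  · obtain ⟨a, ha, han, hg⟩ := (H.mem_center_SIsom_iff hd).mp g.2
    have ha0 : a ≠ 0 := fun h => by rw [h, zero_mul] at ha; exact zero_ne_one ha
    refine ⟨⟨⟨Units.mk0 a ha0, MonoidHom.mem_ker.mpr (Units.ext ha)⟩,
      MonoidHom.mem_ker.mpr (Subtype.ext (Units.ext (by simpa using han)))⟩, ?_⟩
    exact Subtype.ext (Subtype.ext (H.isom_ext fun x => (hg x).symm))

end HermSpace

end Cfsg.Lib.Classical
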