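import Mathlib
import Cfsg.Prelude.Def_ClassicalGeometry
import Cfsg.Prelude.Def_LieClassical
import Cfsg.Agent.Classical.Unitary.Special
import Cfsg.Agent.Classical.MaxBridge

set_option autoImplicit false
set_option linter.unusedVariables false
set_option linter.unusedSimpArgs false
set_option linter.style.haveILetI false

/-! Transfer between matrix unitary groups and isometry groups of Hermitian spaces. -/

namespace Cfsg.Lib.Classical

universe u

/-- The conjugation `x ↦ x ^ q` on a field with `q²` elements. -/
noncomputable def powConj {F : Type u} [Field F] [Fintype F] {q : ℕ} (hF : Fintype.card F = q ^ 2) :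
    F →+* F := (exists_conj_pow hF).choose

theorem powConj_isConj {F : Type u} [Field F] [Fintype F] {q : ℕ} (hF : Fintype.card F = q ^ 2) :
    IsConj (powConj hF) := (exists_conj_pow hF).choose_spec.1

theorem powConj_apply {F : Type u} [Field F] [Fintype F] {q : ℕ} (hF : Fintype.card F = q ^ 2) (x : F) :
    powConj hF x = x ^ q := (exists_conj_pow hF).choose_spec.2.1 x

variable {F : Type u} [Field F] [Fintype F] {q : ℕ}

/-- The standard Hermitian space `F^n`. -/
noncomputable def stdHerm (n : ℕ) (hF : Fintype.card F = q ^ 2) : HermSpace F (Fin n → F) where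
  σ := powConj hF
  h u v := ∑ i, u i * powConj hF (v i)
  conj := powConj_isConj hF
  add_left x y z := by simp [add_mul, Finset.sum_add_distrib]
  smul_left c x z := by simp [Finset.mul_sum, mul_assoc]
  symm x y := by simp [map_sum, (powConj_isConj hF).invol, mul_comm]
  nondeg v hv := by
    classical
    funext i
    have := hv (Pi.single i 1)
    rw [Finset.sum_eq_single i (fun j _ hj => by simp [hj]) (by simp)] at this
    simpa [(powConj_isConj hF).eq_zero] using this

variable {n : ℕ} (hF : Fintype.card F = q ^ 2)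

theorem stdHerm_h (u v : Fin n → F) : (stdHerm n hF).h u v = Cfsg.hermForm n F q u v := by
  simp [stdHerm, Cfsg.hermForm, powConj_apply]

theorem stdHerm_q : (stdHerm n hF).q = q := (exists_conj_pow hF).choose_spec.2.2

/-- Isometries as matrices. -/
noncomputable def unitToGL : (stdHerm n hF).Isom →* Matrix.GeneralLinearGroup (Fin n) F :=
  (linToGL (Fin n) F).toMonoidHom.comp (stdHerm n hF).Isom.subtype

theorem unitToGL_mulVec (g : (stdHerm n hF).Isom) (x : Fin n → F) :
    ((unitToGL hF g : Matrix.GeneralLinearGroup (Fin n) F) : Matrix (Fin n) (Fin n) F).mulVec x = g.1 x :=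
  linToGL_mulVec _ x

theorem range_unitToGL : (unitToGL hF).range = Cfsg.GU n F q := by
  ext A
  constructor
  · rintro ⟨g, rfl⟩ u v
    change Cfsg.hermForm n F q ((unitToGL hF g).val.mulVec u) ((unitToGL hF g).val.mulVec v) = _
    rw [unitToGL_mulVec, unitToGL_mulVec, ← stdHerm_h hF, (stdHerm n hF).map_form, stdHerm_h]
  · intro hA
    refine ⟨⟨(linToGL _ F).symm A, fun x y => ?_⟩, (linToGL _ F).apply_symm_apply A⟩
    rw [linToGL_symm_apply, linToGL_symm_apply, stdHerm_h, stdHerm_h]
    exact hA x y

theorem unitToGL_injective : Function.Injective (unitToGL (n := n) hF) :=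
  (linToGL (Fin n) F).injective.comp Subtype.val_injective

/-- `GU_n(q)` is the isometry group of the standard Hermitian space. -/
noncomputable def guEquiv (n : ℕ) (hF : Fintype.card F = q ^ 2) :
    (stdHerm n hF).Isom ≃* Cfsg.GU n F q :=
  (MonoidHom.ofInjective (unitToGL_injective hF)).trans (MulEquiv.subgroupCongr (range_unitToGL hF))

theorem guEquiv_coe (g : (stdHerm n hF).Isom) :
    ((guEquiv n hF g : Cfsg.GU n F q) : Matrix.GeneralLinearGroup (Fin n) F) = unitToGL hF g := rfl

theorem det_unitToGL (g : (stdHerm n hF).Isom) :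
    Matrix.GeneralLinearGroup.det (unitToGL hF g) = (stdHerm n hF).detHom g := by
  apply Units.ext
  rw [Matrix.GeneralLinearGroup.val_det_apply]
  change _ = ((LinearEquiv.det g.1 : Fˣ) : F)
  rw [LinearEquiv.coe_det, ← LinearMap.det_toLin']
  congr 1
  exact LinearMap.ext fun x => by rw [Matrix.toLin'_apply, unitToGL_mulVec]; rfl

/-- Special isometries as special linear matrices. -/
noncomputable def sunitToSL : (stdHerm n hF).SIsom →* Matrix.SpecialLinearGroup (Fin n) F where
  toFun g := ⟨(unitToGL hF g.1).val, by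
    rw [← Matrix.GeneralLinearGroup.val_det_apply, det_unitToGL, MonoidHom.mem_ker.mp g.2, Units.val_one]⟩
  map_one' := Subtype.ext (by simp)
  map_mul' a b := Subtype.ext (by simp [Matrix.SpecialLinearGroup.coe_mul]; rfl)

theorem sunitToSL_coe (g : (stdHerm n hF).SIsom) :
    (sunitToSL hF g : Matrix (Fin n) (Fin n) F) = (unitToGL hF g.1).val := rfl

theorem range_sunitToSL : (sunitToSL hF).range = Cfsg.SU n F q := by
  ext A
  constructor
  · rintro ⟨g, rfl⟩ u v
    change Cfsg.hermForm n F q ((unitToGL hF g.1).val.mulVec u) ((unitToGL hF g.1).val.mulVec v) = _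
    rw [unitToGL_mulVec, unitToGL_mulVec, ← stdHerm_h hF, (stdHerm n hF).map_form, stdHerm_h]
  · intro hA
    have hGU : Matrix.SpecialLinearGroup.toGL A ∈ Cfsg.GU n F q := hA
    rw [← range_unitToGL hF] at hGU
    obtain ⟨g, hg⟩ := hGU
    refine ⟨⟨g, ?_⟩, Subtype.ext ?_⟩
    · rw [HermSpace.SIsom, MonoidHom.mem_ker, ← det_unitToGL, hg]
      exact Units.ext (by rw [Matrix.GeneralLinearGroup.val_det_apply]; exact A.2)
    · rw [sunitToSL_coe, hg]; rfl

theorem sunitToSL_injective : Function.Injective (sunitToSL (n := n) hF) := fun a b h =>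
  Subtype.ext (unitToGL_injective hF (Units.ext (congrArg Subtype.val h)))

/-- `SU_n(q)` is the special isometry group of the standard Hermitian space. -/
noncomputable def suEquiv (n : ℕ) (hF : Fintype.card F = q ^ 2) :
    (stdHerm n hF).SIsom ≃* Cfsg.SU n F q :=
  (MonoidHom.ofInjective (sunitToSL_injective hF)).trans (MulEquiv.subgroupCongr (range_sunitToSL hF))

theorem suEquiv_coe (g : (stdHerm n hF).SIsom) :
    (((suEquiv n hF g : Cfsg.SU n F q) : Matrix.SpecialLinearGroup (Fin n) F) : Matrix (Fin n) (Fin n) F) =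
      (unitToGL hF g.1).val := rfl

theorem card_GU (hF : Fintype.card F = q ^ 2) (n : ℕ) :
    Nat.card (Cfsg.GU n F q) = cardGUFormula q n := by
  rw [← Nat.card_congr (guEquiv n hF).toEquiv, HermSpace.card_isom, stdHerm_q, Module.finrank_fin_fun]

theorem card_SU_mul (hF : Fintype.card F = q ^ 2) {n : ℕ} (hn : 1 ≤ n) :
    (q + 1) * Nat.card (Cfsg.SU n F q) = cardGUFormula q n := by
  haveI : Nontrivial (Fin n → F) :=
    Module.nontrivial_of_finrank_pos (R := F) (by rw [Module.finrank_fin_fun]; omega)
  have := (stdHerm n hF).card_SIsom_mul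
  rwa [stdHerm_q, Module.finrank_fin_fun, Nat.card_congr (suEquiv n hF).toEquiv] at this

theorem card_center_SU (hF : Fintype.card F = q ^ 2) {n : ℕ} (hn : 2 ≤ n) :
    Nat.card (Subgroup.center (Cfsg.SU n F q)) = Nat.gcd n (q + 1) := by
  rw [← Nat.card_congr (Subgroup.centerCongr (suEquiv n hF)).toEquiv,
    HermSpace.card_center_SIsom _ (by rw [Module.finrank_fin_fun]; exact hn), stdHerm_q, Module.finrank_fin_fun]

end Cfsg.Lib.Classical
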