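import Mathlib
import Cfsg.Agent.Classical.Unitary.Special

set_option autoImplicit false
set_option linter.unusedVariables false
set_option linter.unusedSimpArgs false
set_option linter.style.haveILetI false

/-! Unitary transvections generate the special unitary group; it is perfect. -/

open scoped commutatorElement

namespace Cfsg.Lib.Classical

universe u v

variable {F : Type u} [Field F] {V : Type v} [AddCommGroup V] [Module F V]

namespace HermSpace

variable (H : HermSpace F V)

/-- The unitary transvection `x ↦ x + c h(x,v) v`. -/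
noncomputable def uT {v : V} (hv : H.h v v = 0) {c : F} (hc : c + H.σ c = 0) : H.Isom :=
  ⟨LinearEquiv.transvection (f := c • H.lin v) (v := v) (by simp [lin_apply, hv]),
  fun x y => by
    simp only [LinearEquiv.transvection.apply, LinearMap.smul_apply, lin_apply, smul_eq_mul,
      H.add_left, H.add_right, H.smul_left, H.smul_right, hv, map_mul, ← H.symm v y]
    linear_combination (H.h x v * H.h v y) * hc⟩

theorem uT_apply {v : V} (hv : H.h v v = 0) {c : F} (hc : c + H.σ c = 0) (x : V) :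
    (H.uT hv hc).1 x = x + (c * H.h x v) • v := by
  simp [uT, lin_apply, LinearMap.transvection.apply]

theorem uT_mem_SIsom {v : V} (hv : H.h v v = 0) {c : F} (hc : c + H.σ c = 0) : H.uT hv hc ∈ H.SIsom :=
  (H.mem_SIsom).mpr (LinearEquiv.transvection.det_eq_one (f := c • H.lin v) (v := v) (by simp [lin_apply, hv]))

theorem uT_conj (g : H.Isom) {v : V} (hv : H.h v v = 0) {c : F} (hc : c + H.σ c = 0) :
    g * H.uT hv hc * g⁻¹ = H.uT (v := g.1 v) (by rw [H.map_form, hv]) hc :=
  H.isom_ext fun x => by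
    rw [mul_apply', mul_apply', uT_apply, uT_apply, map_add, map_smul, H.apply_inv_self]
    congr 3
    rw [← H.map_form g, H.apply_inv_self]

/-- The subgroup generated by the unitary transvections. -/
noncomputable def transvGroup : Subgroup H.Isom :=
  Subgroup.closure {g | ∃ (v : V) (hv : H.h v v = 0) (c : F) (hc : c + H.σ c = 0), g = H.uT hv hc}

theorem uT_mem_transvGroup {v : V} (hv : H.h v v = 0) {c : F} (hc : c + H.σ c = 0) :
    H.uT hv hc ∈ H.transvGroup := Subgroup.subset_closure ⟨v, hv, c, hc, rfl⟩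

theorem transvGroup_le_SIsom : H.transvGroup ≤ H.SIsom := by
  rw [transvGroup, Subgroup.closure_le]
  rintro _ ⟨v, hv, c, hc, rfl⟩
  exact H.uT_mem_SIsom hv hc

instance transvGroup_normal : H.transvGroup.Normal where
  conj_mem x hx g := by
    rw [transvGroup] at hx
    induction hx using Subgroup.closure_induction with
    | mem x hx =>
      obtain ⟨v, hv, c, hc, rfl⟩ := hx
      rw [H.uT_conj]
      exact H.uT_mem_transvGroup _ hc
    | one => rw [mul_one, mul_inv_cancel]; exact Subgroup.one_mem _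
    | mul a b _ _ ha hb =>
      rw [show g * (a * b) * g⁻¹ = g * a * g⁻¹ * (g * b * g⁻¹) by group]
      exact Subgroup.mul_mem _ ha hb
    | inv a _ ha => rw [show g * a⁻¹ * g⁻¹ = (g * a * g⁻¹)⁻¹ by group]; exact Subgroup.inv_mem _ ha

theorem qrefl_conj (g : H.Isom) {v : V} (hv : H.h v v = 1) (z : (normUnits H.σ).ker) :
    g * H.qrefl hv z * g⁻¹ = H.qrefl (v := g.1 v) (by rw [H.map_form, hv]) z :=
  H.isom_ext fun x => by
    rw [mul_apply', mul_apply', qrefl_apply, qrefl_apply, map_add, map_smul, H.apply_inv_self]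
    congr 3
    rw [← H.map_form g, H.apply_inv_self]

theorem qrefl_congr {v v' : V} (h : v = v') (hv : H.h v v = 1) (hv' : H.h v' v' = 1)
    (z : (normUnits H.σ).ker) : H.qrefl hv z = H.qrefl hv' z := by
  subst h; rfl

/-- An isometry that stabilises the span of a pair and fixes its orthogonal pointwise. -/
theorem eq_of_fix_orth [Finite F] [FiniteDimensional F V] {W : Submodule F V} (hW : H.NondegOn W)
    {g k : H.Isom} (h1 : ∀ x ∈ W, g.1 x = k.1 x) (h2 : ∀ x ∈ H.orth W, g.1 x = k.1 x) : g = k :=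
  H.isom_ext fun x => by
    obtain ⟨p, hp, q, hq, rfl⟩ := Submodule.mem_sup.mp
      ((H.isCompl_orth hW).sup_eq_top ▸ Submodule.mem_top : x ∈ W ⊔ H.orth W)
    rw [map_add, map_add, h1 p hp, h2 q hq]

/-- Elements of determinant one supported on a hyperbolic plane are products of transvections. -/
theorem mem_transvGroup_of_plane [Finite F] [FiniteDimensional F V] {v u : V} (hvv : H.h v v = 0)
    (huu : H.h u u = 0) (hvu : H.h v u = 1) {g : H.Isom} (hg : g ∈ H.SIsom)
    (hgW : ∀ x ∈ Submodule.span F ({v, u} : Set V), g.1 x ∈ Submodule.span F ({v, u} : Set V))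
    (hgO : ∀ x ∈ H.orth (Submodule.span F ({v, u} : Set V)), g.1 x = x) : g ∈ H.transvGroup := by
  have huv : H.h u v = 1 := by rw [H.symm, hvu, map_one]
  set W := Submodule.span F ({v, u} : Set V)
  have hv : v ∈ W := Submodule.subset_span (by simp)
  have hu : u ∈ W := Submodule.subset_span (by simp)
  have hW := H.nondegOn_hyperbolic hvv hvu
  obtain ⟨δ, hδ0, hδ⟩ := H.conj.exists_skew
  -- transvections along `v` and `u`
  have tv : ∀ {c : F} (hc : c + H.σ c = 0) (a b : F),
      (H.uT hvv hc).1 (a • v + b • u) = (a + c * b) • v + b • u := fun hc a b => by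
    rw [uT_apply, H.add_left, H.smul_left, H.smul_left, hvv, huv]
    module
  have tu : ∀ {c : F} (hc : c + H.σ c = 0) (a b : F),
      (H.uT huu hc).1 (a • v + b • u) = a • v + (b + c * a) • u := fun hc a b => by
    rw [uT_apply, H.add_left, H.smul_left, H.smul_left, huu, hvu]
    module
  have tO : ∀ {w : V} (hw : H.h w w = 0) (hwW : w ∈ W) {c : F} (hc : c + H.σ c = 0),
      ∀ x ∈ H.orth W, (H.uT hw hc).1 x = x := fun hw hwW c hc x hx => by
    rw [uT_apply, hx _ hwW, mul_zero, zero_smul, add_zero]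
  have tW : ∀ {w : V} (hw : H.h w w = 0) (hwW : w ∈ W) {c : F} (hc : c + H.σ c = 0),
      ∀ x ∈ W, (H.uT hw hc).1 x ∈ W := fun hw hwW c hc x hx => by
    rw [uT_apply]; exact W.add_mem hx (W.smul_mem _ hwW)
  -- elements of `T` supported on the plane that move `v`
  let P : H.Isom → Prop := fun t => t ∈ H.transvGroup ∧ (∀ x ∈ W, t.1 x ∈ W) ∧ ∀ x ∈ H.orth W, t.1 x = x
  have Pmul : ∀ s t, P s → P t → P (s * t) := fun s t hs ht =>
    ⟨Subgroup.mul_mem _ hs.1 ht.1, fun x hx => by rw [mul_apply']; exact hs.2.1 _ (ht.2.1 x hx),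
      fun x hx => by rw [mul_apply', ht.2.2 x hx, hs.2.2 x hx]⟩
  have Pv : ∀ {c : F} (hc : c + H.σ c = 0), P (H.uT hvv hc) :=
    fun hc => ⟨H.uT_mem_transvGroup _ hc, tW hvv hv hc, tO hvv hv hc⟩
  have Pu : ∀ {c : F} (hc : c + H.σ c = 0), P (H.uT huu hc) :=
    fun hc => ⟨H.uT_mem_transvGroup _ hc, tW huu hu hc, tO huu hu hc⟩
  have hneg : ∀ {c : F}, c + H.σ c = 0 → -c⁻¹ + H.σ (-c⁻¹) = 0 := fun {c} hc => by
    rw [map_neg, map_inv₀, eq_neg_of_add_eq_zero_right hc, inv_neg, neg_neg, neg_add_cancel]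
  have swap : ∀ {c : F} (hc : c + H.σ c = 0), c ≠ 0 → ∀ b : F,
      ∃ t, P t ∧ t.1 ((0 : F) • v + b • u) = (c * b) • v + (0 : F) • u := fun {c} hc hc0 b =>
    ⟨H.uT huu (hneg hc) * H.uT hvv hc, Pmul _ _ (Pu _) (Pv _), by
      rw [mul_apply', tv, tu, zero_add, neg_mul, ← mul_assoc, inv_mul_cancel₀ hc0, one_mul, add_neg_cancel]⟩
  have down : ∀ a b : F, a * H.σ b + b * H.σ a = 0 → b ≠ 0 →
      ∃ t, P t ∧ t.1 (a • v + b • u) = (0 : F) • v + b • u := fun a b hab hb =>
    ⟨H.uT hvv (c := -(a / b)) (by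
      rw [map_neg, map_div₀]
      have hσb : H.σ b ≠ 0 := (map_ne_zero _).mpr hb
      field_simp
      linear_combination -hab), Pv _, by rw [tv, neg_mul, div_mul_cancel₀ _ hb, add_neg_cancel]⟩
  -- reach a multiple of `v`
  obtain ⟨a, b, hab⟩ := Submodule.mem_span_pair.mp (hgW v hv)
  have hiso : a * H.σ b + b * H.σ a = 0 := by
    have := H.map_form g v v
    rw [← hab] at this
    simp only [H.add_left, H.add_right, H.smul_left, H.smul_right, hvv, huu, hvu, huv] at this
    linear_combination this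
  obtain ⟨t₁, ht₁, l, hl⟩ : ∃ t, P t ∧ ∃ l : F, t.1 (g.1 v) = l • v := by
    rcases eq_or_ne b 0 with rfl | hb
    · exact ⟨1, ⟨Subgroup.one_mem _, fun x hx => hx, fun x hx => rfl⟩, a,
        by rw [← hab, zero_smul, add_zero]; rfl⟩
    obtain ⟨s, hs, hse⟩ := down a b hiso hb
    obtain ⟨r, hr, hre⟩ := swap hδ hδ0 b
    exact ⟨r * s, Pmul _ _ hr hs, δ * b, by rw [mul_apply', ← hab, hse, hre, zero_smul, add_zero]⟩
  -- determinant one forces a fixed scalar
  obtain ⟨hT, hTW, hTO⟩ := Pmul _ g ht₁ |> fun f => (⟨ht₁.1, ht₁.2⟩ : P t₁)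
  set g₁ := t₁ * g with hg₁
  have hg₁v : g₁.1 v = l • v := hl
  have hg₁W : ∀ x ∈ W, g₁.1 x ∈ W := fun x hx => hTW _ (hgW x hx)
  have hg₁O : ∀ x ∈ H.orth W, g₁.1 x = x := fun x hx => by rw [hg₁, mul_apply', hgO x hx, hTO x hx]
  obtain ⟨ν, μ, hνμ⟩ := Submodule.mem_span_pair.mp (hg₁W u hu)
  have hlμ : l * H.σ μ = 1 := by
    have := H.map_form g₁ v u
    rw [hg₁v, ← hνμ] at this
    simp only [H.smul_left, H.add_right, H.smul_right, hvv, hvu] at this
    linear_combination this
  have hdet : l * μ = 1 := by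
    have h1 := congrArg Units.val (MonoidHom.mem_ker.mp (H.SIsom.mul_mem (H.transvGroup_le_SIsom hT) hg))
    change ((LinearEquiv.det g₁.1 : Fˣ) : F) = _ at h1
    rw [LinearEquiv.coe_det, Units.val_one] at h1
    let b₁ : Module.Basis (Fin 2) F W := basisOfTopLeSpanOfCardEqFinrank ![⟨v, hv⟩, ⟨u, hu⟩]
      (by
        rintro ⟨z, hz⟩ -
        obtain ⟨p, q, rfl⟩ := Submodule.mem_span_pair.mp hz
        rw [Matrix.range_cons_cons_empty, Submodule.mem_span_pair]
        exact ⟨p, q, Subtype.ext rfl⟩)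
      (by rw [H.finrank_hyperbolic hvv hvu, Fintype.card_fin])
    rw [LinearMap.det_eq_det_mul_det W g₁.1.toLinearMap hg₁W, ← LinearMap.det_toMatrix b₁] at h1
    have hq : W.mapQ W g₁.1.toLinearMap hg₁W = LinearMap.id := by
      refine Submodule.linearMap_qext _ (LinearMap.ext fun x => ?_)
      obtain ⟨p, hp, q, hq, rfl⟩ := Submodule.mem_sup.mp
        ((H.isCompl_orth hW).sup_eq_top ▸ Submodule.mem_top : x ∈ W ⊔ H.orth W)
      simp only [LinearMap.comp_apply, Submodule.mkQ_apply, Submodule.mapQ_apply, LinearMap.id_apply]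
      rw [Submodule.Quotient.eq]
      change g₁.1 (p + q) - (p + q) ∈ W
      rw [map_add, hg₁O q hq, add_sub_add_right_eq_sub]
      exact W.sub_mem (hg₁W p hp) hp
    have hM : LinearMap.toMatrix b₁ b₁ (g₁.1.toLinearMap.restrict hg₁W) = !![l, ν; 0, μ] := by
      ext i j
      have e0 : (g₁.1.toLinearMap.restrict hg₁W) (b₁ 0) = l • b₁ 0 :=
        Subtype.ext (by simp [b₁, hg₁v])
      have e1 : (g₁.1.toLinearMap.restrict hg₁W) (b₁ 1) = ν • b₁ 0 + μ • b₁ 1 :=
        Subtype.ext (by simp [b₁, ← hνμ])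
      rw [LinearMap.toMatrix_apply]
      fin_cases j
      · simp only [Fin.zero_eta, e0, map_smul, b₁.repr_self]
        fin_cases i <;> simp
      · simp only [Fin.mk_one, e1, map_add, map_smul, b₁.repr_self]
        fin_cases i <;> simp
    rw [hM, hq, LinearMap.det_id, mul_one, Matrix.det_fin_two_of, mul_zero, sub_zero] at h1
    exact h1
  have hl0 : l ≠ 0 := fun h => by rw [h, zero_mul] at hdet; exact zero_ne_one hdet
  have hμfix : H.σ μ = μ := mul_left_cancel₀ hl0 (hlμ.trans hdet.symm)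
  have hlfix : H.σ l = l := by
    have : l = μ⁻¹ := eq_inv_of_mul_eq_one_left hdet
    rw [this, map_inv₀, hμfix]
  -- normalise `l` to one
  obtain ⟨t₂, ht₂, ht₂v⟩ : ∃ t, P t ∧ t.1 (g₁.1 v) = v := by
    -- `v ↦ δ u ↦ c δ v` with `c = (l δ)⁻¹`
    have hc : (l * δ)⁻¹ + H.σ (l * δ)⁻¹ = 0 := by
      rw [map_inv₀, map_mul, hlfix, eq_neg_of_add_eq_zero_right hδ, mul_neg, inv_neg, add_neg_cancel]
    have hc0 : (l * δ)⁻¹ ≠ 0 := inv_ne_zero (mul_ne_zero hl0 hδ0)
    refine ⟨H.uT huu (hneg hc) * H.uT hvv hc * (H.uT hvv (hneg hδ) * H.uT huu hδ),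
      Pmul _ _ (Pmul _ _ (Pu _) (Pv _)) (Pmul _ _ (Pv _) (Pu _)), ?_⟩
    rw [hg₁v, show l • v = l • v + (0 : F) • u by rw [zero_smul, add_zero], mul_apply', mul_apply',
      mul_apply', tu, tv]
    rw [show l + -δ⁻¹ * (0 + δ * l) = 0 by field_simp; ring, tv, tu,
      show (0 : F) + (l * δ)⁻¹ * (0 + δ * l) = 1 by field_simp; ring,
      show (0 : F) + δ * l + -((l * δ)⁻¹)⁻¹ * 1 = 0 by rw [inv_inv]; ring]
    rw [one_smul, zero_smul, add_zero]
  set g₂ := t₂ * g₁ with hg₂
  have hg₂v : g₂.1 v = v := ht₂v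
  have hg₂W : ∀ x ∈ W, g₂.1 x ∈ W := fun x hx => ht₂.2.1 _ (hg₁W x hx)
  have hg₂O : ∀ x ∈ H.orth W, g₂.1 x = x := fun x hx => by rw [hg₂, mul_apply', hg₁O x hx, ht₂.2.2 x hx]
  obtain ⟨ν', μ', hνμ'⟩ := Submodule.mem_span_pair.mp (hg₂W u hu)
  have hμ' : μ' = 1 := by
    have := H.map_form g₂ v u
    rw [hg₂v, ← hνμ'] at this
    simp only [H.add_right, H.smul_right, hvv, hvu] at this
    apply H.conj.inj
    rw [map_one]; linear_combination this
  subst hμ'
  have hν' : ν' + H.σ ν' = 0 := by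
    have := H.map_form g₂ u u
    rw [← hνμ'] at this
    simp only [H.add_left, H.add_right, H.smul_left, H.smul_right, hvv, huu, hvu, huv, map_one] at this
    linear_combination this
  have hg₂T : g₂ = H.uT hvv hν' := by
    refine H.eq_of_fix_orth hW (fun x hx => ?_) (fun x hx => by rw [hg₂O x hx, tO hvv hv hν' x hx])
    obtain ⟨p, q, rfl⟩ := Submodule.mem_span_pair.mp hx
    rw [map_add, map_smul, map_smul, hg₂v, ← hνμ', tv]
    module
  have e : g = t₁⁻¹ * (t₂⁻¹ * g₂) := by rw [hg₂, hg₁]; group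
  rw [e, hg₂T]
  exact Subgroup.mul_mem _ (Subgroup.inv_mem _ hT)
    (Subgroup.mul_mem _ (Subgroup.inv_mem _ ht₂.1) (H.uT_mem_transvGroup _ hν'))

/-- Transvections and quasi-reflections. -/
noncomputable def transvReflGroup : Subgroup H.Isom :=
  H.transvGroup ⊔ Subgroup.closure {g | ∃ (v : V) (hv : H.h v v = 1) (z : (normUnits H.σ).ker), g = H.qrefl hv z}

theorem qrefl_mem_transvReflGroup {v : V} (hv : H.h v v = 1) (z : (normUnits H.σ).ker) :
    H.qrefl hv z ∈ H.transvReflGroup :=
  Subgroup.mem_sup_right (Subgroup.subset_closure ⟨v, hv, z, rfl⟩)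

theorem exists_move_norm_one [Finite F] {v v' : V} (hv : H.h v v = 1) (hv' : H.h v' v' = 1)
    {X : Submodule F V} (hX : ∀ x ∈ X, H.h x v = 0 ∧ H.h x v' = 0) :
    ∃ g ∈ H.transvReflGroup, g.1 v = v' ∧ ∀ x ∈ X, g.1 x = x := by
  have step : ∀ a : V, H.h a a = 1 → H.h a (v' - a) ≠ 0 → (∀ x ∈ X, H.h x a = 0) →
      ∃ g ∈ H.transvReflGroup, g.1 a = v' ∧ ∀ x ∈ X, g.1 x = x := by
    intro a ha hne hXa
    set w := v' - a with hw
    have hww : H.h w w + H.h a w + H.h w a = 0 := by
      rw [hw]; simp only [H.sub_left, H.sub_right, hv', ha]; ring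
    have hXw : ∀ x ∈ X, H.h x w = 0 := fun x hx => by rw [hw, H.sub_right, (hX x hx).2, hXa x hx, sub_zero]
    by_cases hiso : H.h w w = 0
    · have hc : (H.h a w)⁻¹ + H.σ (H.h a w)⁻¹ = 0 := by
        rw [map_inv₀, ← H.symm w a, show H.h w a = -H.h a w by linear_combination hww - hiso, inv_neg,
          add_neg_cancel]
      refine ⟨H.uT hiso hc, Subgroup.mem_sup_left (H.uT_mem_transvGroup _ hc), ?_, fun x hx => ?_⟩
      · rw [uT_apply, inv_mul_cancel₀ hne, one_smul, hw, add_sub_cancel]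
      · rw [uT_apply, hXw x hx, mul_zero, zero_smul, add_zero]
    · obtain ⟨s, hs⟩ := H.conj.norm_surjective (a := (H.h w w)⁻¹) (by rw [map_inv₀, H.self_fixed])
      have hu : H.h (s • w) (s • w) = 1 := by
        rw [H.smul_left, H.smul_right, ← mul_assoc, hs, inv_mul_cancel₀ hiso]
      have hnum : H.h a w + H.h w w = -H.h w a := by linear_combination hww
      have hwa : H.h w a ≠ 0 := fun h => hne (H.eq_zero_symm h)
      let z₀ : F := 1 + H.h w w / H.h a w
      have hz₀ : z₀ * H.σ z₀ = 1 := by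
        simp only [z₀, map_add, map_one, map_div₀, H.self_fixed, ← H.symm w a]
        field_simp
        linear_combination H.h w w * hww
      have hz0 : z₀ ≠ 0 := fun h => by rw [h, zero_mul] at hz₀; exact zero_ne_one hz₀
      refine ⟨H.qrefl hu ⟨Units.mk0 z₀ hz0, MonoidHom.mem_ker.mpr (Units.ext hz₀)⟩,
        H.qrefl_mem_transvReflGroup _ _, ?_, fun x hx => ?_⟩
      · rw [qrefl_apply, H.smul_right, smul_smul]
        have : (z₀ - 1) * (H.σ s * H.h a w) * s = 1 := by
          simp only [z₀, add_sub_cancel_left]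
          field_simp
          linear_combination H.h w w * hs + mul_inv_cancel₀ hiso
        rw [Units.val_mk0, this, one_smul, hw, add_sub_cancel]
      · exact H.qrefl_orth hu _ (by rw [H.smul_right, hXw x hx, mul_zero])
  by_cases hne : H.h v (v' - v) = 0
  · obtain ⟨z, hz⟩ := H.exists_norm_ker_sq_ne_one
    have hz1 : (z.1 : F) ≠ 1 := fun h => hz (by rw [h, one_pow])
    have hzz : (z.1 : F) * H.σ z.1 = 1 := congrArg Units.val (MonoidHom.mem_ker.mp z.2)
    obtain ⟨g, hg, hga, hgX⟩ := step ((z.1 : F) • v)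
      (by rw [H.smul_left, H.smul_right, hv, mul_one, hzz]) (by
        rw [H.sub_right, sub_eq_zero, hv] at hne
        rw [H.smul_left, H.sub_right, H.smul_right, hv, hne, mul_one]
        refine mul_ne_zero z.1.ne_zero (sub_ne_zero.mpr fun h => hz1 (H.conj.inj ?_))
        rw [map_one, ← h])
      (fun x hx => by rw [H.smul_right, (hX x hx).1, mul_zero])
    refine ⟨g * H.qrefl hv z, Subgroup.mul_mem _ hg (H.qrefl_mem_transvReflGroup _ _), ?_, fun x hx => ?_⟩
    · rw [mul_apply', qrefl_self, hga]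
    · rw [mul_apply', H.qrefl_orth hv z (hX x hx).1, hgX x hx]
  · exact step v hv hne (fun x hx => (hX x hx).1)

theorem transvReflGroup_eq_top [Finite F] [FiniteDimensional F V] : H.transvReflGroup = ⊤ := by
  obtain ⟨n, hn, b, hb⟩ : ∃ n, Module.finrank F V = n ∧ ∃ b : Module.Basis (Fin n) F V,
      ∀ i j, H.h (b i) (b j) = if i = j then 1 else 0 := ⟨_, rfl, H.exists_orthonormal⟩
  rw [eq_top_iff]
  intro g _
  have key : ∀ k, k ≤ n → ∃ t ∈ H.transvReflGroup, ∀ i : Fin n, (i : ℕ) < k → t.1 (g.1 (b i)) = b i := by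
    intro k
    induction k with
    | zero => exact fun _ => ⟨1, Subgroup.one_mem _, fun i hi => absurd hi (by omega)⟩
    | succ k ih =>
      intro hk
      obtain ⟨t, ht, htb⟩ := ih (by omega)
      let i₀ : Fin n := ⟨k, by omega⟩
      obtain ⟨s, hs, hsv, hsX⟩ := H.exists_move_norm_one (v := t.1 (g.1 (b i₀))) (v' := b i₀)
        (by rw [H.map_form, H.map_form, hb, if_pos rfl]) (by rw [hb, if_pos rfl])
        (X := Submodule.span F (b '' {i | (i : ℕ) < k})) (fun x hx => by
          induction hx using Submodule.span_induction with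
          | mem x hx =>
            obtain ⟨i, hi, rfl⟩ := hx
            have hne : i ≠ i₀ := fun h => by rw [h] at hi; exact lt_irrefl k hi
            constructor
            · conv_lhs => rw [← htb i hi]
              rw [H.map_form, H.map_form, hb, if_neg hne]
            · rw [hb, if_neg hne]
          | zero => exact ⟨H.zero_left _, H.zero_left _⟩
          | add a c _ _ ha hc => exact ⟨by rw [H.add_left, ha.1, hc.1, add_zero],
              by rw [H.add_left, ha.2, hc.2, add_zero]⟩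
          | smul r a _ ha => exact ⟨by rw [H.smul_left, ha.1, mul_zero], by rw [H.smul_left, ha.2, mul_zero]⟩)
      refine ⟨s * t, Subgroup.mul_mem _ hs ht, fun i hi => ?_⟩
      rw [mul_apply']
      rcases eq_or_ne i i₀ with rfl | hne
      · exact hsv
      · have hik : (i : ℕ) < k := by
          have : (i : ℕ) ≠ k := fun h => hne (Fin.ext h)
          omega
        rw [htb i hik]
        exact hsX _ (Submodule.subset_span ⟨i, hik, rfl⟩)
  obtain ⟨t, ht, htb⟩ := key n le_rfl
  have : t * g = 1 := H.isom_ext fun x => by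
    have : (t * g).1.toLinearMap = LinearMap.id := b.ext fun i => htb i i.2
    exact LinearMap.congr_fun this x
  rw [eq_inv_of_mul_eq_one_right this]
  exact Subgroup.inv_mem _ ht

theorem exists_hyperbolic_in_span [Finite F] [FiniteDimensional F V] {v v' : V} (hv : H.h v v = 1)
    (hv' : H.h v' v' = 1) (hne : H.h v v' * H.h v' v ≠ 1) :
    ∃ e u, H.h e e = 0 ∧ H.h u u = 0 ∧ H.h e u = 1 ∧
      Submodule.span F ({e, u} : Set V) = Submodule.span F ({v, v'} : Set V) := by
  set y := v' - H.h v' v • v with hy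
  have hvy : H.h v y = 0 := by rw [hy, H.sub_right, H.smul_right, hv, mul_one, ← H.symm, sub_self]
  have hyy : H.h y y = 1 - H.h v' v * H.h v v' := by
    rw [hy]
    simp only [H.sub_left, H.sub_right, H.smul_left, H.smul_right, hv, hv', ← H.symm v v']
    ring
  have hyy0 : H.h y y ≠ 0 := by rw [hyy, sub_ne_zero]; rw [mul_comm] at hne; exact Ne.symm hne
  obtain ⟨c, hc⟩ := H.conj.norm_surjective (a := -(H.h y y)⁻¹) (by rw [map_neg, map_inv₀, H.self_fixed])
  obtain ⟨z, hz⟩ := H.exists_norm_ker_sq_ne_one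
  have hzz : (z.1 : F) * H.σ z.1 = 1 := congrArg Units.val (MonoidHom.mem_ker.mp z.2)
  have hiso : ∀ b : F, b * H.σ b = -(H.h y y)⁻¹ → H.h (v + b • y) (v + b • y) = 0 := fun b hb => by
    simp only [H.add_left, H.add_right, H.smul_left, H.smul_right, hv, hvy, H.eq_zero_symm hvy]
    linear_combination H.h y y * hb + (- (mul_inv_cancel₀ hyy0))
  have hc' : ((z.1 : F) * c) * H.σ ((z.1 : F) * c) = -(H.h y y)⁻¹ := by
    rw [map_mul, mul_mul_mul_comm, hzz, one_mul, hc]
  set d := H.h (v + c • y) (v + ((z.1 : F) * c) • y) with hd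
  have hd0 : d ≠ 0 := by
    rw [hd]
    simp only [H.add_left, H.add_right, H.smul_left, H.smul_right, hv, hvy, H.eq_zero_symm hvy, map_mul]
    intro h
    apply hz
    have h1 : H.σ (z.1 : F) = 1 := by
      linear_combination (norm := skip) -h + H.h y y * H.σ (z.1 : F) * hc
      field_simp
      ring
    have h2 : (z.1 : F) = 1 := H.conj.inj (by rw [h1, map_one])
    rw [h2, one_pow]
  refine ⟨v + c • y, (H.σ d)⁻¹ • (v + ((z.1 : F) * c) • y), hiso c hc, ?_, ?_, ?_⟩
  · rw [H.smul_left, H.smul_right, hiso _ hc', mul_zero, mul_zero]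
  · rw [H.smul_right, map_inv₀, H.conj.invol, ← hd, inv_mul_cancel₀ hd0]
  · refine Submodule.eq_of_le_of_finrank_le ?_ ?_
    · have hyW : y ∈ Submodule.span F ({v, v'} : Set V) := by
        rw [hy]
        exact Submodule.sub_mem _ (Submodule.subset_span (by simp))
          (Submodule.smul_mem _ _ (Submodule.subset_span (by simp)))
      have hvW : v ∈ Submodule.span F ({v, v'} : Set V) := Submodule.subset_span (by simp)
      rw [Submodule.span_le]
      rintro x (rfl | rfl)
      · exact Submodule.add_mem _ hvW (Submodule.smul_mem _ _ hyW)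
      · exact Submodule.smul_mem _ _ (Submodule.add_mem _ hvW (Submodule.smul_mem _ _ hyW))
    · rw [H.finrank_hyperbolic (hiso c hc)
        (by rw [H.smul_right, map_inv₀, H.conj.invol, ← hd, inv_mul_cancel₀ hd0])]
      classical
      have h1 : (({v, v'} : Finset V) : Set V) = {v, v'} := by simp
      rw [← h1]
      exact (finrank_span_finset_le_card _).trans Finset.card_le_two

theorem exists_common_partner [Finite F] [FiniteDimensional F V]
    (hd : 4 ≤ Module.finrank F V ∨ (Module.finrank F V = 3 ∧ 3 ≤ H.q))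
    {v v' : V} (hv : H.h v v = 1) (hv' : H.h v' v' = 1) (hdeg : H.h v v' * H.h v' v = 1) :
    ∃ y, H.h y y = 1 ∧ H.h v y * H.h y v ≠ 1 ∧ H.h v' y * H.h y v' ≠ 1 := by
  classical
  have hv0 : v ≠ 0 := fun h => by rw [h, H.zero_left] at hv; exact zero_ne_one hv
  have hW := H.nondegOn_span_singleton (v := v) (by rw [hv]; exact one_ne_zero)
  obtain ⟨m, hm, b, hb⟩ : ∃ m, Module.finrank F V = m + 1 ∧
      ∃ b : Fin m → V, (∀ i j, H.h (b i) (b j) = if i = j then 1 else 0) ∧ ∀ i, H.h (b i) v = 0 := by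
    obtain ⟨b, hb⟩ := (H.restrict _ (H.nondegOn_orth hW)).exists_orthonormal
    refine ⟨_, ?_, fun i => (b i : V), hb, fun i => (b i).2 v (Submodule.mem_span_singleton_self v)⟩
    rw [H.finrank_orth, finrank_span_singleton hv0]
    omega
  obtain ⟨hb, hbv⟩ := hb
  set c := fun i => H.h v' (b i) with hc
  -- a candidate orthogonal to `v`
  suffices ∃ y, H.h y y = 1 ∧ H.h y v = 0 ∧ H.h v' y * H.h y v' ≠ 1 by
    obtain ⟨y, h1, h2, h3⟩ := this
    exact ⟨y, h1, by rw [h2, mul_zero]; exact zero_ne_one, h3⟩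
  by_cases hall : ∀ i, c i * H.σ (c i) = 1
  swap
  · push Not at hall
    obtain ⟨i, hi⟩ := hall
    exact ⟨b i, by rw [hb, if_pos rfl], hbv i, by rwa [H.symm (b i) v']⟩
  have h2le : 2 ≤ H.q := H.two_le_q
  by_cases hq : 3 ≤ H.q
  · have hm2 : 2 ≤ m := by omega
    let i₁ : Fin m := ⟨0, by omega⟩
    let i₂ : Fin m := ⟨1, by omega⟩
    have h12 : i₁ ≠ i₂ := by simp [i₁, i₂]
    obtain ⟨t, ht, ht01⟩ : ∃ t : F, H.σ t = t ∧ t ≠ 0 ∧ t ≠ 1 := by
      haveI := Fintype.ofFinite (fixedField H.σ)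
      obtain ⟨t, -, ht⟩ := Finset.exists_mem_notMem_of_card_lt_card
        (show ({0, 1} : Finset (fixedField H.σ)).card < (Finset.univ : Finset (fixedField H.σ)).card by
          have h3 : ({0, 1} : Finset (fixedField H.σ)).card ≤ 2 := Finset.card_le_two
          rw [Finset.card_univ, ← Nat.card_eq_fintype_card]
          exact lt_of_le_of_lt h3 hq)
      simp only [Finset.mem_insert, Finset.mem_singleton, not_or] at ht
      exact ⟨t, t.2, fun h => ht.1 (Subtype.ext h), fun h => ht.2 (Subtype.ext h)⟩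
    obtain ⟨α, hα⟩ := H.conj.norm_surjective ht
    obtain ⟨β, hβ⟩ := H.conj.norm_surjective (a := 1 - t) (by rw [map_sub, map_one, ht])
    obtain ⟨z, hz⟩ := H.exists_norm_ker_sq_ne_one
    have hzz : (z.1 : F) * H.σ z.1 = 1 := congrArg Units.val (MonoidHom.mem_ker.mp z.2)
    have hy : ∀ β' : F, β' * H.σ β' = 1 - t → H.h (α • b i₁ + β' • b i₂) (α • b i₁ + β' • b i₂) = 1 :=
      fun β' hβ' => by
        simp only [H.add_left, H.add_right, H.smul_left, H.smul_right, hb, if_true, h12, h12.symm, if_false]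
        linear_combination hα + hβ'
    have hn : ∀ β' : F, β' * H.σ β' = 1 - t →
        H.h v' (α • b i₁ + β' • b i₂) * H.h (α • b i₁ + β' • b i₂) v' = 1 →
        H.σ α * β' * c i₁ * H.σ (c i₂) + α * H.σ β' * H.σ (c i₁) * c i₂ = 0 := fun β' hβ' h => by
      simp only [H.add_left, H.add_right, H.smul_left, H.smul_right, H.symm (b i₁) v', H.symm (b i₂) v'] at h
      linear_combination h - (c i₁ * H.σ (c i₁)) * hα - (c i₂ * H.σ (c i₂)) * hβ' - t * hall i₁ - (1 - t) * hall i₂
    have hzβ : ((z.1 : F) * β) * H.σ ((z.1 : F) * β) = 1 - t := by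
      rw [map_mul, mul_mul_mul_comm, hzz, one_mul, hβ]
    by_contra hcon
    push Not at hcon
    have e1 := hn β hβ (hcon _ (hy β hβ) (by simp [H.add_left, H.smul_left, hbv]))
    have e2 := hn _ hzβ (hcon _ (hy _ hzβ) (by simp [H.add_left, H.smul_left, hbv]))
    rw [map_mul] at e2
    have hne : H.σ α * β * c i₁ * H.σ (c i₂) ≠ 0 := by
      refine mul_ne_zero (mul_ne_zero (mul_ne_zero ?_ ?_) ?_) ?_
      · rw [map_ne_zero]; intro h; rw [h, zero_mul] at hα; exact ht01.1 hα.symm
      · intro h; rw [h, zero_mul] at hβ; exact ht01.2 (sub_eq_zero.mp hβ.symm).symm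
      · intro h; have := hall i₁; rw [h, zero_mul] at this; exact zero_ne_one this
      · rw [map_ne_zero]; intro h; have := hall i₂; rw [h, zero_mul] at this; exact zero_ne_one this
    have : ((z.1 : F) - H.σ z.1) * (H.σ α * β * c i₁ * H.σ (c i₂)) = 0 := by
      linear_combination e2 - H.σ (z.1 : F) * e1
    have hfix : (z.1 : F) = H.σ z.1 := sub_eq_zero.mp ((mul_eq_zero.mp this).resolve_right hne)
    exact hz (by rw [sq]; conv_lhs => arg 2; rw [hfix]
                 exact hzz)
  · have hq2 : H.q = 2 := by omega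
    have hfix : ∀ a : F, H.σ a = a → a ≠ 0 → a = 1 := fun a ha ha0 => by
      by_contra ha1
      haveI := Fintype.ofFinite (fixedField H.σ)
      have h3 : ({0, 1, ⟨a, ha⟩} : Finset (fixedField H.σ)).card ≤ 2 := by
        refine (Finset.card_le_univ _).trans ?_
        rw [← Nat.card_eq_fintype_card]; exact le_of_eq hq2
      rw [Finset.card_insert_of_notMem (by
          simp only [Finset.mem_insert, Finset.mem_singleton, not_or]
          exact ⟨zero_ne_one, fun h => ha0 (congrArg Subtype.val h).symm⟩),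
        Finset.card_insert_of_notMem (by
          simp only [Finset.mem_singleton]
          exact fun h => ha1 (congrArg Subtype.val h).symm), Finset.card_singleton] at h3
      omega
    have h2 : (2 : F) = 0 := by
      by_contra h
      have := hfix 2 (map_ofNat H.σ 2) h
      exact one_ne_zero (show (1 : F) = 0 by linear_combination this)
    have hN : ∀ a : F, a ≠ 0 → a * H.σ a = 1 := fun a ha =>
      hfix _ (H.conj.norm_mem a) (mul_ne_zero ha ((map_ne_zero _).mpr ha))
    have hm3 : 3 ≤ m := by omega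
    let i₁ : Fin m := ⟨0, by omega⟩
    let i₂ : Fin m := ⟨1, by omega⟩
    let i₃ : Fin m := ⟨2, by omega⟩
    have h12 : i₁ ≠ i₂ := by simp [i₁, i₂]
    have h13 : i₁ ≠ i₃ := by simp [i₁, i₃]
    have h23 : i₂ ≠ i₃ := by simp [i₂, i₃]
    have hc0 : ∀ i, c i ≠ 0 := fun i h => by have := hall i; rw [h, zero_mul] at this; exact zero_ne_one this
    obtain ⟨γ, hγ, hs⟩ : ∃ γ : F, γ ≠ 0 ∧ c i₂ + H.σ γ * c i₃ ≠ 0 := by
      obtain ⟨z, hz⟩ := H.exists_norm_ker_sq_ne_one
      by_cases h : c i₂ + H.σ (1 : F) * c i₃ = 0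
      · refine ⟨z.1, z.1.ne_zero, fun h' => hz ?_⟩
        rw [map_one, one_mul] at h
        have : H.σ (z.1 : F) = 1 := mul_right_cancel₀ (hc0 i₃) (by rw [one_mul]; linear_combination h' - h)
        rw [show (z.1 : F) = 1 from H.conj.inj (by rw [this, map_one]), one_pow]
      · exact ⟨1, one_ne_zero, h⟩
    set s := c i₂ + H.σ γ * c i₃ with hsdef
    set α := H.σ (-(s / c i₁)) with hαdef
    have hα0 : α ≠ 0 := by
      rw [hαdef, map_ne_zero, neg_ne_zero]; exact div_ne_zero hs (hc0 _)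
    refine ⟨α • b i₁ + b i₂ + γ • b i₃, ?_, ?_, ?_⟩
    · simp only [H.add_left, H.add_right, H.smul_left, H.smul_right, hb, if_true, h12, h12.symm, h13,
        h13.symm, h23, h23.symm, if_false]
      linear_combination hN α hα0 + hN γ hγ + h2
    · simp [H.add_left, H.smul_left, hbv]
    · have h0 : H.h v' (α • b i₁ + b i₂ + γ • b i₃) = 0 := by
        simp only [H.add_right, H.smul_right, hαdef, H.conj.invol]
        change -(s / c i₁) * c i₁ + c i₂ + H.σ γ * c i₃ = 0
        rw [neg_mul, div_mul_cancel₀ _ (hc0 _), hsdef]; ring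
      rw [h0, zero_mul]; exact zero_ne_one

/-- `c ↦` quasi-reflection along a fixed vector. -/
noncomputable def qreflHom {v : V} (hv : H.h v v = 1) : (normUnits H.σ).ker →* H.Isom where
  toFun z := H.qrefl hv z
  map_one' := H.isom_ext fun x => by simp [qrefl_apply]
  map_mul' a b := H.isom_ext fun x => by
    rw [mul_apply', qrefl_apply, qrefl_apply, qrefl_apply, H.add_left, H.smul_left, hv, Subgroup.coe_mul,
      Units.val_mul]
    module

theorem qrefl_mul_inv_mem [Finite F] [FiniteDimensional F V]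
    (hd : 4 ≤ Module.finrank F V ∨ (Module.finrank F V = 3 ∧ 3 ≤ H.q))
    {v v' : V} (hv : H.h v v = 1) (hv' : H.h v' v' = 1) (z : (normUnits H.σ).ker) :
    H.qrefl hv z * (H.qrefl hv' z)⁻¹ ∈ H.transvGroup := by
  have plane : ∀ {v v' : V} (hv : H.h v v = 1) (hv' : H.h v' v' = 1), H.h v v' * H.h v' v ≠ 1 →
      H.qrefl hv z * (H.qrefl hv' z)⁻¹ ∈ H.transvGroup := by
    intro v v' hv hv' hne
    obtain ⟨e, u, hee, huu, heu, hspan⟩ := H.exists_hyperbolic_in_span hv hv' hne
    have hW : ∀ (w : V) (hw : H.h w w = 1), w ∈ Submodule.span F ({v, v'} : Set V) → ∀ z' : (normUnits H.σ).ker,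
        (∀ x ∈ Submodule.span F ({v, v'} : Set V), (H.qrefl hw z').1 x ∈ Submodule.span F ({v, v'} : Set V)) ∧
          ∀ x ∈ H.orth (Submodule.span F ({v, v'} : Set V)), (H.qrefl hw z').1 x = x := fun w hw hwW z' =>
      ⟨fun x hx => by rw [qrefl_apply]; exact Submodule.add_mem _ hx (Submodule.smul_mem _ _ hwW),
        fun x hx => H.qrefl_orth hw _ (hx w hwW)⟩
    have hinv : (H.qrefl hv' z)⁻¹ = H.qrefl hv' z⁻¹ := (map_inv (H.qreflHom hv') z).symm
    refine H.mem_transvGroup_of_plane hee huu heu ?_ ?_ ?_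
    · rw [SIsom, MonoidHom.mem_ker, map_mul, map_inv, det_qrefl, det_qrefl, mul_inv_cancel]
    · rw [hspan, hinv]
      intro x hx
      rw [mul_apply']
      exact (hW v hv (Submodule.subset_span (by simp)) z).1 _ ((hW v' hv' (Submodule.subset_span (by simp)) z⁻¹).1 x hx)
    · rw [hspan, hinv]
      intro x hx
      rw [mul_apply', (hW v' hv' (Submodule.subset_span (by simp)) z⁻¹).2 x hx,
        (hW v hv (Submodule.subset_span (by simp)) z).2 x hx]
  by_cases hdeg : H.h v v' * H.h v' v = 1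
  · obtain ⟨y, hy, h1, h2⟩ := H.exists_common_partner hd hv hv' hdeg
    have := Subgroup.mul_mem _ (plane hv hy h1) (plane hy hv' (by rw [mul_comm] at h2 ⊢; rwa [mul_comm]))
    rwa [mul_assoc, inv_mul_cancel_left] at this
  · exact plane hv hv' hdeg

/-- Unitary transvections generate the special unitary group. -/
theorem transvGroup_eq_SIsom [Finite F] [FiniteDimensional F V]
    (hd : 4 ≤ Module.finrank F V ∨ (Module.finrank F V = 3 ∧ 3 ≤ H.q)) :
    H.transvGroup = H.SIsom := by
  refine le_antisymm H.transvGroup_le_SIsom fun g hg => ?_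
  haveI : Nontrivial V := Module.nontrivial_of_finrank_pos (R := F) (by omega)
  obtain ⟨v, hv⟩ := H.exists_norm_one
  have hle : (⊤ : Subgroup H.Isom) ≤ H.transvGroup ⊔ (H.qreflHom hv).range := by
    rw [← H.transvReflGroup_eq_top, transvReflGroup, sup_le_iff, Subgroup.closure_le]
    refine ⟨le_sup_left, ?_⟩
    rintro _ ⟨w, hw, z, rfl⟩
    have e : H.qrefl hw z = H.qrefl hw z * (H.qrefl hv z)⁻¹ * H.qrefl hv z := by group
    rw [e]
    exact Subgroup.mul_mem_sup (H.qrefl_mul_inv_mem hd hw hv z) ⟨z, rfl⟩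
  obtain ⟨t, ht, _, ⟨z, rfl⟩, rfl⟩ := Subgroup.mem_sup_of_normal_left.mp (hle (Subgroup.mem_top g))
  have hz : H.qreflHom hv z ∈ H.SIsom := by
    have := H.SIsom.mul_mem (H.SIsom.inv_mem (H.transvGroup_le_SIsom ht)) hg
    rwa [inv_mul_cancel_left] at this
  rw [SIsom, MonoidHom.mem_ker] at hz
  change H.detHom (H.qrefl hv z) = 1 at hz
  rw [det_qrefl] at hz
  rw [show z = 1 from Subtype.ext hz, map_one, mul_one]
  exact ht

end HermSpace

end Cfsg.Lib.Classical
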