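import Mathlib
import Cfsg.Agent.Classical.Unitary.Transv
import Cfsg.Agent.Classical.IwasawaQuot

set_option autoImplicit false
set_option linter.unusedVariables false
set_option linter.unusedSimpArgs false
set_option linter.style.haveILetI false

/-! Perfectness, primitivity on isotropic points and simplicity for special unitary groups. -/

open scoped commutatorElement LinearAlgebra.Projectivization Pointwise

namespace Cfsg.Lib.Classical

universe u v

variable {F : Type u} [Field F] {V : Type v} [AddCommGroup V] [Module F V]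

namespace HermSpace

variable (H : HermSpace F V)

section Siegel

variable {v w : V} (hv : H.h v v = 0) (hwv : H.h w v = 0) {a : F} (ha : a + H.σ a = -H.h w w)

/-- The Siegel element `x ↦ x + h(x,v) w - h(x,w) v + a h(x,v) v`. -/
noncomputable def siegel : H.Isom :=
  ⟨LinearEquiv.transvection (f := H.lin v) (v := w + a • v)
      (by simp [lin_apply, H.add_left, H.smul_left, hv, hwv]) *
    LinearEquiv.transvection (f := -H.lin w) (v := v) (by simp [lin_apply, H.eq_zero_symm hwv]),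
  fun x y => by
    simp only [LinearEquiv.mul_apply, LinearEquiv.transvection.apply, LinearMap.neg_apply, lin_apply,
      neg_smul, H.add_left, H.add_right, H.neg_left, H.neg_right, H.smul_left, H.smul_right, hv, hwv,
      H.eq_zero_symm hwv, mul_zero, neg_zero, add_zero, zero_add, ← H.symm v y, ← H.symm w y]
    linear_combination (H.h x v * H.h v y) * ha⟩

theorem siegel_apply (x : V) :
    (H.siegel hv hwv ha).1 x = x + H.h x v • w + (a * H.h x v - H.h x w) • v := by
  simp only [siegel, LinearEquiv.mul_apply, LinearEquiv.transvection.apply, LinearMap.neg_apply, lin_apply,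
    neg_smul, H.add_left, H.neg_left, H.smul_left, hv, mul_zero, neg_zero, add_zero]
  module

theorem siegel_mem_SIsom : H.siegel hv hwv ha ∈ H.SIsom := by
  rw [mem_SIsom, siegel, map_mul,
    LinearEquiv.transvection.det_eq_one (f := H.lin v) (v := w + a • v)
      (by simp [lin_apply, H.add_left, H.smul_left, hv, hwv]),
    LinearEquiv.transvection.det_eq_one (f := -H.lin w) (v := v)
      (by simp [lin_apply, H.eq_zero_symm hwv]), one_mul]

end Siegel

theorem exists_norm_one_orth_pair [Finite F] [FiniteDimensional F V] (hd : 3 ≤ Module.finrank F V)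
    {v u : V} (hvv : H.h v v = 0) (hvu : H.h v u = 1) :
    ∃ w, H.h w w = 1 ∧ H.h w v = 0 ∧ H.h w u = 0 := by
  have hW := H.nondegOn_hyperbolic hvv hvu
  haveI : Nontrivial (H.orth (Submodule.span F ({v, u} : Set V))) :=
    Module.nontrivial_of_finrank_pos (R := F) (by rw [H.finrank_orth, H.finrank_hyperbolic hvv hvu]; omega)
  obtain ⟨w, hw⟩ := (H.restrict _ (H.nondegOn_orth hW)).exists_norm_one
  exact ⟨w, hw, w.2 v (Submodule.subset_span (by simp)), w.2 u (Submodule.subset_span (by simp))⟩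

theorem uT_eq_one_of_zero {c : F} (hc : c + H.σ c = 0) : H.uT (H.zero_left 0) hc = 1 :=
  H.isom_ext fun x => by rw [uT_apply, smul_zero, add_zero]; rfl

/-- Every unitary transvection is a commutator in `SU`, in dimension at least three. -/
theorem exists_commutator_eq_uT [Finite F] [FiniteDimensional F V] (hd : 3 ≤ Module.finrank F V)
    {v : V} (hv : H.h v v = 0) {c : F} (hc : c + H.σ c = 0) :
    ∃ a ∈ H.SIsom, ∃ b ∈ H.SIsom, ⁅a, b⁆ = H.uT hv hc := by
  rcases eq_or_ne v 0 with rfl | hv0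
  · exact ⟨1, H.SIsom.one_mem, 1, H.SIsom.one_mem, by
      rw [commutatorElement_one_left, ← H.uT_eq_one_of_zero hc]⟩
  obtain ⟨u, hu, -⟩ := H.exists_hyperbolic hv0 hv
  obtain ⟨w, hw, hwv, -⟩ := H.exists_norm_one_orth_pair hd hv hu
  obtain ⟨θ, hθ⟩ := H.conj.exists_trace_one
  set μ := -(θ * c) with hμ
  have ha : -θ + H.σ (-θ) = -H.h w w := by rw [hw, map_neg]; linear_combination -hθ
  have hw'v : H.h (μ • w) v = 0 := by rw [H.smul_left, hwv, mul_zero]
  set b := -(θ * H.h (μ • w) (μ • w)) with hb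
  have hb' : b + H.σ b = -H.h (μ • w) (μ • w) := by
    rw [hb, map_neg, map_mul, H.self_fixed]; linear_combination (-H.h (μ • w) (μ • w)) * hθ
  refine ⟨_, H.siegel_mem_SIsom hv hwv ha, _, H.siegel_mem_SIsom hv hw'v hb', ?_⟩
  rw [commutatorElement_def, mul_inv_eq_iff_eq_mul, mul_inv_eq_iff_eq_mul]
  refine H.isom_ext fun x => ?_
  simp only [mul_apply', siegel_apply, uT_apply, H.add_left, H.sub_left, H.smul_left, H.smul_right, hv, hwv,
    H.eq_zero_symm hwv, hw, hμ, map_neg, map_mul, eq_neg_of_add_eq_zero_right hc]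
  linear_combination (norm := module) (c * H.h x v) • hθ • v

theorem commutator_SIsom [Finite F] [FiniteDimensional F V]
    (hd : 4 ≤ Module.finrank F V ∨ (Module.finrank F V = 3 ∧ 3 ≤ H.q)) :
    commutator H.SIsom = ⊤ := by
  have hle : H.transvGroup ≤ ⁅H.SIsom, H.SIsom⁆ := by
    rw [transvGroup, Subgroup.closure_le]
    rintro _ ⟨v, hv, c, hc, rfl⟩
    obtain ⟨a, ha, b, hb, hab⟩ := H.exists_commutator_eq_uT (by omega) hv hc
    rw [← hab]
    exact Subgroup.commutator_mem_commutator ha hb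
  rw [H.transvGroup_eq_SIsom hd] at hle
  refine Subgroup.map_injective H.SIsom.subtype_injective ?_
  rw [← MonoidHom.range_eq_map, Subgroup.range_subtype, Subgroup.map_subtype_commutator]
  exact le_antisymm (Subgroup.commutator_le.mpr fun a ha b hb =>
    H.SIsom.mul_mem (H.SIsom.mul_mem (H.SIsom.mul_mem ha hb) (H.SIsom.inv_mem ha)) (H.SIsom.inv_mem hb)) hle

/-- Isotropic points. -/
def IsoPt : Type v := {p : ℙ F V // H.h p.rep p.rep = 0}

theorem iso_mk_iff {x : V} (hx : x ≠ 0) :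
    H.h (Projectivization.mk F x hx).rep (Projectivization.mk F x hx).rep = 0 ↔ H.h x x = 0 := by
  obtain ⟨a, ha⟩ := Projectivization.exists_smul_eq_mk_rep F x hx
  rw [← ha, Units.smul_def, H.smul_left, H.smul_right, ← mul_assoc, mul_eq_zero,
    or_iff_right (mul_ne_zero a.ne_zero ((map_ne_zero _).mpr a.ne_zero))]

/-- The isotropic point of a vector. -/
noncomputable def isoMk (x : V) (hx : x ≠ 0) (h : H.h x x = 0) : H.IsoPt :=
  ⟨Projectivization.mk F x hx, (H.iso_mk_iff hx).mpr h⟩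

theorem isoPt_ind {P : H.IsoPt → Prop} (h : ∀ x hx hxx, P (H.isoMk x hx hxx)) (p : H.IsoPt) : P p := by
  obtain ⟨p, hp⟩ := p
  have := h p.rep p.rep_nonzero hp
  simpa [isoMk, Projectivization.mk_rep] using this

theorem isoMk_eq_iff {x y : V} {hx : x ≠ 0} {hy : y ≠ 0} {hxx : H.h x x = 0} {hyy : H.h y y = 0} :
    H.isoMk x hx hxx = H.isoMk y hy hyy ↔ ∃ c : F, c • y = x := by
  refine Iff.trans ⟨fun h => congrArg Subtype.val h, fun h => Subtype.ext h⟩ ?_
  exact Projectivization.mk_eq_mk_iff' F x y hx hy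

theorem isom_ne_zero (g : H.Isom) {x : V} (hx : x ≠ 0) : g.1 x ≠ 0 :=
  (LinearEquiv.map_ne_zero_iff _).mpr hx

noncomputable instance isoPtAction : MulAction H.SIsom H.IsoPt where
  smul g p := H.isoMk (g.1.1 p.1.rep) (H.isom_ne_zero g.1 p.1.rep_nonzero) (by rw [H.map_form]; exact p.2)
  one_smul p := by
    refine Subtype.ext ?_
    exact Projectivization.mk_rep p.1
  mul_smul a b p := by
    change H.isoMk _ _ _ = H.isoMk _ _ _
    rw [isoMk_eq_iff]
    obtain ⟨c, hc⟩ := Projectivization.exists_smul_eq_mk_rep F (b.1.1 p.1.rep) (H.isom_ne_zero b.1 p.1.rep_nonzero)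
    refine ⟨((c⁻¹ : Fˣ) : F), ?_⟩
    change ((c⁻¹ : Fˣ) : F) • a.1.1 (Projectivization.mk F (b.1.1 p.1.rep) _).rep = a.1.1 (b.1.1 p.1.rep)
    rw [← map_smul, ← hc, Units.smul_def, smul_smul, ← Units.val_mul, inv_mul_cancel, Units.val_one, one_smul]

theorem smul_isoMk (g : H.SIsom) (x : V) (hx : x ≠ 0) (hxx : H.h x x = 0) :
    g • H.isoMk x hx hxx = H.isoMk (g.1.1 x) (H.isom_ne_zero g.1 hx) (by rw [H.map_form, hxx]) := by
  change H.isoMk _ _ _ = H.isoMk _ _ _
  rw [isoMk_eq_iff]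
  obtain ⟨c, hc⟩ := Projectivization.exists_smul_eq_mk_rep F x hx
  refine ⟨(c : F), ?_⟩
  change (c : F) • g.1.1 x = g.1.1 (Projectivization.mk F x hx).rep
  rw [← hc, Units.smul_def, map_smul]

/-- A torus element with prescribed determinant. -/
theorem exists_torus_det [Finite F] [FiniteDimensional F V] {v u : V} (hvv : H.h v v = 0)
    (huu : H.h u u = 0) (hvu : H.h v u = 1) (z : (normUnits H.σ).ker) :
    ∃ g : H.Isom, H.detHom g = z.1 ∧ (∃ a : F, g.1 v = a • v) ∧ (∃ b : F, g.1 u = b • u) ∧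
      ∀ x, H.h x v = 0 → H.h x u = 0 → g.1 x = x := by
  have huv : H.h u v = 1 := by rw [H.symm, hvu, map_one]
  obtain ⟨a, ha0, ha⟩ := H.conj.exists_div_eq (c := (z.1 : F)) (congrArg Units.val (MonoidHom.mem_ker.mp z.2))
  have hσa : H.σ a ≠ 0 := (map_ne_zero _).mpr ha0
  set b := (H.σ a)⁻¹ with hb
  have hb0 : b ≠ 0 := inv_ne_zero hσa
  have hab : a * H.σ b = 1 := by rw [hb, map_inv₀, H.conj.invol, mul_inv_cancel₀ ha0]
  have hba : b * H.σ a = 1 := inv_mul_cancel₀ hσa
  let A := LinearEquiv.dilatransvection (f := (a - 1) • H.lin u) (v := v)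
    (by simp [lin_apply, hvu, ha0])
  let B := LinearEquiv.dilatransvection (f := (b - 1) • H.lin v) (v := u)
    (by simp [lin_apply, huv, hb0])
  have happ : ∀ x, (A * B) x = x + ((a - 1) * H.h x u) • v + ((b - 1) * H.h x v) • u := fun x => by
    simp only [A, B, LinearEquiv.mul_apply, LinearEquiv.dilatransvection.apply, LinearMap.smul_apply,
      lin_apply, smul_eq_mul, H.add_left, H.smul_left, huu, mul_zero, add_zero]
    module
  refine ⟨⟨A * B, fun x y => ?_⟩, ?_, ⟨a, ?_⟩, ⟨b, ?_⟩, fun x h1 h2 => ?_⟩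
  · rw [happ, happ]
    simp only [H.add_left, H.add_right, H.smul_left, H.smul_right, hvv, huu, hvu, huv, map_mul, map_sub,
      map_one, ← H.symm v y, ← H.symm u y]
    linear_combination (H.h x u * H.h v y) * hab + (H.h x v * H.h u y) * hba
  · apply Units.ext
    change ((LinearEquiv.det (A * B) : Fˣ) : F) = _
    rw [map_mul, Units.val_mul, LinearEquiv.coe_det, LinearEquiv.coe_det,
      LinearEquiv.dilatransvection.coe_toLinearMap, LinearEquiv.dilatransvection.coe_toLinearMap,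
      LinearMap.transvection.det, LinearMap.transvection.det]
    simp only [LinearMap.smul_apply, lin_apply, hvu, huv, smul_eq_mul, mul_one, add_sub_cancel]
    rw [hb]
    field_simp
    linear_combination ha
  · change (A * B) v = _
    rw [happ, hvu, hvv]; module
  · change (A * B) u = _
    rw [happ, huu, huv]; module
  · change (A * B) x = _
    rw [happ, h1, h2]; module

/-- Correct an isometry to determinant one, fixing a hyperbolic pair projectively. -/
theorem exists_correct_pair [Finite F] [FiniteDimensional F V] (g : H.Isom) {v u : V} (hvv : H.h v v = 0)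
    (huu : H.h u u = 0) (hvu : H.h v u = 1) :
    ∃ t : H.Isom, t * g ∈ H.SIsom ∧ (∃ a : F, t.1 v = a • v) ∧ (∃ b : F, t.1 u = b • u) ∧
      ∀ x, H.h x v = 0 → H.h x u = 0 → t.1 x = x := by
  obtain ⟨t, ht, h1, h2, h3⟩ := H.exists_torus_det hvv huu hvu ⟨(H.detHom g)⁻¹, inv_mem (H.det_mem_norm_ker g)⟩
  exact ⟨t, by rw [SIsom, MonoidHom.mem_ker, map_mul, ht]; exact inv_mul_cancel _, h1, h2, h3⟩

theorem isoPt_pretransitive [Finite F] [FiniteDimensional F V] : MulAction.IsPretransitive H.SIsom H.IsoPt := by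
  refine ⟨fun p q => ?_⟩
  induction p using H.isoPt_ind with | h x hx hxx => ?_
  induction q using H.isoPt_ind with | h y hy hyy => ?_
  obtain ⟨g, hg⟩ := H.transitive_isotropic hx hy hxx hyy
  obtain ⟨u, hu, huu⟩ := H.exists_hyperbolic hy hyy
  obtain ⟨t, ht, ⟨a, ha⟩, -, -⟩ := H.exists_correct_pair g hyy huu hu
  refine ⟨⟨t * g, ht⟩, ?_⟩
  rw [smul_isoMk, isoMk_eq_iff]
  exact ⟨a, by rw [mul_apply', hg, ha]⟩

theorem exists_isotropic_of_two_le [Finite F] [FiniteDimensional F V] (hd : 2 ≤ Module.finrank F V) :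
    ∃ x, x ≠ 0 ∧ H.h x x = 0 := by
  obtain ⟨n, hn, b, hb⟩ : ∃ n, Module.finrank F V = n ∧ ∃ b : Module.Basis (Fin n) F V,
      ∀ i j, H.h (b i) (b j) = if i = j then 1 else 0 := ⟨_, rfl, H.exists_orthonormal⟩
  let i : Fin n := ⟨0, by omega⟩
  let j : Fin n := ⟨1, by omega⟩
  have hij : i ≠ j := by simp [i, j]
  obtain ⟨c, hc⟩ := H.conj.norm_surjective (a := (-1 : F)) (by rw [map_neg, map_one])
  refine ⟨b i + c • b j, fun h => ?_, ?_⟩
  · have := congrArg (fun x => H.h x (b i)) h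
    simp [H.add_left, H.smul_left, hb, hij, hij.symm, H.zero_left] at this
  · simp only [H.add_left, H.add_right, H.smul_left, H.smul_right, hb, if_true, hij, hij.symm, if_false]
    linear_combination hc

/-- Isotropic vectors span, in dimension at least two. -/
theorem span_isotropic [Finite F] [FiniteDimensional F V] (hd : 2 ≤ Module.finrank F V) :
    Submodule.span F {x : V | H.h x x = 0} = ⊤ := by
  rw [eq_top_iff]
  intro x _
  obtain ⟨v, hv, hvv⟩ := H.exists_isotropic_of_two_le hd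
  obtain ⟨u, hu, huu⟩ := H.exists_hyperbolic hv hvv
  have huv : H.h u v = 1 := by rw [H.symm, hu, map_one]
  obtain ⟨θ, hθ⟩ := H.conj.exists_trace_one
  have hm : ∀ z, H.h z z = 0 → z ∈ Submodule.span F {x : V | H.h x x = 0} := fun z hz => Submodule.subset_span hz
  set z := x - H.h x u • v - H.h x v • u with hz
  have hzv : H.h z v = 0 := by simp [hz, H.sub_left, H.smul_left, hvv, huv]
  have hzu : H.h z u = 0 := by simp [hz, H.sub_left, H.smul_left, huu, hu]
  have hiso : H.h (z + (-(θ * H.h z z)) • v + u) (z + (-(θ * H.h z z)) • v + u) = 0 := by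
    simp only [H.add_left, H.add_right, H.smul_left, H.smul_right, hvv, huu, hu, huv, hzv, hzu,
      H.eq_zero_symm hzv, H.eq_zero_symm hzu, map_neg, map_mul, H.self_fixed]
    linear_combination (-H.h z z) * hθ
  have h1 : z ∈ Submodule.span F {x : V | H.h x x = 0} := by
    have := Submodule.sub_mem _ (hm _ hiso)
      (Submodule.add_mem _ (Submodule.smul_mem _ (-(θ * H.h z z)) (hm _ hvv)) (hm _ huu))
    convert this using 1
    module
  have e : x = z + H.h x u • v + H.h x v • u := by rw [hz]; module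
  rw [e]
  exact Submodule.add_mem _ (Submodule.add_mem _ h1 (Submodule.smul_mem _ _ (hm _ hvv)))
    (Submodule.smul_mem _ _ (hm _ huu))

/-- An isotropic vector orthogonal to neither of two isotropic vectors. -/
theorem exists_isotropic_nonorth [Finite F] [FiniteDimensional F V] {p s : V} (hp : p ≠ 0) (hs : s ≠ 0)
    (hpp : H.h p p = 0) (hss : H.h s s = 0) : ∃ r, H.h r r = 0 ∧ H.h p r ≠ 0 ∧ H.h s r ≠ 0 := by
  obtain ⟨δ, hδ0, hδ⟩ := H.conj.exists_skew
  by_cases hps : H.h p s = 0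
  · obtain ⟨a, ha⟩ := H.exists_partner hp
    obtain ⟨b, hb⟩ := H.exists_partner hs
    obtain ⟨θ, hθ⟩ := H.conj.exists_trace_one
    obtain ⟨x, hx1, hx2⟩ : ∃ x, H.h p x ≠ 0 ∧ H.h s x ≠ 0 := by
      by_cases h1 : H.h s a = 0
      · by_cases h2 : H.h p b = 0
        · exact ⟨a + b, by simp [H.add_right, ha, h2], by simp [H.add_right, h1, hb]⟩
        · exact ⟨b, h2, by rw [hb]; exact one_ne_zero⟩
      · exact ⟨a, by rw [ha]; exact one_ne_zero, h1⟩
    refine ⟨x - ((θ * H.h x x) / H.h p x) • p, ?_, ?_, ?_⟩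
    · simp only [H.sub_left, H.sub_right, H.smul_left, H.smul_right, hpp, map_div₀, map_mul, H.self_fixed,
        ← H.symm x p]
      have hxp : H.h x p ≠ 0 := fun h => hx1 (H.eq_zero_symm h)
      field_simp
      linear_combination (-H.h x x * H.h x p * H.h p x) * hθ
    · rwa [H.sub_right, H.smul_right, hpp, mul_zero, sub_zero]
    · rwa [H.sub_right, H.smul_right, H.eq_zero_symm hps, mul_zero, sub_zero]
  · have hsp : H.h s p ≠ 0 := fun h => hps (H.eq_zero_symm h)
    refine ⟨(δ / H.h p s) • p + s, ?_, ?_, ?_⟩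
    · simp only [H.add_left, H.add_right, H.smul_left, H.smul_right, hpp, hss, map_div₀, ← H.symm s p]
      field_simp
      linear_combination (H.h p s * H.h s p) * hδ
    · rwa [H.add_right, H.smul_right, hpp, mul_zero, zero_add]
    · rw [H.add_right, H.smul_right, hss, add_zero]
      exact mul_ne_zero ((map_ne_zero _).mpr (div_ne_zero hδ0 hps)) hsp

theorem exists_pair_orth [Finite F] [FiniteDimensional F V] {p q : V} (hpp : H.h p p = 0)
    (hpq : H.h p q = 0) (hq : p ∉ Submodule.span F ({q} : Set V)) :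
    ∃ u, H.h p u = 1 ∧ H.h u u = 0 ∧ H.h q u = 0 := by
  obtain ⟨φ, hφ, hφq⟩ := Submodule.exists_dual_map_eq_bot_of_notMem hq inferInstance
  have hq0 : φ q = 0 := by
    have : φ q ∈ (Submodule.span F {q}).map φ := Submodule.mem_map_of_mem (Submodule.mem_span_singleton_self q)
    rwa [hφq, Submodule.mem_bot] at this
  obtain ⟨y, hy⟩ := H.exists_lin ((φ p)⁻¹ • φ)
  obtain ⟨θ, hθ⟩ := H.conj.exists_trace_one
  have hy1 : H.h p y = 1 := by rw [hy, LinearMap.smul_apply, smul_eq_mul, inv_mul_cancel₀ hφ]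
  have hy2 : H.h q y = 0 := by rw [hy, LinearMap.smul_apply, hq0, smul_zero]
  refine ⟨y - (θ * H.h y y) • p, ?_, ?_, ?_⟩
  · rw [H.sub_right, H.smul_right, hpp, mul_zero, sub_zero, hy1]
  · simp only [H.sub_left, H.sub_right, H.smul_left, H.smul_right, hpp, hy1, H.symm y p, map_one, map_mul,
      H.self_fixed]
    linear_combination (-H.h y y) * hθ
  · rw [H.sub_right, H.smul_right, H.eq_zero_symm hpq, mul_zero, sub_zero, hy2]

theorem exists_SIsom_map_nonorth [Finite F] [FiniteDimensional F V] {p q q' : V} (hpp : H.h p p = 0)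
    (hqq : H.h q q = 0) (hqq' : H.h q' q' = 0) (h : H.h p q ≠ 0) (h' : H.h p q' ≠ 0) :
    ∃ g ∈ H.SIsom, (∃ a : F, g.1 p = a • p) ∧ ∃ b : F, g.1 q = b • q' := by
  have hn : ∀ {x : V}, H.h p x ≠ 0 → H.h p ((H.σ (H.h p x))⁻¹ • x) = 1 := fun {x} hx => by
    rw [H.smul_right, map_inv₀, H.conj.invol, inv_mul_cancel₀ hx]
  have hi : ∀ {x : V} (c : F), H.h x x = 0 → H.h (c • x) (c • x) = 0 := fun {x} c hx => by
    rw [H.smul_left, H.smul_right, hx, mul_zero, mul_zero]
  obtain ⟨g, hg1, hg2⟩ := H.transitive_hyperbolic hpp (hi _ hqq) (hn h) hpp (hi _ hqq') (hn h')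
  obtain ⟨t, ht, ⟨a, ha⟩, ⟨b, hb⟩, -⟩ := H.exists_correct_pair g hpp (hi _ hqq') (hn h')
  refine ⟨t * g, ht, ⟨a, by rw [mul_apply', hg1, ha]⟩,
    H.σ (H.h p q) * b * (H.σ (H.h p q'))⁻¹, ?_⟩
  have hne : H.σ (H.h p q) ≠ 0 := (map_ne_zero _).mpr h
  have : g.1 q = H.σ (H.h p q) • g.1 ((H.σ (H.h p q))⁻¹ • q) := by
    rw [map_smul, smul_smul, mul_inv_cancel₀ hne, one_smul]
  rw [mul_apply', this, hg2, map_smul, hb, smul_smul, smul_smul]

theorem exists_SIsom_map_orth [Finite F] [FiniteDimensional F V] {p q q' : V}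
    (hpp : H.h p p = 0) (hqq : H.h q q = 0) (hqq' : H.h q' q' = 0) (h : H.h p q = 0) (h' : H.h p q' = 0)
    (hq : p ∉ Submodule.span F ({q} : Set V)) (hq' : p ∉ Submodule.span F ({q'} : Set V))
    (hq0 : q ≠ 0) (hq0' : q' ≠ 0) :
    ∃ g ∈ H.SIsom, (∃ a : F, g.1 p = a • p) ∧ g.1 q = q' := by
  obtain ⟨u, hu, huu, hqu⟩ := H.exists_pair_orth hpp h hq
  obtain ⟨u', hu', huu', hqu'⟩ := H.exists_pair_orth hpp h' hq'
  obtain ⟨g₁, hg₁p, hg₁u⟩ := H.transitive_hyperbolic hpp huu hu hpp huu' hu'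
  set W := Submodule.span F ({p, u'} : Set V)
  have hW := H.nondegOn_hyperbolic hpp hu'
  have hmem : ∀ x, H.h x p = 0 → H.h x u' = 0 → x ∈ H.orth W := fun x h1 h2 => by
    rw [H.mem_orth_span]; rintro w (rfl | rfl) <;> assumption
  have m1 : g₁.1 q ∈ H.orth W := hmem _
    (by rw [← hg₁p, H.map_form]; exact H.eq_zero_symm h) (by rw [← hg₁u, H.map_form]; exact hqu)
  have m2 : q' ∈ H.orth W := hmem _ (H.eq_zero_symm h') hqu'
  obtain ⟨k, hk⟩ := (H.restrict _ (H.nondegOn_orth hW)).transitive_isotropic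
    (v := ⟨g₁.1 q, m1⟩) (v' := ⟨q', m2⟩) (fun e => H.isom_ne_zero g₁ hq0 (congrArg Subtype.val e))
    (fun e => hq0' (congrArg Subtype.val e)) (by change H.h (g₁.1 q) (g₁.1 q) = 0; rw [H.map_form, hqq])
    hqq'
  obtain ⟨g₂, hg₂a, hg₂b⟩ := H.exists_glue hW hW LinearMap.id k.1.toLinearMap (fun x y => rfl) k.2
  obtain ⟨t, ht, ⟨a, ha⟩, -, htf⟩ := H.exists_correct_pair (g₂ * g₁) hpp huu' hu'
  refine ⟨t * (g₂ * g₁), ht, ⟨a, ?_⟩, ?_⟩
  · rw [mul_apply', mul_apply', hg₁p, hg₂a ⟨p, Submodule.subset_span (by simp)⟩]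
    exact ha
  · rw [mul_apply', mul_apply', hg₂b ⟨_, m1⟩]
    change t.1 (k.1 ⟨g₁.1 q, m1⟩ : V) = q'
    rw [hk]
    exact htf q' (H.eq_zero_symm h') hqu'

theorem isoPt_primitive [Finite F] [FiniteDimensional F V] (hd : 2 ≤ Module.finrank F V) :
    MulAction.IsPreprimitive H.SIsom H.IsoPt := by
  haveI := H.isoPt_pretransitive
  obtain ⟨p₀, hp₀, hpp⟩ := H.exists_isotropic_of_two_le hd
  refine MulAction.IsPreprimitive.of_isTrivialBlock_base (H.isoMk p₀ hp₀ hpp) fun {Bl} hmem hBl => ?_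
  rw [MulAction.IsTrivialBlock, or_iff_not_imp_left]
  intro hns
  obtain ⟨Q, hQ, hQne⟩ : ∃ Q ∈ Bl, Q ≠ H.isoMk p₀ hp₀ hpp := by
    by_contra hc
    push Not at hc
    exact hns fun a ha b hb => (hc a ha).trans (hc b hb).symm
  induction Q using H.isoPt_ind with | h q hq hqq => ?_
  have smul_mem : ∀ (g : H.SIsom) {x : V} (hx : x ≠ 0) (hxx : H.h x x = 0) {y : V} (hy : y ≠ 0)
      (hyy : H.h y y = 0), (∃ c : F, g.1.1 x = c • y) → H.isoMk x hx hxx ∈ Bl → H.isoMk y hy hyy ∈ Bl →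
      ∀ {r : V} (hr : r ≠ 0) (hrr : H.h r r = 0) {s : V} (hs : s ≠ 0) (hss : H.h s s = 0),
      (∃ c : F, g.1.1 r = c • s) → H.isoMk r hr hrr ∈ Bl → H.isoMk s hs hss ∈ Bl := by
    intro g x hx hxx y hy hyy hxy hxB hyB r hr hrr s hs hss hrs hrB
    have e : ∀ {x : V} (hx : x ≠ 0) (hxx : H.h x x = 0) {y : V} (hy : y ≠ 0) (hyy : H.h y y = 0),
        (∃ c : F, g.1.1 x = c • y) → g • H.isoMk x hx hxx = H.isoMk y hy hyy := by
      rintro x hx hxx y hy hyy ⟨c, hc⟩
      rw [smul_isoMk, isoMk_eq_iff]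
      exact ⟨c, hc.symm⟩
    have hB := hBl.smul_eq_of_mem hxB (by rw [e hx hxx hy hyy hxy]; exact hyB)
    rw [← e hr hrr hs hss hrs, ← hB]
    exact Set.smul_mem_smul_set hrB
  have hspan : ∀ {x y : V} (hx : x ≠ 0) (hxx : H.h x x = 0) (hy : y ≠ 0) (hyy : H.h y y = 0),
      H.isoMk y hy hyy ≠ H.isoMk x hx hxx → x ∉ Submodule.span F ({y} : Set V) := by
    intro x y hx hxx hy hyy hne hm
    obtain ⟨c, rfl⟩ := Submodule.mem_span_singleton.mp hm
    exact hne ((H.isoMk_eq_iff).mpr ⟨c, rfl⟩).symm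
  rw [Set.eq_univ_iff_forall]
  intro S
  induction S using H.isoPt_ind with | h s hs hss => ?_
  by_cases ho : H.h p₀ q = 0
  · -- the orthogonal relation
    have nb0 : ∀ (r : V) (hr : r ≠ 0) (hrr : H.h r r = 0), H.h p₀ r = 0 → H.isoMk r hr hrr ∈ Bl := by
      intro r hr hrr hr0
      by_cases hrp : H.isoMk r hr hrr = H.isoMk p₀ hp₀ hpp
      · rw [hrp]; exact hmem
      obtain ⟨g, hg, hg1, hg2⟩ := H.exists_SIsom_map_orth hpp hqq hrr ho hr0
        (hspan hp₀ hpp hq hqq hQne) (hspan hp₀ hpp hr hrr hrp) hq hr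
      exact smul_mem ⟨g, hg⟩ hp₀ hpp hp₀ hpp hg1 hmem hmem hq hqq hr hrr ⟨1, by rw [hg2, one_smul]⟩ hQ
    by_cases hps : H.h p₀ s = 0
    · exact nb0 s hs hss hps
    have hd4 : 4 ≤ Module.finrank F V := by
      have h2 : 2 ≤ Module.finrank F (H.orth (Submodule.span F ({p₀} : Set V))) := by
        classical
        have hqm : Submodule.span F ({p₀, q} : Set V) ≤ H.orth (Submodule.span F ({p₀} : Set V)) := by
          rw [Submodule.span_le]
          rintro z (rfl | rfl) <;> rw [SetLike.mem_coe, H.mem_orth_span] <;> rintro w rfl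
          · exact hpp
          · exact H.eq_zero_symm ho
        refine le_trans ?_ (Submodule.finrank_mono hqm)
        have hlt : Submodule.span F ({q} : Set V) < Submodule.span F ({p₀, q} : Set V) := by
          refine lt_of_le_of_ne (Submodule.span_mono (by simp)) fun h => hspan hp₀ hpp hq hqq hQne ?_
          rw [h]; exact Submodule.subset_span (by simp)
        have := Submodule.finrank_lt_finrank_of_lt hlt
        rw [finrank_span_singleton hq] at this
        omega
      by_contra hlt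
      rw [H.finrank_orth, finrank_span_singleton hp₀] at h2
      -- `q` would be an isotropic vector of an anisotropic line
      obtain ⟨u, hu, huu, hqu⟩ := H.exists_pair_orth hpp ho (hspan hp₀ hpp hq hqq hQne)
      have hW := H.nondegOn_hyperbolic hpp hu
      have hqW : q ∈ H.orth (Submodule.span F ({p₀, u} : Set V)) := by
        rw [H.mem_orth_span]; rintro w (rfl | rfl)
        · exact H.eq_zero_symm ho
        · exact hqu
      have hsp : H.orth (Submodule.span F ({p₀, u} : Set V)) = Submodule.span F {q} := by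
        refine (Submodule.eq_of_le_of_finrank_le ((Submodule.span_singleton_le_iff_mem _ _).mpr hqW) ?_).symm
        rw [H.finrank_orth, H.finrank_hyperbolic hpp hu, finrank_span_singleton hq]; omega
      refine hq (H.nondegOn_orth hW q hqW fun x hx => ?_)
      rw [hsp] at hx
      obtain ⟨c, rfl⟩ := Submodule.mem_span_singleton.mp hx
      rw [H.smul_left, hqq, mul_zero]
    have hn1 : H.h p₀ ((H.σ (H.h p₀ s))⁻¹ • s) = 1 := by
      rw [H.smul_right, map_inv₀, H.conj.invol, inv_mul_cancel₀ hps]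
    set W := Submodule.span F ({p₀, (H.σ (H.h p₀ s))⁻¹ • s} : Set V)
    have hW := H.nondegOn_hyperbolic hpp hn1
    obtain ⟨r, hr, hrr⟩ := (H.restrict _ (H.nondegOn_orth hW)).exists_isotropic_of_two_le
      (by rw [H.finrank_orth, H.finrank_hyperbolic hpp hn1]; omega)
    have hr' : (r : V) ≠ 0 := fun e => hr (Subtype.ext e)
    replace hrr : H.h (r : V) r = 0 := hrr
    have hrp : H.h (r : V) p₀ = 0 := r.2 p₀ (Submodule.subset_span (by simp))
    have hrs : H.h (r : V) s = 0 := by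
      have := r.2 ((H.σ (H.h p₀ s))⁻¹ • s) (Submodule.subset_span (by simp))
      rw [H.smul_right, mul_eq_zero, map_inv₀, H.conj.invol, inv_eq_zero] at this
      exact this.resolve_left hps
    have hrB := nb0 r hr' hrr (H.eq_zero_symm hrp)
    obtain ⟨g, hg⟩ := MulAction.exists_smul_eq H.SIsom (H.isoMk p₀ hp₀ hpp) (H.isoMk r hr' hrr)
    rw [smul_isoMk, isoMk_eq_iff] at hg
    obtain ⟨c, hc⟩ := hg
    have hc0 : c ≠ 0 := fun e => by rw [e, zero_smul] at hc; exact H.isom_ne_zero g.1 hp₀ hc.symm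
    have hs' := H.isom_ne_zero (g.1)⁻¹ hs
    have hss' : H.h ((g.1)⁻¹.1 s) ((g.1)⁻¹.1 s) = 0 := by rw [H.map_form, hss]
    have h1 : H.h p₀ ((g.1)⁻¹.1 s) = 0 := by
      rw [← H.map_form g.1, H.apply_inv_self, ← hc, H.smul_left, hrs, mul_zero]
    exact smul_mem g hp₀ hpp hr' hrr ⟨c, hc.symm⟩ hmem hrB hs' hss' hs hss
      ⟨1, by rw [H.apply_inv_self, one_smul]⟩ (nb0 _ hs' hss' h1)
  · -- the non-orthogonal relation
    have nb0 : ∀ (r : V) (hr : r ≠ 0) (hrr : H.h r r = 0), H.h p₀ r ≠ 0 → H.isoMk r hr hrr ∈ Bl := by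
      intro r hr hrr hr0
      obtain ⟨g, hg, hg1, hg2⟩ := H.exists_SIsom_map_nonorth hpp hqq hrr ho hr0
      exact smul_mem ⟨g, hg⟩ hp₀ hpp hp₀ hpp hg1 hmem hmem hq hqq hr hrr hg2 hQ
    obtain ⟨r, hrr, hrp, hrs⟩ := H.exists_isotropic_nonorth hp₀ hs hpp hss
    have hr' : r ≠ 0 := fun e => hrp (by rw [e, H.zero_right])
    have hrB := nb0 r hr' hrr hrp
    obtain ⟨g, hg⟩ := MulAction.exists_smul_eq H.SIsom (H.isoMk p₀ hp₀ hpp) (H.isoMk r hr' hrr)
    rw [smul_isoMk, isoMk_eq_iff] at hg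
    obtain ⟨c, hc⟩ := hg
    have hc0 : c ≠ 0 := fun e => by rw [e, zero_smul] at hc; exact H.isom_ne_zero g.1 hp₀ hc.symm
    have hs' := H.isom_ne_zero (g.1)⁻¹ hs
    have hss' : H.h ((g.1)⁻¹.1 s) ((g.1)⁻¹.1 s) = 0 := by rw [H.map_form, hss]
    have h1 : H.h p₀ ((g.1)⁻¹.1 s) ≠ 0 := by
      rw [← H.map_form g.1, H.apply_inv_self, ← hc, H.smul_left]
      exact mul_ne_zero hc0 (fun e => hrs (H.eq_zero_symm e))
    exact smul_mem g hp₀ hpp hr' hrr ⟨c, hc.symm⟩ hmem hrB hs' hss' hs hss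
      ⟨1, by rw [H.apply_inv_self, one_smul]⟩ (nb0 _ hs' hss' h1)

theorem uT_smul {v : V} (hv : H.h v v = 0) (a : F) (hav : H.h (a • v) (a • v) = 0) {c : F}
    (hc : c + H.σ c = 0) (hc' : a * H.σ a * c + H.σ (a * H.σ a * c) = 0) :
    H.uT hav hc = H.uT hv hc' :=
  H.isom_ext fun x => by rw [uT_apply, uT_apply, H.smul_right, smul_smul]; congr 2; ring

theorem uT_congr {v v' : V} (hv : H.h v v = 0) (hv' : H.h v' v' = 0) (e : v = v') {c : F}
    (hc : c + H.σ c = 0) : H.uT hv hc = H.uT hv' hc := by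
  subst e; rfl

/-- The root group of an isotropic vector. -/
noncomputable def rootGroup {v : V} (hv : H.h v v = 0) : Subgroup H.SIsom where
  carrier := {g | ∃ (c : F) (hc : c + H.σ c = 0), g.1 = H.uT hv hc}
  mul_mem' := by
    rintro a b ⟨c, hc, ha⟩ ⟨d, hd, hb⟩
    refine ⟨c + d, by rw [map_add]; linear_combination hc + hd, H.isom_ext fun x => ?_⟩
    change ((a.1 * b.1 : H.Isom)).1 x = _
    rw [ha, hb, mul_apply', uT_apply, uT_apply, uT_apply, H.add_left, H.smul_left, hv]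
    module
  one_mem' := ⟨0, by rw [map_zero, add_zero], H.isom_ext fun x => by
    rw [uT_apply, zero_mul, zero_smul, add_zero]; rfl⟩
  inv_mem' := by
    rintro a ⟨c, hc, ha⟩
    refine ⟨-c, by rw [map_neg]; linear_combination -hc, ?_⟩
    change (a.1)⁻¹ = _
    refine inv_eq_of_mul_eq_one_right (H.isom_ext fun x => ?_)
    rw [ha, mul_apply', uT_apply, uT_apply, H.add_left, H.smul_left, hv]
    change _ = x
    module

theorem rootGroup_smul_le {v : V} (hv : H.h v v = 0) (a : F) (hav : H.h (a • v) (a • v) = 0) :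
    H.rootGroup hav ≤ H.rootGroup hv := by
  rintro g ⟨c, hc, hg⟩
  have hc' : a * H.σ a * c + H.σ (a * H.σ a * c) = 0 := by
    rw [map_mul, H.conj.norm_mem, ← mul_add, hc, mul_zero]
  exact ⟨_, hc', by rw [hg, H.uT_smul hv a hav hc hc']⟩

theorem rootGroup_congr {v v' : V} (hv : H.h v v = 0) (hv' : H.h v' v' = 0) (e : v = v') :
    H.rootGroup hv = H.rootGroup hv' := by
  subst e; rfl

theorem rootGroup_eq_of_smul {v w : V} (hv : H.h v v = 0) (hw : H.h w w = 0) {a : F} (ha : a ≠ 0)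
    (e : w = a • v) : H.rootGroup hw = H.rootGroup hv := by
  subst e
  refine le_antisymm (H.rootGroup_smul_le hv a hw) ?_
  have e : a⁻¹ • a • v = v := by rw [smul_smul, inv_mul_cancel₀ ha, one_smul]
  have h' : H.h (a⁻¹ • a • v) (a⁻¹ • a • v) = 0 := by rw [e]; exact hv
  have h := H.rootGroup_smul_le hw a⁻¹ h'
  rwa [H.rootGroup_congr h' hv e] at h

/-- The Iwasawa structure of `SU` on isotropic points. -/
noncomputable def unitaryIwasawa [Finite F] [FiniteDimensional F V]
    (hd : 4 ≤ Module.finrank F V ∨ (Module.finrank F V = 3 ∧ 3 ≤ H.q)) :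
    MulAction.IwasawaStructure H.SIsom H.IsoPt where
  T p := H.rootGroup p.2
  is_comm p := by
    refine ⟨⟨fun a b => ?_⟩⟩
    obtain ⟨c, hc, ha⟩ := a.2
    obtain ⟨d, hd', hb⟩ := b.2
    refine Subtype.ext (Subtype.ext ?_)
    change a.1.1 * b.1.1 = b.1.1 * a.1.1
    rw [ha, hb]
    refine H.isom_ext fun x => ?_
    simp only [mul_apply', uT_apply, H.add_left, H.smul_left, p.2]
    module
  is_conj g p := by
    have hgv : H.h (g.1.1 p.1.rep) (g.1.1 p.1.rep) = 0 := by rw [H.map_form]; exact p.2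
    obtain ⟨a, ha⟩ := Projectivization.exists_smul_eq_mk_rep F (g.1.1 p.1.rep) (H.isom_ne_zero g.1 p.1.rep_nonzero)
    rw [H.rootGroup_eq_of_smul hgv (g • p).2 a.ne_zero (by rw [← Units.smul_def, ha]; rfl)]
    ext x
    rw [Subgroup.mem_pointwise_smul_iff_inv_smul_mem, ← map_inv, MulAut.smul_def, MulAut.conj_apply, inv_inv]
    constructor
    · rintro ⟨c, hc, hx⟩
      refine ⟨c, hc, ?_⟩
      change (g.1)⁻¹ * x.1 * g.1 = _
      rw [hx]
      have e := H.uT_conj (g.1)⁻¹ hgv hc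
      rw [inv_inv] at e
      rw [e]
      exact H.uT_congr _ _ (H.inv_apply_self g.1 _) hc
    · rintro ⟨c, hc, hx⟩
      refine ⟨c, hc, ?_⟩
      change (g.1)⁻¹ * x.1 * g.1 = _ at hx
      rw [← H.uT_conj g.1 p.2 hc, ← hx]
      group
  is_generator := by
    rw [eq_top_iff]
    intro g _
    have h2 : H.transvGroup ≤ Subgroup.map H.SIsom.subtype (⨆ p : H.IsoPt, H.rootGroup p.2) := by
      rw [transvGroup, Subgroup.closure_le]
      rintro _ ⟨v, hv, c, hc, rfl⟩
      refine ⟨⟨H.uT hv hc, H.uT_mem_SIsom hv hc⟩, ?_, rfl⟩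
      rcases eq_or_ne v 0 with rfl | hv0
      · have e : (⟨H.uT hv hc, H.uT_mem_SIsom hv hc⟩ : H.SIsom) = 1 :=
          Subtype.ext ((H.uT_congr hv (H.zero_left 0) rfl hc).trans (H.uT_eq_one_of_zero hc))
        rw [SetLike.mem_coe, e]
        exact Subgroup.one_mem _
      · refine Subgroup.mem_iSup_of_mem (H.isoMk v hv0 hv) ?_
        obtain ⟨a, ha⟩ := Projectivization.exists_smul_eq_mk_rep F v hv0
        rw [H.rootGroup_eq_of_smul hv (H.isoMk v hv0 hv).2 a.ne_zero (by rw [← Units.smul_def, ha]; rfl)]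
        exact ⟨c, hc, rfl⟩
    obtain ⟨y, hy, hyg⟩ := h2 ((H.transvGroup_eq_SIsom hd).ge g.2)
    obtain rfl : y = g := Subtype.ext hyg
    exact hy

theorem mem_center_of_fixes_isoPts [Finite F] [FiniteDimensional F V] (hd : 2 ≤ Module.finrank F V)
    (g : H.SIsom) (hg : ∀ p : H.IsoPt, g • p = p) : g ∈ Subgroup.center H.SIsom := by
  have hev : ∀ x, x ≠ 0 → H.h x x = 0 → ∃ a : F, g.1.1 x = a • x := by
    intro x hx hxx
    have := hg (H.isoMk x hx hxx)
    rw [smul_isoMk, isoMk_eq_iff] at this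
    obtain ⟨a, ha⟩ := this
    exact ⟨a, ha.symm⟩
  choose a ha using hev
  have hrel : ∀ x r hx hxx hr hrr, H.h x r ≠ 0 → a x hx hxx * H.σ (a r hr hrr) = 1 := by
    intro x r hx hxx hr hrr hne
    have := H.map_form g.1 x r
    rw [ha x hx hxx, ha r hr hrr, H.smul_left, H.smul_right] at this
    exact mul_right_cancel₀ hne (show (a x hx hxx * H.σ (a r hr hrr)) * H.h x r = 1 * H.h x r by
      linear_combination this)
  have hconst : ∀ x y hx hxx hy hyy, a x hx hxx = a y hy hyy := by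
    intro x y hx hxx hy hyy
    obtain ⟨r, hrr, hxr, hyr⟩ := H.exists_isotropic_nonorth hx hy hxx hyy
    have hr : r ≠ 0 := fun e => hxr (by rw [e, H.zero_right])
    have h1 := hrel x r hx hxx hr hrr hxr
    have h2 := hrel y r hy hyy hr hrr hyr
    exact mul_right_cancel₀ (right_ne_zero_of_mul_eq_one h1) (h1.trans h2.symm)
  obtain ⟨x₀, hx₀, hxx₀⟩ := H.exists_isotropic_of_two_le hd
  have hall : ∀ x, g.1.1 x = a x₀ hx₀ hxx₀ • x := by
    intro x
    have hx : x ∈ Submodule.span F {x : V | H.h x x = 0} := by rw [H.span_isotropic hd]; trivial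
    induction hx using Submodule.span_induction with
    | mem z hz =>
      rcases eq_or_ne z 0 with rfl | hz0
      · simp
      · rw [ha z hz0 hz, hconst z x₀ hz0 hz hx₀ hxx₀]
    | zero => simp
    | add y z _ _ hy hz => rw [map_add, hy, hz, smul_add]
    | smul c y _ hy => rw [map_smul, hy, smul_comm]
  rw [Subgroup.mem_center_iff]
  intro k
  exact Subtype.ext (H.isom_ext fun x => by
    change k.1.1 (g.1.1 x) = g.1.1 (k.1.1 x)
    rw [hall, hall, map_smul])

theorem center_SIsom_ne_top [Finite F] [FiniteDimensional F V]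
    (hd : 4 ≤ Module.finrank F V ∨ (Module.finrank F V = 3 ∧ 3 ≤ H.q)) :
    Subgroup.center H.SIsom ≠ ⊤ := by
  intro h
  obtain ⟨v, hv0, hv⟩ := H.exists_isotropic_of_two_le (by omega)
  obtain ⟨u, hu, -⟩ := H.exists_hyperbolic hv0 hv
  obtain ⟨δ, hδ0, hδ⟩ := H.conj.exists_skew
  obtain ⟨a, -, -, hx⟩ := (H.mem_center_SIsom_iff (by omega)).mp
    (show (⟨H.uT hv hδ, H.uT_mem_SIsom hv hδ⟩ : H.SIsom) ∈ Subgroup.center H.SIsom by rw [h]; trivial)
  have h1 := hx v
  have h2 := hx u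
  change (H.uT hv hδ).1 v = a • v at h1
  change (H.uT hv hδ).1 u = a • u at h2
  rw [uT_apply, hv, mul_zero, zero_smul, add_zero] at h1
  obtain rfl : a = 1 := smul_left_injective F hv0 (by simp [← h1])
  rw [uT_apply, H.symm u v, hu, map_one, mul_one, one_smul, add_eq_left, smul_eq_zero] at h2
  exact h2.elim hδ0 hv0

/-- `PSU_n(q)` is simple. -/
theorem isSimpleGroup_SIsom_quotient [Finite F] [FiniteDimensional F V]
    (hd : 4 ≤ Module.finrank F V ∨ (Module.finrank F V = 3 ∧ 3 ≤ H.q)) :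
    IsSimpleGroup (H.SIsom ⧸ Subgroup.center H.SIsom) := by
  haveI := H.isoPt_primitive (by omega)
  exact isSimpleGroup_quotient_of_iwasawa (H.unitaryIwasawa hd) (H.commutator_SIsom hd) _
    (H.mem_center_of_fixes_isoPts (by omega)) (H.center_SIsom_ne_top hd)

end HermSpace

end Cfsg.Lib.Classical
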