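import Mathlib
import Cfsg.Agent.Classical.Unitary.Matrix
import Cfsg.Agent.Classical.SL

/-! `SU₂(q) ≅ SL₂(q)`. -/

set_option autoImplicit false
set_option linter.unusedSimpArgs false
set_option linter.style.haveILetI false

namespace Cfsg.Lib.Classical

open Matrix

universe u v

theorem su_two_equiv {F : Type u} {K : Type v} [Field F] [Fintype F] [Field K] [Fintype K] {q : ℕ}
    (hF : Fintype.card F = q ^ 2) (hK : Fintype.card K = q) :
    Nonempty (Cfsg.SU 2 F q ≃* Matrix.SpecialLinearGroup (Fin 2) K) := by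
  classical
  set H := stdHerm 2 hF with hH
  haveI : Fintype (fixedField H.σ) := Fintype.ofFinite _
  have hKcard : Fintype.card (fixedField H.σ) = q := by
    rw [← Nat.card_eq_fintype_card]
    exact (exists_conj_pow hF).choose_spec.2.2
  let ι : K →+* F := (fixedField H.σ).subtype.comp
    (FiniteField.ringEquivOfCardEq (K := K) (K' := fixedField H.σ) (by rw [hK, hKcard])).toRingHom
  have hι : ∀ x, H.σ (ι x) = ι x := fun x =>
    ((FiniteField.ringEquivOfCardEq (K := K) (K' := fixedField H.σ) (by rw [hK, hKcard])) x).2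
  obtain ⟨c, hc0, hc⟩ := H.conj.exists_skew
  have hσc : H.σ c = -c := by linear_combination hc
  let H' : HermSpace F (Fin 2 → F) :=
    { σ := H.σ
      h := fun x y => c * (x 0 * H.σ (y 1) - x 1 * H.σ (y 0))
      conj := H.conj
      add_left := fun x y z => by simp only [Pi.add_apply]; ring
      smul_left := fun a x z => by simp only [Pi.smul_apply, smul_eq_mul]; ring
      symm := fun x y => by
        simp only [map_mul, map_sub, H.conj.invol, hσc]
        ring
      nondeg := fun v hv => by
        have h0 := hv ![1, 0]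
        have h1 := hv ![0, 1]
        simp [hc0] at h0 h1
        ext i
        fin_cases i
        · exact h1
        · exact h0 }
  obtain ⟨e, he⟩ := H'.exists_isometry H rfl (by rw [Module.finrank_fin_fun])
  set E := LinearMap.toMatrix' e.toLinearMap with hE
  set E' := LinearMap.toMatrix' e.symm.toLinearMap with hE'
  have hEE : E * E' = 1 := by
    rw [hE, hE', ← LinearMap.toMatrix'_comp, LinearEquiv.comp_coe, LinearEquiv.symm_trans_self,
      LinearEquiv.refl_toLinearMap, LinearMap.toMatrix'_id]
  have hE'E : E' * E = 1 := mul_eq_one_comm.mp hEE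
  have hEap : ∀ x, E *ᵥ x = e x := fun x => by rw [hE, LinearMap.toMatrix'_mulVec]; rfl
  have hE'ap : ∀ x, E' *ᵥ x = e.symm x := fun x => by rw [hE', LinearMap.toMatrix'_mulVec]; rfl
  let f : Matrix.SpecialLinearGroup (Fin 2) K →* Matrix.SpecialLinearGroup (Fin 2) F :=
    { toFun := fun A => ⟨E * (A.1.map ι) * E', by
        rw [Matrix.det_mul, Matrix.det_mul, mul_comm E.det, mul_assoc, ← Matrix.det_mul, hEE, Matrix.det_one,
          mul_one]
        exact (RingHom.map_det ι A.1).symm.trans (by rw [A.2, map_one])⟩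
      map_one' := Subtype.ext (by simp [hEE])
      map_mul' := fun A B => Subtype.ext (by
        show E * ((A * B).1.map ι) * E' = (E * A.1.map ι * E') * (E * B.1.map ι * E')
        rw [Matrix.SpecialLinearGroup.coe_mul, Matrix.map_mul]
        simp only [Matrix.mul_assoc]
        rw [← Matrix.mul_assoc E' E, hE'E, Matrix.one_mul]) }
  have hf : f.range ≤ Cfsg.SU 2 F q := by
    rintro _ ⟨A, rfl⟩ u v
    show Cfsg.hermForm 2 F q ((E * A.1.map ι * E') *ᵥ u) ((E * A.1.map ι * E') *ᵥ v) = _
    have hd : ι (A.1 0 0) * ι (A.1 1 1) - ι (A.1 0 1) * ι (A.1 1 0) = 1 := by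
      have h := A.2
      rw [Matrix.det_fin_two] at h
      rw [← map_mul, ← map_mul, ← map_sub, h, map_one]
    have key : ∀ x y, H'.h (A.1.map ι *ᵥ x) (A.1.map ι *ᵥ y) = H'.h x y := by
      intro x y
      show c * _ = c * _
      simp only [Matrix.mulVec, dotProduct, Fin.sum_univ_two, Matrix.map_apply, map_add, map_mul, hι]
      linear_combination c * (x 0 * H.σ (y 1) - x 1 * H.σ (y 0)) * hd
    simp only [← stdHerm_h hF, ← Matrix.mulVec_mulVec, hEap, hE'ap]
    rw [← hH, he, key, ← he, e.apply_symm_apply, e.apply_symm_apply]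
  have hinj : Function.Injective f := fun A B h => by
    have h' : E' * (E * A.1.map ι * E') * E = E' * (E * B.1.map ι * E') * E := by
      rw [show E * A.1.map ι * E' = E * B.1.map ι * E' from congrArg Subtype.val h]
    simp only [Matrix.mul_assoc, hE'E, Matrix.mul_one] at h'
    rw [← Matrix.mul_assoc, ← Matrix.mul_assoc E' E, hE'E, Matrix.one_mul, Matrix.one_mul] at h'
    exact Subtype.ext (Matrix.map_injective ι.injective h')
  have hcard : Nat.card (Matrix.SpecialLinearGroup (Fin 2) K) = Nat.card (Cfsg.SU 2 F q) := by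
    have h1 := card_SU_mul hF (n := 2) (by norm_num)
    have h2 := card_SL_mul_eq_prod (F := K) (n := 2) (by norm_num)
    rw [hK, Fin.prod_univ_two] at h2
    simp [cardGUFormula, Finset.prod_range_succ, -Nat.card_eq_fintype_card] at h1 h2
    have hq2 : 2 ≤ q := hK ▸ Fintype.one_lt_card
    obtain ⟨r, rfl⟩ := Nat.exists_eq_add_of_le hq2
    rw [show 2 + r - 1 = 1 + r by omega, show (2 + r) ^ 2 - 1 = (1 + r) * (2 + r + 1) from Nat.sub_eq_of_eq_add (by ring),
      show (2 + r) ^ 2 - (2 + r) = (1 + r) * (2 + r) from Nat.sub_eq_of_eq_add (by ring)] at h2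
    rw [show (2 + r) ^ 2 - 1 = (1 + r) * (2 + r + 1) from Nat.sub_eq_of_eq_add (by ring)] at h1
    refine Nat.eq_of_mul_eq_mul_left (show 0 < (1 + r) * (2 + r + 1) by positivity) ?_
    calc (1 + r) * (2 + r + 1) * Nat.card (Matrix.SpecialLinearGroup (Fin 2) K)
        = (2 + r + 1) * ((1 + r) * Nat.card (Matrix.SpecialLinearGroup (Fin 2) K)) := by ring
      _ = (2 + r + 1) * ((1 + r) * (2 + r + 1) * ((1 + r) * (2 + r))) := by rw [h2]
      _ = (1 + r) * (2 + r + 1) * Nat.card (Cfsg.SU 2 F (2 + r)) := by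
          rw [show (1 + r) * (2 + r + 1) * Nat.card (Cfsg.SU 2 F (2 + r)) =
            (1 + r) * ((2 + r + 1) * Nat.card (Cfsg.SU 2 F (2 + r))) by ring, h1]
          ring
  let g : Matrix.SpecialLinearGroup (Fin 2) K →* Cfsg.SU 2 F q := f.codRestrict _ fun A => hf ⟨A, rfl⟩
  have hg : Function.Bijective g := (Nat.bijective_iff_injective_and_card g).mpr
    ⟨fun A B h => hinj (congrArg Subtype.val h), hcard⟩
  exact ⟨(MulEquiv.ofBijective g hg).symm⟩

end Cfsg.Lib.Classical
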