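import Mathlib
import Cfsg.Agent.Classical.Unitary.Matrix

/-! The group `U_3(2)`, by matrices with entries in a table for the field with four elements. -/

set_option autoImplicit false
set_option linter.unusedSimpArgs false
set_option linter.style.haveILetI false

namespace Cfsg.Lib.Classical.UThreeTwo

open Matrix

/-- Codes for the field with four elements: `2` and `3` are the primitive cube roots of one. -/
abbrev Code := Matrix (Fin 3) (Fin 3) (Fin 4)

/-- The product of codes. -/
def cmul : Fin 4 → Fin 4 → Fin 4 := ![![0, 0, 0, 0], ![0, 1, 2, 3], ![0, 2, 3, 1], ![0, 3, 1, 2]]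

/-- The sum of codes. -/
def cadd : Fin 4 → Fin 4 → Fin 4 := ![![0, 1, 2, 3], ![1, 0, 3, 2], ![2, 3, 0, 1], ![3, 2, 1, 0]]

/-- The product of matrices of codes. -/
def mmul (X Y : Code) : Code := Matrix.of fun i j =>
  cadd (cadd (cmul (X i 0) (Y 0 j)) (cmul (X i 1) (Y 1 j))) (cmul (X i 2) (Y 2 j))

/-- The scalar matrices of codes. -/
def scal (s : Fin 4) : Code := Matrix.of fun i j => if i = j then s else 0

/-- The determinant of a matrix of codes. -/
def cdet (X : Code) : Fin 4 :=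
  cadd (cadd (cmul (X 0 0) (cadd (cmul (X 1 1) (X 2 2)) (cmul (X 1 2) (X 2 1))))
    (cmul (X 0 1) (cadd (cmul (X 1 0) (X 2 2)) (cmul (X 1 2) (X 2 0)))))
    (cmul (X 0 2) (cadd (cmul (X 1 0) (X 2 1)) (cmul (X 1 1) (X 2 0))))

/-- Codes of special unitary matrices. -/
def Good (X : Code) : Prop :=
  mmul X.transpose (X.map fun c => cmul c c) = scal 1 ∧ cdet X = 1

instance (X : Code) : Decidable (Good X) := inferInstanceAs (Decidable (_ ∧ _))

/-- The code of `diag(1, ω, ω²)`. -/
def mD : Code := !![1, 0, 0; 0, 2, 0; 0, 0, 3]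

/-- The code of the cyclic permutation matrix. -/
def mC : Code := !![0, 0, 1; 1, 0, 0; 0, 1, 0]

/-- The code of the Fourier matrix. -/
def mA : Code := !![1, 1, 1; 1, 2, 3; 1, 3, 2]

/-- The code of a twist of the Fourier matrix. -/
def mB : Code := !![1, 2, 2; 3, 2, 3; 3, 3, 2]

/-- Powers of codes. -/
def cpow (X : Code) : ℕ → Code
  | 0 => scal 1
  | k + 1 => mmul (cpow X k) X

/-- The Heisenberg codes. -/
def nX (a : ZMod 3 × ZMod 3) : Code := mmul (cpow mD a.1.val) (cpow mC a.2.val)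

/-- The quaternion codes. -/
def qX : QuaternionGroup 2 → Code
  | .a i => cpow mA i.val
  | .xa i => mmul mB (cpow mA i.val)

theorem nX_good : ∀ a, Good (nX a) := by decide +kernel

theorem qX_good : ∀ g, Good (qX g) := by decide +kernel

theorem scal_good : ∀ s : Fin 4, s ≠ 0 → Good (scal s) := by decide +kernel

theorem nX_mul : ∀ a b, ∃ s : Fin 4, s ≠ 0 ∧ mmul (nX a) (nX b) = mmul (scal s) (nX (a + b)) := by decide +kernel

theorem qX_mul : ∀ g h, mmul (qX g) (qX h) = qX (g * h) := by decide +kernel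

theorem nX_zero : nX 0 = scal 1 := by decide +kernel

theorem qX_one : qX 1 = scal 1 := by decide +kernel

theorem qX_conj : ∀ g a, ∃ b, ∃ s : Fin 4, s ≠ 0 ∧ mmul (qX g) (nX a) = mmul (scal s) (mmul (nX b) (qX g)) := by
  decide +kernel

theorem nX_central : ∀ a, mmul (nX a) mD = mmul mD (nX a) → mmul (nX a) mC = mmul mC (nX a) → a = 0 := by
  decide +kernel

theorem qX_central : ∀ g, mmul (qX g) mD = mmul mD (qX g) → mmul (qX g) mC = mmul mC (qX g) → g = 1 := by
  decide +kernel

theorem mD_good : Good mD := by decide +kernel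

theorem mC_good : Good mC := by decide +kernel

theorem quat_cases : ∀ g : QuaternionGroup 2,
    g = 1 ∨ g = QuaternionGroup.a 2 ∨ g ^ 2 = QuaternionGroup.a 2 := by decide +kernel

universe u

variable {F : Type u} [Field F]

/-- Reading a code. -/
def ev (ω : F) : Fin 4 → F := ![0, 1, ω, ω + 1]

section

variable [CharP F 2] {ω : F} (hω : ω * ω = ω + 1)
include hω

theorem ev_add (a b : Fin 4) : ev ω (cadd a b) = ev ω a + ev ω b := by
  have h2 : (2 : F) = 0 := CharTwo.two_eq_zero
  fin_cases a <;> fin_cases b <;> simp [ev, cadd] <;> grind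

theorem ev_mul (a b : Fin 4) : ev ω (cmul a b) = ev ω a * ev ω b := by
  have h2 : (2 : F) = 0 := CharTwo.two_eq_zero
  fin_cases a <;> fin_cases b <;> simp [ev, cmul] <;> grind

theorem ev_injective : Function.Injective (ev ω) := by
  have h2 : (2 : F) = 0 := CharTwo.two_eq_zero
  intro a b h
  fin_cases a <;> fin_cases b <;> simp [ev] at h ⊢ <;> grind

theorem map_mmul (X Y : Code) : (mmul X Y).map (ev ω) = X.map (ev ω) * Y.map (ev ω) := by
  ext i j
  simp [mmul, Matrix.mul_apply, Fin.sum_univ_three, ev_add hω, ev_mul hω]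

theorem map_scal (s : Fin 4) : (scal s).map (ev ω) = Matrix.scalar (Fin 3) (ev ω s) := by
  have h0 : ev ω 0 = 0 := rfl
  ext i j
  simp [scal, Matrix.diagonal_apply, apply_ite (ev ω), h0]

theorem map_scal_one : (scal 1).map (ev ω) = 1 := by
  rw [map_scal hω, show ev ω 1 = 1 from rfl, map_one]

theorem det_map (X : Code) : (X.map (ev ω)).det = ev ω (cdet X) := by
  rw [Matrix.det_fin_three]
  simp only [cdet, ev_add hω, ev_mul hω, Matrix.map_apply, CharTwo.sub_eq_add]
  ring

/-- The special unitary matrix of a good code. -/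
def el (X : Code) (h : Good X) : Cfsg.SU 3 F 2 :=
  ⟨⟨X.map (ev ω), by rw [det_map hω, h.2]; rfl⟩, fun u v => by
    show Cfsg.hermForm 3 F 2 (X.map (ev ω) *ᵥ u) (X.map (ev ω) *ᵥ v) = Cfsg.hermForm 3 F 2 u v
    have key : ∀ a b : Fin 3 → F, Cfsg.hermForm 3 F 2 a b = a ⬝ᵥ (frobenius F 2 ∘ b) := fun a b => rfl
    have hsq : ((X.map fun c => cmul c c).map (ev ω)) = (X.map (ev ω)).map (frobenius F 2) := by
      ext i j
      simp [ev_mul hω, frobenius_def, pow_two]
    have hone : (X.map (ev ω))ᵀ * (X.map (ev ω)).map (frobenius F 2) = 1 := by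
      rw [← hsq, ← Matrix.transpose_map, ← map_mmul hω, h.1, map_scal_one hω]
    have hv : (frobenius F 2 ∘ (X.map (ev ω) *ᵥ v)) =
        (X.map (ev ω)).map (frobenius F 2) *ᵥ (frobenius F 2 ∘ v) :=
      funext fun i => RingHom.map_mulVec _ _ _ i
    rw [key, key, hv, dotProduct_comm, Matrix.dotProduct_mulVec, ← Matrix.mulVec_transpose,
      Matrix.mulVec_mulVec, hone, Matrix.one_mulVec, dotProduct_comm]⟩

theorem el_coe (X : Code) (h : Good X) :
    (((el hω X h : Cfsg.SU 3 F 2) : SpecialLinearGroup (Fin 3) F) : Matrix (Fin 3) (Fin 3) F) = X.map (ev ω) := rfl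

theorem el_mul {X Y Z : Code} (hX : Good X) (hY : Good Y) (hZ : Good Z) (h : mmul X Y = Z) :
    el hω X hX * el hω Y hY = el hω Z hZ := by
  refine Subtype.ext (Subtype.ext ?_)
  show X.map (ev ω) * Y.map (ev ω) = Z.map (ev ω)
  rw [← map_mmul hω, h]

theorem el_scal_mem_center (s : Fin 4) (h : Good (scal s)) :
    el hω (scal s) h ∈ Subgroup.center (Cfsg.SU 3 F 2) := by
  rw [Subgroup.mem_center_iff]
  intro g
  refine Subtype.ext (Subtype.ext ?_)
  show ((g : SpecialLinearGroup (Fin 3) F) : Matrix (Fin 3) (Fin 3) F) * (scal s).map (ev ω) =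
    (scal s).map (ev ω) * ((g : SpecialLinearGroup (Fin 3) F) : Matrix (Fin 3) (Fin 3) F)
  rw [map_scal hω]
  exact ((Matrix.scalar_commute (ev ω s) (fun r => mul_comm _ r) _).eq).symm

/-- The element of `PSU` of a good code. -/
def img (X : Code) (h : Good X) : Cfsg.PSU 3 F 2 := QuotientGroup.mk' _ (el hω X h)

theorem img_scal_mul {X Y : Code} (hX : Good X) (hY : Good Y) (s : Fin 4) (hs : s ≠ 0)
    (h : X = mmul (scal s) Y) : img hω X hX = img hω Y hY := by
  have h1 := el_mul hω (scal_good s hs) hY hX h.symm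
  rw [img, img, ← h1, map_mul,
    show QuotientGroup.mk' (Subgroup.center (Cfsg.SU 3 F 2)) (el hω (scal s) (scal_good s hs)) = 1 from
      (QuotientGroup.eq_one_iff _).mpr (el_scal_mem_center hω s (scal_good s hs)), one_mul]

theorem img_eq_one {X : Code} (hX : Good X) (h : img hω X hX = 1) (Y : Code) (hY : Good Y) :
    mmul X Y = mmul Y X := by
  have hc := (QuotientGroup.eq_one_iff _).mp h
  rw [Subgroup.mem_center_iff] at hc
  have h1 : Y.map (ev ω) * X.map (ev ω) = X.map (ev ω) * Y.map (ev ω) :=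
    congrArg (fun g : Cfsg.SU 3 F 2 => ((g : SpecialLinearGroup (Fin 3) F) : Matrix (Fin 3) (Fin 3) F))
      (hc (el hω Y hY))
  rw [← map_mmul hω, ← map_mmul hω] at h1
  exact (Matrix.map_injective (ev_injective hω) h1).symm

/-- The normal subgroup of order nine, as a homomorphism. -/
def nHom : Multiplicative (ZMod 3 × ZMod 3) →* Cfsg.PSU 3 F 2 :=
  MonoidHom.mk' (fun a : Multiplicative (ZMod 3 × ZMod 3) => img hω (nX (Multiplicative.toAdd a)) (nX_good _))
    fun a b => by
    obtain ⟨s, hs, h⟩ := nX_mul a.toAdd b.toAdd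
    have hmul : el hω (nX a.toAdd) (nX_good _) * el hω (nX b.toAdd) (nX_good _) =
        el hω (scal s) (scal_good s hs) * el hω (nX (Multiplicative.toAdd (a * b) : ZMod 3 × ZMod 3)) (nX_good _) := by
      refine Subtype.ext (Subtype.ext ?_)
      show (nX a.toAdd).map (ev ω) * (nX b.toAdd).map (ev ω) = (scal s).map (ev ω) * (nX (Multiplicative.toAdd (a * b) : ZMod 3 × ZMod 3)).map (ev ω)
      rw [← map_mmul hω, ← map_mmul hω, h]
      rfl
    refine (((map_mul (QuotientGroup.mk' (Subgroup.center (Cfsg.SU 3 F 2))) _ _).symm.trans (congrArg _ hmul)).trans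
      ?_).symm
    rw [map_mul (QuotientGroup.mk' (Subgroup.center (Cfsg.SU 3 F 2))) (el hω (scal s) (scal_good s hs)),
      show QuotientGroup.mk' (Subgroup.center (Cfsg.SU 3 F 2)) (el hω (scal s) (scal_good s hs)) = 1 from
        (QuotientGroup.eq_one_iff _).mpr (el_scal_mem_center hω s (scal_good s hs)), one_mul]
    rfl

/-- The quaternion subgroup, as a homomorphism. -/
def qHom : QuaternionGroup 2 →* Cfsg.PSU 3 F 2 :=
  MonoidHom.mk' (fun g => img hω (qX g) (qX_good _)) fun g h => by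
    rw [img, img, img, ← map_mul, el_mul hω (qX_good g) (qX_good h) (qX_good (g * h)) (qX_mul g h)]

theorem nHom_injective : Function.Injective (nHom hω) := by
  rw [injective_iff_map_eq_one]
  intro a ha
  exact Multiplicative.toAdd.injective
    (nX_central a.toAdd (img_eq_one hω _ ha mD mD_good) (img_eq_one hω _ ha mC mC_good))

theorem qHom_injective : Function.Injective (qHom hω) := by
  rw [injective_iff_map_eq_one]
  intro g hg
  exact qX_central g (img_eq_one hω _ hg mD mD_good) (img_eq_one hω _ hg mC mC_good)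

theorem qHom_conj (g : QuaternionGroup 2) (a : Multiplicative (ZMod 3 × ZMod 3)) :
    ∃ b, qHom hω g * nHom hω a * (qHom hω g)⁻¹ = nHom hω b := by
  obtain ⟨b, s, hs, h⟩ := qX_conj g a.toAdd
  refine ⟨Multiplicative.ofAdd b, mul_inv_eq_iff_eq_mul.mpr ?_⟩
  show img hω (qX g) (qX_good _) * img hω (nX a.toAdd) (nX_good _) =
    img hω (nX b) (nX_good _) * img hω (qX g) (qX_good _)
  rw [img, img, img, ← map_mul, ← map_mul]
  have hmul : el hω (qX g) (qX_good _) * el hω (nX a.toAdd) (nX_good _) =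
      el hω (scal s) (scal_good s hs) * (el hω (nX b) (nX_good _) * el hω (qX g) (qX_good _)) := by
    refine Subtype.ext (Subtype.ext ?_)
    show (qX g).map (ev ω) * (nX a.toAdd).map (ev ω) =
      (scal s).map (ev ω) * ((nX b).map (ev ω) * (qX g).map (ev ω))
    rw [← map_mmul hω, ← map_mmul hω, ← map_mmul hω, h]
  rw [hmul, map_mul (QuotientGroup.mk' _) (el hω (scal s) (scal_good s hs)),
    show QuotientGroup.mk' (Subgroup.center (Cfsg.SU 3 F 2)) (el hω (scal s) (scal_good s hs)) = 1 from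
      (QuotientGroup.eq_one_iff _).mpr (el_scal_mem_center hω s (scal_good s hs)), one_mul]

end

theorem exists_omega [Fintype F] (hF : Fintype.card F = 4) : ∃ _ : CharP F 2, ∃ ω : F, ω * ω = ω + 1 := by
  classical
  have hc : CharP F 2 := by
    obtain ⟨p, hp⟩ := CharP.exists F
    haveI : Fact p.Prime := ⟨CharP.char_is_prime F p⟩
    obtain ⟨k, hk, hk'⟩ := FiniteField.card F p
    rw [hF] at hk'
    have h2 : p ∣ 2 ^ 2 := by
      rw [show (2 : ℕ) ^ 2 = p ^ (k : ℕ) by omega]
      exact dvd_pow_self p k.pos.ne'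
    rw [← (Nat.prime_dvd_prime_iff_eq hk Nat.prime_two).mp (hk.dvd_of_dvd_pow h2)]
    exact hp
  refine ⟨hc, ?_⟩
  obtain ⟨x, -, hx⟩ := Finset.exists_mem_notMem_of_card_lt_card
    (show ({0, 1} : Finset F).card < (Finset.univ : Finset F).card by simp [hF])
  simp at hx
  have h3 : x ^ 3 = 1 := by
    have := FiniteField.pow_card_sub_one_eq_one x hx.1
    rwa [hF] at this
  have h2 : (2 : F) = 0 := CharTwo.two_eq_zero
  have h0 : (x - 1) * (x ^ 2 + x + 1) = 0 := by linear_combination h3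
  rcases mul_eq_zero.mp h0 with h | h
  · exact absurd (sub_eq_zero.mp h) hx.2
  · exact ⟨x, by linear_combination h - (x + 1) * h2⟩

theorem card_psu [Fintype F] (hF : Fintype.card F = 4) : Nat.card (Cfsg.PSU 3 F 2) = 72 := by
  have hF2 : Fintype.card F = 2 ^ 2 := by rw [hF]; norm_num
  have h1 := Cfsg.Lib.Classical.card_SU_mul hF2 (n := 3) (by norm_num)
  have h2 := Subgroup.card_eq_card_quotient_mul_card_subgroup (Subgroup.center (Cfsg.SU 3 F 2))
  rw [Cfsg.Lib.Classical.card_center_SU hF2 (by norm_num : 2 ≤ 3)] at h2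
  rw [h2] at h1
  norm_num [Cfsg.Lib.Classical.cardGUFormula, Finset.prod_range_succ, -Nat.card_eq_fintype_card] at h1
  show Nat.card (Cfsg.SU 3 F 2 ⧸ Subgroup.center (Cfsg.SU 3 F 2)) = 72
  omega

theorem structure_thm [Fintype F] (hF : Fintype.card F = 4) :
    ∃ (N : Subgroup (Cfsg.PSU 3 F 2)) (_ : N.Normal), Nat.card N = 9 ∧ (∀ x ∈ N, x ^ 3 = 1) ∧
      (∀ x ∈ N, ∀ y ∈ N, x * y = y * x) ∧ Nonempty (Cfsg.PSU 3 F 2 ⧸ N ≃* QuaternionGroup 2) := by
  obtain ⟨_, ω, hω⟩ := exists_omega hF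
  have hcard := card_psu hF
  haveI : Finite (Cfsg.PSU 3 F 2) := Nat.finite_of_card_ne_zero (by omega)
  set N := (nHom hω).range with hN
  have h9 : Nat.card N = 9 := by
    rw [hN, ← Nat.card_congr (MonoidHom.ofInjective (nHom_injective hω)).toEquiv, Nat.card_eq_fintype_card]
    rfl
  have hle : N ≤ Subgroup.normalizer (N : Set (Cfsg.PSU 3 F 2)) := Subgroup.le_normalizer
  have hQ : (qHom hω).range ≤ Subgroup.normalizer (N : Set (Cfsg.PSU 3 F 2)) := by
    rintro _ ⟨g, rfl⟩
    rw [Subgroup.mem_normalizer_iff]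
    intro x
    constructor
    · rintro ⟨a, rfl⟩
      obtain ⟨b, hb⟩ := qHom_conj hω g a
      exact ⟨b, hb.symm⟩
    · rintro ⟨a, ha⟩
      obtain ⟨b, hb⟩ := qHom_conj hω g⁻¹ a
      refine ⟨b, ?_⟩
      rw [← hb, ha, map_inv]
      group
  have h8 : Nat.card (qHom hω).range = 8 := by
    rw [← Nat.card_congr (MonoidHom.ofInjective (qHom_injective hω)).toEquiv, Nat.card_eq_fintype_card,
      QuaternionGroup.card]
  have htop : Subgroup.normalizer (N : Set (Cfsg.PSU 3 F 2)) = ⊤ := by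
    refine Subgroup.eq_top_of_card_eq _ (le_antisymm (Subgroup.card_le_card_group _) ?_)
    have h72 : 72 ∣ Nat.card (Subgroup.normalizer (N : Set (Cfsg.PSU 3 F 2))) :=
      Nat.Coprime.mul_dvd_of_dvd_of_dvd (by norm_num : Nat.Coprime 9 8)
        (h9 ▸ Subgroup.card_dvd_of_le hle) (h8 ▸ Subgroup.card_dvd_of_le hQ)
    rw [hcard]
    exact Nat.le_of_dvd Nat.card_pos h72
  haveI hnor : N.Normal := Subgroup.normalizer_eq_top_iff.mp htop
  have hcube : ∀ x ∈ N, x ^ 3 = 1 := by
    rintro _ ⟨a, rfl⟩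
    rw [← map_pow, show a ^ 3 = 1 from (by decide : ∀ a : Multiplicative (ZMod 3 × ZMod 3), a ^ 3 = 1) a, map_one]
  refine ⟨N, hnor, h9, hcube, ?_, ?_⟩
  · rintro _ ⟨a, rfl⟩ _ ⟨b, rfl⟩
    rw [← map_mul, ← map_mul, mul_comm]
  let f : QuaternionGroup 2 →* Cfsg.PSU 3 F 2 ⧸ N := (QuotientGroup.mk' N).comp (qHom hω)
  have hf : Function.Injective f := by
    rw [injective_iff_map_eq_one]
    intro g hg
    have h3 := hcube _ ((QuotientGroup.eq_one_iff _).mp hg)
    rw [← map_pow] at h3
    exact (by decide +kernel : ∀ g : QuaternionGroup 2, g ^ 3 = 1 → g = 1) g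
      (qHom_injective hω (h3.trans (map_one _).symm))
  refine ⟨(MulEquiv.ofBijective f ((Nat.bijective_iff_injective_and_card f).mpr ⟨hf, ?_⟩)).symm⟩
  have h := Subgroup.card_eq_card_quotient_mul_card_subgroup N
  rw [hcard, h9] at h
  rw [Nat.card_eq_fintype_card (α := QuaternionGroup 2), QuaternionGroup.card]
  omega

theorem solvable [Fintype F] (hF : Fintype.card F = 4) : Group.IsSolvable (Cfsg.PSU 3 F 2) := by
  obtain ⟨N, hN, -, -, hcomm, ⟨e⟩⟩ := structure_thm hF
  haveI : Fact (Nat.Prime 2) := ⟨Nat.prime_two⟩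
  have hp : IsPGroup 2 (QuaternionGroup 2) := IsPGroup.of_card (n := 3) (by
    rw [Nat.card_eq_fintype_card, QuaternionGroup.card]; rfl)
  haveI : Group.IsNilpotent (QuaternionGroup 2) := hp.isNilpotent
  haveI : Group.IsSolvable N := Group.isSolvable_of_comm fun a b => Subtype.ext (hcomm _ a.2 _ b.2)
  haveI : Group.IsSolvable (Cfsg.PSU 3 F 2 ⧸ N) :=
    Group.isSolvable_of_isSolvable_injective (f := e.toMonoidHom) e.injective
  exact Group.isSolvable_of_ker_le_range N.subtype (QuotientGroup.mk' N)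
    (by rw [QuotientGroup.ker_mk', Subgroup.range_subtype])

theorem not_complemented [Fintype F] (hF : Fintype.card F = 4) :
    ¬ ComplementedLattice (Subgroup (Cfsg.PSU 3 F 2)) := by
  intro hc
  obtain ⟨N, hN, -, -, -, ⟨e⟩⟩ := structure_thm hF
  let π : Cfsg.PSU 3 F 2 →* QuaternionGroup 2 := e.toMonoidHom.comp (QuotientGroup.mk' N)
  have hπ : Function.Surjective π := e.surjective.comp (QuotientGroup.mk'_surjective N)
  set H := (Subgroup.zpowers (QuaternionGroup.a 2 : QuaternionGroup 2)).comap π with hH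
  obtain ⟨X, hX⟩ := hc.exists_isCompl H
  have hdis : ∀ x ∈ X, x ∈ H → x = 1 := fun x hx hx' => by
    have : x ∈ H ⊓ X := ⟨hx', hx⟩
    rwa [hX.inf_eq_bot, Subgroup.mem_bot] at this
  have hXbot : X = ⊥ := by
    rw [Subgroup.eq_bot_iff_forall]
    intro x hx
    rcases quat_cases (π x) with h | h | h
    · exact hdis x hx (show π x ∈ Subgroup.zpowers (QuaternionGroup.a 2 : QuaternionGroup 2) by rw [h]; exact one_mem _)
    · exact hdis x hx (show π x ∈ _ by rw [h]; exact Subgroup.mem_zpowers _)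
    · have hx2 : x ^ 2 = 1 := hdis _ (pow_mem hx 2) (show π (x ^ 2) ∈ _ by
        rw [map_pow, h]; exact Subgroup.mem_zpowers _)
      rw [← map_pow, hx2, map_one] at h
      exact absurd h (by decide)
  have htop : H = ⊤ := by
    have := hX.sup_eq_top
    rwa [hXbot, sup_bot_eq] at this
  obtain ⟨x, hx⟩ := hπ (QuaternionGroup.a 1)
  have hmem : π x ∈ Subgroup.zpowers (QuaternionGroup.a 2 : QuaternionGroup 2) :=
    show x ∈ H by rw [htop]; exact Subgroup.mem_top _
  rw [hx] at hmem
  have hcen : Subgroup.zpowers (QuaternionGroup.a 2 : QuaternionGroup 2) ≤ Subgroup.center _ :=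
    Subgroup.zpowers_le.mpr (Subgroup.mem_center_iff.mpr (by decide +kernel))
  exact absurd (Subgroup.mem_center_iff.mp (hcen hmem) (QuaternionGroup.xa 0)) (by decide +kernel)

end Cfsg.Lib.Classical.UThreeTwo
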