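import Mathlib
import Cfsg.Agent.Classical.Unitary.Matrix

set_option autoImplicit false
set_option linter.unusedVariables false
set_option linter.unusedSimpArgs false
set_option linter.style.haveILetI false

/-! Stabilisers of nondegenerate subspaces in unitary groups. -/

namespace Cfsg.Lib.Classical

universe u v w

variable {F : Type u} [Field F] {V : Type v} [AddCommGroup V] [Module F V]

namespace HermSpace

variable (H : HermSpace F V)

/-- Transport along an isometric equivalence. -/
def isomCongr {V' : Type w} [AddCommGroup V'] [Module F V'] (H' : HermSpace F V') (e : V ≃ₗ[F] V')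
    (he : ∀ x y, H'.h (e x) (e y) = H.h x y) : H.Isom ≃* H'.Isom where
  toFun g := ⟨(e.symm.trans g.1).trans e, fun x y => by
    change H'.h (e (g.1 (e.symm x))) (e (g.1 (e.symm y))) = H'.h x y
    rw [he, H.map_form, ← he, e.apply_symm_apply, e.apply_symm_apply]⟩
  invFun g := ⟨(e.trans g.1).trans e.symm, fun x y => by
    change H.h (e.symm (g.1 (e x))) (e.symm (g.1 (e y))) = H.h x y
    rw [← he, e.apply_symm_apply, e.apply_symm_apply, H'.map_form, he]⟩
  left_inv g := H.isom_ext fun x => by simp
  right_inv g := H'.isom_ext fun x => by simp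
  map_mul' a b := H'.isom_ext fun x => by simp [mul_apply']

/-- The stabiliser of a subspace. -/
def subStab (W : Submodule F V) : Subgroup H.Isom where
  carrier := {g | ∀ x, x ∈ W ↔ g.1 x ∈ W}
  mul_mem' {a b} ha hb := fun x => by rw [mul_apply']; exact (hb x).trans (ha _)
  one_mem' := fun x => Iff.rfl
  inv_mem' {a} ha := fun x => by
    conv_lhs => rw [← H.apply_inv_self a x]
    exact (ha _).symm

theorem subStab_orth {W : Submodule F V} (g : H.subStab W) {x : V} (hx : x ∈ H.orth W) :
    g.1.1 x ∈ H.orth W := by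
  intro p hp
  rw [← H.apply_inv_self g.1 p, H.map_form]
  exact hx _ (((g⁻¹).2 p).mp hp)

theorem mem_subStab_of_map_le [FiniteDimensional F V] {W : Submodule F V} {g : H.Isom}
    (h : ∀ x ∈ W, g.1 x ∈ W) : g ∈ H.subStab W := by
  intro x
  refine ⟨h x, fun hx => ?_⟩
  have hle : W.map g.1.toLinearMap ≤ W := by rintro _ ⟨y, hy, rfl⟩; exact h y hy
  have := Submodule.eq_of_le_of_finrank_le hle (by rw [LinearEquiv.finrank_map_eq])
  obtain ⟨y, hy, hye⟩ := (this.symm ▸ hx : g.1 x ∈ W.map g.1.toLinearMap)
  exact g.1.injective hye ▸ hy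

/-- The two restrictions. -/
noncomputable def subStabRestrict [Finite F] [FiniteDimensional F V] (W : Submodule F V) (hW : H.NondegOn W) :
    H.subStab W →* (H.restrict W hW).Isom × (H.restrict (H.orth W) (H.nondegOn_orth hW)).Isom where
  toFun g :=
    (⟨LinearEquiv.ofLinearMap
      (g.1.1.toLinearMap.restrict fun x hx => (g.2 x).mp hx)
      ((g⁻¹).1.1.toLinearMap.restrict fun x hx => ((g⁻¹).2 x).mp hx)
      (LinearMap.ext fun x => Subtype.ext (H.apply_inv_self g.1 x))
      (LinearMap.ext fun x => Subtype.ext (H.inv_apply_self g.1 x)),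
      fun x y => H.map_form g.1 _ _⟩,
    ⟨LinearEquiv.ofLinearMap
      (g.1.1.toLinearMap.restrict fun x hx => H.subStab_orth g hx)
      ((g⁻¹).1.1.toLinearMap.restrict fun x hx => H.subStab_orth g⁻¹ hx)
      (LinearMap.ext fun x => Subtype.ext (H.apply_inv_self g.1 x))
      (LinearMap.ext fun x => Subtype.ext (H.inv_apply_self g.1 x)),
      fun x y => H.map_form g.1 _ _⟩)
  map_one' := Prod.ext (Subtype.ext (LinearEquiv.ext fun x => Subtype.ext rfl))
    (Subtype.ext (LinearEquiv.ext fun x => Subtype.ext rfl))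
  map_mul' a b := Prod.ext (Subtype.ext (LinearEquiv.ext fun x => Subtype.ext rfl))
    (Subtype.ext (LinearEquiv.ext fun x => Subtype.ext rfl))

theorem subStabRestrict_bijective [Finite F] [FiniteDimensional F V] (W : Submodule F V)
    (hW : H.NondegOn W) : Function.Bijective (H.subStabRestrict W hW) := by
  have hc := H.isCompl_orth hW
  constructor
  · intro a b h
    apply Subtype.ext
    refine H.isom_ext fun x => ?_
    obtain ⟨p, hp, q, hq, rfl⟩ := Submodule.mem_sup.mp
      (hc.sup_eq_top ▸ Submodule.mem_top : x ∈ W ⊔ H.orth W)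
    have h1 := congrArg (fun t => ((t.1.1 : W ≃ₗ[F] W) ⟨p, hp⟩ : V)) h
    have h2 := congrArg (fun t => ((t.2.1 : H.orth W ≃ₗ[F] H.orth W) ⟨q, hq⟩ : V)) h
    rw [map_add, map_add]
    exact congrArg₂ (· + ·) h1 h2
  · rintro ⟨k, l⟩
    obtain ⟨g, hg1, hg2⟩ := H.exists_glue hW hW k.1.toLinearMap l.1.toLinearMap k.2 l.2
    refine ⟨⟨g, H.mem_subStab_of_map_le fun x hx => by rw [hg1 ⟨x, hx⟩]; exact (k.1 ⟨x, hx⟩).2⟩, ?_⟩
    exact Prod.ext (Subtype.ext (LinearEquiv.ext fun x => Subtype.ext (hg1 x)))
      (Subtype.ext (LinearEquiv.ext fun x => Subtype.ext (hg2 x)))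

/-- The stabiliser of a nondegenerate subspace is a direct product. -/
noncomputable def subStabEquiv [Finite F] [FiniteDimensional F V] (W : Submodule F V) (hW : H.NondegOn W) :
    H.subStab W ≃* (H.restrict W hW).Isom × (H.restrict (H.orth W) (H.nondegOn_orth hW)).Isom :=
  MulEquiv.ofBijective _ (H.subStabRestrict_bijective W hW)

end HermSpace

/-- A Hermitian space of dimension `k` has isometry group `GU_k(q)`. -/
noncomputable def isomStdEquiv {F : Type u} [Field F] [Fintype F] {V : Type v} [AddCommGroup V] [Module F V]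
    [FiniteDimensional F V] (H : HermSpace F V) {q : ℕ} (hF : Fintype.card F = q ^ 2)
    (hσ : H.σ = powConj hF) {k : ℕ} (hk : Module.finrank F V = k) : H.Isom ≃* Cfsg.GU k F q :=
  have hiso := H.exists_isometry (stdHerm k hF) hσ.symm (by rw [hk, Module.finrank_fin_fun])
  (H.isomCongr (stdHerm k hF) hiso.choose hiso.choose_spec).trans (guEquiv k hF)

end Cfsg.Lib.Classical
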