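import Mathlib
import Cfsg.Agent.Classical.Unitary.Simple
import Cfsg.Agent.Classical.Unitary.Decomp

set_option autoImplicit false
set_option linter.unusedVariables false
set_option linter.unusedSimpArgs false
set_option linter.style.haveILetI false

/-! Maximality of subspace stabilisers in special unitary groups, through transvection centres. -/

namespace Cfsg.Lib.Classical

universe u v

variable {F : Type u} [Field F] {V : Type v} [AddCommGroup V] [Module F V]

namespace HermSpace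

variable (H : HermSpace F V)

/-- Isotropic vectors whose root group lies in `K`. -/
def uCentres (K : Subgroup H.SIsom) : Set V :=
  {v | ∃ hv : H.h v v = 0, ∀ (c : F) (hc : c + H.σ c = 0), (⟨H.uT hv hc, H.uT_mem_SIsom hv hc⟩ : H.SIsom) ∈ K}

theorem uCentres_zero (K : Subgroup H.SIsom) : (0 : V) ∈ H.uCentres K :=
  ⟨H.zero_left 0, fun c hc => by
    rw [show (⟨H.uT (H.zero_left 0) hc, H.uT_mem_SIsom _ hc⟩ : H.SIsom) = 1 from Subtype.ext (H.uT_eq_one_of_zero hc)]
    exact K.one_mem⟩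

variable {H}

theorem uCentres_iso {K : Subgroup H.SIsom} {v : V} (hv : v ∈ H.uCentres K) : H.h v v = 0 := hv.1

theorem uCentres_smul {K : Subgroup H.SIsom} {v : V} (hv : v ∈ H.uCentres K) (a : F) :
    a • v ∈ H.uCentres K := by
  obtain ⟨hvv, hK⟩ := hv
  have hav : H.h (a • v) (a • v) = 0 := by rw [H.smul_left, H.smul_right, hvv, mul_zero, mul_zero]
  refine ⟨hav, fun c hc => ?_⟩
  have hc' : a * H.σ a * c + H.σ (a * H.σ a * c) = 0 := by
    rw [map_mul, H.conj.norm_mem, ← mul_add, hc, mul_zero]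
  rw [show (⟨H.uT hav hc, H.uT_mem_SIsom hav hc⟩ : H.SIsom) = ⟨H.uT hvv hc', H.uT_mem_SIsom hvv hc'⟩ from
    Subtype.ext (H.uT_smul hvv a hav hc hc')]
  exact hK _ hc'

theorem uCentres_map {K : Subgroup H.SIsom} {v : V} (hv : v ∈ H.uCentres K) {g : H.SIsom} (hg : g ∈ K) :
    g.1.1 v ∈ H.uCentres K := by
  obtain ⟨hvv, hK⟩ := hv
  refine ⟨by rw [H.map_form, hvv], fun c hc => ?_⟩
  have := K.mul_mem (K.mul_mem hg (hK c hc)) (K.inv_mem hg)
  convert this using 1
  exact Subtype.ext (H.uT_conj g.1 hvv hc).symm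

/-- Isotropic combinations of two non-orthogonal centres are centres. -/
theorem uCentres_span {K : Subgroup H.SIsom} {v w : V} (hv : v ∈ H.uCentres K) (hw : w ∈ H.uCentres K)
    (hne : H.h v w ≠ 0) {a b : F} (hiso : H.h (a • v + b • w) (a • v + b • w) = 0) :
    a • v + b • w ∈ H.uCentres K := by
  rcases eq_or_ne b 0 with rfl | hb
  · rw [zero_smul, add_zero]; exact uCentres_smul hv a
  have hwv : H.h w v ≠ 0 := fun h => hne (H.eq_zero_symm h)
  have hσb : H.σ b ≠ 0 := (map_ne_zero _).mpr hb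
  have hc : a / (b * H.h w v) + H.σ (a / (b * H.h w v)) = 0 := by
    rw [map_div₀, map_mul, ← H.symm v w]
    simp only [H.add_left, H.add_right, H.smul_left, H.smul_right, uCentres_iso hv, uCentres_iso hw] at hiso
    field_simp
    linear_combination hiso
  have := uCentres_smul (uCentres_map hw (hv.2 _ hc)) b
  change b • (H.uT hv.1 hc).1 w ∈ _ at this
  rw [uT_apply, smul_add, smul_smul] at this
  rw [add_comm (a • v)]
  convert this using 3
  field_simp

theorem eq_top_of_uCentres [Finite F] [FiniteDimensional F V]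
    (hd : 4 ≤ Module.finrank F V ∨ (Module.finrank F V = 3 ∧ 3 ≤ H.q)) {K : Subgroup H.SIsom}
    (h : ∀ v, H.h v v = 0 → v ∈ H.uCentres K) : K = ⊤ := by
  have hle : H.transvGroup ≤ K.map H.SIsom.subtype := by
    rw [transvGroup, Subgroup.closure_le]
    rintro _ ⟨v, hv, c, hc, rfl⟩
    exact ⟨_, (h v hv).2 c hc, rfl⟩
  rw [H.transvGroup_eq_SIsom hd] at hle
  rw [eq_top_iff]
  intro g _
  obtain ⟨y, hy, hyg⟩ := hle g.2
  obtain rfl : y = g := Subtype.ext hyg
  exact hy

variable (H)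

/-- The stabiliser of a subspace in `SU`. -/
noncomputable def sSubStab (W : Submodule F V) : Subgroup H.SIsom := (H.subStab W).comap H.SIsom.subtype

theorem mem_sSubStab {W : Submodule F V} {g : H.SIsom} : g ∈ H.sSubStab W ↔ g.1 ∈ H.subStab W := Iff.rfl

theorem uT_mem_subStab [FiniteDimensional F V] {W : Submodule F V} {v : V} (hv : H.h v v = 0)
    (h : v ∈ W ∨ v ∈ H.orth W) {c : F} (hc : c + H.σ c = 0) : H.uT hv hc ∈ H.subStab W := by
  refine H.mem_subStab_of_map_le fun x hx => ?_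
  rw [uT_apply]
  rcases h with h | h
  · exact W.add_mem hx (W.smul_mem _ h)
  · rw [H.eq_zero_symm (h x hx), mul_zero, zero_smul, add_zero]; exact hx

theorem iso_subset_uCentres [FiniteDimensional F V] {W : Submodule F V} {K : Subgroup H.SIsom}
    (hK : H.sSubStab W ≤ K) {v : V} (hv : H.h v v = 0) (h : v ∈ W ∨ v ∈ H.orth W) : v ∈ H.uCentres K :=
  ⟨hv, fun c hc => hK (H.mem_sSubStab.mpr (H.uT_mem_subStab hv h hc))⟩

theorem mem_subStab_of_orth [Finite F] [FiniteDimensional F V] {W : Submodule F V} {g : H.Isom}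
    (h : g ∈ H.subStab W) : g ∈ H.subStab (H.orth W) :=
  H.mem_subStab_of_map_le fun _ hx => H.subStab_orth ⟨g, h⟩ hx

theorem isCoatom_sSubStab_isotropic [Finite F] [FiniteDimensional F V]
    (hd : 4 ≤ Module.finrank F V ∨ (Module.finrank F V = 3 ∧ 3 ≤ H.q))
    {W : Submodule F V} (hW0 : W ≠ ⊥) (hW : W ≤ H.orth W) : IsCoatom (H.sSubStab W) := by
  set U := H.orth W with hU
  have hWW : H.orth U = W := H.orth_orth W
  have hiso : ∀ w ∈ W, H.h w w = 0 := fun w hw => hW hw w hw
  obtain ⟨w₀, hw₀, hw₀0⟩ := Submodule.exists_mem_ne_zero_of_ne_bot hW0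
  refine ⟨fun htop => ?_, fun K hlt => ?_⟩
  · obtain ⟨u, hu, huu⟩ := H.exists_hyperbolic hw₀0 (hiso _ hw₀)
    have hu0 : u ≠ 0 := fun h => by rw [h, H.zero_right] at hu; exact zero_ne_one hu
    haveI := H.isoPt_pretransitive
    obtain ⟨g, hg⟩ := MulAction.exists_smul_eq H.SIsom (H.isoMk w₀ hw₀0 (hiso _ hw₀)) (H.isoMk u hu0 huu)
    rw [smul_isoMk, isoMk_eq_iff] at hg
    obtain ⟨c, hc⟩ := hg
    have h := (H.mem_sSubStab.mp (htop ▸ Subgroup.mem_top g) w₀).mp hw₀
    have h1 := hW h w₀ hw₀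
    rw [← hc, H.smul_left, H.symm, hu, map_one, mul_one] at h1
    subst h1
    rw [zero_smul] at hc
    exact H.isom_ne_zero g.1 hw₀0 hc.symm
  obtain ⟨g, hgK, hgM⟩ := SetLike.exists_of_lt hlt
  -- a centre outside `U`
  obtain ⟨x, hxU, hxC⟩ : ∃ x, x ∉ U ∧ x ∈ H.uCentres K := by
    by_contra hc
    push Not at hc
    apply hgM
    set S := Submodule.span F {z : V | z ∈ U ∧ H.h z z = 0} with hS
    have hSU : S ≤ U := Submodule.span_le.mpr fun z hz => hz.1
    have hgS : g.1 ∈ H.subStab S := H.mem_subStab_of_map_le fun z hz => by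
      induction hz using Submodule.span_induction with
      | mem z hz =>
        have hzC := H.iso_subset_uCentres hlt.le hz.2 (Or.inr hz.1)
        exact Submodule.subset_span ⟨by_contra fun h => hc _ h (uCentres_map hzC hgK), by rw [H.map_form, hz.2]⟩
      | zero => rw [map_zero]; exact S.zero_mem
      | add a b _ _ ha hb => rw [map_add]; exact S.add_mem ha hb
      | smul r a _ ha => rw [map_smul]; exact S.smul_mem r ha
    have hWS : W = S ⊓ H.orth S := by
      apply le_antisymm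
      · refine le_inf (fun w hw => Submodule.subset_span ⟨hW hw, hiso w hw⟩) fun w hw s hs => ?_
        exact H.eq_zero_symm (hSU hs w hw)
      · rintro z ⟨hzS, hzo⟩
        by_contra hzW
        rw [← hWW] at hzW
        simp only [H.mem_orth, not_forall] at hzW
        obtain ⟨y, hyU, hzy⟩ := hzW
        have hzz : H.h z z = 0 := hzo z hzS
        have hyz : H.h y z ≠ 0 := fun h => hzy (H.eq_zero_symm h)
        obtain ⟨θ, hθ⟩ := H.conj.exists_trace_one
        set β := θ * H.h y y / H.h z y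
        have hiso' : H.h (y - β • z) (y - β • z) = 0 := by
          simp only [β, H.sub_left, H.sub_right, H.smul_left, H.smul_right, hzz, map_div₀, map_mul,
            H.self_fixed, ← H.symm y z]
          field_simp
          linear_combination (-(H.h y y * H.h y z * H.h z y)) * hθ
        have hmem : y - β • z ∈ S := Submodule.subset_span ⟨U.sub_mem hyU (U.smul_mem _ (hSU hzS)), hiso'⟩
        have := hzo _ hmem
        rw [H.sub_right, H.smul_right, hzz, mul_zero, sub_zero] at this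
        exact hzy this
    rw [H.mem_sSubStab]
    refine H.mem_subStab_of_map_le fun w hw => ?_
    rw [hWS] at hw ⊢
    exact ⟨(hgS w).mp hw.1, H.subStab_orth ⟨g.1, hgS⟩ hw.2⟩
  refine eq_top_of_uCentres hd fun y hyy => ?_
  by_cases hy : y ∈ U
  · exact H.iso_subset_uCentres hlt.le hyy (Or.inr hy)
  -- move `x` into the coset of `y` modulo `U`
  have hsieg : ∀ {v w : V} (hv : v ∈ W) (hwv : H.h w v = 0) {a : F} (ha : a + H.σ a = -H.h w w),
      (⟨H.siegel (hiso v hv) hwv ha, H.siegel_mem_SIsom _ _ _⟩ : H.SIsom) ∈ K := fun hv hwv a ha =>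
    hlt.le (H.mem_sSubStab.mpr (H.mem_subStab_of_map_le fun z hz => by
      rw [siegel_apply, hW hz _ hv, zero_smul, add_zero]
      exact W.add_mem hz (W.smul_mem _ hv)))
  obtain ⟨z, hzC, hzy⟩ : ∃ z, z ∈ H.uCentres K ∧ y - z ∈ U := by
    let φ : Module.Dual F W := (H.lin x).domRestrict W
    let ψ : Module.Dual F W := (H.lin y).domRestrict W
    have hφ0 : φ ≠ 0 := fun h => hxU fun w hw => H.eq_zero_symm (LinearMap.congr_fun h ⟨w, hw⟩)
    by_cases hdep : ∃ c : F, ψ = c • φ
    · obtain ⟨c, hc⟩ := hdep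
      refine ⟨H.σ c • x, uCentres_smul hxC _, fun w hw => ?_⟩
      have := LinearMap.congr_fun hc ⟨w, hw⟩
      change H.h w y = c * H.h w x at this
      apply H.eq_zero_symm
      rw [H.sub_right, H.smul_right, H.conj.invol, this, sub_self]
    · obtain ⟨v₁, hv₁⟩ : ∃ v : W, φ v = 1 := LinearMap.surjective_of_ne_zero hφ0 1
      obtain ⟨v, hv1, hv2⟩ : ∃ v : W, φ v = 1 ∧ ψ v = 1 := by
        obtain ⟨k, hk, hk'⟩ : ∃ k : W, φ k = 0 ∧ ψ k ≠ 0 := by
          by_contra hc
          push Not at hc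
          refine hdep ⟨ψ v₁, LinearMap.ext fun z => ?_⟩
          have := hc (z - φ z • v₁) (by simp [hv₁])
          rw [map_sub, map_smul, sub_eq_zero] at this
          rw [LinearMap.smul_apply, this, smul_eq_mul, smul_eq_mul, mul_comm]
        exact ⟨v₁ + ((1 - ψ v₁) / ψ k) • k, by simp [hv₁, hk], by simp [hk']⟩
      obtain ⟨w, hw⟩ := H.exists_extend_dual (ψ - φ)
      have hwv : H.h w (v : V) = 0 := H.eq_zero_symm (by rw [hw, LinearMap.sub_apply, hv1, hv2, sub_self])
      obtain ⟨θ, hθ⟩ := H.conj.exists_trace_one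
      have ha : -(θ * H.h w w) + H.σ (-(θ * H.h w w)) = -H.h w w := by
        rw [map_neg, map_mul, H.self_fixed]; linear_combination (-H.h w w) * hθ
      refine ⟨_, uCentres_map hxC (hsieg v.2 hwv ha), fun z hz => ?_⟩
      apply H.eq_zero_symm
      rw [H.sub_right, sub_eq_zero, siegel_apply, H.add_right, H.add_right, H.smul_right, H.smul_right,
        hW hz _ v.2, mul_zero, add_zero, ← H.symm (v : V) x]
      have e1 : H.h (v : V) x = 1 := hv1
      have e2 : H.h z w = H.h z y - H.h z x := hw ⟨z, hz⟩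
      rw [e1, e2]; ring
  set u := y - z with hu
  obtain ⟨v, hv, hzv⟩ : ∃ v ∈ W, H.h z v = 1 := by
    obtain ⟨v, hv, hne⟩ : ∃ v ∈ W, H.h z v ≠ 0 := by
      by_contra hc
      push Not at hc
      exact hy (by simpa [hu] using U.add_mem hzy (show z ∈ U from hc))
    refine ⟨(H.σ (H.h z v))⁻¹ • v, W.smul_mem _ hv, ?_⟩
    rw [H.smul_right, map_inv₀, H.conj.invol, inv_mul_cancel₀ hne]
  have huv : H.h u v = 0 := hzy v hv
  have ha : H.h z u + H.σ (H.h z u) = -H.h u u := by
    rw [← H.symm u z]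
    have e : z + u = y := by rw [hu]; abel
    rw [← e] at hyy
    simp only [H.add_left, H.add_right, uCentres_iso hzC] at hyy
    linear_combination hyy
  have := uCentres_map hzC (hsieg hv huv ha)
  change (H.siegel (hiso v hv) huv ha).1 z ∈ _ at this
  rw [siegel_apply, hzv, one_smul, mul_one, sub_self, zero_smul, add_zero] at this
  rwa [show z + u = y by rw [hu]; abel] at this

theorem exists_anisotropic_orth_singleton [Finite F] [FiniteDimensional F V] (hd : 3 ≤ Module.finrank F V)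
    (b : V) : ∃ w, H.h w w = 1 ∧ H.h w b = 0 := by
  by_contra hc
  push Not at hc
  set U := H.orth (Submodule.span F ({b} : Set V))
  have hdim : Module.finrank F V - 1 ≤ Module.finrank F U := by
    show _ ≤ Module.finrank F (H.orth (Submodule.span F ({b} : Set V)))
    rw [H.finrank_orth]
    have := finrank_span_le_card (R := F) ({b} : Set V)
    simp at this
    omega
  have hzero : ∀ x ∈ U, H.h x x = 0 := by
    intro x hx
    by_contra hne
    obtain ⟨s, hs⟩ := H.conj.norm_surjective (a := (H.h x x)⁻¹) (by rw [map_inv₀, H.self_fixed])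
    refine hc (s • x) (by rw [H.smul_left, H.smul_right, ← mul_assoc, hs, inv_mul_cancel₀ hne]) ?_
    rw [H.smul_left, hx b (Submodule.mem_span_singleton_self b), mul_zero]
  have htot : U ≤ H.orth U := by
    intro x hx y hy
    by_contra hne
    obtain ⟨θ, hθ⟩ := H.conj.exists_trace_one
    have hyx : H.h y x ≠ 0 := fun h => hne (H.eq_zero_symm h)
    have := hzero ((θ / H.h x y) • x + y) (U.add_mem (U.smul_mem _ hx) hy)
    simp only [H.add_left, H.add_right, H.smul_left, H.smul_right, hzero x hx, hzero y hy, map_div₀,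
      ← H.symm y x] at this
    field_simp at this
    have h2 : H.h x y * H.h y x * (θ + H.σ θ) = 0 := by linear_combination this
    rw [hθ, mul_one, mul_eq_zero] at h2
    exact h2.elim hne hyx
  have h1 := Submodule.finrank_mono htot
  rw [H.finrank_orth U] at h1
  omega

theorem exists_isotropic_nonorth_to [Finite F] [FiniteDimensional F V] (hd : 2 ≤ Module.finrank F V)
    {a : V} (ha : a ≠ 0) : ∃ r, H.h r r = 0 ∧ H.h a r ≠ 0 := by
  by_contra hc
  push Not at hc
  refine ha (H.nondeg a fun x => ?_)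
  have hx : x ∈ Submodule.span F {x : V | H.h x x = 0} := by rw [H.span_isotropic hd]; trivial
  induction hx using Submodule.span_induction with
  | mem z hz => exact H.eq_zero_symm (hc z hz)
  | zero => exact H.zero_left a
  | add y z _ _ hy hz => rw [H.add_left, hy, hz, add_zero]
  | smul r y _ hy => rw [H.smul_left, hy, mul_zero]

theorem exists_isom_same_norm [Finite F] [FiniteDimensional F V] {a a' : V} (ha : a ≠ 0) (ha' : a' ≠ 0)
    (h : H.h a' a' = H.h a a) : ∃ g : H.Isom, g.1 a = a' := by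
  by_cases h0 : H.h a a = 0
  · exact H.transitive_isotropic ha ha' h0 (h.trans h0)
  · exact H.transitive_anisotropic h0 h

/-- A vector of given norm with given product with a given nonzero vector. -/
theorem exists_norm_and_product [Finite F] [FiniteDimensional F V] (hd : 3 ≤ Module.finrank F V)
    {b : V} (hb : b ≠ 0) (η : F) {μ : F} (hμ : H.σ μ = μ) :
    ∃ y, y ≠ 0 ∧ H.h y y = μ ∧ H.h y b = η := by
  obtain ⟨p, hp⟩ := H.exists_partner hb
  obtain ⟨w, hw1, hwb⟩ := H.exists_anisotropic_orth_singleton hd b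
  have hpb : H.h p b = 1 := by rw [H.symm, hp, map_one]
  have hnorm : ∀ y, H.h y b = η → ∃ y', H.h y' y' = μ ∧ H.h y' b = η := by
    intro y hy
    set y' := y - H.h y w • w
    have h1 : H.h y' w = 0 := by simp [y', H.sub_left, H.smul_left, hw1]
    have h2 : H.h y' b = η := by simp [y', H.sub_left, H.smul_left, hwb, hy]
    obtain ⟨s, hs⟩ := H.conj.norm_surjective (a := μ - H.h y' y') (by rw [map_sub, hμ, H.self_fixed])
    refine ⟨y' + s • w, ?_, ?_⟩
    · simp only [H.add_left, H.add_right, H.smul_left, H.smul_right, hw1, h1, H.eq_zero_symm h1]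
      linear_combination hs
    · rw [H.add_left, H.smul_left, hwb, mul_zero, add_zero, h2]
  obtain ⟨y, hy1, hy2⟩ := hnorm (η • p) (by rw [H.smul_left, hpb, mul_one])
  rcases eq_or_ne y 0 with rfl | hy
  · rw [H.zero_left] at hy1 hy2
    subst hy1 hy2
    -- need a nonzero isotropic vector orthogonal to `b`
    by_cases hbb : H.h b b = 0
    · exact ⟨b, hb, hbb, hbb⟩
    have hW := H.nondegOn_span_singleton hbb
    obtain ⟨r, hr, hrr⟩ := (H.restrict _ (H.nondegOn_orth hW)).exists_isotropic_of_two_le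
      (by rw [H.finrank_orth, finrank_span_singleton hb]; omega)
    exact ⟨r, fun e => hr (Subtype.ext e), hrr, r.2 b (Submodule.mem_span_singleton_self b)⟩
  · exact ⟨y, hy, hy1, hy2⟩

theorem isCoatom_sSubStab_nondegenerate [Finite F] [FiniteDimensional F V]
    {W : Submodule F V} (hW0 : W ≠ ⊥) (hW : H.NondegOn W)
    (hdim : 2 * Module.finrank F W < Module.finrank F V) (h4 : 4 ≤ Module.finrank F V) (h3 : Module.finrank F W + 3 ≤ Module.finrank F V) :
    IsCoatom (H.sSubStab W) := by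
  set U := H.orth W with hU
  have hUn : H.NondegOn U := H.nondegOn_orth hW
  have hc := H.isCompl_orth hW
  have hdimU : Module.finrank F U = Module.finrank F V - Module.finrank F W := H.finrank_orth W
  have hU3 : 3 ≤ Module.finrank F U := by omega
  let HU := H.restrict U hUn
  let HW := H.restrict W hW
  have hperp : ∀ {a b : V}, a ∈ W → b ∈ U → H.h b a = 0 ∧ H.h a b = 0 := fun ha hb =>
    ⟨hb _ ha, H.eq_zero_symm (hb _ ha)⟩
  refine ⟨fun htop => ?_, fun K hlt => ?_⟩
  · haveI : Nontrivial W := Module.nontrivial_of_finrank_pos (R := F) (Submodule.one_le_finrank_iff.mpr hW0)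
    obtain ⟨a, ha⟩ := HW.exists_norm_one
    replace ha : H.h (a : V) a = 1 := ha
    haveI : Nontrivial U := Module.nontrivial_of_finrank_pos (R := F) (by omega)
    obtain ⟨b, hb⟩ := HU.exists_norm_one
    replace hb : H.h (b : V) b = 1 := hb
    obtain ⟨s, hs⟩ := H.conj.norm_surjective (a := (-1 : F)) (by rw [map_neg, map_one])
    obtain ⟨δ, hδ0, hδ⟩ := H.conj.exists_skew
    have hz : H.h ((a : V) + s • b) (a + s • b) = 0 := by
      simp only [H.add_left, H.add_right, H.smul_left, H.smul_right, ha, hb, (hperp a.2 b.2).1, (hperp a.2 b.2).2]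
      linear_combination hs
    have h := (H.mem_sSubStab.mp (htop ▸ Subgroup.mem_top (⟨H.uT hz hδ, H.uT_mem_SIsom hz hδ⟩ : H.SIsom)) a).mp a.2
    change (H.uT hz hδ).1 (a : V) ∈ W at h
    rw [uT_apply, H.add_right, H.smul_right, ha, (hperp a.2 b.2).2, mul_zero, add_zero, mul_one, smul_add,
      ← add_assoc, Submodule.add_mem_iff_right _ (W.add_mem a.2 (W.smul_mem _ a.2))] at h
    have := Submodule.disjoint_def.mp hc.disjoint _ h (U.smul_mem _ (U.smul_mem _ b.2))
    rw [smul_eq_zero, smul_eq_zero] at this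
    rcases this with h' | h' | h'
    · exact hδ0 h'
    · rw [h', zero_mul] at hs; exact one_ne_zero (neg_eq_zero.mp hs.symm)
    · rw [h', H.zero_left] at hb; exact zero_ne_one hb
  obtain ⟨g, hgK, hgM⟩ := SetLike.exists_of_lt hlt
  -- a centre with both components nonzero
  obtain ⟨a₀, ha₀, b₀, hb₀, ha₀0, hb₀0, hx₀⟩ : ∃ a ∈ W, ∃ b ∈ U, a ≠ 0 ∧ b ≠ 0 ∧ a + b ∈ H.uCentres K := by
    by_contra hcon
    push Not at hcon
    have himg : ∀ u : U, H.h (u : V) u = 0 → g.1.1 u ∈ W ∨ g.1.1 u ∈ U := by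
      intro u hu
      have hC := uCentres_map (H.iso_subset_uCentres hlt.le hu (Or.inr u.2)) hgK
      obtain ⟨a, ha, b, hb, e⟩ := Submodule.mem_sup.mp
        (hc.sup_eq_top ▸ Submodule.mem_top : g.1.1 u ∈ W ⊔ U)
      rcases eq_or_ne a 0 with rfl | ha0
      · right; rw [← e, zero_add]; exact hb
      rcases eq_or_ne b 0 with rfl | hb0
      · left; rw [← e, add_zero]; exact ha
      exact absurd (e ▸ hC) (hcon a ha b hb ha0 hb0)
    have hWU : ∀ P : Submodule F V, (∀ u : U, H.h (u : V) u = 0 → g.1.1 u ∈ P) →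
        U.map g.1.1.toLinearMap ≤ P := by
      rintro P hP _ ⟨u, hu, rfl⟩
      have hu' : (⟨u, hu⟩ : U) ∈ Submodule.span F {x : U | HU.h x x = 0} := by
        rw [HU.span_isotropic (by omega)]; trivial
      have hle : Submodule.span F {x : U | HU.h x x = 0} ≤ P.comap (g.1.1.toLinearMap ∘ₗ U.subtype) :=
        Submodule.span_le.mpr fun x hx => hP x hx
      exact hle hu'
    by_cases hboth : (∃ u : U, H.h (u : V) u = 0 ∧ g.1.1 u ∉ W) ∧ (∃ u : U, H.h (u : V) u = 0 ∧ g.1.1 u ∉ U)
    · obtain ⟨⟨p, hp, hpW⟩, ⟨s, hs, hsU⟩⟩ := hboth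
      have hp0 : p ≠ 0 := fun h => hpW (by rw [h, Submodule.coe_zero, map_zero]; exact W.zero_mem)
      have hs0 : s ≠ 0 := fun h => hsU (by rw [h, Submodule.coe_zero, map_zero]; exact U.zero_mem)
      obtain ⟨r, hrr, hpr, hsr⟩ := HU.exists_isotropic_nonorth hp0 hs0 hp hs
      have hp' : g.1.1 p ∈ U := (himg p hp).resolve_left hpW
      have hs' : g.1.1 s ∈ W := (himg s hs).resolve_right hsU
      rcases himg r hrr with h | h
      · refine hpr ?_
        change H.h (p : V) r = 0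
        rw [← H.map_form g.1]; exact (hperp h hp').1
      · refine hsr ?_
        change H.h (s : V) r = 0
        rw [← H.map_form g.1]; exact (hperp hs' h).2
    · rw [not_and_or] at hboth
      push Not at hboth
      rcases hboth with h | h
      · have := Submodule.finrank_mono (hWU W h)
        rw [LinearEquiv.finrank_map_eq] at this
        omega
      · apply hgM
        rw [H.mem_sSubStab]
        have hgU : g.1 ∈ H.subStab U :=
          H.mem_subStab_of_map_le fun u hu => hWU U h (Submodule.mem_map_of_mem hu)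
        refine H.mem_subStab_of_map_le fun w hw => ?_
        rw [← H.orth_orth W] at hw ⊢
        exact H.subStab_orth ⟨g.1, hgU⟩ hw
  -- components can be moved within their norm classes
  have hclass : ∀ {a b a' b' : V}, a ∈ W → b ∈ U → a' ∈ W → b' ∈ U → a ≠ 0 → b ≠ 0 → a' ≠ 0 → b' ≠ 0 →
      H.h a' a' = H.h a a → H.h b' b' = H.h b b → a + b ∈ H.uCentres K → a' + b' ∈ H.uCentres K := by
    intro a b a' b' ha hb ha' hb' ha0 hb0 ha0' hb0' hna hnb hC
    obtain ⟨k, hk⟩ := HW.exists_isom_same_norm (a := ⟨a, ha⟩) (a' := ⟨a', ha'⟩)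
      (fun e => ha0 (congrArg Subtype.val e)) (fun e => ha0' (congrArg Subtype.val e)) hna
    obtain ⟨l, hl⟩ := HU.exists_isom_same_norm (a := ⟨b, hb⟩) (a' := ⟨b', hb'⟩)
      (fun e => hb0 (congrArg Subtype.val e)) (fun e => hb0' (congrArg Subtype.val e)) hnb
    obtain ⟨m, hm1, hm2⟩ := H.exists_glue hW hW k.1.toLinearMap l.1.toLinearMap k.2 l.2
    obtain ⟨w, hw1, hw2⟩ := HU.exists_anisotropic_orth_singleton hU3 ⟨b', hb'⟩
    replace hw1 : H.h (w : V) w = 1 := hw1
    obtain ⟨z, hz⟩ := H.exists_SIsom_correct m hw1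
    have hmem : (⟨H.qrefl hw1 z * m, hz⟩ : H.SIsom) ∈ K := hlt.le (H.mem_sSubStab.mpr
      (H.mem_subStab_of_map_le fun x hx => by
        change (H.qrefl hw1 z * m).1 x ∈ W
        rw [mul_apply', hm1 ⟨x, hx⟩]
        change (H.qrefl hw1 z).1 ((k.1 ⟨x, hx⟩ : W) : V) ∈ W
        rw [H.qrefl_orth hw1 z (hperp (k.1 ⟨x, hx⟩).2 w.2).2]
        exact (k.1 ⟨x, hx⟩).2))
    have h := uCentres_map hC hmem
    change (H.qrefl hw1 z * m).1 (a + b) ∈ _ at h
    rw [mul_apply', map_add, hm1 ⟨a, ha⟩, hm2 ⟨b, hb⟩] at h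
    change (H.qrefl hw1 z).1 ((k.1 ⟨a, ha⟩ : V) + (l.1 ⟨b, hb⟩ : V)) ∈ _ at h
    rw [hk, hl, map_add, H.qrefl_orth hw1 z (x := a') (hperp ha' w.2).2,
      H.qrefl_orth hw1 z (x := b') (H.eq_zero_symm hw2)] at h
    exact h
  have hxx : ∀ {a b : V}, a ∈ W → b ∈ U → H.h (a + b) (a + b) = H.h a a + H.h b b := fun ha hb => by
    simp only [H.add_left, H.add_right, (hperp ha hb).1, (hperp ha hb).2]; ring
  -- combine two centres
  have combine : ∀ {a₁ b₁ a₂ : V}, a₁ ∈ W → b₁ ∈ U → a₂ ∈ W → a₁ ≠ 0 → b₁ ≠ 0 → a₂ ≠ 0 →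
      H.h a₂ a₂ = H.h a₁ a₁ → a₁ + b₁ ∈ H.uCentres K → ∀ t : F, t ≠ 0 →
      H.h (a₁ + t • a₂) (a₁ + t • a₂) ≠ H.h a₁ a₁ →
      ∃ b ∈ U, b ≠ 0 ∧ (a₁ + t • a₂) + b ∈ H.uCentres K := by
    intro a₁ b₁ a₂ ha₁ hb₁ ha₂ ha₁0 hb₁0 ha₂0 hn hC t ht hmove
    obtain ⟨δ, hδ0, hδ⟩ := H.conj.exists_skew
    obtain ⟨y, hy0', hyy, hyb, hbad⟩ : ∃ y : U, (y : V) ≠ 0 ∧ H.h (y : V) y = H.h b₁ b₁ ∧
        H.h (y : V) b₁ = δ / t - H.h a₂ a₁ ∧ (b₁ + t • (y : V) = 0 → H.h b₁ b₁ = 0) := by
      obtain ⟨y, hy0, hyy, hyb⟩ := HU.exists_norm_and_product hU3 (b := ⟨b₁, hb₁⟩)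
        (fun e => hb₁0 (congrArg Subtype.val e)) (δ / t - H.h a₂ a₁) (μ := H.h b₁ b₁) (H.self_fixed b₁)
      replace hyy : H.h (y : V) y = H.h b₁ b₁ := hyy
      replace hyb : H.h (y : V) b₁ = δ / t - H.h a₂ a₁ := hyb
      have hy0' : (y : V) ≠ 0 := fun e => hy0 (Subtype.ext e)
      by_cases hb : b₁ + t • (y : V) = 0 ∧ H.h b₁ b₁ ≠ 0
      · obtain ⟨hb, hμ⟩ := hb
        have hn' := HU.nondegOn_orth (HU.nondegOn_span_singleton (v := (⟨b₁, hb₁⟩ : U)) hμ)
        obtain ⟨r, hr, hrr⟩ := (HU.restrict _ hn').exists_isotropic_of_two_le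
          (by rw [HU.finrank_orth, finrank_span_singleton (show (⟨b₁, hb₁⟩ : U) ≠ 0 from
            fun e => hb₁0 (congrArg Subtype.val e))]; omega)
        replace hrr : H.h ((r.1 : U) : V) (r.1 : U) = 0 := hrr
        have hrb : H.h ((r.1 : U) : V) b₁ = 0 := r.2 _ (Submodule.mem_span_singleton_self _)
        have hy' : (y : V) = (-t⁻¹) • b₁ := by
          rw [eq_neg_of_add_eq_zero_left hb, neg_smul, smul_neg, neg_neg, smul_smul, inv_mul_cancel₀ ht, one_smul]
        have hry : H.h ((r.1 : U) : V) y = 0 := by rw [hy', H.smul_right, hrb, mul_zero]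
        refine ⟨y + r.1, fun e => hμ ?_, ?_, ?_, fun e => absurd ?_ hr⟩
        · rw [Submodule.coe_add] at e
          rw [← hyy, eq_neg_of_add_eq_zero_left e]
          simp only [H.neg_left, H.neg_right, hrr, neg_zero, neg_neg]
        · rw [Submodule.coe_add]
          simp only [H.add_left, H.add_right, hrr, hry, H.eq_zero_symm hry, hyy]; ring
        · rw [Submodule.coe_add, H.add_left, hrb, add_zero, hyb]
        · rw [Submodule.coe_add, smul_add, ← add_assoc, hb, zero_add, smul_eq_zero] at e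
          exact Subtype.ext (Subtype.ext (e.resolve_left ht))
      · exact ⟨y, hy0', hyy, hyb, fun e => by_contra fun h => hb ⟨e, h⟩⟩
    have hC₂ := hclass ha₁ hb₁ ha₂ y.2 ha₁0 hb₁0 ha₂0 hy0' hn hyy hC
    have hne : H.h (a₁ + b₁) (a₂ + y) ≠ 0 := by
      intro e
      have := H.eq_zero_symm e
      simp only [H.add_left, H.add_right, (hperp ha₂ hb₁).2, (hperp ha₁ y.2).1, hyb] at this
      exact div_ne_zero hδ0 ht (by linear_combination this)
    have hiso : H.h ((1 : F) • (a₁ + b₁) + t • (a₂ + y)) ((1 : F) • (a₁ + b₁) + t • (a₂ + y)) = 0 := by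
      have e12 : H.h (a₂ + y) (a₁ + b₁) = δ / t := by
        simp only [H.add_left, H.add_right, (hperp ha₂ hb₁).2, (hperp ha₁ y.2).1, hyb]; ring
      have e11 := uCentres_iso hC
      have e22 := uCentres_iso hC₂
      generalize a₁ + b₁ = X at e12 e11 ⊢
      generalize a₂ + (y : V) = Y at e12 e22 ⊢
      simp only [one_smul]
      rw [H.add_left, H.add_right, H.add_right, H.smul_left, H.smul_left, H.smul_right, H.smul_right,
        H.symm X Y, e12, e11, e22, map_div₀]
      have hσt : H.σ t ≠ 0 := (map_ne_zero _).mpr ht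
      field_simp
      linear_combination hδ
    have hres := uCentres_span hC hC₂ hne hiso
    rw [one_smul, show a₁ + b₁ + t • (a₂ + (y : V)) = (a₁ + t • a₂) + (b₁ + t • (y : V)) by module] at hres
    refine ⟨_, U.add_mem hb₁ (U.smul_mem t y.2), fun e => hmove ?_, hres⟩
    rw [e, add_zero] at hres
    have h0 := uCentres_iso hC
    rw [hxx ha₁ hb₁] at h0
    rw [uCentres_iso hres]
    linear_combination -h0 + hbad e
  -- every isotropic vector
  refine eq_top_of_uCentres (Or.inl h4) fun y hyy => ?_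
  obtain ⟨a', ha', b', hb', rfl⟩ := Submodule.mem_sup.mp (hc.sup_eq_top ▸ Submodule.mem_top : y ∈ W ⊔ U)
  rcases eq_or_ne a' 0 with rfl | ha'0
  · rw [zero_add] at hyy ⊢; exact H.iso_subset_uCentres hlt.le hyy (Or.inr hb')
  rcases eq_or_ne b' 0 with rfl | hb'0
  · rw [add_zero] at hyy ⊢; exact H.iso_subset_uCentres hlt.le hyy (Or.inl ha')
  have h0' : H.h a' a' + H.h b' b' = 0 := by rw [← hxx ha' hb']; exact hyy
  have hx0 := uCentres_iso hx₀
  rw [hxx ha₀ hb₀] at hx0
  obtain ⟨a₂, ha₂, b₂, hb₂, ha₂0, hb₂0, hn, hC₂⟩ : ∃ a ∈ W, ∃ b ∈ U, a ≠ 0 ∧ b ≠ 0 ∧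
      H.h a a = H.h a' a' ∧ a + b ∈ H.uCentres K := by
    by_cases hsame : H.h a' a' = H.h a₀ a₀
    · exact ⟨a₀, ha₀, b₀, hb₀, ha₀0, hb₀0, hsame.symm, hx₀⟩
    by_cases hl : H.h a₀ a₀ = 0
    · -- from norm zero
      have hl' : H.h a' a' ≠ 0 := fun e => hsame (e.trans hl.symm)
      have hW2 : 2 ≤ Module.finrank F W := by
        by_contra hlt
        have h1 := Submodule.one_le_finrank_iff.mpr hW0
        have hsp : W = Submodule.span F {a'} := (Submodule.eq_of_le_of_finrank_le
          ((Submodule.span_singleton_le_iff_mem _ _).mpr ha') (by rw [finrank_span_singleton ha'0]; omega)).symm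
        obtain ⟨c, hc'⟩ := Submodule.mem_span_singleton.mp (hsp ▸ ha₀)
        rw [← hc', H.smul_left, H.smul_right] at hl
        have hc0 : c ≠ 0 := fun e => ha₀0 (by rw [← hc', e, zero_smul])
        exact hl' ((mul_eq_zero.mp ((mul_eq_zero.mp hl).resolve_left hc0)).resolve_left ((map_ne_zero _).mpr hc0))
      obtain ⟨r, hrr, har⟩ := HW.exists_isotropic_nonorth_to hW2 (a := ⟨a', ha'⟩) (fun e => ha'0 (congrArg Subtype.val e))
      replace hrr : H.h (r : V) r = 0 := hrr
      replace har : H.h a' (r : V) ≠ 0 := har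
      obtain ⟨θ, hθ⟩ := H.conj.exists_trace_one
      set c := H.σ (θ * H.h a' a' / H.h a' r) with hcdef
      have har' : H.h a' (c • (r : V)) = θ * H.h a' a' := by
        rw [H.smul_right, hcdef, H.conj.invol, div_mul_cancel₀ _ har]
      set a₁ := c • (r : V)
      have hθ0 : θ * H.h a' a' ≠ 0 := by
        refine mul_ne_zero (fun e => ?_) hl'
        rw [e, map_zero, add_zero] at hθ; exact zero_ne_one hθ
      have ha₁0 : a₁ ≠ 0 := fun e => hθ0 (by rw [← har', e, H.zero_right])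
      have ha₁1 : H.h a₁ a₁ = 0 := by rw [H.smul_left, H.smul_right, hrr, mul_zero, mul_zero]
      have hdiff : H.h (a' - a₁) (a' - a₁) = 0 := by
        simp only [H.sub_left, H.sub_right, ha₁1, har', H.symm a₁ a', map_mul, H.self_fixed]
        linear_combination (-H.h a' a') * hθ
      have hC₁ := hclass ha₀ hb₀ (W.smul_mem c r.2) hb₀ ha₀0 hb₀0 ha₁0 hb₀0 (ha₁1.trans hl.symm) rfl hx₀
      obtain ⟨b, hb, hb0, hC⟩ := combine (W.smul_mem c r.2) hb₀ (W.sub_mem ha' (W.smul_mem c r.2)) ha₁0 hb₀0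
        (fun e => hsame (by rw [sub_eq_zero.mp e, ha₁1, hl])) (hdiff.trans ha₁1.symm) hC₁ 1 one_ne_zero
        (by rw [one_smul, add_sub_cancel, ha₁1]; exact hl')
      rw [one_smul, add_sub_cancel] at hC
      exact ⟨a', ha', b, hb, ha'0, hb0, rfl, hC⟩
    · by_cases hl' : H.h a' a' = 0
      · -- to norm zero: first scale `a'`
        obtain ⟨δ, hδ0, hδ⟩ := H.conj.exists_skew
        obtain ⟨e, he, he0, hea⟩ : ∃ e ∈ W, H.h e e = 0 ∧ e ≠ 0 ∧ H.h e a₀ + H.σ (H.h e a₀) = 0 := by
          by_cases hz : H.h a' a₀ = 0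
          · exact ⟨a', ha', hl', ha'0, by rw [hz, map_zero, add_zero]⟩
          · refine ⟨(δ / H.h a' a₀) • a', W.smul_mem _ ha', ?_, smul_ne_zero (div_ne_zero hδ0 hz) ha'0, ?_⟩
            · rw [H.smul_left, H.smul_right, hl', mul_zero, mul_zero]
            · rw [H.smul_left, div_mul_cancel₀ _ hz]; exact hδ
        have hd1 : H.h (e - a₀) (e - a₀) = H.h a₀ a₀ := by
          simp only [H.sub_left, H.sub_right, he0, H.symm a₀ e]
          linear_combination -hea.2
        obtain ⟨b, hb, hb0, hC⟩ := combine ha₀ hb₀ (W.sub_mem he ha₀) ha₀0 hb₀0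
          (fun e' => hl (by rw [← hd1, e', H.zero_left])) hd1 hx₀ 1 one_ne_zero
          (by rw [one_smul, add_sub_cancel, he0]; exact Ne.symm hl)
        rw [one_smul, add_sub_cancel] at hC
        exact ⟨e, he, b, hb, hea.1, hb0, he0.trans hl'.symm, hC⟩
      · obtain ⟨s, hs⟩ := H.conj.norm_surjective (a := H.h a' a' / H.h a₀ a₀)
          (by rw [map_div₀, H.self_fixed, H.self_fixed])
        have hval : H.h (a₀ + (s - 1) • a₀) (a₀ + (s - 1) • a₀) = H.h a' a' := by
          rw [show a₀ + (s - 1) • a₀ = s • a₀ by module, H.smul_left, H.smul_right, ← mul_assoc, hs,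
            div_mul_cancel₀ _ hl]
        have hs1 : s - 1 ≠ 0 := fun e => hsame (by rw [← hval, e, zero_smul, add_zero])
        obtain ⟨b, hb, hb0, hC⟩ := combine ha₀ hb₀ ha₀ ha₀0 hb₀0 ha₀0 rfl hx₀ (s - 1) hs1
          (by rw [hval]; exact hsame)
        exact ⟨_, W.add_mem ha₀ (W.smul_mem _ ha₀), b, hb,
          fun e => hl' (by rw [← hval, e, H.zero_left]), hb0, hval, hC⟩
  refine hclass ha₂ hb₂ ha' hb' ha₂0 hb₂0 ha'0 hb'0 hn.symm ?_ hC₂
  have h2 := uCentres_iso hC₂
  rw [hxx ha₂ hb₂] at h2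
  linear_combination h0' - h2 + hn

end HermSpace

end Cfsg.Lib.Classical
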