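import Mathlib
import Cfsg.Agent.Classical.Unitary.Maximal

set_option autoImplicit false
set_option linter.unusedVariables false
set_option linter.unusedSimpArgs false
set_option linter.style.haveILetI false

/-! Root elements of special unitary groups, long and short, and their relations. -/

namespace Cfsg.Lib.Classical

universe u v

variable {F : Type u} [Field F] {V : Type v} [AddCommGroup V] [Module F V]

namespace HermSpace

variable (H : HermSpace F V)

theorem sisom_ext {g h : H.SIsom} (e : ∀ x, g.1.1 x = h.1.1 x) : g = h := Subtype.ext (H.isom_ext e)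

theorem smul_mul_apply (g h : H.SIsom) (x : V) : (g * h).1.1 x = g.1.1 (h.1.1 x) := rfl

/-- A unitary transvection in `SU`. -/
noncomputable def sT {v : V} (hv : H.h v v = 0) {c : F} (hc : c + H.σ c = 0) : H.SIsom :=
  ⟨H.uT hv hc, H.uT_mem_SIsom hv hc⟩

theorem sT_apply {v : V} (hv : H.h v v = 0) {c : F} (hc : c + H.σ c = 0) (x : V) :
    (H.sT hv hc).1.1 x = x + (c * H.h x v) • v := H.uT_apply hv hc x

theorem sT_congr {v v' : V} (hv : H.h v v = 0) (hv' : H.h v' v' = 0) {c c' : F} (hc : c + H.σ c = 0)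
    (hc' : c' + H.σ c' = 0) (e : v = v') (e' : c = c') : H.sT hv hc = H.sT hv' hc' := by
  subst e e'; rfl

theorem sT_conj (g : H.SIsom) {v : V} (hv : H.h v v = 0) {c : F} (hc : c + H.σ c = 0) :
    g * H.sT hv hc * g⁻¹ = H.sT (v := g.1.1 v) (by rw [H.map_form, hv]) hc :=
  Subtype.ext (H.uT_conj g.1 hv hc)

theorem sT_smul {v : V} (hv : H.h v v = 0) (a : F) (hav : H.h (a • v) (a • v) = 0) {c : F}
    (hc : c + H.σ c = 0) (hc' : a * H.σ a * c + H.σ (a * H.σ a * c) = 0) : H.sT hav hc = H.sT hv hc' :=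
  Subtype.ext (H.uT_smul hv a hav hc hc')

theorem skew_norm_mul (a : F) {c : F} (hc : c + H.σ c = 0) : a * H.σ a * c + H.σ (a * H.σ a * c) = 0 := by
  rw [map_mul, H.conj.norm_mem, ← mul_add, hc, mul_zero]

/-- The short root element `x ↦ x + l h(x,w) u - σ l h(x,u) w`. -/
noncomputable def sR {u w : V} (hu : H.h u u = 0) (hw : H.h w w = 0) (hwu : H.h w u = 0) (l : F) : H.SIsom :=
  ⟨H.siegel hu (w := (-H.σ l) • w) (by rw [H.smul_left, hwu, mul_zero]) (a := 0)
    (by rw [map_zero, add_zero, H.smul_left, H.smul_right, hw, mul_zero, mul_zero, neg_zero]),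
    H.siegel_mem_SIsom _ _ _⟩

theorem sR_apply {u w : V} (hu : H.h u u = 0) (hw : H.h w w = 0) (hwu : H.h w u = 0) (l : F) (x : V) :
    (H.sR hu hw hwu l).1.1 x = x + (l * H.h x w) • u - (H.σ l * H.h x u) • w := by
  rw [sR, siegel_apply, H.smul_right, map_neg, H.conj.invol]
  module

theorem sR_congr {u w u' w' : V} (hu : H.h u u = 0) (hw : H.h w w = 0) (hwu : H.h w u = 0) (hu' : H.h u' u' = 0)
    (hw' : H.h w' w' = 0) (hwu' : H.h w' u' = 0) (e : u = u') (e' : w = w') {l l' : F} (el : l = l') :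
    H.sR hu hw hwu l = H.sR hu' hw' hwu' l' := by
  subst e e' el; rfl

theorem sR_conj (g : H.SIsom) {u w : V} (hu : H.h u u = 0) (hw : H.h w w = 0) (hwu : H.h w u = 0) (l : F) :
    g * H.sR hu hw hwu l * g⁻¹ = H.sR (u := g.1.1 u) (w := g.1.1 w) (by rw [H.map_form, hu])
      (by rw [H.map_form, hw]) (by rw [H.map_form, hwu]) l :=
  H.sisom_ext fun x => by
    rw [smul_mul_apply, smul_mul_apply, sR_apply, sR_apply, map_sub, map_add, map_smul, map_smul]
    change g.1.1 ((g.1⁻¹).1 x) + _ - _ = _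
    rw [H.apply_inv_self]
    have e : ∀ y, H.h ((g⁻¹).1.1 x) y = H.h x (g.1.1 y) := fun y => by
      rw [← H.map_form g.1]
      exact congrArg (fun z => H.h z _) (H.apply_inv_self g.1 x)
    rw [e, e]

theorem sR_add {u w : V} (hu : H.h u u = 0) (hw : H.h w w = 0) (hwu : H.h w u = 0) (l l' : F) :
    H.sR hu hw hwu (l + l') = H.sR hu hw hwu l * H.sR hu hw hwu l' :=
  H.sisom_ext fun x => by
    simp only [smul_mul_apply, sR_apply, H.add_left, H.sub_left, H.smul_left, hu, hw, hwu,
      H.eq_zero_symm hwu, map_add]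
    module

theorem sR_zero {u w : V} (hu : H.h u u = 0) (hw : H.h w w = 0) (hwu : H.h w u = 0) :
    H.sR hu hw hwu 0 = 1 :=
  H.sisom_ext fun x => by
    rw [sR_apply, map_zero, zero_mul, zero_mul, zero_smul, zero_smul, add_zero, sub_zero]; rfl

theorem sR_neg {u w : V} (hu : H.h u u = 0) (hw : H.h w w = 0) (hwu : H.h w u = 0) (l : F) :
    H.sR hu hw hwu (-l) = (H.sR hu hw hwu l)⁻¹ :=
  eq_inv_of_mul_eq_one_left (by rw [← sR_add, neg_add_cancel, sR_zero])

theorem sR_self {u : V} (hu : H.h u u = 0) (l : F) (hc : l - H.σ l + H.σ (l - H.σ l) = 0) :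
    H.sR hu hu hu l = H.sT hu hc :=
  H.sisom_ext fun x => by rw [sR_apply, sT_apply]; module

theorem sR_sT_commute {u w : V} (hu : H.h u u = 0) (hw : H.h w w = 0) (hwu : H.h w u = 0) (l : F) {c : F}
    (hc : c + H.σ c = 0) : Commute (H.sR hu hw hwu l) (H.sT hu hc) :=
  H.sisom_ext fun x => by
    simp only [smul_mul_apply, sR_apply, sT_apply, H.add_left, H.sub_left, H.smul_left, hu, hw, hwu,
      H.eq_zero_symm hwu]
    module

/-- Splitting the root group of `a u + w`. -/
theorem sT_split {u w : V} (hu : H.h u u = 0) (hw : H.h w w = 0) (hwu : H.h w u = 0) (a : F)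
    (hy : H.h (a • u + w) (a • u + w) = 0) {c : F} (hc : c + H.σ c = 0) :
    H.sT hy hc = H.sT hu (H.skew_norm_mul a hc) * H.sT hw hc * H.sR hu hw hwu (c * a) :=
  H.sisom_ext fun x => by
    simp only [smul_mul_apply, sR_apply, sT_apply, H.add_left, H.sub_left, H.smul_left, H.add_right, H.smul_right,
      hu, hw, hwu, H.eq_zero_symm hwu, map_mul, eq_neg_of_add_eq_zero_right hc]
    module

/-- Short root elements with a changed partner. -/
theorem sR_add_right {u w z : V} (hu : H.h u u = 0) (hw : H.h w w = 0) (hwu : H.h w u = 0) (hz : H.h z z = 0)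
    (hzu : H.h z u = 0) (hwz : H.h w z = 0) (b l : F) {y : V} (hy : y = w + b • z) (hyy : H.h y y = 0)
    (hyu : H.h y u = 0) :
    H.sR hu hyy hyu l = H.sR hu hw hwu l * H.sR hu hz hzu (l * H.σ b) :=
  H.sisom_ext fun x => by
    subst hy
    simp only [smul_mul_apply, sR_apply, H.add_left, H.sub_left, H.smul_left, H.add_right, H.smul_right,
      hu, hw, hwu, hz, hzu, hwz, H.eq_zero_symm hwu, H.eq_zero_symm hzu, H.eq_zero_symm hwz, map_mul,
      H.conj.invol]
    module

/-- The same, for non-orthogonal partners. -/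
theorem sR_add_right' {u w z : V} (hu : H.h u u = 0) (hw : H.h w w = 0) (hwu : H.h w u = 0) (hz : H.h z z = 0)
    (hzu : H.h z u = 0) (b l : F) {y : V} (hy : y = w + b • z) (hyy : H.h y y = 0) (hyu : H.h y u = 0) {t : F}
    (ht : t + H.σ t = 0) (hte : t = l * H.σ l * b * H.h z w) :
    H.sR hu hyy hyu l = H.sR hu hw hwu l * H.sR hu hz hzu (l * H.σ b) * H.sT hu ht :=
  H.sisom_ext fun x => by
    subst hy hte
    simp only [smul_mul_apply, sR_apply, sT_apply, H.add_left, H.sub_left, H.smul_left, H.add_right,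
      H.smul_right, hu, hw, hwu, hz, hzu, H.eq_zero_symm hwu, H.eq_zero_symm hzu, map_mul, H.conj.invol]
    module

/-- The commutator of two short root elements with a common centre. -/
theorem sR_comm {e u v : V} (he : H.h e e = 0) (hu : H.h u u = 0) (hue : H.h u e = 0) (hv : H.h v v = 0)
    (hve : H.h v e = 0) (l a : F) {t : F} (ht : t + H.σ t = 0)
    (hte : t = a * H.σ l * H.h u v - l * H.σ a * H.h v u) :
    H.sR he hu hue l * H.sR he hv hve a = H.sR he hv hve a * H.sR he hu hue l * H.sT he ht :=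
  H.sisom_ext fun x => by
    subst hte
    simp only [smul_mul_apply, sR_apply, sT_apply, H.add_left, H.sub_left, H.smul_left, H.add_right,
      H.smul_right, he, hu, hue, hv, hve, H.eq_zero_symm hue, H.eq_zero_symm hve]
    module

theorem siegel_mul {v w w' : V} (hv : H.h v v = 0) (hw : H.h w v = 0) (hw' : H.h w' v = 0) {a a' : F}
    (ha : a + H.σ a = -H.h w w) (ha' : a' + H.σ a' = -H.h w' w') (hs : H.h (w + w') v = 0) {b : F}
    (hb : b + H.σ b = -H.h (w + w') (w + w')) (hbe : b = a + a' - H.h w' w) :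
    H.siegel hv hw ha * H.siegel hv hw' ha' = H.siegel hv hs hb :=
  H.isom_ext fun x => by
    subst hbe
    simp only [mul_apply', siegel_apply, H.add_left, H.sub_left, H.smul_left, H.add_right, hv, hw, hw',
      H.eq_zero_symm hw, H.eq_zero_symm hw']
    module

theorem siegel_shift {v w : V} (hv : H.h v v = 0) (hw : H.h w v = 0) {a a' : F}
    (ha : a + H.σ a = -H.h w w) (ha' : a' + H.σ a' = -H.h w w) (hd : a' - a + H.σ (a' - a) = 0) :
    H.siegel hv hw ha' = H.siegel hv hw ha * H.uT hv hd :=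
  H.isom_ext fun x => by
    simp only [mul_apply', siegel_apply, uT_apply, H.add_left, H.sub_left, H.smul_left, hv, hw,
      H.eq_zero_symm hw]
    module

/-- Two subspaces' worth of room gives a hyperbolic pair orthogonal to a subspace. -/
theorem exists_hyperbolic_orth [Finite F] [FiniteDimensional F V] (U : Submodule F V)
    (hU : 2 * Module.finrank F U + 2 ≤ Module.finrank F V) :
    ∃ w v, w ∈ H.orth U ∧ v ∈ H.orth U ∧ H.h w w = 0 ∧ H.h v v = 0 ∧ H.h w v = 1 := by
  set S := H.orth U with hS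
  set R := S ⊓ H.orth S with hR
  obtain ⟨C, hC⟩ := Submodule.exists_isCompl R
  set S' := S ⊓ C with hS'
  have hsup : S = R ⊔ S' := by
    rw [hS', inf_comm S C, ← sup_inf_assoc_of_le C (inf_le_left : R ≤ S), hC.sup_eq_top, top_inf_eq]
  have hn : H.NondegOn S' := by
    intro x hx hxo
    have hxR : x ∈ R := by
      refine ⟨hx.1, fun y hy => H.eq_zero_symm ?_⟩
      rw [hsup] at hy
      obtain ⟨r, hr, s, hs, rfl⟩ := Submodule.mem_sup.mp hy
      rw [H.add_left, hxo s hs, hr.2 x hx.1, add_zero]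
    exact (Submodule.mem_bot F).mp (hC.disjoint.eq_bot ▸ (⟨hxR, hx.2⟩ : x ∈ R ⊓ C))
  have hd : 2 ≤ Module.finrank F S' := by
    have h1 := Submodule.finrank_sup_add_finrank_inf_eq S C
    have h2 := Submodule.finrank_le (S ⊔ C)
    have h3 := Submodule.finrank_add_eq_of_isCompl hC
    have h4 : Module.finrank F R ≤ Module.finrank F U :=
      (Submodule.finrank_mono (inf_le_right : R ≤ H.orth S)).trans_eq (by rw [hS, H.orth_orth])
    have h5 := H.finrank_orth U
    rw [← hS] at h5
    rw [← hS'] at h1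
    omega
  obtain ⟨w, hw0, hww⟩ := (H.restrict S' hn).exists_isotropic_of_two_le hd
  obtain ⟨v, hwv, hvv⟩ := (H.restrict S' hn).exists_hyperbolic hw0 hww
  exact ⟨w, v, w.2.1, v.2.1, hww, hvv, hwv⟩

/-- The orthogonal of an isotropic vector is spanned by isotropic vectors. -/
theorem orth_le_span_isotropic [Finite F] [FiniteDimensional F V] (hd : 4 ≤ Module.finrank F V)
    {v : V} (hv0 : v ≠ 0) (hv : H.h v v = 0) :
    H.orth (Submodule.span F {v}) ≤ Submodule.span F {x : V | H.h x x = 0 ∧ H.h x v = 0} := by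
  obtain ⟨u, hvu, huu⟩ := H.exists_hyperbolic hv0 hv
  have hW := H.nondegOn_hyperbolic hv hvu
  intro x hx
  have hxv : H.h x v = 0 := hx v (Submodule.mem_span_singleton_self v)
  set W := H.orth (Submodule.span F ({v, u} : Set V))
  have hxW : x - H.h x u • v ∈ W := by
    rw [H.mem_orth_span]
    rintro w (rfl | rfl)
    · rw [H.sub_left, H.smul_left, hv, hxv, mul_zero, sub_zero]
    · rw [H.sub_left, H.smul_left, hvu, mul_one, sub_self]
  have h1 : (⟨_, hxW⟩ : W) ∈ Submodule.span F {y : W | (H.restrict W (H.nondegOn_orth hW)).h y y = 0} := by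
    rw [(H.restrict W (H.nondegOn_orth hW)).span_isotropic
      (by rw [H.finrank_orth, H.finrank_hyperbolic hv hvu]; omega)]
    trivial
  have h2 : x - H.h x u • v ∈ Submodule.span F {x : V | H.h x x = 0 ∧ H.h x v = 0} := by
    refine Submodule.span_mono ?_ (Submodule.apply_mem_span_image_of_mem_span W.subtype h1)
    rintro _ ⟨y, hy, rfl⟩
    exact ⟨hy, y.2 v (Submodule.subset_span (by simp))⟩
  rw [← sub_add_cancel x (H.h x u • v)]
  exact Submodule.add_mem _ h2 (Submodule.smul_mem _ _ (Submodule.subset_span ⟨hv, hv⟩))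

theorem exists_isotropic_mem [Finite F] [FiniteDimensional F V] (S : Submodule F V)
    (hS : 2 ≤ Module.finrank F S) : ∃ x ∈ S, x ≠ 0 ∧ H.h x x = 0 := by
  by_cases hn : H.NondegOn S
  · obtain ⟨x, hx0, hxx⟩ := (H.restrict S hn).exists_isotropic_of_two_le hS
    exact ⟨x, x.2, fun e => hx0 (Subtype.ext e), hxx⟩
  · simp only [NondegOn, not_forall] at hn
    obtain ⟨x, hx, hxo, hx0⟩ := hn
    exact ⟨x, hx, hx0, hxo x hx⟩

end HermSpace

end Cfsg.Lib.Classical
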