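import Mathlib
import Cfsg.Prelude.Def_Classical
import Cfsg.Agent.Classical.Unitary.Field

/-! Numbers of vectors of given Hermitian norm. -/

set_option autoImplicit false
set_option linter.style.haveILetI false

namespace Cfsg.Lib.Classical

universe u

theorem herm_counts {F : Type u} [Field F] [Fintype F] {q : ℕ} (hF : Fintype.card F = q ^ 2) (n : ℕ) :
    (q : ℤ) * Nat.card {v : Fin n → F // Cfsg.hermForm n F q v v = 0} =
      (q : ℤ) ^ (2 * n) + (-1) ^ n * ((q : ℤ) - 1) * (q : ℤ) ^ n ∧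
    (q : ℤ) * Nat.card {v : Fin n → F // Cfsg.hermForm n F q v v = 1} =
      (q : ℤ) ^ (2 * n) - (-1) ^ n * (q : ℤ) ^ n := by
  classical
  obtain ⟨σ, hσ, hpow, hcard⟩ := exists_conj_pow hF
  have hq2 : 2 ≤ q := hcard ▸ hσ.two_le_card_fixed
  let cnt : ℕ → F → ℕ := fun n c => Nat.card {v : Fin n → F // Cfsg.hermForm n F q v v = c}
  have hval : ∀ n (v : Fin n → F), Cfsg.hermForm n F q v v = ∑ i, v i * σ (v i) := fun n v => by
    simp [Cfsg.hermForm, hpow]
  have hfix : ∀ n (v : Fin n → F), σ (Cfsg.hermForm n F q v v) = Cfsg.hermForm n F q v v := fun n v => by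
    rw [hval, map_sum]
    exact Finset.sum_congr rfl fun i _ => hσ.norm_mem (v i)
  have hscale : ∀ n (c : F), σ c = c → c ≠ 0 → cnt n c = cnt n 1 := by
    intro n c hc hc0
    obtain ⟨b, hb⟩ := hσ.norm_surjective hc
    have hb0 : b ≠ 0 := fun h => hc0 (by rw [← hb, h, zero_mul])
    refine (Nat.card_congr (Equiv.subtypeEquiv (LinearEquiv.smulOfUnit (Units.mk0 b hb0) : (Fin n → F) ≃ₗ[F] _).toEquiv
      fun v => ?_)).symm
    show Cfsg.hermForm n F q v v = 1 ↔ Cfsg.hermForm n F q (b • v) (b • v) = c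
    rw [hval, hval, show ∑ i, (b • v) i * σ ((b • v) i) = c * ∑ i, v i * σ (v i) by
      rw [Finset.mul_sum]
      refine Finset.sum_congr rfl fun i _ => ?_
      rw [Pi.smul_apply, smul_eq_mul, map_mul, ← hb]
      ring, mul_eq_left₀ hc0]
  have hfixcard : Fintype.card {c : F // σ c = c} = q := by
    rw [← Nat.card_eq_fintype_card, ← hcard]; rfl
  have htotal : ∀ n, q ^ (2 * n) = cnt n 0 + (q - 1) * cnt n 1 := by
    intro n
    let f : (Fin n → F) → {c : F // σ c = c} := fun v => ⟨Cfsg.hermForm n F q v v, hfix n v⟩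
    have h1 : Nat.card (Fin n → F) = ∑ c : {c : F // σ c = c}, cnt n c.1 := by
      rw [← Nat.card_congr (Equiv.sigmaFiberEquiv f), Nat.card_sigma]
      exact Finset.sum_congr rfl fun c _ => Nat.card_congr (Equiv.subtypeEquivRight fun v => Subtype.ext_iff)
    rw [Nat.card_fun, Nat.card_eq_fintype_card, hF, Nat.card_eq_fintype_card, Fintype.card_fin, ← pow_mul,
      ← Finset.add_sum_erase _ _ (Finset.mem_univ (⟨0, map_zero σ⟩ : {c : F // σ c = c})),
      Finset.sum_congr rfl (fun c hc => hscale n c.1 c.2 (fun h => Finset.ne_of_mem_erase hc (Subtype.ext h))),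
      Finset.sum_const, Finset.card_erase_of_mem (Finset.mem_univ _), Finset.card_univ, hfixcard, smul_eq_mul] at h1
    exact h1
  have hrec : ∀ n, cnt (n + 1) 0 = cnt n 0 + (q ^ 2 - 1) * cnt n 1 := by
    intro n
    have e : {v : Fin (n + 1) → F // Cfsg.hermForm (n + 1) F q v v = 0} ≃
        Σ x : F, {w : Fin n → F // Cfsg.hermForm n F q w w = -(x * σ x)} :=
      { toFun := fun v => ⟨v.1 0, Fin.tail v.1, by
          have h := v.2
          rw [hval, Fin.sum_univ_succ] at h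
          rw [hval]
          exact eq_neg_of_add_eq_zero_right h⟩
        invFun := fun p => ⟨Fin.cons p.1 p.2.1, by
          have h := p.2.2
          rw [hval] at h ⊢
          rw [Fin.sum_univ_succ]
          simp only [Fin.cons_zero, Fin.cons_succ]
          rw [h, add_neg_cancel]⟩
        left_inv := fun v => Subtype.ext (Fin.cons_self_tail v.1)
        right_inv := fun p => Sigma.subtype_ext (by simp) (by funext i; simp [Fin.tail]) }
    show Nat.card _ = _
    rw [Nat.card_congr e, Nat.card_sigma, ← Finset.add_sum_erase _ _ (Finset.mem_univ (0 : F))]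
    rw [Finset.sum_congr rfl (fun x hx => hscale n (-(x * σ x)) (by rw [map_neg, hσ.norm_mem])
      (neg_ne_zero.mpr (mul_ne_zero (Finset.ne_of_mem_erase hx) ((_root_.map_ne_zero σ).mpr (Finset.ne_of_mem_erase hx))))),
      Finset.sum_const, Finset.card_erase_of_mem (Finset.mem_univ _), Finset.card_univ, hF, smul_eq_mul]
    simp [cnt]
  have main : ∀ n, (q : ℤ) * cnt n 0 = (q : ℤ) ^ (2 * n) + (-1) ^ n * ((q : ℤ) - 1) * (q : ℤ) ^ n ∧
      (q : ℤ) * cnt n 1 = (q : ℤ) ^ (2 * n) - (-1) ^ n * (q : ℤ) ^ n := by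
    have second : ∀ n, (q : ℤ) * cnt n 0 = (q : ℤ) ^ (2 * n) + (-1) ^ n * ((q : ℤ) - 1) * (q : ℤ) ^ n →
        (q : ℤ) * cnt n 1 = (q : ℤ) ^ (2 * n) - (-1) ^ n * (q : ℤ) ^ n := by
      intro n h0
      have h1 := congrArg (fun k : ℕ => (k : ℤ)) (htotal n)
      simp only [Nat.cast_pow, Nat.cast_add, Nat.cast_mul, Nat.cast_sub (show 1 ≤ q by omega), Nat.cast_one] at h1
      refine mul_left_cancel₀ (show ((q : ℤ) - 1) ≠ 0 by omega) ?_
      linear_combination -(q : ℤ) * h1 - h0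
    intro n
    induction n with
    | zero =>
      have h0 : cnt 0 0 = 1 := by
        haveI : Nonempty {v : Fin 0 → F // Cfsg.hermForm 0 F q v v = 0} := ⟨⟨0, by simp [Cfsg.hermForm]⟩⟩
        exact Nat.card_eq_one_iff_unique.mpr ⟨inferInstance, inferInstance⟩
      have h : (q : ℤ) * cnt 0 0 = (q : ℤ) ^ (2 * 0) + (-1) ^ 0 * ((q : ℤ) - 1) * (q : ℤ) ^ 0 := by
        rw [h0]; simp
      exact ⟨h, second 0 h⟩
    | succ n ih =>
      have h : (q : ℤ) * cnt (n + 1) 0 =
          (q : ℤ) ^ (2 * (n + 1)) + (-1) ^ (n + 1) * ((q : ℤ) - 1) * (q : ℤ) ^ (n + 1) := by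
        rw [hrec]
        push_cast [Nat.cast_sub (show 1 ≤ q ^ 2 from Nat.one_le_pow _ _ (by omega))]
        linear_combination ih.1 + ((q : ℤ) ^ 2 - 1) * ih.2
      exact ⟨h, second (n + 1) h⟩
  exact main n

theorem herm_count_one {F : Type u} [Field F] [Fintype F] {q : ℕ} (hF : Fintype.card F = q ^ 2) (n : ℕ) :
    Nat.card {v : Fin n → F // Cfsg.hermForm n F q v v = 1} =
      if Even n then q ^ (n - 1) * (q ^ n - 1) else q ^ (n - 1) * (q ^ n + 1) := by
  have h := (herm_counts hF n).2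
  have hq : 1 ≤ q := Nat.pos_of_ne_zero fun h0 => by rw [h0] at hF; simp at hF
  have hqn : 1 ≤ q ^ n := Nat.one_le_pow _ _ hq
  rcases n with _ | k
  · haveI : IsEmpty {v : Fin 0 → F // Cfsg.hermForm 0 F q v v = 1} := ⟨fun v => by
      have := v.2; simp [Cfsg.hermForm] at this⟩
    simp
  · apply Nat.cast_injective (R := ℤ)
    refine mul_left_cancel₀ (show (q : ℤ) ≠ 0 by omega) ?_
    rw [h, Nat.add_sub_cancel]
    split_ifs with he
    · rw [he.neg_one_pow]; push_cast [Nat.cast_sub hqn]; ring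
    · rw [(Nat.not_even_iff_odd.mp he).neg_one_pow]; push_cast; ring

theorem herm_count_zero {F : Type u} [Field F] [Fintype F] {q : ℕ} (hF : Fintype.card F = q ^ 2) (n : ℕ) :
    Nat.card {v : Fin n → F // Cfsg.hermForm n F q v v = 0} =
      (if Even n then (q ^ n - 1) * (q ^ (n - 1) + 1) else (q ^ n + 1) * (q ^ (n - 1) - 1)) + 1 := by
  have h := (herm_counts hF n).1
  have hq : 1 ≤ q := Nat.pos_of_ne_zero fun h0 => by rw [h0] at hF; simp at hF
  have hqn : 1 ≤ q ^ n := Nat.one_le_pow _ _ hq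
  rcases n with _ | k
  · haveI : Nonempty {v : Fin 0 → F // Cfsg.hermForm 0 F q v v = 0} := ⟨⟨0, by simp [Cfsg.hermForm]⟩⟩
    simp
  · have hqk : 1 ≤ q ^ k := Nat.one_le_pow _ _ hq
    apply Nat.cast_injective (R := ℤ)
    refine mul_left_cancel₀ (show (q : ℤ) ≠ 0 by omega) ?_
    rw [h, Nat.add_sub_cancel]
    split_ifs with he
    · rw [he.neg_one_pow]; push_cast [Nat.cast_sub hqn]; ring
    · rw [(Nat.not_even_iff_odd.mp he).neg_one_pow]; push_cast [Nat.cast_sub hqk]; ring

end Cfsg.Lib.Classical
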