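import Mathlib
import Cfsg.Agent.Classical.Unitary.HermCount
import Cfsg.Agent.Classical.Unitary.Matrix

/-! Totally isotropic planes of a Hermitian space, counted by double counting ordered bases. -/

set_option autoImplicit false
set_option linter.unusedSimpArgs false
set_option linter.style.haveILetI false

namespace Cfsg.Lib.Classical

universe u

variable {F : Type u} [Field F] [Fintype F] {q : ℕ} (hF : Fintype.card F = q ^ 2) (n : ℕ)

include hF in
theorem card_iso_nonzero :
    Nat.card {x : Fin n → F // Cfsg.hermForm n F q x x = 0 ∧ x ≠ 0} =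
      if Even n then (q ^ n - 1) * (q ^ (n - 1) + 1) else (q ^ n + 1) * (q ^ (n - 1) - 1) := by
  classical
  have h := herm_count_zero hF n
  have h0 : Cfsg.hermForm n F q (0 : Fin n → F) 0 = 0 := by simp [Cfsg.hermForm]
  rw [Nat.card_eq_fintype_card, Fintype.card_subtype] at h ⊢
  have heq : Finset.univ.filter (fun x : Fin n → F => Cfsg.hermForm n F q x x = 0 ∧ x ≠ 0) =
      (Finset.univ.filter (fun x : Fin n → F => Cfsg.hermForm n F q x x = 0)).erase 0 := by
    ext x
    simp [and_comm]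
  rw [heq, Finset.card_erase_of_mem (by simp [h0]), h]
  omega

theorem card_second {u : Fin (n + 2) → F} (hu : u ≠ 0) (huu : (stdHerm (n + 2) hF).h u u = 0) :
    Nat.card {v : Fin (n + 2) → F // (stdHerm (n + 2) hF).h v u = 0 ∧ (stdHerm (n + 2) hF).h v v = 0 ∧
        ∀ a : F, a • u ≠ v} =
      q ^ 2 * Nat.card {x : Fin n → F // Cfsg.hermForm n F q x x = 0 ∧ x ≠ 0} := by
  set H := stdHerm (n + 2) hF
  obtain ⟨w, hw⟩ := H.exists_partner hu
  set P : Submodule F (Fin (n + 2) → F) := Submodule.span F {u, w} with hP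
  have hnd := H.nondegOn_hyperbolic huu hw
  have hcompl := H.isCompl_orth hnd
  have hdim : Module.finrank F (H.orth P) = n := by
    have h1 := Submodule.finrank_add_eq_of_isCompl hcompl
    have h2 := H.finrank_hyperbolic huu hw
    rw [Module.finrank_fin_fun, ← hP] at h1
    rw [← hP] at h2
    omega
  have huP : u ∈ P := Submodule.subset_span (Set.mem_insert _ _)
  have hwP : w ∈ P := Submodule.subset_span (Set.mem_insert_of_mem _ (Set.mem_singleton _))
  set W := H.restrict (H.orth P) (H.nondegOn_orth hnd)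
  obtain ⟨e, he⟩ := W.exists_isometry (stdHerm n hF) rfl (by rw [hdim, Module.finrank_fin_fun])
  have hyu : ∀ y : H.orth P, H.h y.1 u = 0 := fun y => H.mem_orth.mp y.2 u huP
  have hval : ∀ (a : F) (y : H.orth P), H.h (a • u + y.1) u = 0 ∧
      H.h (a • u + y.1) (a • u + y.1) = H.h y.1 y.1 := fun a y => by
    constructor
    · rw [H.add_left, H.smul_left, huu, hyu, mul_zero, add_zero]
    · rw [H.add_left, H.smul_left, H.add_right u, H.smul_right, huu, H.symm u y.1, hyu, map_zero, H.add_right y.1,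
        H.smul_right, hyu]
      simp
  have hwy : ∀ y : H.orth P, H.h y.1 w = 0 := fun y => H.mem_orth.mp y.2 w hwP
  let f : F × {y : H.orth P // H.h y.1 y.1 = 0 ∧ y ≠ 0} →
      {v : Fin (n + 2) → F // H.h v u = 0 ∧ H.h v v = 0 ∧ ∀ a : F, a • u ≠ v} := fun x =>
    ⟨x.1 • u + x.2.1.1, (hval _ _).1, by rw [(hval _ _).2, x.2.2.1], fun a ha => x.2.2.2 (by
      have hy : (x.2.1 : Fin (n + 2) → F) = (a - x.1) • u := by rw [sub_smul, ha, add_sub_cancel_left]
      have := Submodule.disjoint_def.mp hcompl.disjoint _ (hy ▸ P.smul_mem _ huP) x.2.1.2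
      exact Subtype.ext this)⟩
  have hbij : Function.Bijective f := by
    constructor
    · rintro ⟨a, y⟩ ⟨b, z⟩ hab
      have h : a • u + y.1.1 = b • u + z.1.1 := congrArg Subtype.val hab
      have h' := congrArg (fun x => H.h x w) h
      simp only [H.add_left, H.smul_left, hw, hwy, mul_one, add_zero] at h'
      subst h'
      exact Prod.ext rfl (Subtype.ext (Subtype.ext (add_left_cancel h)))
    · rintro ⟨v, hvu, hvv, hns⟩
      obtain ⟨x, hx, y, hy, rfl⟩ := Submodule.mem_sup.mp
        (show v ∈ P ⊔ H.orth P by rw [hcompl.sup_eq_top]; exact Submodule.mem_top)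
      obtain ⟨a, b, rfl⟩ := Submodule.mem_span_pair.mp hx
      have hb : b = 0 := by
        rw [H.add_left, H.add_left, H.smul_left, H.smul_left, huu, H.symm w u, hw, map_one,
          H.mem_orth.mp hy u huP] at hvu
        simpa using hvu
      subst hb
      simp only [zero_smul, add_zero] at hvv hns ⊢
      rw [(hval a ⟨y, hy⟩).2] at hvv
      refine ⟨(a, ⟨⟨y, hy⟩, hvv, fun h => ?_⟩), Subtype.ext rfl⟩
      have h0 : y = 0 := congrArg Subtype.val h
      exact hns a (by rw [h0, add_zero])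
  rw [← Nat.card_congr (Equiv.ofBijective f hbij), Nat.card_prod, Nat.card_eq_fintype_card, hF]
  congr 1
  refine Nat.card_congr (e.toEquiv.subtypeEquiv fun y => ?_)
  rw [← stdHerm_h hF]
  exact and_congr (by rw [LinearEquiv.coe_toEquiv, he]; rfl) (by simp)

include hF in
theorem card_planes_mul :
    Nat.card {W : Submodule F (Fin (n + 2) → F) //
        Module.finrank F W = 2 ∧ ∀ u ∈ W, ∀ v ∈ W, Cfsg.hermForm (n + 2) F q u v = 0} *
      (((q ^ 2) ^ 2 - 1) * ((q ^ 2) ^ 2 - q ^ 2)) =
    Nat.card {x : Fin (n + 2) → F // Cfsg.hermForm (n + 2) F q x x = 0 ∧ x ≠ 0} *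
      (q ^ 2 * Nat.card {x : Fin n → F // Cfsg.hermForm n F q x x = 0 ∧ x ≠ 0}) := by
  classical
  set H := stdHerm (n + 2) hF
  simp only [← stdHerm_h hF (n := n + 2)]
  set T := {W : Submodule F (Fin (n + 2) → F) // Module.finrank F W = 2 ∧ ∀ u ∈ W, ∀ v ∈ W, H.h u v = 0}
  set S := {s : Fin 2 → Fin (n + 2) → F // LinearIndependent F s ∧ ∀ i j, H.h (s i) (s j) = 0}
  haveI : Finite (Submodule F (Fin (n + 2) → F)) := Finite.of_injective _ SetLike.coe_injective
  haveI : Fintype T := Fintype.ofFinite T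
  let f : (Σ W : T, {s : Fin 2 → W.1 // LinearIndependent F s}) → S := fun x =>
    ⟨fun i => (x.2.1 i).1, x.2.2.map' x.1.1.subtype (Submodule.ker_subtype _),
      fun i j => x.1.2.2 _ (x.2.1 i).2 _ (x.2.1 j).2⟩
  have hspan : ∀ x : (Σ W : T, {s : Fin 2 → W.1 // LinearIndependent F s}),
      Submodule.span F (Set.range (f x).1) = x.1.1 := fun x => by
    refine Submodule.eq_of_le_of_finrank_eq (Submodule.span_le.mpr ?_) ?_
    · rintro _ ⟨i, rfl⟩
      exact (x.2.1 i).2
    · rw [finrank_span_eq_card (f x).2.1, x.1.2.1, Fintype.card_fin]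
  have hf : Function.Bijective f := by
    constructor
    · rintro ⟨W, s⟩ ⟨W', s'⟩ h
      have hW : W = W' := Subtype.ext (by rw [← hspan ⟨W, s⟩, ← hspan ⟨W', s'⟩, h])
      subst hW
      have hs : s = s' := Subtype.ext (funext fun i => Subtype.ext (congrFun (congrArg Subtype.val h) i))
      rw [hs]
    · rintro ⟨s, hli, hs⟩
      have hW : ∀ u ∈ Submodule.span F (Set.range s), ∀ v ∈ Submodule.span F (Set.range s), H.h u v = 0 := by
        intro u hu v hv
        induction hu using Submodule.span_induction with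
        | mem u hu =>
          induction hv using Submodule.span_induction with
          | mem v hv => obtain ⟨i, rfl⟩ := hu; obtain ⟨j, rfl⟩ := hv; exact hs i j
          | zero => exact H.zero_right u
          | add a b _ _ ha hb => rw [H.add_right, ha, hb, add_zero]
          | smul c a _ ha => rw [H.smul_right, ha, mul_zero]
        | zero => exact H.zero_left v
        | add a b _ _ ha hb => rw [H.add_left, ha, hb, add_zero]
        | smul c a _ ha => rw [H.smul_left, ha, mul_zero]
      refine ⟨⟨⟨_, by rw [finrank_span_eq_card hli, Fintype.card_fin], hW⟩,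
        ⟨fun i => ⟨s i, Submodule.subset_span ⟨i, rfl⟩⟩, ?_⟩⟩, rfl⟩
      exact LinearIndependent.of_comp (Submodule.span F (Set.range s)).subtype hli
  have h1 : Nat.card S = Nat.card T * (((q ^ 2) ^ 2 - 1) * ((q ^ 2) ^ 2 - q ^ 2)) := by
    rw [← Nat.card_congr (Equiv.ofBijective f hf), Nat.card_sigma, Finset.sum_const_nat (fun W _ => ?_),
      Finset.card_univ, ← Nat.card_eq_fintype_card]
    rw [card_linearIndependent (by rw [W.2.1]), W.2.1, hF, Fin.prod_univ_two]
    simp
  let g : (Σ u : {u : Fin (n + 2) → F // H.h u u = 0 ∧ u ≠ 0},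
      {v : Fin (n + 2) → F // H.h v u.1 = 0 ∧ H.h v v = 0 ∧ ∀ a : F, a • u.1 ≠ v}) → S := fun x =>
    ⟨![x.2.1, x.1.1], linearIndependent_fin2.mpr ⟨by simpa using x.1.2.2, fun a => by simpa using x.2.2.2.2 a⟩,
      fun i j => by
        fin_cases i <;> fin_cases j <;> simp [x.1.2.1, x.2.2.1, x.2.2.2.1, H.symm x.1.1 x.2.1]⟩
  have hg : Function.Bijective g := by
    constructor
    · rintro ⟨u, v⟩ ⟨u', v'⟩ h
      have h0 : v.1 = v'.1 := congrFun (congrArg Subtype.val h) 0
      have hu : u = u' := Subtype.ext (congrFun (congrArg Subtype.val h) 1)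
      subst hu
      rw [Subtype.ext h0]
    · rintro ⟨s, hli, hs⟩
      obtain ⟨h1, h2⟩ := linearIndependent_fin2.mp hli
      refine ⟨⟨⟨s 1, hs 1 1, h1⟩, ⟨s 0, hs 0 1, hs 0 0, h2⟩⟩, Subtype.ext ?_⟩
      funext i
      fin_cases i <;> rfl
  rw [← h1, ← Nat.card_congr (Equiv.ofBijective g hg), Nat.card_sigma,
    Finset.sum_const_nat (fun u _ => card_second hF n u.2.2 u.2.1), Finset.card_univ, ← Nat.card_eq_fintype_card]

include hF in
theorem card_planes_four :
    Nat.card {W : Submodule F (Fin 4 → F) // Module.finrank F W = 2 ∧ ∀ u ∈ W, ∀ v ∈ W, Cfsg.hermForm 4 F q u v = 0} =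
      (q + 1) * (q ^ 3 + 1) := by
  have hq : 2 ≤ q := by
    have := Fintype.one_lt_card (α := F)
    by_contra h
    interval_cases q <;> omega
  have h := card_planes_mul hF 2
  rw [card_iso_nonzero hF, card_iso_nonzero hF, if_pos (by decide), if_pos (by decide)] at h
  refine Nat.eq_of_mul_eq_mul_right ?_ (h.trans ?_)
  · have h4 : 2 ^ 2 ≤ q ^ 2 := Nat.pow_le_pow_left hq 2
    have : q ^ 2 < (q ^ 2) ^ 2 := by
      rw [pow_two (q ^ 2)]
      exact lt_mul_of_one_lt_left (by omega) (by omega)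
    exact Nat.mul_pos (by omega) (by omega)
  · rw [show ((q ^ 2) ^ 2 - q ^ 2) = q ^ 2 * (q ^ 2 - 1) by rw [Nat.mul_sub_one, pow_two (q ^ 2)]]
    rw [show (q ^ 2) ^ 2 = q ^ 4 by ring]
    simp only [show (4 : ℕ) - 1 = 3 from rfl, show (2 : ℕ) - 1 = 1 from rfl, pow_one]
    ring

include hF in
theorem card_planes_five :
    Nat.card {W : Submodule F (Fin 5 → F) // Module.finrank F W = 2 ∧ ∀ u ∈ W, ∀ v ∈ W, Cfsg.hermForm 5 F q u v = 0} =
      (q ^ 3 + 1) * (q ^ 5 + 1) := by
  have hq : 2 ≤ q := by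
    have := Fintype.one_lt_card (α := F)
    by_contra h
    interval_cases q <;> omega
  have h := card_planes_mul hF 3
  rw [card_iso_nonzero hF, card_iso_nonzero hF, if_neg (by decide), if_neg (by decide)] at h
  refine Nat.eq_of_mul_eq_mul_right ?_ (h.trans ?_)
  · have h4 : 2 ^ 2 ≤ q ^ 2 := Nat.pow_le_pow_left hq 2
    have : q ^ 2 < (q ^ 2) ^ 2 := by
      rw [pow_two (q ^ 2)]
      exact lt_mul_of_one_lt_left (by omega) (by omega)
    exact Nat.mul_pos (by omega) (by omega)
  · rw [show ((q ^ 2) ^ 2 - q ^ 2) = q ^ 2 * (q ^ 2 - 1) by rw [Nat.mul_sub_one, pow_two (q ^ 2)]]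
    rw [show (q ^ 2) ^ 2 = q ^ 4 by ring]
    simp only [show (5 : ℕ) - 1 = 4 from rfl, show (3 : ℕ) - 1 = 2 from rfl]
    ring

end Cfsg.Lib.Classical
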