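import Mathlib
import Cfsg.Prelude.Def_GeometricClasses
import Cfsg.Agent.Classical.MaxBridge
import Cfsg.Agent.Classical.Unitary.Matrix
import Cfsg.Agent.Classical.Unitary.Maximal

set_option autoImplicit false
set_option linter.unusedVariables false
set_option linter.unusedSimpArgs false
set_option linter.style.haveILetI false

/-! `SU_n(q)` inside `GL_n`, for the maximality statements. -/

namespace Cfsg.Lib.Classical

universe u

variable {F : Type u} [Field F] [Fintype F] {q n : ℕ} (hF : Fintype.card F = q ^ 2)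

/-- Special isometries of the standard Hermitian space inside `GL`. -/
noncomputable def sunitToGL : (stdHerm n hF).SIsom →* Matrix.GeneralLinearGroup (Fin n) F :=
  (unitToGL hF).comp (stdHerm n hF).SIsom.subtype

theorem sunitToGL_mulVec (g : (stdHerm n hF).SIsom) (x : Fin n → F) :
    ((sunitToGL hF g : Matrix.GeneralLinearGroup (Fin n) F) : Matrix (Fin n) (Fin n) F).mulVec x = g.1.1 x :=
  unitToGL_mulVec hF g.1 x

theorem range_sunitToGL :
    (sunitToGL (n := n) hF).range = Cfsg.GU n F q ⊓ Cfsg.Geo.specialLinear (Fin n) F := by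
  rw [← range_unitToGL hF]
  ext A
  constructor
  · rintro ⟨g, rfl⟩
    exact ⟨⟨g.1, rfl⟩, (det_unitToGL hF g.1).trans g.2⟩
  · rintro ⟨⟨g, rfl⟩, h⟩
    exact ⟨⟨g, (det_unitToGL hF g).symm.trans h⟩, rfl⟩

theorem comap_subspaceStabilizer_sunitToGL (W : Submodule F (Fin n → F)) :
    (Cfsg.Geo.subspaceStabilizer W).comap (sunitToGL hF) = (stdHerm n hF).sSubStab W := by
  ext g
  refine forall_congr' fun x => ?_
  change (x ∈ W ↔ (sunitToGL hF g).val.mulVec x ∈ W) ↔ _
  rw [sunitToGL_mulVec]
  exact Iff.rfl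

theorem stdHerm_le_orth {W : Submodule F (Fin n → F)}
    (hW : Cfsg.Geo.IsTotallySingularFor (Cfsg.hermForm n F q) W) : W ≤ (stdHerm n hF).orth W :=
  fun x hx w hw => by rw [stdHerm_h]; exact hW x hx w hw

theorem stdHerm_nondegOn {W : Submodule F (Fin n → F)}
    (hW : Cfsg.Geo.IsNondegenerateOn (Cfsg.hermForm n F q) W) : (stdHerm n hF).NondegOn W := by
  intro v hv h
  by_contra hne
  obtain ⟨⟨x, hx, hxv⟩, -⟩ := hW v hv hne
  exact hxv ((stdHerm_h hF x v).symm.trans (h x hx))

end Cfsg.Lib.Classical
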