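import Mathlib
import Cfsg.Agent.Classical.Symp.Simple
import Cfsg.Agent.Classical.Unitary.Maximal

set_option autoImplicit false
set_option linter.unusedVariables false
set_option linter.unusedSimpArgs false
set_option linter.style.haveILetI false

/-! The stabiliser of a symplectic rational structure is maximal in the special unitary group. -/

namespace Cfsg.Lib.Classical

universe u v w

variable {F : Type u} [Field F] {V : Type v} [AddCommGroup V] [Module F V]

namespace HermSpace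

variable (H : HermSpace F V) {F₀ : Subfield F} {V₀ : Type w} [AddCommGroup V₀] [Module F₀ V₀]

/-- A rational structure on which `ζ h` is alternating. -/
structure SympStructure (ι : V₀ →+ V) (ζ : F) (B : LinearMap.BilinForm F₀ V₀) : Prop where
  smul : ∀ (a : F₀) u, ι (a • u) = (a : F) • ι u
  fixed : ∀ a : F₀, H.σ a = a
  skew : ζ + H.σ ζ = 0
  ne_zero : ζ ≠ 0
  form : ∀ u v, (B u v : F) = ζ * H.h (ι u) (ι v)
  alt : B.IsAlt
  nondeg : B.Nondegenerate
  span : ∀ τ : F, τ ∉ F₀ → ∀ x, ∃ r s, x = ι r + τ • ι s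
  indep : ∀ τ : F, τ ∉ F₀ → ∀ r s, ι r + τ • ι s = 0 → r = 0 ∧ s = 0

variable {H}

theorem isCoatom_of_sympStructure [Finite F] [FiniteDimensional F V] [FiniteDimensional F₀ V₀]
    {ι : V₀ →+ V} {ζ : F} {B : LinearMap.BilinForm F₀ V₀} (S : H.SympStructure ι ζ B)
    (hd : 4 ≤ Module.finrank F V) (hd₀ : 3 ≤ Module.finrank F₀ V₀) {τ : F} (hτ : τ ∉ F₀) (hτσ : H.σ τ ≠ τ)
    (hdec : ∀ a : F, ∃ p p' : F₀, a = p + τ * p')
    {M : Subgroup H.SIsom}
    (hT : ∀ (u : V₀) (c : F) (hc : c + H.σ c = 0) (hu : H.h (ι u) (ι u) = 0),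
      (⟨H.uT hu hc, H.uT_mem_SIsom hu hc⟩ : H.SIsom) ∈ M)
    (hM : ∀ g : H.SIsom, g ∈ M ↔ ∃ a : F, a ≠ 0 ∧ ∀ u, ∃ r, g.1.1 (ι u) = a • ι r) :
    IsCoatom M := by
  have hA := S.alt
  have hB := S.nondeg
  have hiso : ∀ u, H.h (ι u) (ι u) = 0 := fun u => by
    have h := S.form u u
    rw [hA u] at h
    simpa [S.ne_zero] using h.symm
  have hanti : ∀ u v, H.h (ι u) (ι v) = -H.h (ι v) (ι u) := fun u v => by
    apply mul_left_cancel₀ S.ne_zero
    rw [mul_neg, ← S.form, ← S.form, ← hA.neg_eq u v]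
    push_cast
    simp
  have hinj : ∀ u, ι u = 0 → u = 0 := fun u h => (S.indep τ hτ u 0 (by simp [h])).1
  have hnorm : ∀ r s, (H.h (ι r + τ • ι s) (ι r + τ • ι s) = 0 ↔ B r s = 0) := by
    intro r s
    have e : H.h (ι r + τ • ι s) (ι r + τ • ι s) = (H.σ τ - τ) * H.h (ι r) (ι s) := by
      simp only [H.add_left, H.add_right, H.smul_left, H.smul_right, hiso, hanti s r]
      ring
    rw [e, mul_eq_zero, or_iff_right (sub_ne_zero.mpr hτσ)]
    constructor
    · intro h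
      exact Subtype.ext (by rw [S.form, h, mul_zero]; rfl)
    · intro h
      have h' := S.form r s
      rw [h] at h'
      simpa [S.ne_zero] using h'.symm
  haveI : Nontrivial V₀ := Module.nontrivial_of_finrank_pos (R := F₀) (by omega)
  -- a non-rational isotropic point
  obtain ⟨r₀, hr₀⟩ := exists_ne (0 : V₀)
  obtain ⟨s₀, hs₀o, hs₀⟩ := exists_orth_notMem hB (Submodule.span F₀ {r₀})
    (by rw [finrank_span_singleton hr₀]; omega)
  have hrs₀ : B r₀ s₀ = 0 := hs₀o r₀ (Submodule.mem_span_singleton_self r₀)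
  have nonrat : ∀ r s, r ≠ 0 → s ∉ Submodule.span F₀ ({r} : Set V₀) → ∀ (a : F) w, ι r + τ • ι s ≠ a • ι w := by
    intro r s hr hs a w he
    obtain ⟨p, p', rfl⟩ := hdec a
    obtain ⟨h1, h2⟩ := S.indep τ hτ (r - p • w) (s - p' • w) (by
      rw [map_sub, map_sub, S.smul, S.smul]
      linear_combination (norm := module) he)
    rw [sub_eq_zero] at h1 h2
    refine hs (Submodule.mem_span_singleton.mpr ⟨p' / p, ?_⟩)
    have hp : p ≠ 0 := fun h => hr (by rw [h1, h, zero_smul])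
    rw [h1, h2, smul_smul, div_mul_cancel₀ _ hp]
  refine ⟨fun htop => ?_, fun K hlt => ?_⟩
  · set y := ι r₀ + τ • ι s₀
    have hy0 : y ≠ 0 := fun h => hr₀ (S.indep τ hτ r₀ s₀ h).1
    have hx0 : ι r₀ ≠ 0 := fun h => hr₀ (hinj _ h)
    haveI := H.isoPt_pretransitive
    obtain ⟨g, hg⟩ := MulAction.exists_smul_eq H.SIsom (H.isoMk _ hx0 (hiso r₀))
      (H.isoMk y hy0 ((hnorm r₀ s₀).mpr hrs₀))
    rw [smul_isoMk, isoMk_eq_iff] at hg
    obtain ⟨c, hc⟩ := hg
    obtain ⟨a, -, ha⟩ := (hM g).mp (htop ▸ Subgroup.mem_top g)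
    obtain ⟨r, hr⟩ := ha r₀
    have hc0 : c ≠ 0 := fun h => H.isom_ne_zero g.1 hx0 (by rw [← hc, h, zero_smul])
    refine nonrat r₀ s₀ hr₀ hs₀ (c⁻¹ * a) r ?_
    rw [← smul_smul, ← hr, ← hc, smul_smul, inv_mul_cancel₀ hc0, one_smul]
  obtain ⟨g, hgK, hgM⟩ := SetLike.exists_of_lt hlt
  have hcen : ∀ u, ι u ∈ H.uCentres K := fun u => ⟨hiso u, fun c hc => hlt.le (hT u c hc (hiso u))⟩
  -- a centre that is not rational
  obtain ⟨r, s, hr, hs, hxC⟩ : ∃ r s, r ≠ 0 ∧ s ∉ Submodule.span F₀ ({r} : Set V₀) ∧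
      ι r + τ • ι s ∈ H.uCentres K := by
    by_contra hcon
    push Not at hcon
    apply hgM
    have hpt : ∀ u, u ≠ 0 → ∃ (a : F) (r : V₀), a ≠ 0 ∧ r ≠ 0 ∧ g.1.1 (ι u) = a • ι r := by
      intro u hu
      obtain ⟨r, s, he⟩ := S.span τ hτ (g.1.1 (ι u))
      have hne : g.1.1 (ι u) ≠ 0 := fun h => hu (hinj _ (g.1.1.map_eq_zero_iff.mp h))
      rcases eq_or_ne r 0 with rfl | hr
      · rw [map_zero, zero_add] at he
        exact ⟨τ, s, fun h => hne (by rw [he, h, zero_smul]), fun h => hne (by rw [he, h, map_zero, smul_zero]), he⟩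
      by_cases hs : s ∈ Submodule.span F₀ ({r} : Set V₀)
      · obtain ⟨l, rfl⟩ := Submodule.mem_span_singleton.mp hs
        rw [S.smul, smul_smul, ← one_smul F (ι r), smul_smul, ← add_smul] at he
        exact ⟨_, r, fun h => hne (by rw [he, h, zero_smul]), hr, he⟩
      · exact absurd (he ▸ uCentres_map (hcen u) hgK) (hcon r s hr hs)
    have hpair : ∀ u v, u ≠ 0 → v ∉ Submodule.span F₀ ({u} : Set V₀) → ∀ (a : F) r, g.1.1 (ι u) = a • ι r →
        ∀ (b : F) t, b ≠ 0 → t ≠ 0 → g.1.1 (ι v) = b • ι t → ∃ l : F₀, b = l * a := by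
      intro u v hu hv a r he b t hb ht he'
      have ha : a ≠ 0 := fun h => hu (hinj _ (g.1.1.map_eq_zero_iff.mp (by rw [he, h, zero_smul])))
      have hne : u + v ≠ 0 := fun h => hv (by
        rw [eq_neg_of_add_eq_zero_right h]
        exact Submodule.neg_mem _ (Submodule.mem_span_singleton_self u))
      obtain ⟨d, z, hd, hz, hez⟩ := hpt _ hne
      rw [map_add, map_add, he, he'] at hez
      obtain ⟨p, p', hp⟩ := hdec (a / d)
      obtain ⟨q, q', hq⟩ := hdec (b / d)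
      have hzz : ι z = (a / d) • ι r + (b / d) • ι t := by
        apply smul_right_injective V hd
        simp only [smul_add, smul_smul, mul_div_cancel₀ _ hd]
        exact hez.symm
      rw [hp, hq] at hzz
      obtain ⟨-, h2⟩ := S.indep τ hτ (p • r + q • t - z) (p' • r + q' • t) (by
        simp only [map_sub, map_add, S.smul, hzz]
        module)
      have hind : ∀ a' b' : F₀, a' • r + b' • t = 0 → a' = 0 ∧ b' = 0 := by
        intro a' b' h
        rcases eq_or_ne b' 0 with rfl | hb'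
        · rw [zero_smul, add_zero] at h
          refine ⟨(smul_eq_zero.mp h).resolve_right fun hr0 => ha ?_, rfl⟩
          rw [hr0, map_zero, smul_zero] at he
          exact absurd (hinj _ (g.1.1.map_eq_zero_iff.mp he)) hu
        exfalso
        have ht' : t = (-(a' / b')) • r := by
          apply smul_right_injective V₀ hb'
          simp only [neg_smul, smul_neg, smul_smul, mul_div_cancel₀ _ hb']
          exact eq_neg_of_add_eq_zero_right h
        have hg : g.1.1 (ι v) = g.1.1 ((b * (-(a' / b') : F₀) / a) • ι u) := by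
          rw [he', map_smul, he, smul_smul, div_mul_cancel₀ _ ha, ht', S.smul, smul_smul]
        have hv' := g.1.1.injective hg
        obtain ⟨p₁, p₂, hp₁⟩ := hdec (b * (-(a' / b') : F₀) / a)
        rw [hp₁] at hv'
        obtain ⟨h3, -⟩ := S.indep τ hτ (v - p₁ • u) (-(p₂ • u)) (by
          rw [map_sub, map_neg, S.smul, S.smul, hv']
          module)
        exact hv (Submodule.mem_span_singleton.mpr ⟨p₁, (sub_eq_zero.mp h3).symm⟩)
      obtain ⟨hp', hq'⟩ := hind _ _ h2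
      rw [hp', ZeroMemClass.coe_zero, mul_zero, add_zero] at hp
      rw [hq', ZeroMemClass.coe_zero, mul_zero, add_zero] at hq
      refine ⟨q / p, ?_⟩
      have hp0 : (p : F) ≠ 0 := by rw [← hp]; exact div_ne_zero ha hd
      rw [div_eq_iff hd] at hp hq
      rw [hp, hq]
      push_cast
      field_simp
    obtain ⟨a₀, t₀, ha₀, ht₀, he₀⟩ := hpt r₀ hr₀
    have hout : ∀ v, v ∉ Submodule.span F₀ ({r₀} : Set V₀) → ∃ t, g.1.1 (ι v) = a₀ • ι t := by
      intro v hv
      obtain ⟨b, t, hb, ht, he⟩ := hpt v (fun h => hv (by rw [h]; exact Submodule.zero_mem _))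
      obtain ⟨l, rfl⟩ := hpair r₀ v hr₀ hv a₀ t₀ he₀ b t hb ht he
      exact ⟨l • t, by rw [he, S.smul, smul_smul, mul_comm]⟩
    refine (hM g).mpr ⟨a₀, ha₀, fun u => ?_⟩
    by_cases hu : u ∈ Submodule.span F₀ ({r₀} : Set V₀)
    · obtain ⟨t₁, h₁⟩ := hout s₀ hs₀
      obtain ⟨t₂, h₂⟩ := hout (u + s₀) (fun h => hs₀ ((Submodule.add_mem_iff_right _ hu).mp h))
      refine ⟨t₂ - t₁, ?_⟩
      rw [map_sub, smul_sub, ← h₁, ← h₂, map_add, map_add, add_sub_cancel_right]
    · exact hout u hu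
  -- lift the symplectic group
  let G₀ : Subgroup (BilinIsom B) :=
    { carrier := {p | ∃ k ∈ K, ∀ u, k.1.1 (ι u) = ι ((p : V₀ ≃ₗ[F₀] V₀) u)}
      one_mem' := ⟨1, K.one_mem, fun u => rfl⟩
      mul_mem' := by
        rintro p p' ⟨k, hk, hp⟩ ⟨k', hk', hp'⟩
        exact ⟨k * k', K.mul_mem hk hk', fun u => by
          change k.1.1 (k'.1.1 (ι u)) = _
          rw [hp', hp, BilinIsom.mul_apply']⟩
      inv_mem' := by
        rintro p ⟨k, hk, hp⟩
        refine ⟨k⁻¹, K.inv_mem hk, fun u => k.1.1.injective ?_⟩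
        change k.1.1 ((k.1⁻¹).1 (ι u)) = _
        rw [H.apply_inv_self, hp, BilinIsom.apply_inv_self] }
  have hG₀ : G₀ = ⊤ := by
    rw [eq_top_iff, ← transGroup_eq_top hA hB, transGroup, transGroupOn, Subgroup.closure_le]
    rintro _ ⟨v, -, c, rfl⟩
    have hc : (c : F) * ζ + H.σ ((c : F) * ζ) = 0 := by
      rw [map_mul, S.fixed, ← mul_add, S.skew, mul_zero]
    refine ⟨⟨H.uT (hiso v) hc, H.uT_mem_SIsom (hiso v) hc⟩, (hcen v).2 _ hc, fun u => ?_⟩
    change (H.uT (hiso v) hc).1 (ι u) = _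
    rw [uT_apply, sympT_apply, map_add, S.smul, Subfield.coe_mul, S.form, mul_assoc]
  have hs0 : s ≠ 0 := fun h => hs (h ▸ Submodule.zero_mem _)
  have hrs : B r s = 0 := (hnorm r s).mp (uCentres_iso hxC)
  refine eq_top_of_uCentres (Or.inl hd) fun y hy => ?_
  obtain ⟨r', s', rfl⟩ := S.span τ hτ y
  rcases eq_or_ne r' 0 with rfl | hr'
  · rw [map_zero, zero_add]; exact uCentres_smul (hcen s') τ
  by_cases hs' : s' ∈ Submodule.span F₀ ({r'} : Set V₀)
  · obtain ⟨l, rfl⟩ := Submodule.mem_span_singleton.mp hs'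
    rw [S.smul, smul_smul, ← one_smul F (ι r'), smul_smul, ← add_smul]
    exact uCentres_smul (hcen r') _
  obtain ⟨p, hp⟩ := sympIsom_transitive hA hB hr hr'
  have hps : (p : V₀ ≃ₗ[F₀] V₀) s ∉ Submodule.span F₀ ({r'} : Set V₀) := fun h => hs (by
    obtain ⟨l, hl⟩ := Submodule.mem_span_singleton.mp h
    rw [← hp, ← map_smul] at hl
    exact Submodule.mem_span_singleton.mpr ⟨l, (p : V₀ ≃ₗ[F₀] V₀).injective hl⟩)
  obtain ⟨p', hp1, hp2⟩ := exists_point_map_orth hA hB hr' (q := (p : V₀ ≃ₗ[F₀] V₀) s)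
    (by rw [← hp, BilinIsom.map_form]; exact hrs) ((hnorm r' s').mp hy) hps hs'
  obtain ⟨k, hk, hkp⟩ : p' * p ∈ G₀ := hG₀ ▸ Subgroup.mem_top _
  have := uCentres_map hxC hk
  rw [map_add, map_smul, hkp, hkp, BilinIsom.mul_apply', BilinIsom.mul_apply', hp, hp1, hp2] at this
  exact this

end HermSpace

end Cfsg.Lib.Classical
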