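import Mathlib
import Cfsg.Prelude.Def_GeometricClasses
import Cfsg.Agent.Classical.Unitary.SympSub
import Cfsg.Agent.Classical.Unitary.MaxMatrix

set_option autoImplicit false
set_option linter.unusedVariables false
set_option linter.unusedSimpArgs false
set_option linter.style.haveILetI false

/-! `Sp_n(q)` in `SU_n(q)` through matrices. -/

namespace Cfsg.Lib.Classical

universe u

open Matrix

variable {F : Type u} [Field F] {n : ℕ}

theorem mem_subfieldSubgroup_iff (F₀ : Subfield F) (P g : Matrix.GeneralLinearGroup (Fin n) F) :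
    g ∈ Cfsg.Geo.subfieldSubgroup F₀ P ↔ ∃ a : F, a ≠ 0 ∧ ∀ u : Fin n → F, (∀ i, u i ∈ F₀) →
      ∃ r : Fin n → F, (∀ i, r i ∈ F₀) ∧ g.val *ᵥ (P.val *ᵥ u) = a • (P.val *ᵥ r) := by
  constructor
  · rintro ⟨x, hx, rfl⟩
    obtain ⟨y, ⟨A, rfl⟩, z, hz, rfl⟩ := Subgroup.mem_sup_of_normal_right.mp hx
    obtain ⟨c, hc⟩ := (Cfsg.Geo.mem_scalars_iff _).mp hz
    refine ⟨c, c.ne_zero, fun u hu => ⟨(Matrix.GeneralLinearGroup.map (F₀.subtype : F₀ →+* F) A).val *ᵥ u,
      ?_, ?_⟩⟩
    · intro i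
      change ∑ j, ((A.val i j : F₀) : F) * u j ∈ F₀
      exact F₀.sum_mem fun j _ => F₀.mul_mem (A.val i j).2 (hu j)
    · simp only [MulEquiv.coe_toMonoidHom, MulAut.conj_apply, Units.val_mul, hc, ← Matrix.mulVec_mulVec]
      rw [show (P⁻¹ : Matrix.GeneralLinearGroup (Fin n) F).val *ᵥ (P.val *ᵥ u) = u by
        rw [Matrix.mulVec_mulVec, ← Units.val_mul, inv_mul_cancel, Units.val_one, Matrix.one_mulVec]]
      rw [Matrix.smul_mulVec, Matrix.one_mulVec, Matrix.mulVec_smul, Matrix.mulVec_smul]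
  · rintro ⟨a, ha, hg⟩
    set h := P⁻¹ * g * P with hh
    have hent : ∀ i j, a⁻¹ * h.val i j ∈ F₀ := by
      intro i j
      obtain ⟨r, hr, he⟩ := hg (Pi.single j 1) (fun k => by
        rw [Pi.single_apply]; split_ifs
        · exact F₀.one_mem
        · exact F₀.zero_mem)
      have : h.val *ᵥ Pi.single j 1 = a • r := by
        rw [hh, Units.val_mul, Units.val_mul, ← Matrix.mulVec_mulVec, ← Matrix.mulVec_mulVec, he,
          Matrix.mulVec_smul, Matrix.mulVec_mulVec, ← Units.val_mul, inv_mul_cancel, Units.val_one,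
          Matrix.one_mulVec]
      have e := congrFun this i
      rw [Matrix.mulVec_single_one, Matrix.col_apply, Pi.smul_apply, smul_eq_mul] at e
      rw [e, ← mul_assoc, inv_mul_cancel₀ ha, one_mul]
      exact hr i
    let A₀ : Matrix (Fin n) (Fin n) F₀ := Matrix.of fun i j => ⟨_, hent i j⟩
    have hA : A₀.map (F₀.subtype : F₀ →+* F) = a⁻¹ • h.val := Matrix.ext fun i j => rfl
    have hdet : A₀.det ≠ 0 := fun hd => by
      have e := (F₀.subtype : F₀ →+* F).map_det A₀
      rw [RingHom.mapMatrix_apply, hA, hd, map_zero, Matrix.det_smul] at e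
      exact mul_ne_zero (pow_ne_zero _ (inv_ne_zero ha))
        ((Matrix.isUnit_iff_isUnit_det _).mp h.isUnit).ne_zero e.symm
    refine ⟨h, ?_, ?_⟩
    · rw [SetLike.mem_coe, Subgroup.mem_sup_of_normal_right]
      refine ⟨Matrix.GeneralLinearGroup.map (F₀.subtype : F₀ →+* F)
          (Matrix.GeneralLinearGroup.mkOfDetNeZero A₀ hdet), ⟨_, rfl⟩,
        Units.map (Matrix.scalar (Fin n) : F →+* Matrix (Fin n) (Fin n) F).toMonoidHom (Units.mk0 a ha),
        ⟨_, rfl⟩, Units.ext ?_⟩
      rw [Units.val_mul]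
      change A₀.map (F₀.subtype : F₀ →+* F) * Matrix.scalar (Fin n) a = h.val
      rw [hA, Matrix.scalar_apply, ← Matrix.smul_one_eq_diagonal, Matrix.mul_smul, Matrix.mul_one, smul_smul,
        mul_inv_cancel₀ ha, one_smul]
    · change P * (P⁻¹ * g * P) * P⁻¹ = g
      group

variable [Fintype F] {q : ℕ}

theorem isMaximalIn_sympSubfield (hF : Fintype.card F = q ^ 2) (hn : 4 ≤ n) (F₀ : Subfield F)
    (hcard : Fintype.card F = Nat.card F₀ ^ 2) (ζ : F) (hζ0 : ζ ≠ 0) (hζ : ζ + ζ ^ q = 0)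
    (P : Matrix.GeneralLinearGroup (Fin n) F)
    (hP : Cfsg.Geo.IsFormRationalStructure (Cfsg.hermForm n F q) F₀ ζ P)
    (halt : ∀ u : Fin n → F, (∀ i, u i ∈ F₀) → Cfsg.hermForm n F q (P.val *ᵥ u) (P.val *ᵥ u) = 0) :
    Cfsg.Geo.IsMaximalIn (Cfsg.GU n F q ⊓ Cfsg.Geo.specialLinear (Fin n) F)
      (Cfsg.Geo.subfieldSubgroup F₀ P ⊓ (Cfsg.GU n F q ⊓ Cfsg.Geo.specialLinear (Fin n) F)) := by
  classical
  refine isMaximalIn_of_isCoatom_comap (sunitToGL hF) (range_sunitToGL hF) ?_
  set H := stdHerm n hF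
  have hq : Nat.card F₀ = q := Nat.pow_left_injective (by norm_num) (hcard.symm.trans hF)
  haveI : Finite F₀ := Finite.of_injective _ Subtype.val_injective
  haveI : Fintype F₀ := Fintype.ofFinite _
  have hfix : ∀ a : F₀, H.σ (a : F) = a := fun a => by
    change powConj hF (a : F) = a
    have := FiniteField.pow_card a
    rw [← Nat.card_eq_fintype_card, hq] at this
    rw [powConj_apply, ← SubmonoidClass.coe_pow, this]
  obtain ⟨τ, hτσ⟩ := H.conj.ne_id
  have hτ : τ ∉ F₀ := fun h => hτσ (hfix ⟨τ, h⟩)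
  have hdec2 : Function.Bijective fun x : F₀ × F₀ => (x.1 : F) + τ * x.2 := by
    rw [Nat.bijective_iff_injective_and_card, Nat.card_prod, ← sq, ← hcard, Nat.card_eq_fintype_card]
    refine ⟨fun x y e => ?_, rfl⟩
    simp only at e
    by_cases h : x.2 = y.2
    · rw [h, add_left_inj, Subtype.coe_inj] at e
      exact Prod.ext e h
    · exfalso
      have hne : ((x.2 : F) - y.2) ≠ 0 := fun h' => h (Subtype.ext (sub_eq_zero.mp h'))
      have : τ = (((y.1 - x.1) / (x.2 - y.2) : F₀) : F) := by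
        push_cast
        rw [eq_div_iff hne]
        linear_combination e
      exact hτ (this ▸ SetLike.coe_mem _)
  let ι : (Fin n → F₀) →+ (Fin n → F) :=
    { toFun := fun u => P.val *ᵥ fun i => (u i : F)
      map_zero' := Matrix.mulVec_zero _
      map_add' := fun u v => Matrix.mulVec_add _ _ _ }
  have hιs : ∀ (a : F₀) (u : Fin n → F₀), ι (a • u) = (a : F) • ι u := fun a u =>
    Matrix.mulVec_smul P.val (a : F) fun i => (u i : F)
  have hmem : ∀ u v, ζ * H.h (ι u) (ι v) ∈ F₀ := fun u v => by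
    rw [stdHerm_h]; exact hP _ _ (fun i => (u i).2) (fun i => (v i).2)
  let B : LinearMap.BilinForm F₀ (Fin n → F₀) := LinearMap.mk₂ F₀ (fun u v => ⟨_, hmem u v⟩)
    (fun u u' v => Subtype.ext (by
      change ζ * H.h (ι (u + u')) (ι v) = ζ * H.h (ι u) (ι v) + ζ * H.h (ι u') (ι v)
      rw [map_add, H.add_left, mul_add]))
    (fun a u v => Subtype.ext (by
      change ζ * H.h (ι (a • u)) (ι v) = (a : F) * (ζ * H.h (ι u) (ι v))
      rw [hιs, H.smul_left]; ring))
    (fun u v v' => Subtype.ext (by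
      change ζ * H.h (ι u) (ι (v + v')) = ζ * H.h (ι u) (ι v) + ζ * H.h (ι u) (ι v')
      rw [map_add, H.add_right, mul_add]))
    (fun a u v => Subtype.ext (by
      change ζ * H.h (ι u) (ι (a • v)) = (a : F) * (ζ * H.h (ι u) (ι v))
      rw [hιs, H.smul_right, hfix]; ring))
  have hspan : ∀ τ' : F, τ' ∉ F₀ → ∀ x, ∃ r s, x = ι r + τ' • ι s := by
    intro τ' hτ' x
    obtain ⟨⟨p, p'⟩, hp⟩ := hdec2.2 τ'
    have hp' : (p' : F) ≠ 0 := fun h => hτ' (by rw [← hp]; simp [h])
    choose c hc using fun i => hdec2.2 (((P⁻¹ : Matrix.GeneralLinearGroup (Fin n) F).val *ᵥ x) i)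
    refine ⟨fun i => (c i).1 - (c i).2 * p / p', fun i => (c i).2 / p', ?_⟩
    change _ = P.val *ᵥ _ + τ' • P.val *ᵥ _
    rw [← Matrix.mulVec_smul, ← Matrix.mulVec_add]
    conv_lhs => rw [← Matrix.one_mulVec x, ← Units.val_one, ← mul_inv_cancel P, Units.val_mul,
      ← Matrix.mulVec_mulVec]
    congr 1
    funext i
    rw [← hc i, ← hp]
    simp only [Pi.add_apply, Pi.smul_apply, smul_eq_mul]
    push_cast
    field_simp
    ring
  have hB : B.Nondegenerate := by
    have hsep : ∀ u, (∀ v, B u v = 0) → u = 0 := by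
      intro u hu
      have hz : ι u = 0 := H.nondeg _ fun x => H.eq_zero_symm (by
        obtain ⟨r, s, rfl⟩ := hspan τ hτ x
        have h1 := congrArg Subtype.val (hu r)
        have h2 := congrArg Subtype.val (hu s)
        change ζ * H.h (ι u) (ι r) = 0 at h1
        change ζ * H.h (ι u) (ι s) = 0 at h2
        rw [H.add_right, H.smul_right, (mul_eq_zero.mp h1).resolve_left hζ0,
          (mul_eq_zero.mp h2).resolve_left hζ0, mul_zero, add_zero])
      have := congrArg ((P⁻¹ : Matrix.GeneralLinearGroup (Fin n) F).val *ᵥ ·) hz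
      simp only [ι, AddMonoidHom.coe_mk, ZeroHom.coe_mk, Matrix.mulVec_mulVec, ← Units.val_mul,
        inv_mul_cancel, Units.val_one, Matrix.one_mulVec, Matrix.mulVec_zero] at this
      funext i
      exact Subtype.ext (congrFun this i)
    have hA' : B.IsAlt := fun u => Subtype.ext (by
      change ζ * H.h (ι u) (ι u) = 0
      rw [stdHerm_h]; exact mul_eq_zero_of_right _ (halt _ fun i => (u i).2))
    exact (LinearMap.IsRefl.nondegenerate_iff_separatingLeft hA'.isRefl).mpr hsep
  refine H.isCoatom_of_sympStructure (F₀ := F₀) (ι := ι) (ζ := ζ) (B := B)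
    { smul := hιs
      fixed := hfix
      skew := by change ζ + powConj hF ζ = 0; rw [powConj_apply]; exact hζ
      ne_zero := hζ0
      form := fun u v => rfl
      alt := fun u => Subtype.ext (by
        change ζ * H.h (ι u) (ι u) = 0
        rw [stdHerm_h]; exact mul_eq_zero_of_right _ (halt _ fun i => (u i).2))
      nondeg := hB
      span := hspan
      indep := fun τ' hτ' r s h => by
        have h' := congrArg ((P⁻¹ : Matrix.GeneralLinearGroup (Fin n) F).val *ᵥ ·) h
        simp only [ι, AddMonoidHom.coe_mk, ZeroHom.coe_mk, Matrix.mulVec_add, Matrix.mulVec_smul,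
          Matrix.mulVec_mulVec, ← Units.val_mul, inv_mul_cancel, Units.val_one, Matrix.one_mulVec,
          Matrix.mulVec_zero] at h'
        have key : ∀ i, r i = 0 ∧ s i = 0 := fun i => by
          have e := congrFun h' i
          simp only [Pi.add_apply, Pi.smul_apply, smul_eq_mul, Pi.zero_apply] at e
          rcases eq_or_ne (s i) 0 with hs | hs
          · exact ⟨Subtype.ext (by simpa [hs] using e), hs⟩
          · exfalso
            refine hτ' ?_
            have : τ' = ((-(r i) / s i : F₀) : F) := by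
              push_cast
              rw [eq_div_iff (by exact fun h0 => hs (Subtype.ext h0))]
              linear_combination e
            exact this ▸ SetLike.coe_mem _
        exact ⟨funext fun i => (key i).1, funext fun i => (key i).2⟩ }
    (by rw [Module.finrank_fin_fun]; exact hn) (by rw [Module.finrank_fin_fun]; omega) hτ hτσ
    (fun a => by obtain ⟨⟨p, p'⟩, h⟩ := hdec2.2 a; exact ⟨p, p', h.symm⟩) ?_ ?_
  · intro u c hc hu
    rw [Subgroup.mem_comap, mem_subfieldSubgroup_iff]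
    refine ⟨1, one_ne_zero, fun w hw => ?_⟩
    have hwe : P.val *ᵥ w = ι fun i => ⟨w i, hw i⟩ := rfl
    obtain ⟨δ, hδ⟩ : ∃ δ : F₀, (δ : F) = c / ζ := by
      obtain ⟨⟨p, p'⟩, hp⟩ := hdec2.2 (c / ζ)
      refine ⟨p, ?_⟩
      have hσ : H.σ (c / ζ) = c / ζ := by
        have h2 : ζ + H.σ ζ = 0 := by change ζ + powConj hF ζ = 0; rw [powConj_apply]; exact hζ
        rw [map_div₀, eq_neg_of_add_eq_zero_right hc, eq_neg_of_add_eq_zero_right h2, neg_div_neg_eq]
      rw [← hp] at hσ ⊢
      simp only [map_add, map_mul, hfix, add_right_inj] at hσ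
      rcases mul_eq_mul_right_iff.mp hσ with h | h
      · exact absurd h hτσ
      · simp [h]
    refine ⟨fun i => ((fun i => (⟨w i, hw i⟩ : F₀)) i + δ * B (fun i => ⟨w i, hw i⟩) u * u i : F₀),
      fun i => SetLike.coe_mem _, ?_⟩
    rw [sunitToGL_mulVec, one_smul, hwe]
    change (H.uT hu hc).1 _ = ι ((fun i => (⟨w i, hw i⟩ : F₀)) + (δ * B (fun i => ⟨w i, hw i⟩) u) • u)
    rw [HermSpace.uT_apply, map_add, hιs]
    congr 2
    change _ = (δ : F) * (ζ * H.h _ _)
    rw [hδ, ← mul_assoc, div_mul_cancel₀ _ hζ0]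
  · intro g
    rw [Subgroup.mem_comap, mem_subfieldSubgroup_iff]
    refine exists_congr fun a => and_congr_right fun _ => ⟨fun h u => ?_, fun h u hu => ?_⟩
    · obtain ⟨r, hr, he⟩ := h _ fun i => (u i).2
      rw [sunitToGL_mulVec] at he
      exact ⟨fun i => ⟨r i, hr i⟩, he⟩
    · obtain ⟨r, hr⟩ := h fun i => ⟨u i, hu i⟩
      exact ⟨fun i => (r i : F), fun i => (r i).2, by rw [sunitToGL_mulVec]; exact hr⟩

end Cfsg.Lib.Classical
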