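import Mathlib
import Cfsg.Agent.Classical.Unitary.Maximal

set_option autoImplicit false
set_option linter.unusedVariables false
set_option linter.unusedSimpArgs false
set_option linter.unusedSectionVars false
set_option linter.style.haveILetI false

/-! Orthonormal frames in Hermitian spaces: coordinates, phases, permutations, counting on the norm circle. -/

namespace Cfsg.Lib.Classical

universe u v w

namespace HermSpace

variable {F : Type u} [Field F] {V : Type v} [AddCommGroup V] [Module F V] (H : HermSpace F V)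

theorem circle_ne_zero {a : F} (ha : a * H.σ a = 1) : a ≠ 0 :=
  fun h => zero_ne_one (by rw [← ha, h, zero_mul])

theorem circle_conj {a : F} (ha : a * H.σ a = 1) : H.σ a * H.σ (H.σ a) = 1 := by
  rw [H.conj.invol, mul_comm]; exact ha

theorem circle_mul {a c : F} (ha : a * H.σ a = 1) (hc : c * H.σ c = 1) : a * c * H.σ (a * c) = 1 := by
  rw [map_mul]; linear_combination (c * H.σ c) * ha + hc

theorem circle_inv {a : F} (ha : a * H.σ a = 1) : H.σ a = a⁻¹ := eq_inv_of_mul_eq_one_right ha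

theorem circle_pow {a : F} (ha : a * H.σ a = 1) (m : ℕ) : a ^ m * H.σ (a ^ m) = 1 := by
  rw [map_pow, ← mul_pow, ha, one_pow]

theorem circle_neg_one : (-1 : F) * H.σ (-1) = 1 := by rw [map_neg, map_one]; ring

theorem circle_one : (1 : F) * H.σ 1 = 1 := by rw [map_one, mul_one]

theorem circle_neg {a : F} (ha : a * H.σ a = 1) : -a * H.σ (-a) = 1 := by
  rw [map_neg, neg_mul_neg, ha]

/-- The quasi-reflection with eigenvalue `a` on `v`. -/
noncomputable def qr {v : V} (hv : H.h v v = 1) {a : F} (ha : a * H.σ a = 1) : H.Isom :=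
  H.qrefl hv ⟨Units.mk0 a (H.circle_ne_zero ha), MonoidHom.mem_ker.mpr (Units.ext ha)⟩

theorem qr_apply {v : V} (hv : H.h v v = 1) {a : F} (ha : a * H.σ a = 1) (x : V) :
    (H.qr hv ha).1 x = x + ((a - 1) * H.h x v) • v := H.qrefl_apply hv _ x

theorem det_qr [FiniteDimensional F V] {v : V} (hv : H.h v v = 1) {a : F} (ha : a * H.σ a = 1) :
    (H.detHom (H.qr hv ha) : F) = a := by rw [qr, H.det_qrefl]; rfl

theorem qr_conj (g : H.Isom) {v : V} (hv : H.h v v = 1) {a : F} (ha : a * H.σ a = 1) :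
    g * H.qr hv ha * g⁻¹ = H.qr (v := g.1 v) (by rw [H.map_form, hv]) ha := H.qrefl_conj g hv _

theorem qr_smul {v : V} (hv : H.h v v = 1) {e : F} (he : e * H.σ e = 1) (hv' : H.h (e • v) (e • v) = 1)
    {a : F} (ha : a * H.σ a = 1) : H.qr hv' ha = H.qr hv ha :=
  H.isom_ext fun x => by
    rw [qr_apply, qr_apply, H.smul_right, smul_smul]
    congr 2
    linear_combination ((a - 1) * H.h x v) * he

theorem qr_congr {v v' : V} (h : v = v') (hv : H.h v v = 1) (hv' : H.h v' v' = 1) {a a' : F}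
    (ha : a * H.σ a = 1) (ha' : a' * H.σ a' = 1) (e : a = a') : H.qr hv ha = H.qr hv' ha' := by
  subst h; subst e; rfl

/-- The pair of quasi-reflections with inverse eigenvalues. -/
noncomputable def qp [FiniteDimensional F V] {u v : V} (hu : H.h u u = 1) (hv : H.h v v = 1) {a : F}
    (ha : a * H.σ a = 1) : H.SIsom :=
  ⟨H.qr hu ha * H.qr hv (H.circle_conj ha), by
    rw [SIsom, MonoidHom.mem_ker, map_mul]
    apply Units.ext
    rw [Units.val_mul, det_qr, det_qr, ha, Units.val_one]⟩

theorem qp_apply [FiniteDimensional F V] {u v : V} (hu : H.h u u = 1) (hv : H.h v v = 1) (huv : H.h u v = 0)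
    {a : F} (ha : a * H.σ a = 1) (x : V) :
    (H.qp hu hv ha).1.1 x = x + ((a - 1) * H.h x u) • u + ((H.σ a - 1) * H.h x v) • v := by
  change (H.qr hu ha * H.qr hv (H.circle_conj ha)).1 x = _
  rw [mul_apply', qr_apply, qr_apply, H.add_left, H.smul_left, H.eq_zero_symm huv, mul_zero, add_zero]
  module

theorem qp_conj [FiniteDimensional F V] (g : H.SIsom) {u v : V} (hu : H.h u u = 1) (hv : H.h v v = 1) {a : F}
    (ha : a * H.σ a = 1) : g * H.qp hu hv ha * g⁻¹ =
      H.qp (u := g.1.1 u) (v := g.1.1 v) (by rw [H.map_form, hu]) (by rw [H.map_form, hv]) ha := by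
  apply Subtype.ext
  change g.1 * (H.qr hu ha * H.qr hv (H.circle_conj ha)) * g.1⁻¹ = H.qr _ ha * H.qr _ _
  rw [← H.qr_conj g.1 hu ha, ← H.qr_conj g.1 hv (H.circle_conj ha)]
  group

theorem sisom_apply_inv (g : H.SIsom) (x : V) : g.1.1 ((g⁻¹).1.1 x) = x := H.apply_inv_self g.1 x

theorem sisom_inv_apply (g : H.SIsom) (x : V) : (g⁻¹).1.1 (g.1.1 x) = x := H.inv_apply_self g.1 x

theorem sisom_mul_apply (g k : H.SIsom) (x : V) : (g * k).1.1 x = g.1.1 (k.1.1 x) := rfl

theorem uT_add {v : V} (hv : H.h v v = 0) {c d : F} (hc : c + H.σ c = 0) (hd : d + H.σ d = 0)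
    (hcd : (c + d) + H.σ (c + d) = 0) : H.uT hv hcd = H.uT hv hc * H.uT hv hd :=
  H.isom_ext fun x => by
    rw [mul_apply', uT_apply, uT_apply, uT_apply, H.add_left, H.smul_left, hv]
    module

section Count

variable [Fintype F] [DecidableEq F]

/-- The norm one elements. -/
def circle : Finset F := Finset.univ.filter fun a => a * H.σ a = 1

/-- The fixed elements. -/
def fixF : Finset F := Finset.univ.filter fun a => H.σ a = a

theorem mem_circle {a : F} : a ∈ H.circle ↔ a * H.σ a = 1 := by simp [circle]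

theorem mem_fixF {a : F} : a ∈ H.fixF ↔ H.σ a = a := by simp [fixF]

theorem card_circle : H.circle.card = H.q + 1 := by
  have h := H.conj.card_norm_fiber (a := 1) (map_one _) one_ne_zero
  rw [Nat.card_eq_fintype_card, Fintype.card_subtype] at h
  exact h

theorem card_fixF : H.fixF.card = H.q := by
  rw [q, fixF, ← Fintype.card_subtype, ← Nat.card_eq_fintype_card]
  rfl

theorem exists_circle_notMem {S : Finset F} (hS : S.card ≤ H.q) : ∃ a, a * H.σ a = 1 ∧ a ∉ S := by
  obtain ⟨a, ha, haS⟩ : ∃ a ∈ H.circle, a ∉ S :=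
    Finset.not_subset.mp fun h => by
      have := Finset.card_le_card h
      rw [H.card_circle] at this
      omega
  exact ⟨a, H.mem_circle.mp ha, haS⟩

theorem exists_circle_gen : ∃ a : F, a * H.σ a = 1 ∧ ∀ m, 0 < m → m ≤ H.q → a ^ m ≠ 1 := by
  haveI : IsCyclic (normUnits H.σ).ker := Subgroup.isCyclic _
  obtain ⟨z, hz⟩ := IsCyclic.exists_generator (α := (normUnits H.σ).ker)
  refine ⟨(z.1 : F), congrArg Units.val (MonoidHom.mem_ker.mp z.2), fun m hm hmq h => ?_⟩
  have hord : orderOf z = H.q + 1 := by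
    rw [orderOf_eq_card_of_forall_mem_zpowers hz, H.conj.card_norm_ker]; rfl
  have := Nat.le_of_dvd hm (orderOf_dvd_of_pow_eq_one (x := z) (n := m) (Subtype.ext (Units.ext (by simpa using h))))
  omega

/-- The values `θ a + σ (θ a)` on the circle. -/
def trImg (θ : F) : Finset F := H.circle.image fun a => θ * a + H.σ (θ * a)

theorem trImg_subset (θ : F) : H.trImg θ ⊆ H.fixF := by
  intro x hx
  obtain ⟨a, -, rfl⟩ := Finset.mem_image.mp hx
  exact H.mem_fixF.mpr (H.conj.trace_mem _)

theorem mem_trImg {θ x : F} : x ∈ H.trImg θ ↔ ∃ a, a * H.σ a = 1 ∧ θ * a + H.σ (θ * a) = x := by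
  simp [trImg, mem_circle]

theorem tr_eq_imp {θ a c : F} (hθ : θ ≠ 0) (ha : a * H.σ a = 1) (hc : c * H.σ c = 1)
    (h : θ * a + H.σ (θ * a) = θ * c + H.σ (θ * c)) : a = c ∨ θ * (a * c) = H.σ θ := by
  rw [map_mul, map_mul] at h
  have : (a - c) * (θ * (a * c) - H.σ θ) = 0 := by
    linear_combination (a * c) * h - H.σ θ * c * ha + H.σ θ * a * hc
  rcases mul_eq_zero.mp this with h | h
  · exact Or.inl (sub_eq_zero.mp h)
  · exact Or.inr (sub_eq_zero.mp h)

theorem card_fibre_tr {θ : F} (hθ : θ ≠ 0) (x : F) :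
    (H.circle.filter fun a => θ * a + H.σ (θ * a) = x).card ≤ 2 := by
  by_contra hlt
  obtain ⟨a, b, c, ha, hb, hc, hab, hac, hbc⟩ := Finset.two_lt_card_iff.mp (not_le.mp hlt)
  simp only [Finset.mem_filter, mem_circle] at ha hb hc
  have h1 := (H.tr_eq_imp hθ ha.1 hb.1 (ha.2.trans hb.2.symm)).resolve_left hab
  have h2 := (H.tr_eq_imp hθ ha.1 hc.1 (ha.2.trans hc.2.symm)).resolve_left hac
  exact hbc (mul_left_cancel₀ (H.circle_ne_zero ha.1) (mul_left_cancel₀ hθ (h1.trans h2.symm)))

theorem card_trImg {θ : F} (hθ : θ ≠ 0) : H.q + 1 ≤ 2 * (H.trImg θ).card := by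
  rw [← H.card_circle]
  exact Finset.card_le_mul_card_image _ 2 fun x _ => H.card_fibre_tr hθ x

theorem card_trImg_one : H.q + 2 ≤ 2 * (H.trImg (1 : F)).card := by
  have h1 : (1 : F) ∈ H.circle := H.mem_circle.mpr H.circle_one
  set S := (H.circle.erase 1).image fun a => (1 : F) * a + H.σ (1 * a) with hS
  have hle : (H.circle.erase 1).card ≤ 2 * S.card :=
    Finset.card_le_mul_card_image _ 2 fun x _ => le_trans
      (Finset.card_le_card fun a ha => by
        simp only [Finset.mem_filter, Finset.mem_erase] at ha ⊢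
        exact ⟨ha.1.2, ha.2⟩)
      (H.card_fibre_tr one_ne_zero x)
  have hnot : ((1 : F) * 1 + H.σ (1 * 1)) ∉ S := by
    rw [hS, Finset.mem_image]
    rintro ⟨a, ha, hae⟩
    rw [Finset.mem_erase, mem_circle] at ha
    rcases H.tr_eq_imp one_ne_zero ha.2 H.circle_one hae with h | h
    · exact ha.1 h
    · exact ha.1 (by simpa using h)
  have hsub : insert ((1 : F) * 1 + H.σ (1 * 1)) S ⊆ H.trImg (1 : F) := by
    refine Finset.insert_subset (Finset.mem_image_of_mem _ h1) ?_
    exact Finset.image_subset_image (Finset.erase_subset _ _)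
  have := Finset.card_le_card hsub
  rw [Finset.card_insert_of_notMem hnot] at this
  rw [Finset.card_erase_of_mem h1, H.card_circle] at hle
  omega

/-- Two large subsets of the fixed field share a value different from a given one. -/
theorem exists_common {A B : Finset F} (hA : A ⊆ H.fixF) (hB : B ⊆ H.fixF)
    (h : H.q + 2 ≤ A.card + B.card) (v₀ : F) : ∃ v, v ∈ A ∧ v ∈ B ∧ v ≠ v₀ := by
  by_contra hc
  push Not at hc
  have h1 : (A ∩ B).card ≤ 1 := Finset.card_le_one.mpr fun x hx y hy => by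
    rw [Finset.mem_inter] at hx hy
    rw [hc x hx.1 hx.2, hc y hy.1 hy.2]
  have h2 := Finset.card_union_add_card_inter A B
  have h3 := Finset.card_le_card (Finset.union_subset hA hB)
  rw [H.card_fixF] at h3
  omega

end Count

end HermSpace

/-- An orthonormal basis of a Hermitian space. -/
structure UFrame {F : Type u} [Field F] {V : Type v} [AddCommGroup V] [Module F V] (H : HermSpace F V)
    (ι : Type w) [DecidableEq ι] where
  b : Module.Basis ι F V
  hb : ∀ i j, H.h (b i) (b j) = if i = j then 1 else 0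

namespace UFrame

variable {F : Type u} [Field F] {V : Type v} [AddCommGroup V] [Module F V] {H : HermSpace F V}
  {ι : Type w} [DecidableEq ι] (B : UFrame H ι)

/-- The coordinates. -/
noncomputable def co (x : V) (i : ι) : F := H.h x (B.b i)

theorem b_self (i : ι) : H.h (B.b i) (B.b i) = 1 := by simp [B.hb]

theorem b_ne {i j : ι} (h : i ≠ j) : H.h (B.b i) (B.b j) = 0 := by simp [B.hb, h]

theorem co_add (x y : V) (i : ι) : B.co (x + y) i = B.co x i + B.co y i := H.add_left _ _ _

theorem co_sub (x y : V) (i : ι) : B.co (x - y) i = B.co x i - B.co y i := H.sub_left _ _ _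

theorem co_smul (c : F) (x : V) (i : ι) : B.co (c • x) i = c * B.co x i := H.smul_left _ _ _

theorem co_zero (i : ι) : B.co 0 i = 0 := H.zero_left _

theorem co_b (i j : ι) : B.co (B.b i) j = if i = j then 1 else 0 := B.hb i j

variable [Fintype ι]

theorem co_repr (x : V) (i : ι) : B.co x i = B.b.repr x i := by
  rw [co, H.h_eq_sum B.b B.hb]
  simp [Finsupp.single_apply, apply_ite H.σ]

theorem sum_co (x : V) : ∑ i, B.co x i • B.b i = x := by
  simp only [co_repr]; exact B.b.sum_repr x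

theorem ext_co {x y : V} (h : ∀ i, B.co x i = B.co y i) : x = y := by
  rw [← B.sum_co x, ← B.sum_co y]; simp only [h]

theorem h_co (x y : V) : H.h x y = ∑ i, B.co x i * H.σ (B.co y i) := by
  simp only [co_repr]; exact H.h_eq_sum B.b B.hb x y

/-- The norm of a coordinate. -/
noncomputable def nm (x : V) (i : ι) : F := B.co x i * H.σ (B.co x i)

theorem nm_fixed (x : V) (i : ι) : H.σ (B.nm x i) = B.nm x i := H.conj.norm_mem _

theorem nm_eq_zero {x : V} {i : ι} : B.nm x i = 0 ↔ B.co x i = 0 := by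
  simp [nm, H.conj.eq_zero]

theorem h_self_nm (x : V) : H.h x x = ∑ i, B.nm x i := B.h_co x x

variable [DecidableEq F]

/-- The support. -/
noncomputable def supp (x : V) : Finset ι := Finset.univ.filter fun i => B.co x i ≠ 0

theorem mem_supp {x : V} {i : ι} : i ∈ B.supp x ↔ B.co x i ≠ 0 := by simp [supp]

theorem notMem_supp {x : V} {i : ι} : i ∉ B.supp x ↔ B.co x i = 0 := by simp [supp]

theorem supp_b (i : ι) : B.supp (B.b i) = {i} := by
  ext j; simp [mem_supp, co_b, eq_comm]

theorem supp_smul_subset (c : F) (x : V) : B.supp (c • x) ⊆ B.supp x := fun i hi => by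
  rw [mem_supp, co_smul] at hi
  exact B.mem_supp.mpr (right_ne_zero_of_mul hi)

theorem supp_smul {c : F} (hc : c ≠ 0) (x : V) : B.supp (c • x) = B.supp x := by
  ext i; simp [mem_supp, co_smul, hc]

theorem supp_add_subset (x y : V) : B.supp (x + y) ⊆ B.supp x ∪ B.supp y := fun i hi => by
  by_contra hc
  rw [Finset.mem_union, not_or, notMem_supp, notMem_supp] at hc
  exact B.mem_supp.mp hi (by rw [co_add, hc.1, hc.2, add_zero])

theorem supp_sub_subset (x y : V) : B.supp (x - y) ⊆ B.supp x ∪ B.supp y := fun i hi => by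
  by_contra hc
  rw [Finset.mem_union, not_or, notMem_supp, notMem_supp] at hc
  exact B.mem_supp.mp hi (by rw [co_sub, hc.1, hc.2, sub_zero])

theorem supp_eq_empty {x : V} : B.supp x = ∅ ↔ x = 0 := by
  constructor
  · intro h
    exact B.ext_co fun i => by rw [co_zero]; exact B.notMem_supp.mp (by simp [h])
  · rintro rfl; ext i; simp [mem_supp, co_zero]

theorem eq_sum_supp {x : V} {T : Finset ι} (h : B.supp x ⊆ T) : x = ∑ i ∈ T, B.co x i • B.b i := by
  conv_lhs => rw [← B.sum_co x]
  refine (Finset.sum_subset (Finset.subset_univ T) fun i _ hi => ?_).symm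
  rw [B.notMem_supp.mp fun hh => hi (h hh), zero_smul]

theorem mem_span_of_supp {x : V} {T : Finset ι} (h : B.supp x ⊆ T) :
    x ∈ Submodule.span F (B.b '' (T : Set ι)) := by
  rw [B.eq_sum_supp h]
  exact Submodule.sum_mem _ fun i hi => Submodule.smul_mem _ _ (Submodule.subset_span ⟨i, hi, rfl⟩)

theorem exists_two_notMem {x : V} (h : (B.supp x).card + 2 ≤ Fintype.card ι) :
    ∃ p r, p ≠ r ∧ B.co x p = 0 ∧ B.co x r = 0 := by
  have hc : 1 < (B.supp x)ᶜ.card := by rw [Finset.card_compl]; omega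
  obtain ⟨p, hp, r, hr, hne⟩ := Finset.one_lt_card.mp hc
  exact ⟨p, r, hne, B.notMem_supp.mp (Finset.mem_compl.mp hp), B.notMem_supp.mp (Finset.mem_compl.mp hr)⟩

theorem card_le_of_indep {κ : Type*} [Fintype κ] {w : κ → V} (hw : LinearIndependent F w) {T : Finset ι}
    (hT : ∀ a, B.supp (w a) ⊆ T) : Fintype.card κ ≤ T.card := by
  classical
  haveI : FiniteDimensional F V := B.b.finiteDimensional_of_finite
  have h1 := finrank_span_eq_card hw
  have h2 : Submodule.span F (Set.range w) ≤ Submodule.span F ((T.image B.b : Finset V) : Set V) := by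
    rw [Submodule.span_le]
    rintro _ ⟨a, rfl⟩
    rw [Finset.coe_image]
    exact B.mem_span_of_supp (hT a)
  have h3 := Submodule.finrank_mono h2
  have h4 := finrank_span_finset_le_card (R := F) (T.image B.b)
  have h5 : (T.image B.b).card ≤ T.card := Finset.card_image_le
  rw [h1] at h3
  unfold Set.finrank at h4
  omega

theorem card_le_of_orth {κ : Type*} [Fintype κ] {w : κ → V} (h0 : ∀ a, H.h (w a) (w a) ≠ 0)
    (ho : ∀ a c, a ≠ c → H.h (w a) (w c) = 0) {T : Finset ι} (hT : ∀ a, B.supp (w a) ⊆ T) :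
    Fintype.card κ ≤ T.card := by
  refine B.card_le_of_indep (Fintype.linearIndependent_iff.mpr fun g hg a => ?_) hT
  have h := congrArg (fun x => H.h x (w a)) hg
  simp only [H.sum_left, H.smul_left, H.zero_left] at h
  rw [Finset.sum_eq_single a (fun c _ hc => by rw [ho c a hc, mul_zero])
    (fun hh => absurd (Finset.mem_univ a) hh)] at h
  exact (mul_eq_zero.mp h).resolve_right (h0 a)

theorem co_row (g : H.SIsom) (j p : ι) : B.co (g.1.1 (B.b j)) p = H.σ (B.co ((g⁻¹).1.1 (B.b p)) j) := by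
  rw [co, co, ← H.symm, ← H.map_form g.1 (B.b j) ((g⁻¹).1.1 (B.b p)), H.sisom_apply_inv]

theorem co_qr (i : ι) {a : F} (ha : a * H.σ a = 1) (x : V) (l : ι) :
    B.co ((H.qr (B.b_self i) ha).1 x) l = if l = i then a * B.co x i else B.co x l := by
  rw [H.qr_apply, co_add, co_smul, co_b]
  by_cases h : l = i
  · subst h; rw [if_pos rfl, if_pos rfl]; simp only [co]; ring
  · rw [if_neg (Ne.symm h), if_neg h]; ring

/-- Phase `a` at `i` and `σ a` at `e`. -/
noncomputable def ph [FiniteDimensional F V] (i e : ι) {a : F} (ha : a * H.σ a = 1) : H.SIsom :=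
  H.qp (B.b_self i) (B.b_self e) ha

theorem co_ph [FiniteDimensional F V] {i e : ι} (hie : i ≠ e) {a : F} (ha : a * H.σ a = 1) (x : V) (l : ι) :
    B.co ((B.ph i e ha).1.1 x) l =
      if l = i then a * B.co x i else if l = e then H.σ a * B.co x e else B.co x l := by
  change B.co ((H.qr (B.b_self i) ha * H.qr (B.b_self e) (H.circle_conj ha)).1 x) l = _
  rw [H.mul_apply', co_qr, co_qr, co_qr]
  by_cases h : l = i
  · subst h; simp [hie]
  · simp [h]

theorem nm_ph [FiniteDimensional F V] {i e : ι} (hie : i ≠ e) {a : F} (ha : a * H.σ a = 1) (x : V) (l : ι) :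
    B.nm ((B.ph i e ha).1.1 x) l = B.nm x l := by
  rw [nm, nm, B.co_ph hie]
  split_ifs with h1 h2
  · subst h1; rw [map_mul]; linear_combination (B.co x l * H.σ (B.co x l)) * ha
  · subst h2; rw [map_mul, H.conj.invol]; linear_combination (B.co x l * H.σ (B.co x l)) * ha
  · rfl

/-- `g` maps basis vectors to multiples of basis vectors. -/
def Mono1 (g : H.Isom) : Prop := ∀ i, (B.supp (g.1 (B.b i))).card ≤ 1

/-- `g` maps blocks into blocks. -/
def Mono {β : Type*} (blk : ι → β) (g : H.Isom) : Prop :=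
  ∀ i j a c, blk i = blk j → B.co (g.1 (B.b i)) a ≠ 0 → B.co (g.1 (B.b j)) c ≠ 0 → blk a = blk c

theorem mono_of_mono1_local {β : Type*} (blk : ι → β) {g : H.Isom}
    (h : ∀ i a, B.co (g.1 (B.b i)) a ≠ 0 → blk a = blk i) : B.Mono blk g :=
  fun i j a c hij ha hc => by rw [h i a ha, h j c hc, hij]

theorem mono_of_mono1 {β : Type*} {blk : ι → β} (hblk : Function.Injective blk) {g : H.Isom}
    (h : B.Mono1 g) : B.Mono blk g := fun i j a c hij ha hc => by
  obtain rfl := hblk hij
  rw [Finset.card_le_one.mp (h i) a (B.mem_supp.mpr ha) c (B.mem_supp.mpr hc)]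

theorem mono1_of_mono {β : Type*} {blk : ι → β} (hblk : Function.Injective blk) {g : H.Isom}
    (h : B.Mono blk g) : B.Mono1 g := fun i => Finset.card_le_one.mpr fun a ha c hc =>
  hblk (h i i a c rfl (B.mem_supp.mp ha) (B.mem_supp.mp hc))

theorem mono1_one : B.Mono1 (1 : H.Isom) := fun i => by
  change (B.supp (B.b i)).card ≤ 1
  rw [supp_b, Finset.card_singleton]

theorem mono1_iff {g : H.Isom} :
    B.Mono1 g ↔ ∃ (π : Equiv.Perm ι) (l : ι → F), ∀ i, g.1 (B.b i) = l i • B.b (π i) ∧ l i ≠ 0 := by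
  constructor
  · intro h
    have hex : ∀ i, ∃ j, g.1 (B.b i) = B.co (g.1 (B.b i)) j • B.b j ∧ B.co (g.1 (B.b i)) j ≠ 0 := fun i => by
      have hne : g.1 (B.b i) ≠ 0 := (LinearEquiv.map_ne_zero_iff _).mpr (B.b.ne_zero i)
      have hne' : (B.supp (g.1 (B.b i))).Nonempty := by
        rw [Finset.nonempty_iff_ne_empty, ne_eq, supp_eq_empty]; exact hne
      obtain ⟨j, hj⟩ := hne'
      refine ⟨j, ?_, B.mem_supp.mp hj⟩
      conv_lhs => rw [B.eq_sum_supp (x := g.1 (B.b i)) (T := {j})
        (fun a ha => Finset.mem_singleton.mpr (Finset.card_le_one.mp (h i) a ha j hj))]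
      rw [Finset.sum_singleton]
    choose f hf hf0 using hex
    have hinj : Function.Injective f := fun i j hij => by
      by_contra hne
      have := H.map_form g (B.b i) (B.b j)
      rw [B.b_ne hne, hf i, hf j, hij, H.smul_left, H.smul_right, B.b_self, mul_one, mul_eq_zero] at this
      rcases this with h | h
      · exact hf0 i (by simpa [← hij] using h)
      · exact hf0 j (H.conj.eq_zero.mp h)
    exact ⟨Equiv.ofBijective f (Finite.injective_iff_bijective.mp hinj), _,
      fun i => ⟨hf i, hf0 i⟩⟩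
  · rintro ⟨π, l, h⟩ i
    rw [(h i).1, B.supp_smul (h i).2, supp_b, Finset.card_singleton]

theorem mono1_mul {g k : H.Isom} (hg : B.Mono1 g) (hk : B.Mono1 k) : B.Mono1 (g * k) := by
  obtain ⟨π, l, h⟩ := B.mono1_iff.mp hg
  obtain ⟨π', l', h'⟩ := B.mono1_iff.mp hk
  refine B.mono1_iff.mpr ⟨π'.trans π, fun i => l' i * l (π' i), fun i =>
    ⟨?_, mul_ne_zero (h' i).2 (h _).2⟩⟩
  rw [H.mul_apply', (h' i).1, map_smul, (h _).1, smul_smul]; rfl

theorem mono1_inv {g : H.Isom} (hg : B.Mono1 g) : B.Mono1 g⁻¹ := by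
  obtain ⟨π, l, h⟩ := B.mono1_iff.mp hg
  refine B.mono1_iff.mpr ⟨π.symm, fun i => (l (π.symm i))⁻¹, fun i => ⟨?_, inv_ne_zero (h _).2⟩⟩
  have := congrArg ((g⁻¹).1) (h (π.symm i)).1
  rw [H.inv_apply_self, map_smul, Equiv.apply_symm_apply] at this
  rw [this, smul_smul, inv_mul_cancel₀ (h _).2, one_smul]

theorem mono1_inv_iff {g : H.SIsom} : B.Mono1 (g⁻¹).1 ↔ B.Mono1 g.1 :=
  ⟨fun h => by simpa using B.mono1_inv h, fun h => B.mono1_inv h⟩

theorem supp_qp_b [FiniteDimensional F V] {i e : ι} (hie : i ≠ e) {a : F} (ha : a * H.σ a = 1) (j : ι) :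
    B.supp ((B.ph i e ha).1.1 (B.b j)) ⊆ {j} := fun l hl => by
  rw [mem_supp, B.co_ph hie] at hl
  rw [Finset.mem_singleton]
  by_contra hne
  apply hl
  split_ifs with h1 h2
  · subst h1; rw [co_b, if_neg (Ne.symm hne), mul_zero]
  · subst h2; rw [co_b, if_neg (Ne.symm hne), mul_zero]
  · rw [co_b, if_neg (Ne.symm hne)]

theorem mono_ph [FiniteDimensional F V] {β : Type*} (blk : ι → β) {i e : ι} (hie : i ≠ e) {a : F}
    (ha : a * H.σ a = 1) : B.Mono blk (B.ph i e ha).1 :=
  B.mono_of_mono1_local blk fun j l hl => by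
    rw [Finset.mem_singleton.mp (B.supp_qp_b hie ha j (B.mem_supp.mpr hl))]

theorem mono1_ph [FiniteDimensional F V] {i e : ι} (hie : i ≠ e) {a : F} (ha : a * H.σ a = 1) :
    B.Mono1 (B.ph i e ha).1 :=
  fun j => le_trans (Finset.card_le_card (B.supp_qp_b hie ha j)) (le_of_eq (Finset.card_singleton _))

theorem isom_of_basis (g : V ≃ₗ[F] V) (h : ∀ i j, H.h (g (B.b i)) (g (B.b j)) = if i = j then 1 else 0) :
    g ∈ H.Isom := by
  intro x y
  conv_rhs => rw [B.h_co]
  conv_lhs => rw [← B.sum_co x, ← B.sum_co y]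
  simp only [map_sum, map_smul, H.sum_left, H.smul_left, H.sum_right, H.smul_right, h, mul_ite, mul_one, mul_zero,
    Finset.sum_ite_eq, Finset.mem_univ, if_true]

/-- A permutation of the frame, corrected to determinant one at `e`. -/
theorem exists_perm [Finite F] [FiniteDimensional F V] (π : Equiv.Perm ι) (e : ι) :
    ∃ g : H.SIsom, ∃ z : F, z * H.σ z = 1 ∧
      (∀ l, g.1.1 (B.b l) = (if π l = e then z else 1) • B.b (π l)) ∧
      ∀ x l, B.co (g.1.1 x) (π l) = (if π l = e then z else 1) * B.co x l := by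
  let p : V ≃ₗ[F] V := B.b.equiv B.b π
  have hp : ∀ l, p (B.b l) = B.b (π l) := fun l => B.b.equiv_apply _ _ _
  let P : H.Isom := ⟨p, B.isom_of_basis p fun i j => by simp [hp, B.hb]⟩
  obtain ⟨z, hz⟩ := H.exists_SIsom_correct P (B.b_self e)
  have hzz : (z.1 : F) * H.σ z.1 = 1 := congrArg Units.val (MonoidHom.mem_ker.mp z.2)
  have he : H.qrefl (B.b_self e) z = H.qr (B.b_self e) hzz := by
    unfold HermSpace.qr
    congr 1
    exact Subtype.ext (Units.ext rfl)
  have hb : ∀ l, (H.qrefl (B.b_self e) z * P).1 (B.b l) = (if π l = e then (z.1 : F) else 1) • B.b (π l) := by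
    intro l
    rw [H.mul_apply']
    change (H.qrefl (B.b_self e) z).1 (p (B.b l)) = _
    rw [hp]
    split_ifs with h
    · rw [h, H.qrefl_self]
    · rw [H.qrefl_orth _ _ (B.b_ne h), one_smul]
  refine ⟨⟨_, hz⟩, z.1, hzz, hb, fun x l => ?_⟩
  change B.co ((H.qrefl (B.b_self e) z * P).1 x) (π l) = _
  conv_lhs => rw [← B.sum_co x]
  simp only [map_sum, map_smul, hb, co, H.sum_left, H.smul_left, B.hb, EmbeddingLike.apply_eq_iff_eq,
    mul_ite, mul_one, mul_zero, Finset.sum_ite_eq', Finset.mem_univ, if_true]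
  split_ifs <;> ring

theorem mono_perm {β : Type*} {blk : ι → β} {g : H.Isom} {π : Equiv.Perm ι} {c : ι → F}
    (hg : ∀ l, g.1 (B.b l) = c l • B.b (π l)) (hπ : ∀ a d, blk a = blk d → blk (π a) = blk (π d)) :
    B.Mono blk g := by
  intro i j a d hij ha hd
  have key : ∀ i a, B.co (g.1 (B.b i)) a ≠ 0 → a = π i := fun i a h => by
    by_contra hne
    rw [hg, co_smul, co_b, if_neg (Ne.symm hne), mul_zero] at h
    exact h rfl
  rw [key i a ha, key j d hd]
  exact hπ i j hij

end UFrame

end Cfsg.Lib.Classical
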