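import Mathlib
import Cfsg.Agent.Classical.Transv.Basic
import Cfsg.Agent.Classical.Unitary.Maximal

set_option autoImplicit false
set_option linter.unusedVariables false
set_option linter.unusedSimpArgs false
set_option linter.style.haveILetI false

/-! The unitary similitudes form a maximal subgroup of the special linear group. -/

namespace Cfsg.Lib.Classical

universe u v

variable {F : Type u} [Field F] {V : Type v} [AddCommGroup V] [Module F V]

theorem slCentres_add {K : Subgroup (slGroup F V)} {p r : V} (hp : p ∈ slCentres K) (hr : r ∈ slCentres K) :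
    p + r ∈ slCentres K := by
  by_cases hdep : p ∈ Submodule.span F ({r} : Set V)
  · obtain ⟨a, rfl⟩ := Submodule.mem_span_singleton.mp hdep
    rw [show a • r + r = (a + 1) • r by rw [add_smul, one_smul]]
    exact slCentres_smul hr _
  · obtain ⟨φ, hφ, hφr⟩ := exists_dual_vanish hdep
    have := slCentres_map hp (hr φ (hφr r (Submodule.mem_span_singleton_self r)))
    rwa [slT_apply, hφ, one_smul] at this

/-- The centres form a subspace. -/
def slCentreSpace (K : Subgroup (slGroup F V)) : Submodule F V where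
  carrier := slCentres K
  add_mem' := slCentres_add
  zero_mem' := slCentres_zero K
  smul_mem' a _ hv := slCentres_smul hv a

namespace HermSpace

variable (H : HermSpace F V)

/-- Similitudes inside `slGroup`. -/
def slSimilitudes : Subgroup (slGroup F V) where
  carrier := {g | ∃ c : Fˣ, ∀ x y, H.h ((g : V ≃ₗ[F] V) x) ((g : V ≃ₗ[F] V) y) = c * H.h x y}
  mul_mem' := by
    rintro a b ⟨c, hc⟩ ⟨d, hd⟩
    exact ⟨c * d, fun x y => by rw [slGroup.mul_apply', slGroup.mul_apply', hc, hd, Units.val_mul, mul_assoc]⟩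
  one_mem' := ⟨1, fun x y => by simp⟩
  inv_mem' := by
    rintro a ⟨c, hc⟩
    refine ⟨c⁻¹, fun x y => ?_⟩
    have := hc (((a⁻¹ : slGroup F V) : V ≃ₗ[F] V) x) (((a⁻¹ : slGroup F V) : V ≃ₗ[F] V) y)
    rw [slGroup.apply_inv_self, slGroup.apply_inv_self] at this
    rw [this, ← mul_assoc, Units.inv_mul, one_mul]

/-- A special isometry as an element of `slGroup`. -/
noncomputable def toSL : H.SIsom →* slGroup F V where
  toFun g := ⟨g.1.1, g.2⟩
  map_one' := rfl
  map_mul' _ _ := rfl

theorem toSL_mem (g : H.SIsom) : H.toSL g ∈ H.slSimilitudes :=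
  ⟨1, fun x y => by rw [Units.val_one, one_mul]; exact H.map_form g.1 x y⟩

/-- Moving vectors of a nondegenerate subspace, fixing its orthogonal pointwise. -/
theorem exists_SIsom_move [Finite F] [FiniteDimensional F V] {U : Submodule F V} (hU : H.NondegOn U)
    (h3 : 3 ≤ Module.finrank F U) {x y : U} (hx : x ≠ 0) (hy : y ≠ 0)
    (hn : H.h (y : V) y = H.h (x : V) x) :
    ∃ g : H.SIsom, g.1.1 (x : V) = y ∧ ∀ z ∈ H.orth U, g.1.1 z = z := by
  obtain ⟨k, hk⟩ := (H.restrict U hU).exists_isom_same_norm hx hy hn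
  obtain ⟨m, hm1, hm2⟩ := H.exists_glue hU hU k.1.toLinearMap LinearMap.id k.2 (fun _ _ => rfl)
  obtain ⟨w, hw1, hw2⟩ := (H.restrict U hU).exists_anisotropic_orth_singleton h3 y
  replace hw1 : H.h (w : V) w = 1 := hw1
  obtain ⟨z, hz⟩ := H.exists_SIsom_correct m hw1
  refine ⟨⟨_, hz⟩, ?_, fun t ht => ?_⟩
  · change (H.qrefl hw1 z * m).1 (x : V) = y
    rw [mul_apply', hm1]
    change (H.qrefl hw1 z).1 ((k.1 x : U) : V) = y
    rw [hk, H.qrefl_orth hw1 z (H.eq_zero_symm hw2)]
  · change (H.qrefl hw1 z * m).1 t = t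
    rw [mul_apply', hm2 ⟨t, ht⟩, LinearMap.id_apply, H.qrefl_orth hw1 z (ht w w.2)]

/-- An additive subgroup containing with a vector all vectors of its norm is trivial or everything. -/
theorem addSubgroup_eq_top [Finite F] [FiniteDimensional F V] (hd : 3 ≤ Module.finrank F V)
    {A : AddSubgroup V} {a : V} (haA : a ∈ A) (ha : a ≠ 0)
    (hA : ∀ x y, x ≠ 0 → y ≠ 0 → H.h y y = H.h x x → x ∈ A → y ∈ A) : ∀ x, x ∈ A := by
  have hiso : ∀ r, H.h r r = 0 → r ∈ A := by
    intro r hr
    rcases eq_or_ne r 0 with rfl | hr0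
    · exact A.zero_mem
    by_cases hμ : H.h a a = 0
    · exact hA a r ha hr0 (hr.trans hμ.symm) haA
    obtain ⟨y, hy0, hyy, hyr⟩ := H.exists_norm_and_product hd hr0 0 (μ := H.h a a) (H.self_fixed a)
    have hyr' : H.h (y + r) (y + r) = H.h a a := by
      simp only [H.add_left, H.add_right, hyr, H.eq_zero_symm hyr, hr, hyy]; ring
    have hne : y + r ≠ 0 := fun e => hμ (by rw [← hyr', e, H.zero_left])
    have := A.sub_mem (hA a (y + r) ha hne hyr' haA) (hA a y ha hy0 hyy haA)
    rwa [add_sub_cancel_left] at this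
  intro x
  let B : Submodule F V :=
    { carrier := {x | ∀ c : F, c • x ∈ A}
      add_mem' := fun {p q} hp hq c => by rw [smul_add]; exact A.add_mem (hp c) (hq c)
      zero_mem' := fun c => by rw [smul_zero]; exact A.zero_mem
      smul_mem' := fun b p hp c => by rw [smul_smul]; exact hp _ }
  have hle : Submodule.span F {x : V | H.h x x = 0} ≤ B := Submodule.span_le.mpr fun r hr c => hiso _ (by
    rw [H.smul_left, H.smul_right, (hr : H.h r r = 0), mul_zero, mul_zero])
  rw [H.span_isotropic (by omega)] at hle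
  simpa using (hle (Submodule.mem_top (x := x))) 1

variable {H}

theorem slT_conj_lin (g : H.SIsom) (v w : V) (h : H.lin w v = 0) (h' : H.lin (g.1.1 w) (g.1.1 v) = 0) :
    H.toSL g * slT (H.lin w) v h * (H.toSL g)⁻¹ = slT (H.lin (g.1.1 w)) (g.1.1 v) h' := by
  rw [slT_conj]
  refine slT_congr fun x => ?_
  change H.h ((g⁻¹).1.1 x) w • g.1.1 v = H.h x (g.1.1 w) • g.1.1 v
  rw [← H.map_form g.1 ((g⁻¹).1.1 x) w]
  change H.h (g.1.1 (g.1⁻¹.1 x)) _ • _ = _
  rw [H.apply_inv_self]

/-- The `w` with the transvection `x ↦ x + h(x,w) v` in `K`. -/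
def axes (H : HermSpace F V) (K : Subgroup (slGroup F V)) (v : V) : AddSubgroup V where
  carrier := {w | ∃ h : H.lin w v = 0, slT (H.lin w) v h ∈ K}
  add_mem' := by
    rintro a b ⟨ha, hKa⟩ ⟨hb, hKb⟩
    have h : H.lin (a + b) v = 0 := by
      rw [lin_apply, H.add_right, ← lin_apply, ← lin_apply, ha, hb, add_zero]
    refine ⟨h, ?_⟩
    rw [show slT (H.lin (a + b)) v h = slT (H.lin a) v ha * slT (H.lin b) v hb by
      rw [← slT_mul _ _ v ha hb]
      exact slT_congr fun x => by rw [LinearMap.add_apply, lin_apply, lin_apply, lin_apply, H.add_right]]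
    exact K.mul_mem hKa hKb
  zero_mem' := by
    have h : H.lin 0 v = 0 := by rw [lin_apply, H.zero_right]
    refine ⟨h, ?_⟩
    rw [show slT (H.lin 0) v h = 1 from slGroup.ext' fun x => by
      rw [slT_apply, lin_apply, H.zero_right, zero_smul, add_zero]; rfl]
    exact K.one_mem
  neg_mem' := by
    rintro a ⟨ha, hKa⟩
    have h : H.lin (-a) v = 0 := by rw [lin_apply, H.neg_right, ← lin_apply, ha, neg_zero]
    refine ⟨h, ?_⟩
    rw [show slT (H.lin (-a)) v h = (slT (H.lin a) v ha)⁻¹ by
      refine eq_inv_of_mul_eq_one_left ?_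
      rw [← slT_mul _ _ v h ha]
      exact slGroup.ext' fun x => by
        rw [slT_apply, LinearMap.add_apply, lin_apply, lin_apply, H.neg_right, neg_add_cancel, zero_smul, add_zero]
        rfl]
    exact K.inv_mem hKa

theorem axes_map {K : Subgroup (slGroup F V)} (hK : ∀ g : H.SIsom, H.toSL g ∈ K) {v w : V}
    (hw : w ∈ H.axes K v) {g : H.SIsom} (hg : g.1.1 v = v) : g.1.1 w ∈ H.axes K v := by
  obtain ⟨h, hKw⟩ := hw
  have h' : H.lin (g.1.1 w) (g.1.1 v) = 0 := by rw [lin_apply, H.map_form]; exact h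
  have h'' : H.lin (g.1.1 w) v = 0 := by rwa [hg] at h'
  refine ⟨h'', ?_⟩
  have := K.mul_mem (K.mul_mem (hK g) hKw) (K.inv_mem (hK g))
  rw [slT_conj_lin g v w h h'] at this
  convert this using 1
  exact slT_congr fun x => by rw [hg]

/-- Commutators with the root group of an opposite isotropic vector rescale axes. -/
theorem axes_comm {K : Subgroup (slGroup F V)} {p r w : V} (hpr : H.h p r = 1) (hrr : H.h r r = 0)
    (hpw : H.h p w = 0) (hrw : H.h r w = 0) (hw : w ∈ H.axes K p) (c : F) (hc : c • r ∈ H.axes K r) :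
    c • w ∈ H.axes K r := by
  obtain ⟨h1, hT⟩ := hw
  obtain ⟨h2, hS⟩ := hc
  have h3 : H.lin (c • w) r = 0 := by rw [lin_apply, H.smul_right, hrw, mul_zero]
  refine ⟨h3, ?_⟩
  have hp' : (slT (H.lin (c • r)) r h2 : V ≃ₗ[F] V) p = p + H.σ c • r := by
    rw [slT_apply, lin_apply, H.smul_right, hpr, mul_one]
  have hpw' : H.lin w (p + H.σ c • r) = 0 := by
    rw [lin_apply, H.add_left, H.smul_left, hpw, hrw, mul_zero, add_zero]
  have e : slT (H.lin (c • r)) r h2 * slT (H.lin w) p h1 * (slT (H.lin (c • r)) r h2)⁻¹ =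
      slT (H.lin w) (p + H.σ c • r) hpw' := by
    rw [slT_conj]
    refine slT_congr fun x => ?_
    have hx : H.h x w = H.h (((slT (H.lin (c • r)) r h2)⁻¹ : slGroup F V).1 x) w := by
      conv_lhs => rw [← slGroup.apply_inv_self (slT (H.lin (c • r)) r h2) x, slT_apply, H.add_left, H.smul_left,
        hrw, mul_zero, add_zero]
    rw [hp', LinearMap.comp_apply, lin_apply, lin_apply, hx]
    rfl
  have hmem := K.mul_mem (e ▸ K.mul_mem (K.mul_mem hS hT) (K.inv_mem hS)) (K.inv_mem hT)
  convert hmem using 1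
  rw [eq_mul_inv_iff_mul_eq]
  refine slGroup.ext' fun x => ?_
  rw [slGroup.mul_apply', slT_apply, slT_apply, slT_apply]
  simp only [lin_apply, H.smul_right, H.add_left, H.smul_left, hpw, mul_zero, add_zero]
  module

theorem mem_slCentres_of_axes [Finite F] [FiniteDimensional F V] {K : Subgroup (slGroup F V)} {v : V}
    (h : ∀ w, H.h v w = 0 → w ∈ H.axes K v) : v ∈ slCentres K := fun φ hφ => by
  obtain ⟨w, hw⟩ := H.exists_lin φ
  obtain ⟨h', hK⟩ := h w (by rw [hw, hφ])
  convert hK using 1
  exact slT_congr fun x => by rw [lin_apply, hw]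

variable (H)

theorem isCoatom_slSimilitudes [Finite F] [FiniteDimensional F V] (hd : 4 ≤ Module.finrank F V) :
    IsCoatom H.slSimilitudes := by
  haveI : Nontrivial V := Module.nontrivial_of_finrank_pos (R := F) (by omega)
  refine ⟨fun htop => ?_, fun K hlt => ?_⟩
  · obtain ⟨b, hb⟩ := H.exists_norm_one
    obtain ⟨a, ha, hab⟩ := H.exists_anisotropic_orth_singleton (by omega) b
    have h0 : H.lin b a = 0 := hab
    obtain ⟨c, hc⟩ := (htop ▸ Subgroup.mem_top (slT (H.lin b) a h0) : _ ∈ H.slSimilitudes)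
    have h1 := hc a a
    have h2 := hc b b
    rw [slT_apply, lin_apply, hab, zero_smul, add_zero, ha, mul_one] at h1
    rw [slT_apply, lin_apply, hb, one_smul, ← h1, one_mul, H.add_left, H.add_right, H.add_right, ha, hb, hab,
      H.eq_zero_symm hab] at h2
    exact one_ne_zero (α := F) (by linear_combination h2)
  obtain ⟨g, hgK, hgM⟩ := SetLike.exists_of_lt hlt
  have hK : ∀ s : H.SIsom, H.toSL s ∈ K := fun s => hlt.le (H.toSL_mem s)
  -- a transvection of `K` that is not unitary
  obtain ⟨v, hv, w, hwv, hw⟩ : ∃ v, v ≠ 0 ∧ ∃ w, w ∉ Submodule.span F ({v} : Set V) ∧ w ∈ H.axes K v := by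
    by_contra hcon
    push Not at hcon
    obtain ⟨δ, hδ0, hδ⟩ := H.conj.exists_skew
    have key : ∀ v, H.h v v = 0 → v ≠ 0 →
        ∃ c : F, ∀ x, H.h ((g : V ≃ₗ[F] V) x) ((g : V ≃ₗ[F] V) v) = c * H.h x v := by
      intro v hvv hv
      have h0 : (δ • H.lin v) v = 0 := by rw [LinearMap.smul_apply, lin_apply, hvv, smul_zero]
      have hT := K.mul_mem (K.mul_mem hgK (hK ⟨H.uT hvv hδ, H.uT_mem_SIsom hvv hδ⟩)) (K.inv_mem hgK)
      rw [show H.toSL ⟨H.uT hvv hδ, H.uT_mem_SIsom hvv hδ⟩ = slT (δ • H.lin v) v h0 from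
        slGroup.ext' fun x => by
          rw [slT_apply]; exact (H.uT_apply hvv hδ x).trans (by simp [lin_apply]), slT_conj] at hT
      set u := (g : V ≃ₗ[F] V) v with hu
      obtain ⟨w, hw⟩ := H.exists_lin ((δ • H.lin v) ∘ₗ ((g⁻¹ : slGroup F V) : V ≃ₗ[F] V).toLinearMap)
      have hwu : H.lin w u = 0 := by
        rw [lin_apply, hw]; simp [hu, slGroup.inv_apply_self, lin_apply, hvv]
      have hwA : w ∈ H.axes K u := by
        refine ⟨hwu, ?_⟩
        convert hT using 1
        exact slT_congr fun x => by rw [lin_apply, hw]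
      have hu0 : u ≠ 0 := by simpa [hu] using hv
      obtain ⟨a, ha⟩ := Submodule.mem_span_singleton.mp (by_contra fun h => hcon u hu0 w h hwA)
      have e : ∀ x, H.σ a * H.h ((g : V ≃ₗ[F] V) x) u = δ * H.h x v := fun x => by
        rw [← H.smul_right, ha, hw]; simp [slGroup.inv_apply_self, lin_apply]
      have ha0 : H.σ a ≠ 0 := fun h => by
        obtain ⟨y, hy⟩ := H.exists_partner hv
        have := e y
        rw [h, zero_mul, H.symm, hy, map_one, mul_one] at this
        exact hδ0 this.symm
      exact ⟨δ / H.σ a, fun x => by rw [div_mul_eq_mul_div, eq_div_iff ha0, mul_comm _ (H.σ a), e]⟩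
    choose c hc using key
    have hrel : ∀ p r hp hp0 hr hr0, H.h p r ≠ 0 → c r hr hr0 = H.σ (c p hp hp0) := by
      intro p r hp hp0 hr hr0 hne
      have h1 := hc r hr hr0 p
      have h2 := congrArg H.σ (hc p hp hp0 r)
      rw [map_mul, ← H.symm, ← H.symm] at h2
      exact mul_right_cancel₀ hne (h1.symm.trans h2)
    have hconst : ∀ p s hp hp0 hs hs0, c p hp hp0 = c s hs hs0 := by
      intro p s hp hp0 hs hs0
      obtain ⟨r, hr, hpr, hsr⟩ := H.exists_isotropic_nonorth hp0 hs0 hp hs
      have hr0 : r ≠ 0 := fun h => hpr (by rw [h, H.zero_right])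
      exact H.conj.inj ((hrel p r hp hp0 hr hr0 hpr).symm.trans (hrel s r hs hs0 hr hr0 hsr))
    obtain ⟨p, hp0, hp⟩ := H.exists_isotropic_of_two_le (by omega)
    have hc0 : c p hp hp0 ≠ 0 := fun h => by
      obtain ⟨y, hy⟩ := H.exists_partner (v := (g : V ≃ₗ[F] V) p) (by simpa using hp0)
      have := hc p hp hp0 (((g⁻¹ : slGroup F V) : V ≃ₗ[F] V) y)
      rw [slGroup.apply_inv_self, h, zero_mul, H.symm, hy, map_one] at this
      exact one_ne_zero this
    have hfix : H.σ (c p hp hp0) = c p hp hp0 := by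
      obtain ⟨r, hr, hpr, -⟩ := H.exists_isotropic_nonorth hp0 hp0 hp hp
      have hr0 : r ≠ 0 := fun h => hpr (by rw [h, H.zero_right])
      rw [← hrel p r hp hp0 hr hr0 hpr, hconst r p hr hr0 hp hp0]
    refine hgM ⟨Units.mk0 _ hc0, fun x y => ?_⟩
    have hy : y ∈ Submodule.span F {x : V | H.h x x = 0} := by rw [H.span_isotropic (by omega)]; trivial
    rw [Units.val_mk0]
    induction hy using Submodule.span_induction with
    | mem z hz =>
      rcases eq_or_ne z 0 with rfl | hz0
      · simp [H.zero_right]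
      · rw [hc z hz hz0, hconst z p hz hz0 hp hp0]
    | zero => simp [H.zero_right]
    | add a b _ _ ha hb => rw [map_add, H.add_right, H.add_right, ha, hb, mul_add]
    | smul r a _ ha => rw [map_smul, H.smul_right, H.smul_right, ha]; ring
  have hvw : H.h v w = 0 := hw.choose
  obtain ⟨u₀, hu₀⟩ : ∃ u, u ≠ (0 : V) := exists_ne _
  suffices hgoal : (∀ r, H.h r r = 0 → r ∈ slCentreSpace K) by
    refine slGroup_eq_top_of_transvections fun y => ?_
    have hle : Submodule.span F {x : V | H.h x x = 0} ≤ slCentreSpace K := Submodule.span_le.mpr hgoal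
    rw [H.span_isotropic (by omega)] at hle
    exact hle Submodule.mem_top
  haveI := H.isoPt_pretransitive
  by_cases hvv : H.h v v = 0
  · -- isotropic centre
    have hline : ∀ l : F, l • v ∈ H.axes K v := by
      intro l
      obtain ⟨e, hev, hwe⟩ : ∃ e, H.h e v = 0 ∧ H.h w e = l := by
        obtain ⟨e, hev, hwe⟩ : ∃ e ∈ H.orth (Submodule.span F ({v} : Set V)), H.h w e ≠ 0 := by
          by_contra h
          push Not at h
          exact hwv (by rw [← H.orth_orth (Submodule.span F ({v} : Set V))]; exact h)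
        refine ⟨H.σ (l / H.h w e) • e, ?_, ?_⟩
        · rw [H.smul_left, hev v (Submodule.mem_span_singleton_self v), mul_zero]
        · rw [H.smul_right, H.conj.invol, div_mul_cancel₀ _ hwe]
      obtain ⟨θ, hθ⟩ := H.conj.exists_trace_one
      have ha : -(θ * H.h e e) + H.σ (-(θ * H.h e e)) = -H.h e e := by
        rw [map_neg, map_mul, H.self_fixed]; linear_combination (-H.h e e) * hθ
      have := (H.axes K v).sub_mem hw (axes_map hK hw
        (g := ⟨H.siegel hvv hev ha, H.siegel_mem_SIsom hvv hev ha⟩)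
        (by change (H.siegel hvv hev ha).1 v = v
            rw [siegel_apply, hvv, H.eq_zero_symm hev, zero_smul, mul_zero, sub_zero, zero_smul, add_zero, add_zero]))
      change w - (H.siegel hvv hev ha).1 w ∈ _ at this
      rw [siegel_apply, H.eq_zero_symm hvw, hwe] at this
      convert this using 1
      module
    obtain ⟨u, hu, huu⟩ := H.exists_hyperbolic hv hvv
    set P := Submodule.span F ({v, u} : Set V)
    have hP : H.NondegOn P := H.nondegOn_hyperbolic hvv hu
    set W := H.orth P
    have hW : H.NondegOn W := H.nondegOn_orth hP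
    have hW2 : 2 ≤ Module.finrank F W := by
      show 2 ≤ Module.finrank F (H.orth P)
      rw [H.finrank_orth, H.finrank_hyperbolic hvv hu]; omega
    have hvP : v ∈ P := Submodule.subset_span (by simp)
    have huP : u ∈ P := Submodule.subset_span (by simp)
    have hu0 : u ≠ 0 := fun e => one_ne_zero (α := F) (by rw [← hu, e, H.zero_right])
    have hu1 : H.h u v = 1 := by rw [H.symm, hu, map_one]
    have proj : ∀ x, H.h v x = 0 → x - H.h x u • v ∈ W := fun x hx => by
      refine H.mem_orth_span.mpr ?_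
      intro t ht
      rcases ht with rfl | rfl
      · rw [H.sub_left, H.smul_left, hvv, H.eq_zero_symm hx, mul_zero, sub_zero]
      · rw [H.sub_left, H.smul_left, hu, mul_one, sub_self]
    -- the opposite root group
    have hlineu : ∀ l : F, l • u ∈ H.axes K u := by
      intro l
      obtain ⟨s, hs⟩ := MulAction.exists_smul_eq H.SIsom (H.isoMk v hv hvv) (H.isoMk u hu0 huu)
      rw [smul_isoMk, isoMk_eq_iff] at hs
      obtain ⟨e, he⟩ := hs
      have he0 : e ≠ 0 := by
        rintro rfl
        rw [zero_smul] at he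
        exact H.isom_ne_zero s.1 hv he.symm
      have he1 : H.σ e ≠ 0 := fun h => he0 (H.conj.inj (h.trans (map_zero _).symm))
      obtain ⟨h1, h2⟩ := hline (l / (H.σ e * e))
      have h1' : H.lin (s.1.1 ((l / (H.σ e * e)) • v)) (s.1.1 v) = 0 := by rw [lin_apply, H.map_form]; exact h1
      have h3 := K.mul_mem (K.mul_mem (hK s) h2) (K.inv_mem (hK s))
      rw [slT_conj_lin s v _ h1 h1'] at h3
      have h4 : H.lin (l • u) u = 0 := by rw [lin_apply, H.smul_right, huu, mul_zero]
      refine ⟨h4, ?_⟩
      convert h3 using 1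
      refine slT_congr fun x => ?_
      rw [map_smul, ← he, lin_apply, lin_apply, H.smul_right, H.smul_right, H.smul_right, smul_smul]
      congr 1
      rw [map_div₀, map_mul, H.conj.invol]
      field_simp
    have hscal : ∀ x ∈ W, ∀ c : F, x ∈ H.axes K v → c • x ∈ H.axes K v := by
      intro x hx c hxA
      have hvx : H.h v x = 0 := H.eq_zero_symm (hx v hvP)
      have hux : H.h u x = 0 := H.eq_zero_symm (hx u huP)
      have := axes_comm hu huu hvx hux hxA 1 (hlineu 1)
      rw [one_smul] at this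
      exact axes_comm hu1 hvv hux hvx this c (hline c)
    obtain ⟨δ, hδ0, hδ⟩ := H.conj.exists_skew
    -- unitary transvections spread the axes
    have hmove : ∀ x ∈ W, ∀ z ∈ W, H.h z z = 0 → H.h x z ≠ 0 → x ∈ H.axes K v → z ∈ H.axes K v := by
      intro x hx z hz hzz hxz hxA
      have := axes_map hK hxA (g := ⟨H.uT hzz hδ, H.uT_mem_SIsom hzz hδ⟩) (by
        change (H.uT hzz hδ).1 v = v
        rw [uT_apply, H.eq_zero_symm (hz v hvP), mul_zero, zero_smul, add_zero])
      change (H.uT hzz hδ).1 x ∈ _ at this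
      rw [uT_apply] at this
      have h2 := (H.axes K v).sub_mem this hxA
      rw [add_sub_cancel_left] at h2
      have h3 := hscal _ (Submodule.smul_mem _ _ hz) (δ * H.h x z)⁻¹ h2
      rwa [inv_smul_smul₀ (mul_ne_zero hδ0 hxz)] at h3
    have ha : w - H.h w u • v ∈ H.axes K v := (H.axes K v).sub_mem hw (hline _)
    have ha0 : (⟨_, proj w hvw⟩ : W) ≠ 0 := fun h =>
      hwv (Submodule.mem_span_singleton.mpr ⟨_, (sub_eq_zero.mp (congrArg Subtype.val h)).symm⟩)
    obtain ⟨z, hzz, haz⟩ := (H.restrict W hW).exists_isotropic_nonorth_to hW2 ha0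
    have hzA : (z : V) ∈ H.axes K v := hmove _ (proj w hvw) _ z.2 hzz haz ha
    have hz0 : z ≠ 0 := fun e => haz (by subst e; exact (H.restrict W hW).zero_right _)
    have hall : ∀ x : W, (x : V) ∈ H.axes K v := by
      intro x
      let A : Submodule F W :=
        { carrier := {x | ∀ c : F, c • (x : V) ∈ H.axes K v}
          add_mem' := fun {p q} hp hq c => by
            rw [show ((p + q : W) : V) = (p : V) + q from rfl, smul_add]; exact (H.axes K v).add_mem (hp c) (hq c)
          zero_mem' := fun c => by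
            rw [show ((0 : W) : V) = 0 from rfl, smul_zero]; exact (H.axes K v).zero_mem
          smul_mem' := fun b p hp c => by
            rw [show ((b • p : W) : V) = b • (p : V) from rfl, smul_smul]; exact hp _ }
      have hle : Submodule.span F {r : W | (H.restrict W hW).h r r = 0} ≤ A := by
        refine Submodule.span_le.mpr fun r hr c => ?_
        rcases eq_or_ne r 0 with rfl | hr0
        · rw [show ((0 : W) : V) = 0 from rfl, smul_zero]; exact (H.axes K v).zero_mem
        obtain ⟨r₁, h11, hz1, hr1⟩ := (H.restrict W hW).exists_isotropic_nonorth hz0 hr0 hzz hr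
        exact hscal _ r.2 c (hmove _ r₁.2 _ r.2 hr (fun e => hr1 (H.eq_zero_symm e))
          (hmove _ z.2 _ r₁.2 h11 hz1 hzA))
      rw [(H.restrict W hW).span_isotropic hW2] at hle
      simpa using hle (Submodule.mem_top (x := x)) 1
    have hvC : v ∈ slCentres K := mem_slCentres_of_axes fun x hx => by
      have := (H.axes K v).add_mem (hall ⟨_, proj x hx⟩) (hline (H.h x u))
      change x - H.h x u • v + H.h x u • v ∈ _ at this
      rwa [sub_add_cancel] at this
    intro r hr
    rcases eq_or_ne r 0 with rfl | hr0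
    · exact Submodule.zero_mem _
    obtain ⟨s, hs⟩ := MulAction.exists_smul_eq H.SIsom (H.isoMk v hv hvv) (H.isoMk r hr0 hr)
    rw [smul_isoMk, isoMk_eq_iff] at hs
    obtain ⟨c, hc⟩ := hs
    have h := slCentres_map hvC (hK s)
    change s.1.1 v ∈ slCentres K at h
    rw [← hc] at h
    rcases eq_or_ne c 0 with rfl | hc0
    · rw [zero_smul] at hc; exact absurd hc.symm (H.isom_ne_zero s.1 hv)
    · change r ∈ slCentres K
      simpa [smul_smul, hc0] using slCentres_smul h c⁻¹
  · -- anisotropic centre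
    set U := H.orth (Submodule.span F ({v} : Set V))
    have hU : H.NondegOn U := H.nondegOn_orth (H.nondegOn_span_singleton hvv)
    have hU3 : 3 ≤ Module.finrank F U := by
      show 3 ≤ Module.finrank F (H.orth (Submodule.span F ({v} : Set V)))
      rw [H.finrank_orth, finrank_span_singleton hv]; omega
    have hmemU : ∀ x, H.h v x = 0 → x ∈ U := fun x hx => H.mem_orth_span.mpr fun t ht => by
      rw [Set.mem_singleton_iff.mp ht]; exact H.eq_zero_symm hx
    let A : AddSubgroup U := (H.axes K v).comap U.subtype.toAddMonoidHom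
    have hall : ∀ x : U, x ∈ A := by
      refine (H.restrict U hU).addSubgroup_eq_top hU3 (a := ⟨w, hmemU w hvw⟩) hw ?_ ?_
      · exact fun h => hwv (by rw [show w = 0 from congrArg Subtype.val h]; exact Submodule.zero_mem _)
      · intro x y hx hy hn hxA
        obtain ⟨s, hs, hfix⟩ := H.exists_SIsom_move hU hU3 hx hy hn
        change (y : V) ∈ H.axes K v
        rw [← hs]
        exact axes_map hK hxA (hfix v (by rw [H.orth_orth]; exact Submodule.mem_span_singleton_self v))
    have hvC : v ∈ slCentres K := mem_slCentres_of_axes fun x hx => hall ⟨x, hmemU x hx⟩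
    have haniso : ∀ y, H.h y y ≠ 0 → y ∈ slCentreSpace K := by
      intro y hy
      obtain ⟨b, hb⟩ := H.conj.norm_surjective (a := H.h y y / H.h v v)
        (by rw [map_div₀, H.self_fixed, H.self_fixed])
      have hb0 : b ≠ 0 := by
        rintro rfl
        rw [zero_mul, eq_comm, div_eq_zero_iff] at hb
        exact hb.elim hy hvv
      obtain ⟨s, hs, -⟩ := H.exists_SIsom_move (U := ⊤) (fun z _ h => H.nondeg z fun x => h x trivial)
        (by rw [finrank_top]; omega) (x := ⟨b • v, trivial⟩) (y := ⟨y, trivial⟩)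
        (fun h => smul_ne_zero hb0 hv (congrArg Subtype.val h))
        (fun h => hy (by rw [show y = 0 from congrArg Subtype.val h, H.zero_left]))
        (by rw [H.smul_left, H.smul_right, ← mul_assoc, hb, div_mul_cancel₀ _ hvv])
      have := slCentres_map (slCentres_smul hvC b) (hK s)
      change s.1.1 (b • v) ∈ slCentres K at this
      rwa [hs] at this
    intro r hr
    obtain ⟨a, ha, har⟩ := H.exists_anisotropic_orth_singleton (by omega) r
    have h1 : H.h (r + a) (r + a) ≠ 0 := by
      simp only [H.add_left, H.add_right, ha, har, H.eq_zero_symm har, hr, zero_add, add_zero]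
      exact one_ne_zero
    have := (slCentreSpace K).sub_mem (haniso _ h1) (haniso a (by rw [ha]; exact one_ne_zero))
    rwa [add_sub_cancel_right] at this

end HermSpace

end Cfsg.Lib.Classical
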