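import Mathlib
import Cfsg.Agent.Classical.Unitary.Root

set_option autoImplicit false
set_option linter.unusedVariables false
set_option linter.unusedSimpArgs false
set_option linter.style.haveILetI false

/-! The stabiliser of two complementary totally isotropic subspaces is maximal in the special unitary group. -/

namespace Cfsg.Lib.Classical

universe u v

variable {F : Type u} [Field F] {V : Type v} [AddCommGroup V] [Module F V]

namespace HermSpace

variable (H : HermSpace F V)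

/-- All short root elements on the pair `u, w` lie in `K`. -/
def Pr (K : Subgroup H.SIsom) (u w : V) : Prop :=
  ∃ (hu : H.h u u = 0) (hw : H.h w w = 0) (hwu : H.h w u = 0), ∀ l : F, H.sR hu hw hwu l ∈ K

variable {H} {K : Subgroup H.SIsom}

theorem Pr.map {u w : V} (h : H.Pr K u w) {g : H.SIsom} (hg : g ∈ K) : H.Pr K (g.1.1 u) (g.1.1 w) := by
  obtain ⟨hu, hw, hwu, hK⟩ := h
  refine ⟨by rw [H.map_form, hu], by rw [H.map_form, hw], by rw [H.map_form, hwu], fun l => ?_⟩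
  rw [← H.sR_conj g hu hw hwu l]
  exact K.mul_mem (K.mul_mem hg (hK l)) (K.inv_mem hg)

theorem Pr.symm {u w : V} (h : H.Pr K u w) : H.Pr K w u := by
  obtain ⟨hu, hw, hwu, hK⟩ := h
  refine ⟨hw, hu, H.eq_zero_symm hwu, fun l => ?_⟩
  convert hK (-H.σ l) using 1
  refine H.sisom_ext fun x => ?_
  rw [sR_apply, sR_apply, map_neg, H.conj.invol]
  module

theorem Pr.centre {u w w' : V} (h : H.Pr K u w) (h' : H.Pr K u w') (hne : H.h w w' ≠ 0) :
    u ∈ H.uCentres K := by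
  obtain ⟨hu, hw, hwu, hK⟩ := h
  obtain ⟨_, hw', hwu', hK'⟩ := h'
  refine ⟨hu, fun t ht => ?_⟩
  obtain ⟨θ, hθ⟩ := H.conj.exists_trace_one
  set a := θ * t / H.h w w' with ha
  have hte : t = a * H.σ 1 * H.h w w' - 1 * H.σ a * H.h w' w := by
    rw [ha, H.symm w' w, map_one, one_mul, mul_one, ← map_mul, div_mul_cancel₀ _ hne, map_mul,
      eq_neg_of_add_eq_zero_right ht]
    linear_combination (-t) * hθ
  have e := H.sR_comm hu hw hwu hw' hwu' 1 a ht hte
  have : H.sT hu ht = (H.sR hu hw' hwu' a * H.sR hu hw hwu 1)⁻¹ * (H.sR hu hw hwu 1 * H.sR hu hw' hwu' a) := by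
    rw [e, ← mul_assoc, inv_mul_cancel, one_mul]
  change H.sT hu ht ∈ K
  rw [this]
  exact K.mul_mem (K.inv_mem (K.mul_mem (hK' a) (hK 1))) (K.mul_mem (hK 1) (hK' a))

theorem Pr.zero {u : V} (hu : H.h u u = 0) : H.Pr K u 0 :=
  ⟨hu, H.zero_left 0, H.zero_left u, fun l => by
    convert K.one_mem
    refine H.sisom_ext fun x => ?_
    rw [sR_apply, H.zero_right, mul_zero, zero_smul, smul_zero, add_zero, sub_zero]; rfl⟩

theorem Pr.add {u w w' : V} (h : H.Pr K u w) (h' : H.Pr K u w') (hww' : H.h w w' = 0) (b : F) :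
    H.Pr K u (w + b • w') := by
  obtain ⟨hu, hw, hwu, hK⟩ := h
  obtain ⟨_, hw', hwu', hK'⟩ := h'
  have hy : H.h (w + b • w') (w + b • w') = 0 := by
    simp [H.add_left, H.add_right, H.smul_left, H.smul_right, hw, hw', hww', H.eq_zero_symm hww']
  have hyu : H.h (w + b • w') u = 0 := by simp [H.add_left, H.smul_left, hwu, hwu']
  refine ⟨hu, hy, hyu, fun l => ?_⟩
  rw [H.sR_add_right hu hw hwu hw' hwu' hww' b l rfl hy hyu]
  exact K.mul_mem (hK l) (hK' _)

/-- A centre turns a short root pair into a centre. -/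
theorem centre_of_fixed {x u w : V} (hx : x ∈ H.uCentres K) (h : H.Pr K u w) (hux : H.h u x = 0)
    (hwx : H.h w x ≠ 0) : u ∈ H.uCentres K := by
  obtain ⟨δ, hδ0, hδ⟩ := H.conj.exists_skew
  have hδ' : δ + H.σ δ = 0 := hδ
  have hT : H.sT hx.1 hδ' ∈ K := hx.2 δ hδ'
  have hw : H.h w w = 0 := h.choose_spec.choose
  have h' := h.map hT
  rw [sT_apply, sT_apply, hux, mul_zero, zero_smul, add_zero] at h'
  refine h.centre h' ?_
  rw [H.add_right, hw, zero_add, H.smul_right, mul_ne_zero_iff, map_ne_zero, mul_ne_zero_iff]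
  exact ⟨⟨hδ0, hwx⟩, hwx⟩

variable (H) in
/-- Two complementary totally isotropic subspaces. -/
structure SingPair (W₁ W₂ : Submodule F V) (k : ℕ) : Prop where
  compl : IsCompl W₁ W₂
  iso₁ : W₁ ≤ H.orth W₁
  iso₂ : W₂ ≤ H.orth W₂
  dim₁ : Module.finrank F W₁ = k
  dim₂ : Module.finrank F W₂ = k
  big : 2 ≤ k

namespace SingPair

variable {W₁ W₂ : Submodule F V} {k : ℕ} (S : H.SingPair W₁ W₂ k)
include S

theorem symm : H.SingPair W₂ W₁ k := ⟨S.compl.symm, S.iso₂, S.iso₁, S.dim₂, S.dim₁, S.big⟩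

theorem h₁ {a a' : V} (ha : a ∈ W₁) (ha' : a' ∈ W₁) : H.h a a' = 0 := S.iso₁ ha a' ha'

theorem h₂ {b b' : V} (hb : b ∈ W₂) (hb' : b' ∈ W₂) : H.h b b' = 0 := S.iso₂ hb b' hb'

theorem exists_split (x : V) : ∃ a ∈ W₁, ∃ b ∈ W₂, x = a + b := by
  obtain ⟨a, ha, b, hb, e⟩ := Submodule.mem_sup.mp (S.compl.sup_eq_top ▸ Submodule.mem_top : x ∈ W₁ ⊔ W₂)
  exact ⟨a, ha, b, hb, e.symm⟩

theorem eq_zero {a : V} (ha : a ∈ W₁) (h : ∀ w ∈ W₂, H.h w a = 0) : a = 0 :=
  H.nondeg a fun x => by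
    obtain ⟨p, hp, q, hq, rfl⟩ := S.exists_split x
    rw [H.add_left, S.h₁ hp ha, h q hq, add_zero]

theorem exists_test {a u : V} (ha : a ∈ W₁) (hu : u ∈ W₁) (hau : a ∉ Submodule.span F {u}) :
    ∃ w ∈ W₂, H.h w u = 0 ∧ H.h w a ≠ 0 := by
  by_contra hc
  push Not at hc
  by_cases hu0 : ∀ w ∈ W₂, H.h w u = 0
  · apply hau
    rw [S.eq_zero ha fun w hw => hc w hw (hu0 w hw)]
    exact Submodule.zero_mem _
  push Not at hu0
  obtain ⟨w₀, hw₀, hne⟩ := hu0
  set c := H.h w₀ a / H.h w₀ u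
  apply hau
  rw [Submodule.mem_span_singleton]
  refine ⟨H.σ c, sub_eq_zero.mp (S.eq_zero (W₁.sub_mem (W₁.smul_mem _ hu) ha) fun w hw => ?_)⟩
  have hk := hc (w - (H.h w u / H.h w₀ u) • w₀) (W₂.sub_mem hw (W₂.smul_mem _ hw₀))
    (by rw [H.sub_left, H.smul_left, div_mul_cancel₀ _ hne, sub_self])
  rw [H.sub_left, H.smul_left, sub_eq_zero] at hk
  rw [H.sub_right, H.smul_right, H.conj.invol, hk]
  ring

variable [Finite F] [FiniteDimensional F V]

theorem finrank_eq : Module.finrank F V = 2 * k := by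
  rw [← Submodule.finrank_add_eq_of_isCompl S.compl, S.dim₁, S.dim₂, two_mul]

theorem finrank_inf_orth (p q : V) :
    k ≤ Module.finrank F ↥(W₁ ⊓ H.orth (Submodule.span F {p})) + 1 ∧
      k ≤ Module.finrank F ↥(W₁ ⊓ H.orth (Submodule.span F {p, q})) + 2 := by
  classical
  have h : ∀ (T : Submodule F V) (m : ℕ), Module.finrank F T ≤ m →
      k ≤ Module.finrank F ↥(W₁ ⊓ H.orth T) + m := fun T m hm => by
    have h1 := Submodule.finrank_sup_add_finrank_inf_eq W₁ (H.orth T)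
    have h2 := Submodule.finrank_le (W₁ ⊔ H.orth T)
    rw [H.finrank_orth, S.dim₁, S.finrank_eq] at h1
    rw [S.finrank_eq] at h2
    omega
  refine ⟨h _ 1 ?_, h _ 2 ?_⟩
  · exact (finrank_span_le_card ({p} : Set V)).trans (by simp)
  · refine (finrank_span_le_card ({p, q} : Set V)).trans ?_
    rw [Set.toFinset_insert, Set.toFinset_singleton]
    exact Finset.card_le_two

theorem exists_pick (hk : 3 ≤ k) (p a : V) : ∃ v ∈ W₁, v ∉ Submodule.span F {a} ∧ H.h v p = 0 := by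
  have hle : ¬ W₁ ⊓ H.orth (Submodule.span F {p}) ≤ Submodule.span F {a} := fun h => by
    have := (Submodule.finrank_mono h).trans (finrank_span_le_card ({a} : Set V))
    have := (S.finrank_inf_orth p p).1
    have := hk
    simp_all
    omega
  obtain ⟨v, hv, hva⟩ := SetLike.not_le_iff_exists.mp hle
  exact ⟨v, hv.1, hva, hv.2 _ (Submodule.mem_span_singleton_self p)⟩

theorem exists_pick₂ (hk : 3 ≤ k) (p q : V) : ∃ v ∈ W₁, v ≠ 0 ∧ H.h v p = 0 ∧ H.h v q = 0 := by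
  obtain ⟨v, hv, hv0⟩ := (W₁ ⊓ H.orth (Submodule.span F {p, q})).exists_mem_ne_zero_of_ne_bot fun h => by
    have := (S.finrank_inf_orth p q).2
    rw [h, finrank_bot] at this
    omega
  exact ⟨v, hv.1, hv0, hv.2 _ (Submodule.subset_span (Set.mem_insert _ _)),
    hv.2 _ (Submodule.subset_span (Set.mem_insert_of_mem _ rfl))⟩

/-- Centres in both subspaces give the whole group. -/
theorem top_of_all {K : Subgroup H.SIsom} (h1 : ∀ u ∈ W₁, u ∈ H.uCentres K) (h2 : ∀ u ∈ W₂, u ∈ H.uCentres K) :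
    K = ⊤ := by
  refine eq_top_of_uCentres (Or.inl (by rw [S.finrank_eq]; have := S.big; omega)) fun y hy => ?_
  have key : ∀ a ∈ W₁, ∀ b ∈ W₂, H.h a b ≠ 0 → H.h (a + b) (a + b) = 0 → a + b ∈ H.uCentres K := by
    intro a ha b hb hne hiso
    have := uCentres_span (h1 a ha) (h2 b hb) hne (a := 1) (b := 1) (by rwa [one_smul, one_smul])
    rwa [one_smul, one_smul] at this
  obtain ⟨a, ha, b, hb, rfl⟩ := S.exists_split y
  by_cases hb0 : b = 0
  · rw [hb0, add_zero]; exact h1 a ha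
  by_cases hab : H.h a b = 0
  swap
  · exact key a ha b hb hab hy
  obtain ⟨u, hu, hub⟩ : ∃ u ∈ W₁, H.h u b ≠ 0 := by
    by_contra hc
    push Not at hc
    exact hb0 (S.symm.eq_zero hb hc)
  obtain ⟨δ, hδ0, hδ⟩ := H.conj.exists_skew
  have hδ' : δ + H.σ δ = 0 := hδ
  set T := H.sT (S.h₁ hu hu) hδ' with hT
  have hTK : T ∈ K := (h1 u hu).2 δ hδ'
  have e : T.1.1 (a + b) = (a + (δ * H.h b u) • u) + b := by
    rw [hT, sT_apply, H.add_left, S.h₁ ha hu, zero_add, add_right_comm]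
  have hC : T.1.1 (a + b) ∈ H.uCentres K := by
    rw [e]
    refine key _ (W₁.add_mem ha (W₁.smul_mem _ hu)) b hb ?_ ?_
    · rw [H.add_left, hab, zero_add, H.smul_left, mul_ne_zero_iff, mul_ne_zero_iff]
      exact ⟨⟨hδ0, fun h => hub (H.eq_zero_symm h)⟩, hub⟩
    · rw [← e, H.map_form, hy]
  have hC' := uCentres_map hC (K.inv_mem hTK)
  rwa [show (T⁻¹).1.1 (T.1.1 (a + b)) = a + b from H.inv_apply_self T.1 _] at hC'

variable {K : Subgroup H.SIsom} (hR : ∀ u ∈ W₁, ∀ w ∈ W₂, H.h w u = 0 → H.Pr K u w)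
include hR

theorem root_symm : ∀ u ∈ W₂, ∀ w ∈ W₁, H.h w u = 0 → H.Pr K u w :=
  fun u hu w hw h => (hR w hw u hu (H.eq_zero_symm h)).symm

theorem centres_step {a b u : V} (ha : a ∈ W₁) (hb : b ∈ W₂) (hx : a + b ∈ H.uCentres K) (ha0 : a ≠ 0)
    (hu : u ∈ W₁) (hub : H.h u b = 0) (hua : u ∉ Submodule.span F {a}) : u ∈ H.uCentres K := by
  have hau : a ∉ Submodule.span F {u} := fun h => by
    obtain ⟨c, rfl⟩ := Submodule.mem_span_singleton.mp h
    have hc : c ≠ 0 := fun h => ha0 (by rw [h, zero_smul])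
    exact hua (Submodule.mem_span_singleton.mpr ⟨c⁻¹, by rw [smul_smul, inv_mul_cancel₀ hc, one_smul]⟩)
  obtain ⟨w, hw, hwu, hwa⟩ := S.exists_test ha hu hau
  refine centre_of_fixed hx (hR u hu w hw hwu) ?_ ?_
  · rw [H.add_right, S.h₁ hu ha, hub, add_zero]
  · rwa [H.add_right, S.h₂ hw hb, add_zero]

theorem centres_left (hk : 3 ≤ k) {a b : V} (ha : a ∈ W₁) (hb : b ∈ W₂) (hx : a + b ∈ H.uCentres K) (ha0 : a ≠ 0)
    {u : V} (hu : u ∈ W₁) : u ∈ H.uCentres K := by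
  obtain ⟨v, hv, hva, hvb⟩ := S.exists_pick hk b a
  have hv0 : v ≠ 0 := fun h => hva (by rw [h]; exact Submodule.zero_mem _)
  have hvC := S.centres_step hR ha hb hx ha0 hv hvb hva
  by_cases huv : u ∈ Submodule.span F {v}
  · obtain ⟨c, rfl⟩ := Submodule.mem_span_singleton.mp huv
    exact uCentres_smul hvC c
  exact S.centres_step hR hv W₂.zero_mem (by rwa [add_zero]) hv0 hu (H.zero_right u) huv

theorem top_of_centre (hk : 3 ≤ k) {s : H.SIsom} (hs : s ∈ K) (hs₁ : ∀ x ∈ W₁, s.1.1 x ∈ W₂)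
    (hs₂ : ∀ x ∈ W₂, s.1.1 x ∈ W₁) {x : V} (hx : x ∈ H.uCentres K) (hx0 : x ≠ 0) : K = ⊤ := by
  have h1 : ∀ u ∈ W₁, u ∈ H.uCentres K := by
    intro u hu
    obtain ⟨a, ha, b, hb, rfl⟩ := S.exists_split x
    by_cases ha0 : a = 0
    · subst ha0
      rw [zero_add] at hx hx0
      exact S.centres_left hR hk (hs₂ b hb) W₂.zero_mem (by rw [add_zero]; exact uCentres_map hx hs)
        (H.isom_ne_zero s.1 hx0) hu
    · exact S.centres_left hR hk ha hb hx ha0 hu
  have h2 : ∀ u ∈ W₂, u ∈ H.uCentres K := by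
    intro u hu
    obtain ⟨v, hv, hv0, -⟩ := S.exists_pick hk 0 0
    have hv0' : v ≠ 0 := fun h => hv0 (by rw [h]; exact Submodule.zero_mem _)
    exact S.symm.centres_left (S.root_symm hR) hk (hs₁ v hv) W₁.zero_mem
      (by rw [add_zero]; exact uCentres_map (h1 v hv) hs) (H.isom_ne_zero s.1 hv0') hu
  exact S.top_of_all h1 h2

theorem split_false (hno : ∀ z, z ∈ H.uCentres K → z = 0) {a b v : V} (ha : a ∈ W₁) (hb : b ∈ W₂)
    (ha0 : a ≠ 0) (hv : v ∈ W₁) (hva : v ∉ Submodule.span F {a}) (hP : H.Pr K (a + b) v) : False := by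
  obtain ⟨hvv, hxx, hxv, hK⟩ := hP.symm
  have hbv : H.h b v = 0 := by rw [H.add_left, S.h₁ ha hv, zero_add] at hxv; exact hxv
  set η := H.h a b with hη'
  have hη : η + H.σ η = 0 := by
    rw [H.add_left, H.add_right, H.add_right, S.h₁ ha ha, S.h₂ hb hb] at hxx
    rw [hη', ← H.symm b a]
    linear_combination hxx
  have hf : H.sR hvv (S.h₁ ha ha) (S.h₁ ha hv) 1 * H.sT hvv hη ∈ K := by
    obtain ⟨hv', hb', hbv', hKb⟩ := hR v hv b hb hbv
    have e := H.sR_add_right' hvv (S.h₂ hb hb) hbv (S.h₁ ha ha) (S.h₁ ha hv) 1 1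
      (y := a + b) (by rw [one_smul, add_comm]) hxx hxv hη (by rw [map_one, one_mul, one_mul, one_mul])
    rw [map_one, mul_one, mul_assoc] at e
    have h := K.mul_mem (K.inv_mem (hKb 1)) (hK 1)
    rwa [e, inv_mul_cancel_left] at h
  obtain ⟨w, hw, hwa, hwv⟩ := S.exists_test hv ha hva
  obtain ⟨ha', hw', hwa', hKm⟩ := hR a ha w hw hwa
  have hvw : H.h v w ≠ 0 := fun h => hwv (H.eq_zero_symm h)
  -- the difference elements
  have hD : ∀ s : F, ∃ ht : (s - H.σ s + s * H.σ s * η) + H.σ (s - H.σ s + s * H.σ s * η) = 0,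
      H.sR hvv (S.h₁ ha ha) (S.h₁ ha hv) (η * H.σ s) * H.sT ha' ht ∈ K := by
    intro s
    have ht : (s - H.σ s + s * H.σ s * η) + H.σ (s - H.σ s + s * H.σ s * η) = 0 := by
      simp only [map_add, map_sub, map_mul, H.conj.invol]
      linear_combination (s * H.σ s) * hη
    refine ⟨ht, ?_⟩
    set m := H.sR ha' hw' hwa' (s / H.h v w) with hm
    have hma : m.1.1 a = a := by
      rw [hm, sR_apply, H.eq_zero_symm hwa, ha']; simp
    have hmv : m.1.1 v = v + s • a := by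
      rw [hm, sR_apply, S.h₁ hv ha, div_mul_cancel₀ _ hvw]; simp
    have hmem := K.mul_mem (K.mul_mem (K.mul_mem (hKm (s / H.h v w)) hf) (K.inv_mem (hKm (s / H.h v w))))
      (K.inv_mem hf)
    convert hmem using 1
    rw [eq_mul_inv_iff_mul_eq, ← hm]
    have e : m * (H.sR hvv (S.h₁ ha ha) (S.h₁ ha hv) 1 * H.sT hvv hη) * m⁻¹ =
        m * H.sR hvv (S.h₁ ha ha) (S.h₁ ha hv) 1 * m⁻¹ * (m * H.sT hvv hη * m⁻¹) := by group
    rw [e, sR_conj, sT_conj]
    refine H.sisom_ext fun x => ?_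
    simp only [smul_mul_apply, sR_apply, sT_apply, hma, hmv, H.add_left, H.sub_left, H.smul_left, H.add_right,
      H.smul_right, hvv, ha', S.h₁ ha hv, S.h₁ hv ha, map_mul, map_one, H.conj.invol,
      eq_neg_of_add_eq_zero_right hη]
    module
  refine ha0 (hno a ⟨ha', fun t ht => ?_⟩)
  change H.sT ha' ht ∈ K
  obtain ⟨θ, hθ⟩ := H.conj.exists_trace_one
  by_cases hη0 : η = 0
  · obtain ⟨h', hK'⟩ := hD (θ * t)
    convert hK' using 1
    refine H.sisom_ext fun x => ?_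
    simp only [smul_mul_apply, sR_apply, sT_apply, hη0, zero_mul, mul_zero, map_zero, zero_smul, add_zero,
      sub_zero]
    rw [map_mul, eq_neg_of_add_eq_zero_right ht, show θ * t - H.σ θ * -t = t by linear_combination t * hθ]
  · set r := θ * (t / η) with hr
    obtain ⟨p₁, h₁⟩ := hD r
    obtain ⟨p₂, h₂⟩ := hD 1
    obtain ⟨p₃, h₃⟩ := hD (r + 1)
    have hte : t = η * (r + H.σ r) := by
      have hfix : H.σ (t / η) = t / η := by
        rw [map_div₀, eq_neg_of_add_eq_zero_right ht, eq_neg_of_add_eq_zero_right hη, neg_div_neg_eq]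
      rw [hr, map_mul, hfix, ← add_mul, hθ, one_mul, mul_div_cancel₀ _ hη0]
    convert K.mul_mem (K.inv_mem (K.mul_mem h₁ h₂)) h₃ using 1
    rw [eq_inv_mul_iff_mul_eq]
    refine H.sisom_ext fun x => ?_
    simp only [smul_mul_apply, sR_apply, sT_apply, H.add_left, H.sub_left, H.smul_left, hvv, ha',
      S.h₁ ha hv, S.h₁ hv ha, map_mul, map_one, map_add, hte]
    module

theorem orth_of_no_root (hk : 3 ≤ k) (hno : ∀ z, z ∈ H.uCentres K → z = 0) {a b : V} (ha : a ∈ W₁) (hb : b ∈ W₂)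
    (hx0 : a + b ≠ 0) (hp : ∀ v ∈ W₁, H.Pr K (a + b) v → v ∈ Submodule.span F {a})
    {y w : V} (hy : H.Pr K (a + b) y) (hw : w ∈ W₂) (hwa : H.h w a = 0) : H.h y w = 0 := by
  by_contra hne
  have hnc : ∀ {p q : V}, H.Pr K (a + b) p → H.Pr K (a + b) q → H.h p q = 0 := fun hp' hq' =>
    by_contra fun h => hx0 (hno _ (hp'.centre hq' h))
  -- every vector of the first space fixing the pair gives a short root pair
  have gen : ∀ v ∈ W₁, ∀ w ∈ W₂, H.h w a = 0 → H.h v b = 0 → H.h v w = 0 → H.h y w ≠ 0 →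
      H.Pr K (a + b) v := by
    intro v hv w hw hwa hvb hvw hne
    obtain ⟨hv', hw', hwv', hKR⟩ := hR v hv w hw (H.eq_zero_symm hvw)
    have hd : ∀ l, H.Pr K (a + b) ((l * H.h y w) • v + (-(H.σ l * H.h y v)) • w) := by
      intro l
      set m := H.sR hv' hw' hwv' l with hm
      have hmx : m.1.1 (a + b) = a + b := by
        rw [hm, sR_apply, H.add_left, H.add_left, H.eq_zero_symm hwa, S.h₂ hb hw, S.h₁ ha hv, H.eq_zero_symm hvb]
        simp
      have hmy : m.1.1 y = y + ((l * H.h y w) • v + (-(H.σ l * H.h y v)) • w) := by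
        rw [hm, sR_apply]; module
      have h1 := hy.map (hKR l)
      rw [← hm, hmx, hmy] at h1
      have h2 := h1.add hy (hnc h1 hy) (-1)
      rwa [neg_one_smul, ← sub_eq_add_neg, add_sub_cancel_left] at h2
    obtain ⟨c, hc⟩ := H.conj.ne_id
    set A := (H.σ c - c) * H.h y w with hA
    have hA0 : A ≠ 0 := mul_ne_zero (sub_ne_zero.mpr hc) hne
    have hxx : H.h (a + b) (a + b) = 0 := hy.choose
    have hsmul : ∀ {p : V} (r : F), H.Pr K (a + b) p → H.Pr K (a + b) (r • p) := fun r h => by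
      have := (Pr.zero hxx).add h (H.zero_left _) r
      rwa [zero_add] at this
    have h3 := hsmul A⁻¹ ((hsmul (H.σ c) (hd 1)).add (hd c) (hnc (hsmul (H.σ c) (hd 1)) (hd c)) (-1))
    convert h3 using 1
    rw [eq_inv_smul_iff₀ hA0, map_one, hA]
    module
  by_cases hex : ∃ v ∈ W₁, v ∉ Submodule.span F {a} ∧ H.h v b = 0 ∧ H.h v w = 0
  · obtain ⟨v, hv, hva, hvb, hvw⟩ := hex
    exact hva (hp v hv (gen v hv w hw hwa hvb hvw hne))
  push Not at hex
  obtain ⟨v, hv, hv0, hvb, hvw⟩ := S.exists_pick₂ hk b w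
  have hva : v ∈ Submodule.span F {a} := by_contra fun h => hex v hv h hvb hvw
  obtain ⟨c, rfl⟩ := Submodule.mem_span_singleton.mp hva
  have hc : c ≠ 0 := fun h => hv0 (by rw [h, zero_smul])
  have hab : H.h a b = 0 := by rw [H.smul_left] at hvb; exact (mul_eq_zero.mp hvb).resolve_left hc
  have hba : H.h b a = 0 := H.eq_zero_symm hab
  by_cases hyb : H.h y b = 0
  · -- the point of the first space itself is a centre
    have hxa := gen a ha w hw hwa hab (H.eq_zero_symm hwa) hne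
    have hab' := hR a ha b hb hba
    have h := hxa.symm.add hab' (by rw [H.add_left, hab, S.h₂ hb hb, add_zero]) (-1)
    rw [neg_one_smul, add_neg_cancel_right] at h
    obtain ⟨haa, haa₂, haa₃, hK⟩ := h
    refine hv0 (hno _ (uCentres_smul ⟨haa, fun t ht => ?_⟩ c))
    obtain ⟨θ, hθ⟩ := H.conj.exists_trace_one
    change H.sT haa ht ∈ K
    convert hK (θ * t) using 1
    refine H.sisom_ext fun x => ?_
    rw [sR_apply, sT_apply, add_sub_assoc, ← sub_smul, map_mul, eq_neg_of_add_eq_zero_right ht, ← sub_mul]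
    congr 2
    linear_combination (-t * H.h x a) * hθ
  · obtain ⟨v', hv', hva', hvb'⟩ := S.exists_pick hk b a
    exact hva' (hp v' hv' (gen v' hv' b hb hba hvb' hvb' hyb))

theorem point (hk : 3 ≤ k) {g : H.SIsom} (hg : g ∈ K) (hno : ∀ z, z ∈ H.uCentres K → z = 0) {u : V} (hu : u ∈ W₁) :
    g.1.1 u ∈ W₁ ∨ g.1.1 u ∈ W₂ := by
  obtain ⟨a, ha, b, hb, e⟩ := S.exists_split (g.1.1 u)
  by_cases ha0 : a = 0
  · right; rw [e, ha0, zero_add]; exact hb
  by_cases hb0 : b = 0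
  · left; rw [e, hb0, add_zero]; exact ha
  exfalso
  have hx0 : a + b ≠ 0 := fun h => ha0 (Submodule.disjoint_def.mp S.compl.disjoint a ha
    (by rw [eq_neg_of_add_eq_zero_left h]; exact W₂.neg_mem hb))
  have hp₁ : ∀ v ∈ W₁, H.Pr K (a + b) v → v ∈ Submodule.span F {a} := fun v hv h =>
    by_contra fun hn => S.split_false hR hno ha hb ha0 hv hn h
  have hp₂ : ∀ v ∈ W₂, H.Pr K (b + a) v → v ∈ Submodule.span F {b} := fun v hv h =>
    by_contra fun hn => S.symm.split_false (S.root_symm hR) hno hb ha hb0 hv hn h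
  have hY : ∀ w ∈ W₂, H.h w u = 0 → H.Pr K (a + b) (g.1.1 w) := fun w hw hwu => by
    rw [← e]; exact (hR u hu w hw hwu).map hg
  -- the test vectors on both sides
  obtain ⟨v, hv, hva, hvb⟩ := S.exists_pick hk b a
  obtain ⟨w, hw, hwa, hwv⟩ := S.exists_test hv ha hva
  have hback : ∀ z, H.h z (a + b) = 0 → (∀ y, H.Pr K (a + b) y → H.h y z = 0) →
      ∃ c : F, ∃ q ∈ W₂, H.h q u = 0 ∧ (g⁻¹).1.1 z = c • u + q := by
    intro z hzx hzy
    obtain ⟨p, hp, q, hq, ez⟩ := S.exists_split ((g⁻¹).1.1 z)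
    have hgz : g.1.1 ((g⁻¹).1.1 z) = z := H.apply_inv_self g.1 z
    have hqu : H.h q u = 0 := by
      rw [← e, ← hgz, H.map_form, ez, H.add_left, S.h₁ hp hu, zero_add] at hzx
      exact hzx
    by_cases hpu : p ∈ Submodule.span F {u}
    · obtain ⟨c, rfl⟩ := Submodule.mem_span_singleton.mp hpu
      exact ⟨c, q, hq, hqu, ez⟩
    obtain ⟨y, hy, hyu, hyp⟩ := S.exists_test hp hu hpu
    have := hzy _ (hY y hy hyu)
    rw [← hgz, H.map_form, ez, H.add_right, S.h₂ hy hq, add_zero] at this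
    exact absurd this hyp
  have hv1 : H.h v (a + b) = 0 := by rw [H.add_right, S.h₁ hv ha, hvb, add_zero]
  have hw1 : H.h w (a + b) = 0 := by rw [H.add_right, hwa, S.h₂ hw hb, add_zero]
  obtain ⟨c, q, hq, hqu, ev⟩ := hback v hv1 fun y hy =>
    S.symm.orth_of_no_root (S.root_symm hR) hk hno hb ha (by rwa [add_comm]) hp₂ (by rwa [add_comm]) hv hvb
  obtain ⟨c', q', hq', hqu', ew⟩ := hback w hw1 fun y hy => S.orth_of_no_root hR hk hno ha hb hx0 hp₁ hy hw hwa
  apply hwv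
  rw [← H.map_form (g⁻¹).1, ew, ev]
  simp [H.add_left, H.add_right, H.smul_left, H.smul_right, S.h₁ hu hu, S.h₂ hq' hq, hqu', H.eq_zero_symm hqu]

omit hR

theorem exists_dual_bases_of (e : Module.Basis (Fin k) F W₁) :
    ∃ b : Module.Basis (Fin k ⊕ Fin k) F V, (∀ i, b (Sum.inl i) = (e i : V)) ∧ (∀ i, b (Sum.inl i) ∈ W₁) ∧
      (∀ i, b (Sum.inr i) ∈ W₂) ∧ ∀ i j, H.h (b (Sum.inl i)) (b (Sum.inr j)) = if i = j then 1 else 0 := by
  have hex : ∀ j, ∃ f ∈ W₂, ∀ i, H.h (e i : V) f = if i = j then 1 else 0 := by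
    intro j
    obtain ⟨y, hy⟩ := H.exists_extend_dual (e.coord j)
    obtain ⟨p, hp, f, hf, rfl⟩ := S.exists_split y
    refine ⟨f, hf, fun i => ?_⟩
    have := hy (e i)
    rw [H.add_right, S.h₁ (e i).2 hp, zero_add, e.coord_apply, e.repr_self] at this
    rw [this, Finsupp.single_apply]
  choose f hf hfe using hex
  let w : Fin k ⊕ Fin k → V := Sum.elim (fun i => (e i : V)) f
  have hli : LinearIndependent F w := by
    rw [Fintype.linearIndependent_iff]
    intro c hc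
    rw [Fintype.sum_sum_type] at hc
    simp only [w, Sum.elim_inl, Sum.elim_inr] at hc
    set A := ∑ i, c (Sum.inl i) • (e i : V) with hA
    set B := ∑ j, c (Sum.inr j) • f j with hB
    have hA1 : A ∈ W₁ := W₁.sum_mem fun i _ => W₁.smul_mem _ (e i).2
    have hB2 : B ∈ W₂ := W₂.sum_mem fun j _ => W₂.smul_mem _ (hf j)
    have hA0 : A = 0 := Submodule.disjoint_def.mp S.compl.disjoint A hA1
      (by rw [eq_neg_of_add_eq_zero_left hc]; exact W₂.neg_mem hB2)
    have hB0 : B = 0 := by rw [hA0, zero_add] at hc; exact hc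
    rintro (i | j)
    · have := congrArg (fun z => H.h z (f i)) hA0
      simpa [hA, H.sum_left, H.smul_left, hfe, H.zero_left] using this
    · have := congrArg (fun z => H.h (e j : V) z) hB0
      simp [hB, H.sum_right, H.smul_right, hfe, H.zero_right] at this
      exact this
  let b := basisOfLinearIndependentOfCardEqFinrank' w hli
    (by rw [Fintype.card_sum, Fintype.card_fin, S.finrank_eq, two_mul])
  refine ⟨b, fun i => ?_, fun i => ?_, fun i => ?_, fun i j => ?_⟩ <;>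
    simp only [b, coe_basisOfLinearIndependentOfCardEqFinrank', w, Sum.elim_inl, Sum.elim_inr]
  exacts [(e i).2, hf i, hfe j i]

theorem exists_dual_bases :
    ∃ b : Module.Basis (Fin k ⊕ Fin k) F V, (∀ i, b (Sum.inl i) ∈ W₁) ∧ (∀ i, b (Sum.inr i) ∈ W₂) ∧
      ∀ i j, H.h (b (Sum.inl i)) (b (Sum.inr j)) = if i = j then 1 else 0 := by
  obtain ⟨b, -, h⟩ := S.exists_dual_bases_of (Module.finBasisOfFinrankEq F W₁ S.dim₁)
  exact ⟨b, h⟩

theorem exists_swap : ∃ s : H.SIsom, (∀ x ∈ W₁, s.1.1 x ∈ W₂) ∧ ∀ x ∈ W₂, s.1.1 x ∈ W₁ := by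
  obtain ⟨b, hb₁, hb₂, hb⟩ := S.exists_dual_bases
  let g := b.equiv b (Equiv.sumComm (Fin k) (Fin k))
  have hgb : ∀ i, g (b i) = b (Equiv.sumComm (Fin k) (Fin k) i) := fun i => b.equiv_apply i b _
  have hsym : ∀ i j, H.h (g (b i)) (g (b j)) = H.h (b i) (b j) := by
    have hb' : ∀ i j, H.h (b (Sum.inr i)) (b (Sum.inl j)) = if j = i then 1 else 0 := fun i j => by
      rw [H.symm, hb]; split_ifs <;> simp
    rintro (i | i) (j | j) <;> simp only [hgb, Equiv.sumComm_apply, Sum.swap_inl, Sum.swap_inr]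
    · rw [S.h₂ (hb₂ i) (hb₂ j), S.h₁ (hb₁ i) (hb₁ j)]
    · rw [hb, hb']; simp only [eq_comm]
    · rw [hb, hb']; simp only [eq_comm]
    · rw [S.h₁ (hb₁ i) (hb₁ j), S.h₂ (hb₂ i) (hb₂ j)]
  let g' : H.Isom := ⟨g, fun x y => by
    rw [← b.sum_repr x, ← b.sum_repr y]
    simp only [map_sum, map_smul, H.sum_left, H.sum_right, H.smul_left, H.smul_right, hsym]⟩
  have i₀ : Fin k := ⟨0, by have := S.big; omega⟩
  obtain ⟨t, ht, ⟨p, hp⟩, ⟨q, hq⟩, hfix⟩ :=
    H.exists_correct_pair g' (S.h₁ (hb₁ i₀) (hb₁ i₀)) (S.h₂ (hb₂ i₀) (hb₂ i₀)) (by rw [hb, if_pos rfl])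
  have hs : ∀ i, t.1 (g (b (Sum.inl i))) ∈ W₂ ∧ t.1 (g (b (Sum.inr i))) ∈ W₁ := by
    intro i
    simp only [hgb, Equiv.sumComm_apply, Sum.swap_inl, Sum.swap_inr]
    by_cases hi : i = i₀
    · subst hi; rw [hp, hq]; exact ⟨W₂.smul_mem _ (hb₂ _), W₁.smul_mem _ (hb₁ _)⟩
    · rw [hfix _ (by rw [H.symm, hb, if_neg (Ne.symm hi), map_zero]) (S.h₂ (hb₂ i) (hb₂ i₀)),
        hfix _ (S.h₁ (hb₁ i) (hb₁ i₀)) (by rw [hb, if_neg hi])]
      exact ⟨hb₂ i, hb₁ i⟩
  refine ⟨⟨t * g', ht⟩, fun x hx => ?_, fun x hx => ?_⟩ <;>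
    (change t.1 (g x) ∈ _
     rw [← b.sum_repr x, Fintype.sum_sum_type, map_add, map_add, map_sum, map_sum, map_sum, map_sum])
  · have h0 : ∀ i, b.repr x (Sum.inr i) = 0 := fun i => by
      have e : H.h (b (Sum.inl i)) x = H.σ (b.repr x (Sum.inr i)) := by
        conv_lhs => rw [← b.sum_repr x, Fintype.sum_sum_type]
        simp [H.add_right, H.sum_right, H.smul_right, hb, S.h₁ (hb₁ i) (hb₁ _)]
      exact H.conj.eq_zero.mp (by rw [← e, S.h₁ (hb₁ i) hx])
    simp only [h0, zero_smul, map_zero, Finset.sum_const_zero, add_zero, map_smul]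
    exact W₂.sum_mem fun i _ => W₂.smul_mem _ (hs i).1
  · have h0 : ∀ i, b.repr x (Sum.inl i) = 0 := fun i => by
      have e : H.h x (b (Sum.inr i)) = b.repr x (Sum.inl i) := by
        conv_lhs => rw [← b.sum_repr x, Fintype.sum_sum_type]
        simp [H.add_left, H.sum_left, H.smul_left, hb, S.h₂ (hb₂ _) (hb₂ i)]
      rw [← e, S.h₂ hx (hb₂ i)]
    simp only [h0, zero_smul, map_zero, Finset.sum_const_zero, zero_add, map_smul]
    exact W₁.sum_mem fun i _ => W₁.smul_mem _ (hs i).2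

theorem isCoatom (hk : 3 ≤ k) (M : Subgroup H.SIsom)
    (hM : ∀ g : H.SIsom, g ∈ M ↔ (W₁.map g.1.1.toLinearMap = W₁ ∧ W₂.map g.1.1.toLinearMap = W₂) ∨
      (W₁.map g.1.1.toLinearMap = W₂ ∧ W₂.map g.1.1.toLinearMap = W₁)) : IsCoatom M := by
  have heq : ∀ (g : H.SIsom) (A B : Submodule F V), Module.finrank F B = Module.finrank F A →
      (∀ x ∈ A, g.1.1 x ∈ B) → A.map g.1.1.toLinearMap = B := fun g A B hd h =>
    Submodule.eq_of_le_of_finrank_eq (by rintro _ ⟨x, hx, rfl⟩; exact h x hx)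
      (by rw [LinearEquiv.finrank_map_eq, hd])
  constructor
  · intro htop
    obtain ⟨u, hu, hu0, -⟩ := S.exists_pick hk 0 0
    have hu0' : u ≠ 0 := fun h => hu0 (by rw [h]; exact Submodule.zero_mem _)
    obtain ⟨w, hw, hwu⟩ : ∃ w ∈ W₂, H.h w u ≠ 0 := by
      by_contra hc
      push Not at hc
      exact hu0' (S.eq_zero hu hc)
    obtain ⟨δ, hδ0, hδ⟩ := H.conj.exists_skew
    have hδ' : δ + H.σ δ = 0 := hδ
    have h := (hM (H.sT (S.h₁ hu hu) hδ')).mp (htop ▸ Subgroup.mem_top _)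
    have hne : (δ * H.h w u) • u ∉ W₂ := fun h' => by
      have := Submodule.disjoint_def.mp S.compl.disjoint _ (W₁.smul_mem _ hu) h'
      simp [hδ0, hwu, hu0'] at this
    rcases h with ⟨-, h2⟩ | ⟨h1, -⟩
    · have hmem : (H.sT (S.h₁ hu hu) hδ').1.1 w ∈ W₂ := by
        exact (SetLike.ext_iff.mp h2 _).mp (Submodule.mem_map_of_mem hw)
      rw [sT_apply] at hmem
      exact hne ((Submodule.add_mem_iff_right _ hw).mp hmem)
    · have hmem : (H.sT (S.h₁ hu hu) hδ').1.1 u ∈ W₂ := by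
        exact (SetLike.ext_iff.mp h1 _).mp (Submodule.mem_map_of_mem hu)
      rw [sT_apply, S.h₁ hu hu, mul_zero, zero_smul, add_zero] at hmem
      exact hu0' (Submodule.disjoint_def.mp S.compl.disjoint u hu hmem)
  intro K hlt
  obtain ⟨g, hgK, hgM⟩ := SetLike.exists_of_lt hlt
  have hR : ∀ u ∈ W₁, ∀ w ∈ W₂, H.h w u = 0 → H.Pr K u w := fun u hu w hw hwu =>
    ⟨S.h₁ hu hu, S.h₂ hw hw, hwu, fun l => hlt.le <| (hM _).mpr <| Or.inl
      ⟨heq _ _ _ rfl fun x hx => by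
        rw [sR_apply, S.h₁ hx hu, mul_zero, zero_smul, sub_zero]; exact W₁.add_mem hx (W₁.smul_mem _ hu),
      heq _ _ _ rfl fun x hx => by
        rw [sR_apply, S.h₂ hx hw, mul_zero, zero_smul, add_zero]; exact W₂.sub_mem hx (W₂.smul_mem _ hw)⟩⟩
  obtain ⟨s, hs₁, hs₂⟩ := S.exists_swap
  have hsK : s ∈ K := hlt.le ((hM s).mpr (Or.inr
    ⟨heq _ _ _ (by rw [S.dim₁, S.dim₂]) hs₁, heq _ _ _ (by rw [S.dim₁, S.dim₂]) hs₂⟩))
  by_contra hne
  have hno : ∀ z, z ∈ H.uCentres K → z = 0 := fun z hz =>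
    by_contra fun hz0 => hne (S.top_of_centre hR hk hsK hs₁ hs₂ hz hz0)
  have key : ∀ (A : Submodule F V), Module.finrank F A = k → (∀ x ∈ A, g.1.1 x ∈ W₁ ∨ g.1.1 x ∈ W₂) →
      A.map g.1.1.toLinearMap = W₁ ∨ A.map g.1.1.toLinearMap = W₂ := by
    intro A hA h
    by_cases h1 : ∀ x ∈ A, g.1.1 x ∈ W₁
    · exact Or.inl (heq _ _ _ (by rw [S.dim₁, hA]) h1)
    refine Or.inr (heq _ _ _ (by rw [S.dim₂, hA]) fun x hx => ?_)
    push Not at h1
    obtain ⟨y, hy, hy1⟩ := h1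
    have hy2 := (h y hy).resolve_left hy1
    rcases h x hx with hx1 | hx2
    swap
    · exact hx2
    rcases h (x + y) (A.add_mem hx hy) with h' | h' <;> rw [map_add] at h'
    · exact absurd ((Submodule.add_mem_iff_right _ hx1).mp h') hy1
    · exact (Submodule.add_mem_iff_left _ hy2).mp h'
  have hsurj : ∀ x ∈ W₂, ∃ u ∈ W₁, s.1.1 u = x := fun x hx => by
    rw [← heq s W₁ W₂ (by rw [S.dim₁, S.dim₂]) hs₁] at hx
    exact hx
  have k1 := key W₁ S.dim₁ fun x hx => S.point hR hk hgK hno hx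
  have k2 := key W₂ S.dim₂ fun x hx => by
    obtain ⟨u, hu, rfl⟩ := hsurj x hx
    exact S.point hR hk (K.mul_mem hgK hsK) hno hu
  have hne12 : W₁.map g.1.1.toLinearMap ≠ W₂.map g.1.1.toLinearMap := fun h => by
    have h' := Submodule.map_injective_of_injective g.1.1.injective h
    have hd := S.compl.disjoint
    rw [← h', disjoint_self] at hd
    have := S.dim₁
    rw [hd, finrank_bot] at this
    have := S.big
    omega
  apply hgM
  rw [hM]
  rcases k1 with k1 | k1 <;> rcases k2 with k2 | k2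
  · exact absurd (k1.trans k2.symm) hne12
  · exact Or.inl ⟨k1, k2⟩
  · exact Or.inr ⟨k1, k2⟩
  · exact absurd (k1.trans k2.symm) hne12

end SingPair

end HermSpace

end Cfsg.Lib.Classical
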