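import Mathlib
import Cfsg.Agent.Classical.Unitary.SingPair
import Cfsg.Agent.Classical.Unitary.MaxMatrix

set_option autoImplicit false
set_option linter.unusedVariables false
set_option linter.unusedSimpArgs false
set_option linter.style.haveILetI false

/-! The matrix form of the maximality of singular pair stabilisers in `SU_n(q)`. -/

namespace Cfsg.Lib.Classical

universe u

variable {F : Type u} [Field F] [Fintype F]

theorem perm_fin_two (P : Fin 2 → Fin 2 → Prop) :
    (∃ σ : Equiv.Perm (Fin 2), ∀ i, P i (σ i)) ↔ (P 0 0 ∧ P 1 1) ∨ (P 0 1 ∧ P 1 0) := by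
  constructor
  · rintro ⟨σ, hσ⟩
    have h0 := hσ 0; have h1 := hσ 1
    have hne : σ 0 ≠ σ 1 := σ.injective.ne (by decide)
    rcases Fin.exists_fin_two.mp ⟨σ 0, rfl⟩ with e | e <;> rcases Fin.exists_fin_two.mp ⟨σ 1, rfl⟩ with e' | e' <;>
      simp_all
  · rintro (⟨a, b⟩ | ⟨a, b⟩)
    · exact ⟨1, Fin.forall_fin_two.mpr ⟨a, b⟩⟩
    · exact ⟨Equiv.swap 0 1, Fin.forall_fin_two.mpr ⟨by simpa using a, by simpa using b⟩⟩

theorem isCompl_of_decomposition {ι : Type} [Fintype ι] [DecidableEq ι] {m : ℕ}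
    {D : Fin 2 → Submodule F (ι → F)} (hD : Cfsg.Geo.IsMDecomposition m D) : IsCompl (D 0) (D 1) := by
  refine ⟨(hD.indep.pairwiseDisjoint (by decide)), codisjoint_iff.mpr ?_⟩
  rw [← hD.iSup_eq_top, eq_comm]
  apply le_antisymm (iSup_le (Fin.forall_fin_two.mpr ⟨le_sup_left, le_sup_right⟩))
  exact sup_le (le_iSup D 0) (le_iSup D 1)

theorem isMaximalIn_unitary_singular_pair {n q : ℕ} (hF : Fintype.card F = q ^ 2) (hn : 6 ≤ n) {k : ℕ}
    (hk : 2 * k = n) (D : Fin 2 → Submodule F (Fin n → F)) (hD : Cfsg.Geo.IsMDecomposition k D)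
    (hts : ∀ i, Cfsg.Geo.IsTotallySingularFor (Cfsg.hermForm n F q) (D i)) :
    Cfsg.Geo.IsMaximalIn (Cfsg.GU n F q ⊓ Cfsg.Geo.specialLinear (Fin n) F)
      (Cfsg.Geo.decompositionStabilizer D ⊓ (Cfsg.GU n F q ⊓ Cfsg.Geo.specialLinear (Fin n) F)) := by
  have S : (stdHerm n hF).SingPair (D 0) (D 1) k := ⟨isCompl_of_decomposition hD, stdHerm_le_orth hF (hts 0),
    stdHerm_le_orth hF (hts 1), hD.finrank_eq 0, hD.finrank_eq 1, by omega⟩
  refine isMaximalIn_of_isCoatom_comap (sunitToGL hF) (range_sunitToGL hF) (S.isCoatom (by omega) _ fun g => ?_)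
  have e : ∀ W : Submodule F (Fin n → F),
      W.map (Matrix.toLin' ((sunitToGL hF g : Matrix.GeneralLinearGroup (Fin n) F) : Matrix (Fin n) (Fin n) F)) =
        W.map g.1.1.toLinearMap := fun W => by
    congr 1
    exact LinearMap.ext fun x => by rw [Matrix.toLin'_apply, sunitToGL_mulVec]; rfl
  refine Iff.trans ?_ (perm_fin_two fun i j => (D i).map g.1.1.toLinearMap = D j)
  refine exists_congr fun σ => forall_congr' fun i => ?_
  rw [e]

end Cfsg.Lib.Classical
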