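import Mathlib
import Cfsg.Agent.Classical.Unitary.FrameBasic

set_option autoImplicit false
set_option linter.unusedVariables false
set_option linter.unusedSimpArgs false
set_option linter.unusedSectionVars false
set_option linter.style.haveILetI false

/-! Overgroups of monomial unitary groups without a line to line map: columns have at most one zero. -/

namespace Cfsg.Lib.Classical

universe u v w

namespace UFrame

variable {F : Type u} [Field F] [Fintype F] [DecidableEq F] {V : Type v} [AddCommGroup V] [Module F V]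
  [FiniteDimensional F V] {H : HermSpace F V}
  {ι : Type w} [DecidableEq ι] [Fintype ι] (B : UFrame H ι)

theorem ph_mul {p r : ι} (hpr : p ≠ r) {a c : F} (ha : a * H.σ a = 1) (hc : c * H.σ c = 1) :
    B.ph p r (H.circle_mul ha hc) = B.ph p r ha * B.ph p r hc := by
  refine Subtype.ext (H.isom_ext fun x => B.ext_co fun l => ?_)
  rw [H.sisom_mul_apply, B.co_ph hpr, B.co_ph hpr, B.co_ph hpr, B.co_ph hpr]
  by_cases h1 : l = p
  · simp [h1, mul_assoc]
  · by_cases h2 : l = r
    · simp [h1, h2, hpr.symm, map_mul, mul_assoc]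
    · simp [h1, h2, hpr, B.co_ph hpr]

theorem eq_smul_b {x : V} {o : ι} (h : B.supp x ⊆ {o}) : x = B.co x o • B.b o := by
  conv_lhs => rw [B.eq_sum_supp h, Finset.sum_singleton]

/-- No element of `K` outside the monomial group maps a frame line to a frame line. -/
def NoLine (K : Subgroup H.SIsom) : Prop :=
  ∀ g ∈ K, ∀ i j, B.supp (g.1.1 (B.b i)) ⊆ {j} → B.Mono1 g.1

variable {K : Subgroup H.SIsom} (hM : ∀ g : H.SIsom, B.Mono1 g.1 → g ∈ K)

include hM in
/-- Conjugated phases fixing a frame vector are monomial. -/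
theorem conj_ph_facts (hNF : B.NoLine K) {g : H.SIsom} (hg : g ∈ K) {j p r : ι} (hpr : p ≠ r)
    (hp : B.co (g.1.1 (B.b j)) p = 0) (hr : B.co (g.1.1 (B.b j)) r = 0) {a : F} (ha : a * H.σ a = 1) (s : ι) :
    ∃ (t : ι) (l : F), (g⁻¹ * B.ph p r ha * g).1.1 (B.b s) = l • B.b t ∧
      (t ≠ s → 1 + (a - 1) * B.nm ((g⁻¹).1.1 (B.b p)) s + (H.σ a - 1) * B.nm ((g⁻¹).1.1 (B.b r)) s = 0) ∧
      l • B.b t = B.b s + ((a - 1) * H.h (B.b s) ((g⁻¹).1.1 (B.b p))) • (g⁻¹).1.1 (B.b p) +
        ((H.σ a - 1) * H.h (B.b s) ((g⁻¹).1.1 (B.b r))) • (g⁻¹).1.1 (B.b r) := by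
  have hK : g⁻¹ * B.ph p r ha * g ∈ K :=
    K.mul_mem (K.mul_mem (K.inv_mem hg) (hM _ (B.mono1_ph hpr ha))) hg
  have hfix : (g⁻¹ * B.ph p r ha * g).1.1 (B.b j) = B.b j := by
    rw [H.sisom_mul_apply, H.sisom_mul_apply]
    have : (B.ph p r ha).1.1 (g.1.1 (B.b j)) = g.1.1 (B.b j) := B.ext_co fun l => by
      rw [B.co_ph hpr]
      split_ifs with h1 h2
      · subst h1; rw [hp, mul_zero]
      · subst h2; rw [hr, mul_zero]
      · rfl
    rw [this, H.sisom_inv_apply]
  have hmono := hNF _ hK j j (by rw [hfix, supp_b])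
  obtain ⟨π, c, hc⟩ := B.mono1_iff.mp hmono
  have hform : (g⁻¹ * B.ph p r ha * g).1.1 (B.b s) = B.b s +
      ((a - 1) * H.h (B.b s) ((g⁻¹).1.1 (B.b p))) • (g⁻¹).1.1 (B.b p) +
      ((H.σ a - 1) * H.h (B.b s) ((g⁻¹).1.1 (B.b r))) • (g⁻¹).1.1 (B.b r) := by
    rw [show g⁻¹ * B.ph p r ha * g = g⁻¹ * B.ph p r ha * (g⁻¹)⁻¹ by rw [inv_inv], ph, H.qp_conj,
      H.qp_apply _ _ (by rw [H.map_form]; exact B.b_ne hpr)]
  refine ⟨π s, c s, (hc s).1, fun hts => ?_, by rw [← (hc s).1, hform]⟩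
  have h := congrArg (fun x => B.co x s) hform
  simp only [(hc s).1, co_add, co_smul, co_b, if_neg hts, ↓reduceIte, if_pos, mul_zero] at h
  have e : ∀ x, H.h (B.b s) x = H.σ (B.co x s) := fun x => H.symm _ _
  rw [e, e] at h
  simp only [nm]
  linear_combination -h

include hM in
/-- If a conjugated phase is diagonal, its eigenvector is a frame vector. -/
theorem false_of_diag (hNF : B.NoLine K) {g : H.SIsom} (hg : g ∈ K) (hgM : ¬ B.Mono1 g.1) {j p r : ι}
    (hpr : p ≠ r) (hp : B.co (g.1.1 (B.b j)) p = 0) (hr : B.co (g.1.1 (B.b j)) r = 0) {a : F}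
    (ha : a * H.σ a = 1) (haa : a ≠ H.σ a)
    (hdiag : ∀ (s t : ι) (l : F), (g⁻¹ * B.ph p r ha * g).1.1 (B.b s) = l • B.b t → l ≠ 0 → t = s) : False := by
  set u := (g⁻¹).1.1 (B.b p) with hu
  set v := (g⁻¹).1.1 (B.b r) with hv
  have huv : H.h u v = 0 := by rw [hu, hv, H.map_form]; exact B.b_ne hpr
  have huu : H.h u u = 1 := by rw [hu, H.map_form, b_self]
  have hvv : H.h v v = 1 := by rw [hv, H.map_form, b_self]
  have hu0 : u ≠ 0 := fun h => one_ne_zero (α := F) (by rw [← huu, h, H.zero_left])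
  obtain ⟨s, hs⟩ : (B.supp u).Nonempty := by
    rw [Finset.nonempty_iff_ne_empty, ne_eq, supp_eq_empty]; exact hu0
  rw [mem_supp] at hs
  obtain ⟨t, l, htl, -, heq⟩ := B.conj_ph_facts hM hNF hg hpr hp hr ha s
  have hl : l ≠ 0 := fun h => by
    rw [h, zero_smul] at htl
    exact (LinearEquiv.map_ne_zero_iff _).mpr (B.b.ne_zero s) htl
  obtain rfl := hdiag s t l htl hl
  rw [← hu, ← hv] at heq
  have hsu : H.h (B.b t) u = H.σ (B.co u t) := H.symm _ _
  have hne : H.h (B.b t) u ≠ 0 := by rw [hsu]; exact (map_ne_zero _).mpr hs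
  have hl' : l = a := by
    have h := congrArg (fun x => H.h x u) heq
    simp only [H.add_left, H.smul_left, huu, H.eq_zero_symm huv, mul_zero, mul_one, add_zero] at h
    exact mul_right_cancel₀ hne (by linear_combination h)
  subst hl'
  have hv0 : H.h (B.b t) v = 0 := by
    have h := congrArg (fun x => H.h x v) heq
    simp only [H.add_left, H.smul_left, hvv, huv, mul_zero, mul_one, add_zero] at h
    have : (l - H.σ l) * H.h (B.b t) v = 0 := by linear_combination h
    exact (mul_eq_zero.mp this).resolve_left (sub_ne_zero.mpr haa)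
  rw [hv0, mul_zero, zero_smul, add_zero] at heq
  have hl1 : l - 1 ≠ 0 := fun h => haa (by rw [sub_eq_zero.mp h, map_one])
  have hbt : B.b t = H.h (B.b t) u • u := by
    have h3 : (l - 1) • B.b t = (l - 1) • (H.h (B.b t) u • u) := by
      rw [smul_smul, sub_smul, one_smul, heq]; abel
    exact smul_right_injective V hl1 h3
  refine hgM (hNF g hg t p ?_)
  rw [hbt, map_smul, hu, H.sisom_apply_inv]
  exact (B.supp_smul_subset _ _).trans (by rw [supp_b])

include hM in
theorem col_two_zeros_large (hq : 4 ≤ H.q) (hNF : B.NoLine K) {g : H.SIsom} (hg : g ∈ K)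
    (hgM : ¬ B.Mono1 g.1) {j p r : ι} (hpr : p ≠ r) (hp : B.co (g.1.1 (B.b j)) p = 0)
    (hr : B.co (g.1.1 (B.b j)) r = 0) : False := by
  obtain ⟨a, ha, hgen⟩ := H.exists_circle_gen
  have ha0 := H.circle_ne_zero ha
  have haa : a ≠ H.σ a := fun h => hgen 2 (by norm_num) (by omega) (by rw [sq]; rwa [← h] at ha)
  refine B.false_of_diag hM hNF hg hgM hpr hp hr ha haa fun s t l htl hl => ?_
  by_contra hts
  set u := (g⁻¹).1.1 (B.b p) with hu
  set v := (g⁻¹).1.1 (B.b r) with hv
  have hmove : ∀ {c : F} (hc : c * H.σ c = 1) (t' : ι) (l' : F), t' ≠ s →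
      (g⁻¹ * B.ph p r hc * g).1.1 (B.b s) = l' • B.b t' → l' ≠ 0 →
      1 + (c - 1) * B.nm u s + (H.σ c - 1) * B.nm v s = 0 := by
    intro c hc t' l' hne he hl'
    obtain ⟨t'', l'', h1, h2, -⟩ := B.conj_ph_facts hM hNF hg hpr hp hr hc s
    refine h2 fun h => ?_
    have h3 := congrArg (fun x => B.co x t') (he.symm.trans h1)
    simp only [co_smul, co_b, ↓reduceIte, if_pos, h, if_neg hne.symm, mul_one, mul_zero] at h3
    exact hl' h3
  have h1 := hmove ha t l hts htl hl
  have h1' := congrArg H.σ h1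
  simp only [map_add, map_mul, map_sub, map_one, map_zero, H.conj.invol, B.nm_fixed] at h1'
  have hXY : B.nm u s = B.nm v s := by
    have : (a - H.σ a) * (B.nm u s - B.nm v s) = 0 := by linear_combination h1 - h1'
    exact sub_eq_zero.mp ((mul_eq_zero.mp this).resolve_left (sub_ne_zero.mpr haa))
  rw [← hXY] at h1
  have hX0 : B.nm u s ≠ 0 := fun h => one_ne_zero (α := F) (by rw [h] at h1; linear_combination h1)
  have htr : ∀ {c : F} (hc : c * H.σ c = 1) (t' : ι) (l' : F), t' ≠ s →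
      (g⁻¹ * B.ph p r hc * g).1.1 (B.b s) = l' • B.b t' → l' ≠ 0 → c + H.σ c = a + H.σ a := by
    intro c hc t' l' hne he hl'
    have h2 := hmove hc t' l' hne he hl'
    rw [← hXY] at h2
    exact mul_right_cancel₀ hX0 (by linear_combination h2 - h1)
  have hmul : ∀ {c d : F} (hc : c * H.σ c = 1) (hd : d * H.σ d = 1) (x : V),
      (g⁻¹ * B.ph p r (H.circle_mul hc hd) * g).1.1 x =
        (g⁻¹ * B.ph p r hc * g).1.1 ((g⁻¹ * B.ph p r hd * g).1.1 x) := fun hc hd x => by
    rw [B.ph_mul hpr hc hd, ← H.sisom_mul_apply]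
    congr 3
    group
  obtain ⟨t₂, l₂, h₂, -, -⟩ := B.conj_ph_facts hM hNF hg hpr hp hr ha t
  have hl₂ : l₂ ≠ 0 := fun h => by
    rw [h, zero_smul] at h₂
    exact (LinearEquiv.map_ne_zero_iff _).mpr (B.b.ne_zero t) h₂
  have hsq : (g⁻¹ * B.ph p r (H.circle_mul ha ha) * g).1.1 (B.b s) = (l * l₂) • B.b t₂ := by
    rw [hmul ha ha, htl, map_smul, h₂, smul_smul]
  rcases eq_or_ne t₂ s with rfl | hne₂
  · have hcube : (g⁻¹ * B.ph p r (H.circle_mul ha (H.circle_mul ha ha)) * g).1.1 (B.b t₂) =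
        (l * l₂ * l) • B.b t := by
      rw [hmul ha (H.circle_mul ha ha), hsq, map_smul, htl, smul_smul]
    have e := htr _ t _ hts hcube (mul_ne_zero (mul_ne_zero hl hl₂) hl)
    simp only [map_mul, H.circle_inv ha] at e
    field_simp at e
    have : (a ^ 4 - 1) * (a ^ 2 - 1) = 0 := by linear_combination e
    rcases mul_eq_zero.mp this with h | h
    · exact hgen 4 (by norm_num) hq (sub_eq_zero.mp h)
    · exact hgen 2 (by norm_num) (by omega) (sub_eq_zero.mp h)
  · have e := htr _ t₂ _ hne₂ hsq (mul_ne_zero hl hl₂)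
    simp only [map_mul, H.circle_inv ha] at e
    field_simp at e
    have : (a ^ 3 - 1) * (a - 1) = 0 := by linear_combination e
    rcases mul_eq_zero.mp this with h | h
    · exact hgen 3 (by norm_num) (by omega) (sub_eq_zero.mp h)
    · exact hgen 1 (by norm_num) (by omega) (by rw [pow_one]; exact sub_eq_zero.mp h)

set_option maxHeartbeats 2000000 in
include hM in
theorem col_two_zeros_three (hq : H.q = 3) (hn : 5 ≤ Fintype.card ι) (hNF : B.NoLine K) {g : H.SIsom}
    (hg : g ∈ K) (hgM : ¬ B.Mono1 g.1) {j p r : ι} (hpr : p ≠ r) (hp : B.co (g.1.1 (B.b j)) p = 0)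
    (hr : B.co (g.1.1 (B.b j)) r = 0) : False := by
  obtain ⟨a, ha, hgen⟩ := H.exists_circle_gen
  have ha4 : a ^ 4 = 1 := by
    have h := pow_card_eq_one' (G := (normUnits H.σ).ker)
      (x := ⟨Units.mk0 a (H.circle_ne_zero ha), MonoidHom.mem_ker.mpr (Units.ext ha)⟩)
    rw [H.conj.card_norm_ker, show Nat.card (fixedField H.σ) = 3 from hq] at h
    exact congrArg (fun z : (normUnits H.σ).ker => ((z.1 : Fˣ) : F)) h
  have ha2 : a ^ 2 = -1 := by
    have : (a ^ 2 - 1) * (a ^ 2 + 1) = 0 := by linear_combination ha4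
    rcases mul_eq_zero.mp this with h | h
    · exact absurd (sub_eq_zero.mp h) (hgen 2 (by norm_num) (by omega))
    · exact eq_neg_of_add_eq_zero_left h
  have hσa : H.σ a = -a := by
    refine mul_left_cancel₀ (H.circle_ne_zero ha) ?_
    linear_combination ha + ha2
  have haa : a ≠ H.σ a := fun h => hgen 2 (by norm_num) (by omega) (by rw [sq]; rwa [← h] at ha)
  -- every pair of zeros gives a coordinate plane
  have plane : ∀ g : H.SIsom, g ∈ K → ¬ B.Mono1 g.1 → ∀ j p r : ι, p ≠ r →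
      B.co (g.1.1 (B.b j)) p = 0 → B.co (g.1.1 (B.b j)) r = 0 →
      ∃ T : Finset ι, T.card ≤ 2 ∧ B.supp ((g⁻¹).1.1 (B.b p)) ⊆ T ∧ B.supp ((g⁻¹).1.1 (B.b r)) ⊆ T := by
    intro g hg hgM j p r hpr hp hr
    set u := (g⁻¹).1.1 (B.b p) with hu
    set v := (g⁻¹).1.1 (B.b r) with hv
    by_contra hc
    refine B.false_of_diag hM hNF hg hgM hpr hp hr ha haa fun s t l htl hl => ?_
    by_contra hts
    apply hc
    obtain ⟨t', l', htl', hD, heq⟩ := B.conj_ph_facts hM hNF hg hpr hp hr ha s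
    obtain rfl : t' = t := by
      by_contra hne
      have h3 := congrArg (fun x => B.co x t) (htl.symm.trans htl')
      simp only [co_smul, co_b, ↓reduceIte, if_pos, if_neg hne, mul_one, mul_zero] at h3
      exact hl h3
    rw [← hu, ← hv] at heq hD
    have h1 := hD hts
    have h1' := congrArg H.σ h1
    simp only [map_add, map_mul, map_sub, map_one, map_zero, H.conj.invol, B.nm_fixed] at h1'
    rw [hσa] at h1 h1'
    have hXY : B.nm u s = B.nm v s := by
      have : (a - H.σ a) * (B.nm u s - B.nm v s) = 0 := by rw [hσa]; linear_combination h1 - h1'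
      exact sub_eq_zero.mp ((mul_eq_zero.mp this).resolve_left (sub_ne_zero.mpr haa))
    have h2X : 2 * B.nm u s = 1 := by linear_combination -h1 + (a + 1) * hXY
    have h20 : (2 : F) ≠ 0 := fun h => one_ne_zero (α := F) (by rw [← h2X, h, zero_mul])
    have hm : (-1 : F) * H.σ (-1) = 1 := H.circle_neg_one
    obtain ⟨t₂, l₂, htl₂, hD₂, heq₂⟩ := B.conj_ph_facts hM hNF hg hpr hp hr hm s
    rw [← hu, ← hv] at heq₂ hD₂
    have ht₂ : t₂ = s := by
      by_contra hne
      have := hD₂ hne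
      rw [map_neg, map_one] at this
      exact one_ne_zero (α := F) (by linear_combination -this - 2 * h2X + 2 * hXY)
    subst ht₂
    have hl₂ : l₂ = -1 := by
      have h := congrArg (fun x => B.co x t₂) heq₂
      simp only [co_add, co_smul, co_b, ↓reduceIte, if_pos, mul_one, map_neg, map_one] at h
      have e : ∀ x, H.h (B.b t₂) x = H.σ (B.co x t₂) := fun x => H.symm _ _
      rw [e, e] at h
      simp only [nm] at hXY h2X
      linear_combination h - 2 * h2X + 2 * hXY
    subst hl₂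
    set α := H.h (B.b t₂) u with hα
    set β := H.h (B.b t₂) v with hβ
    have hα0 : α ≠ 0 := by
      rw [hα, H.symm]
      refine (map_ne_zero _).mpr fun h => one_ne_zero (α := F) ?_
      rw [← h2X, nm, show B.co u t₂ = 0 from h, zero_mul, mul_zero]
    have hβ0 : β ≠ 0 := by
      rw [hβ, H.symm]
      refine (map_ne_zero _).mpr fun h => one_ne_zero (α := F) ?_
      rw [← h2X, hXY, nm, show B.co v t₂ = 0 from h, zero_mul, mul_zero]
    refine ⟨{t₂, t'}, Finset.card_le_two, ?_⟩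
    have key : ∀ e, e ∉ ({t₂, t'} : Finset ι) → B.co u e = 0 ∧ B.co v e = 0 := by
      intro e he
      simp only [Finset.mem_insert, Finset.mem_singleton, not_or] at he
      have k1 := congrArg (fun x => B.co x e) heq
      have k2 := congrArg (fun x => B.co x e) heq₂
      simp only [co_add, co_smul, co_b, if_neg (Ne.symm he.1), if_neg (Ne.symm he.2), mul_zero, zero_add, map_neg,
        map_one, hσa] at k1 k2
      have k3 : 2 * ((a - H.σ a) * (α * B.co u e)) = 0 := by
        rw [hσa]; linear_combination (-2 : F) * k1 + (a + 1) * k2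
      have hu' : B.co u e = 0 := (mul_eq_zero.mp ((mul_eq_zero.mp
        ((mul_eq_zero.mp k3).resolve_left h20)).resolve_left (sub_ne_zero.mpr haa))).resolve_left hα0
      refine ⟨hu', ?_⟩
      rw [hu'] at k2
      have k4 : 2 * (β * B.co v e) = 0 := by linear_combination k2
      exact (mul_eq_zero.mp ((mul_eq_zero.mp k4).resolve_left h20)).resolve_left hβ0
    constructor <;> intro e he <;> by_contra hne
    · exact B.mem_supp.mp he (key e hne).1
    · exact B.mem_supp.mp he (key e hne).2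
  obtain ⟨T, hT, hu, -⟩ := plane g hg hgM j p r hpr hp hr
  have hgM' : ¬ B.Mono1 (g⁻¹).1 := fun h => hgM (B.mono1_inv_iff.mp h)
  have hc : 3 ≤ (B.supp ((g⁻¹).1.1 (B.b p)))ᶜ.card := by
    rw [Finset.card_compl]; have := Finset.card_le_card hu; omega
  obtain ⟨Z, hZ, hZc⟩ := Finset.exists_subset_card_eq hc
  obtain ⟨e₁, e₂, e₃, h12, h13, h23, rfl⟩ := Finset.card_eq_three.mp hZc
  have hz : ∀ e ∈ ({e₁, e₂, e₃} : Finset ι), B.co ((g⁻¹).1.1 (B.b p)) e = 0 := fun e he =>
    B.notMem_supp.mp (Finset.mem_compl.mp (hZ he))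
  obtain ⟨T2, hT2, h21, h22⟩ := plane g⁻¹ (K.inv_mem hg) hgM' p e₁ e₂ h12 (hz _ (by simp)) (hz _ (by simp))
  obtain ⟨T3, hT3, h31, h33⟩ := plane g⁻¹ (K.inv_mem hg) hgM' p e₁ e₃ h13 (hz _ (by simp)) (hz _ (by simp))
  rw [inv_inv] at h21 h22 h31 h33
  haveI : Nonempty ι := ⟨p⟩
  have hbig : 2 ≤ (B.supp (g.1.1 (B.b e₁))).card := by
    by_contra hlt
    obtain ⟨o, ho⟩ := Finset.card_le_one_iff_subset_singleton.mp (by omega : (B.supp (g.1.1 (B.b e₁))).card ≤ 1)
    exact hgM (hNF g hg e₁ o ho)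
  have e2 := Finset.eq_of_subset_of_card_le h21 (by omega)
  have e3 := Finset.eq_of_subset_of_card_le h31 (by omega)
  have hle := B.card_le_of_orth (κ := Fin 3) (w := fun i => g.1.1 (B.b (![e₁, e₂, e₃] i)))
    (fun i => by rw [H.map_form, b_self]; exact one_ne_zero)
    (fun i i' hne => by
      rw [H.map_form]; refine B.b_ne ?_
      fin_cases i <;> fin_cases i' <;> simp_all [eq_comm])
    (T := T2) (fun i => by
      fin_cases i
      · exact h21
      · exact h22
      · exact h33.trans (by rw [← e3, e2]))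
  rw [Fintype.card_fin] at hle
  omega

include hM in
theorem col_two_zeros (hq : 3 ≤ H.q) (hn : 5 ≤ Fintype.card ι) (hNF : B.NoLine K) {g : H.SIsom}
    (hg : g ∈ K) (hgM : ¬ B.Mono1 g.1) {j p r : ι} (hpr : p ≠ r) (hp : B.co (g.1.1 (B.b j)) p = 0)
    (hr : B.co (g.1.1 (B.b j)) r = 0) : False := by
  rcases eq_or_lt_of_le hq with h | h
  · exact B.col_two_zeros_three hM h.symm hn hNF hg hgM hpr hp hr
  · exact B.col_two_zeros_large hM h hNF hg hgM hpr hp hr

include hM in
theorem col_supp (hq : 3 ≤ H.q) (hn : 5 ≤ Fintype.card ι) (hNF : B.NoLine K) {g : H.SIsom}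
    (hg : g ∈ K) (hgM : ¬ B.Mono1 g.1) {j : ι} (h : (B.supp (g.1.1 (B.b j))).card + 2 ≤ Fintype.card ι) :
    False := by
  obtain ⟨p, r, hpr, hp, hr⟩ := B.exists_two_notMem h
  exact B.col_two_zeros hM hq hn hNF hg hgM hpr hp hr

include hM in
/-- No short vector goes to a frame line. -/
theorem no_short_line (hq : 3 ≤ H.q) (hn : 5 ≤ Fintype.card ι) (hNF : B.NoLine K) {g : H.SIsom}
    (hg : g ∈ K) (hgM : ¬ B.Mono1 g.1) {x : V} (hx : x ≠ 0) (hxs : (B.supp x).card + 2 ≤ Fintype.card ι)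
    {o : ι} (ho : B.supp (g.1.1 x) ⊆ {o}) : False := by
  have he := B.eq_smul_b ho
  have hc : B.co (g.1.1 x) o ≠ 0 := fun h => by
    rw [h, zero_smul] at he
    exact (LinearEquiv.map_ne_zero_iff _).mpr hx he
  have h2 : (g⁻¹).1.1 (B.b o) = (B.co (g.1.1 x) o)⁻¹ • x := by
    have := congrArg ((g⁻¹).1.1) he
    rw [H.sisom_inv_apply, map_smul] at this
    generalize B.co (g.1.1 x) o = c at this hc
    rw [this, smul_smul, inv_mul_cancel₀ hc, one_smul]
  refine B.col_supp hM hq hn hNF (K.inv_mem hg) (fun h => hgM (B.mono1_inv_iff.mp h)) (j := o) ?_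
  rw [h2, B.supp_smul (inv_ne_zero hc)]
  exact hxs

end UFrame

end Cfsg.Lib.Classical
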