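import Mathlib
import Cfsg.Agent.Classical.Unitary.FrameColumn

set_option autoImplicit false
set_option linter.unusedVariables false
set_option linter.unusedSimpArgs false
set_option linter.unusedSectionVars false
set_option linter.style.haveILetI false

/-! Odd characteristic: overgroups of monomial unitary groups map some frame line to a frame line. -/

namespace Cfsg.Lib.Classical

universe u v w

/-- Two involutions are conjugate in the group they generate, or some power of their product is a central
involution. -/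
theorem dihedral_cases {G : Type*} [Group G] [Finite G] {x y : G} (hx : x * x = 1) (hy : y * y = 1) :
    (∃ c ∈ Subgroup.closure ({x, y} : Set G), c * y * c⁻¹ = x) ∨
      ∃ z ∈ Subgroup.closure ({x, y} : Set G), z ≠ 1 ∧ z * z = 1 ∧ z * x = x * z ∧ z * y = y * z := by
  have hxi : x⁻¹ = x := inv_eq_of_mul_eq_one_left hx
  have hyi : y⁻¹ = y := inv_eq_of_mul_eq_one_left hy
  set r := x * y with hr
  have hrmem : ∀ k : ℕ, r ^ k ∈ Subgroup.closure ({x, y} : Set G) := fun k =>
    Subgroup.pow_mem _ (Subgroup.mul_mem _ (Subgroup.subset_closure (by simp)) (Subgroup.subset_closure (by simp))) k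
  have hyr : y * r * y⁻¹ = r⁻¹ := by
    rw [hr, mul_inv_rev, hyi, hxi, mul_assoc, mul_assoc, hy, mul_one]
  have hxr : x * r * x⁻¹ = r⁻¹ := by
    rw [hr, mul_inv_rev, hyi, hxi, ← mul_assoc, hx, one_mul]
  have key : ∀ k : ℕ, r ^ k * y * (r ^ k)⁻¹ = r ^ (2 * k) * y := fun k => by
    have h : y * (r ^ k)⁻¹ * y⁻¹ = r ^ k := by rw [← conj_inv, ← conj_pow, hyr, inv_pow, inv_inv]
    calc r ^ k * y * (r ^ k)⁻¹ = r ^ k * (y * (r ^ k)⁻¹ * y⁻¹) * y := by group
      _ = r ^ (2 * k) * y := by rw [h, two_mul, pow_add]
  rcases Nat.even_or_odd' (orderOf r) with ⟨l, hl | hl⟩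
  · right
    have hpos : 0 < orderOf r := orderOf_pos r
    have hz2 : r ^ l * r ^ l = 1 := by rw [← pow_add, ← two_mul, ← hl, pow_orderOf_eq_one]
    have hzi : (r ^ l)⁻¹ = r ^ l := inv_eq_of_mul_eq_one_left hz2
    refine ⟨r ^ l, hrmem l, pow_ne_one_of_lt_orderOf (by omega) (by omega), hz2, ?_, ?_⟩
    · have h : x * r ^ l * x⁻¹ = r ^ l := by rw [← conj_pow, hxr, inv_pow, hzi]
      calc r ^ l * x = (x * r ^ l * x⁻¹) * x := by rw [h]
        _ = x * r ^ l := by group
    · have h : y * r ^ l * y⁻¹ = r ^ l := by rw [← conj_pow, hyr, inv_pow, hzi]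
      calc r ^ l * y = (y * r ^ l * y⁻¹) * y := by rw [h]
        _ = y * r ^ l := by group
  · left
    refine ⟨r ^ (l + 1), hrmem _, ?_⟩
    rw [key, show 2 * (l + 1) = orderOf r + 1 by omega, pow_add, pow_orderOf_eq_one, one_mul, pow_one, hr,
      mul_assoc, hy, mul_one]

namespace UFrame

variable {F : Type u} [Field F] [Fintype F] [DecidableEq F] {V : Type v} [AddCommGroup V] [Module F V]
  [FiniteDimensional F V] {H : HermSpace F V}
  {ι : Type w} [DecidableEq ι] [Fintype ι] (B : UFrame H ι)

theorem isom_ext_basis {g k : H.Isom} (h : ∀ l, g.1 (B.b l) = k.1 (B.b l)) : g = k :=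
  H.isom_ext fun x => by
    rw [← B.sum_co x, map_sum, map_sum]
    exact Finset.sum_congr rfl fun l _ => by rw [map_smul, map_smul, h]

/-- The involution negating two orthonormal vectors. -/
noncomputable def negPair {u v : V} (hu : H.h u u = 1) (hv : H.h v v = 1) : H.SIsom :=
  H.qp hu hv H.circle_neg_one

theorem negPair_apply {u v : V} (hu : H.h u u = 1) (hv : H.h v v = 1) (huv : H.h u v = 0) (x : V) :
    (negPair hu hv).1.1 x = x + (-2 * H.h x u) • u + (-2 * H.h x v) • v := by
  rw [negPair, H.qp_apply hu hv huv, map_neg, map_one, show (-1 : F) - 1 = -2 by ring]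

theorem negPair_sq {u v : V} (hu : H.h u u = 1) (hv : H.h v v = 1) (huv : H.h u v = 0) :
    negPair hu hv * negPair hu hv = 1 := by
  refine Subtype.ext (H.isom_ext fun x => ?_)
  change ((negPair hu hv) * (negPair hu hv)).1.1 x = x
  rw [H.sisom_mul_apply, negPair_apply hu hv huv, negPair_apply hu hv huv]
  simp only [H.add_left, H.smul_left, hu, hv, huv, H.eq_zero_symm huv]
  module

theorem negPair_conj (g : H.SIsom) {u v : V} (hu : H.h u u = 1) (hv : H.h v v = 1) :
    g * negPair hu hv * g⁻¹ = negPair (u := g.1.1 u) (v := g.1.1 v) (by rw [H.map_form, hu]) (by rw [H.map_form, hv]) :=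
  H.qp_conj g hu hv _

/-- An involution of the monomial group of a coordinate plane in `SU` negates the plane. -/
theorem plane_involution (h20 : (2 : F) ≠ 0) {i j : ι} (hij : i ≠ j) {z : H.SIsom} (hz1 : z ≠ 1)
    (hz2 : z * z = 1) {π : Equiv.Perm ι} {l : ι → F} (hl : ∀ k, z.1.1 (B.b k) = l k • B.b (π k) ∧ l k ≠ 0)
    (hπP : ∀ p, p = i ∨ p = j → π p = i ∨ π p = j) (hfix : ∀ k, k ≠ i → k ≠ j → z.1.1 (B.b k) = B.b k) :
    z = negPair (B.b_self i) (B.b_self j) := by
  obtain ⟨e, he⟩ := H.conj.norm_surjective (a := (2 : F)⁻¹) (by rw [map_inv₀, map_ofNat])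
  set d := negPair (B.b_self i) (B.b_self j) with hd
  have hdb : ∀ p, p = i ∨ p = j → d.1.1 (B.b p) = -B.b p := fun p hp => by
    rw [hd, negPair_apply _ _ (B.b_ne hij)]
    rcases hp with rfl | rfl
    · rw [b_self, B.b_ne hij]; module
    · rw [b_self, B.b_ne hij.symm]; module
  have hdo : ∀ p, p ≠ i → p ≠ j → d.1.1 (B.b p) = B.b p := fun p h1 h2 => by
    rw [hd, negPair_apply _ _ (B.b_ne hij), B.b_ne h1, B.b_ne h2]; module
  rcases hπP i (Or.inl rfl) with hi | hi
  · have hj : π j = j := by
      rcases hπP j (Or.inr rfl) with h | h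
      · exact absurd (π.injective (h.trans hi.symm)) hij.symm
      · exact h
    have sq : ∀ p, π p = p → l p * l p = 1 := fun p hp => by
      have h := congrArg (fun k : H.SIsom => B.co (k.1.1 (B.b p)) p) hz2
      simp only [H.sisom_mul_apply] at h
      rw [(hl p).1, hp, map_smul, (hl p).1, hp, smul_smul, co_smul, co_b, if_pos rfl] at h
      change _ = B.co (B.b p) p at h
      rw [co_b, if_pos rfl] at h
      linear_combination h
    have hli : l i * H.σ (l i) = 1 := by
      have := H.map_form z.1 (B.b i) (B.b i)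
      rw [(hl i).1, hi, H.smul_left, H.smul_right, b_self, mul_one] at this
      exact this
    have hlj : l j * H.σ (l j) = 1 := by
      have := H.map_form z.1 (B.b j) (B.b j)
      rw [(hl j).1, hj, H.smul_left, H.smul_right, b_self, mul_one] at this
      exact this
    have hzeq : z.1 = H.qr (B.b_self i) hli * H.qr (B.b_self j) hlj := B.isom_ext_basis fun p => by
      rw [H.mul_apply', H.qr_apply (B.b_self j)]
      rcases eq_or_ne p i with rfl | hpi
      · rw [B.b_ne hij, mul_zero, zero_smul, add_zero, H.qr_apply, b_self, (hl p).1, hi]; module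
      · rcases eq_or_ne p j with rfl | hpj
        · rw [b_self, map_add, map_smul, H.qr_apply, B.b_ne hpi, (hl p).1, hj]; module
        · rw [B.b_ne hpj, mul_zero, zero_smul, add_zero, H.qr_apply, B.b_ne hpi, hfix p hpi hpj]; module
    have hdet : l i * l j = 1 := by
      have h1 : H.detHom z.1 = 1 := z.2
      rw [hzeq, map_mul] at h1
      have h2 := congrArg Units.val h1
      rwa [Units.val_mul, H.det_qr, H.det_qr, Units.val_one] at h2
    have hlm : l i = -1 ∧ l j = -1 := by
      rcases mul_self_eq_one_iff.mp (sq i hi) with h | h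
      · exfalso
        apply hz1
        rw [h, one_mul] at hdet
        refine Subtype.ext (B.isom_ext_basis fun p => ?_)
        rcases eq_or_ne p i with rfl | hpi
        · rw [(hl p).1, hi, h, one_smul]; rfl
        · rcases eq_or_ne p j with rfl | hpj
          · rw [(hl p).1, hj, hdet, one_smul]; rfl
          · exact hfix p hpi hpj
      · rw [h] at hdet
        exact ⟨h, by linear_combination -hdet⟩
    have hzd2 : z = d := by
      refine Subtype.ext (B.isom_ext_basis fun p => ?_)
      rcases eq_or_ne p i with rfl | hpi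
      · rw [(hl p).1, hi, hlm.1, neg_one_smul, hdb p (Or.inl rfl)]
      · rcases eq_or_ne p j with rfl | hpj
        · rw [(hl p).1, hj, hlm.2, neg_one_smul, hdb p (Or.inr rfl)]
        · rw [hfix p hpi hpj, hdo p hpi hpj]
    exact hzd2
  · exfalso
    have hj : π j = i := by
      rcases hπP j (Or.inr rfl) with h | h
      · exact h
      · exact absurd (π.injective (h.trans hi.symm)) hij.symm
    have hlli : l i * l j = 1 := by
      have h := congrArg (fun k : H.SIsom => B.co (k.1.1 (B.b i)) i) hz2
      simp only [H.sisom_mul_apply] at h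
      rw [(hl i).1, hi, map_smul, (hl j).1, hj, smul_smul, co_smul, co_b, if_pos rfl] at h
      change _ = B.co (B.b i) i at h
      rw [co_b, if_pos rfl] at h
      linear_combination h
    have hN : l i * H.σ (l i) = 1 := by
      have := H.map_form z.1 (B.b i) (B.b i)
      rw [(hl i).1, hi, H.smul_left, H.smul_right, b_self, mul_one, B.b_self] at this
      exact this
    have hlj : l j = H.σ (l i) := mul_left_cancel₀ (hl i).2 (hlli.trans hN.symm)
    set w := B.b i - l i • B.b j with hw
    have hww : H.h w w = 2 := by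
      simp only [hw, H.sub_left, H.sub_right, H.smul_left, H.smul_right, B.hb, ↓reduceIte, if_pos, if_neg hij,
        if_neg hij.symm]
      linear_combination hN
    have hw1 : H.h (e • w) (e • w) = 1 := by
      rw [H.smul_left, H.smul_right, hww, ← mul_assoc, he, inv_mul_cancel₀ h20]
    have hzeq : z.1 = H.qr hw1 H.circle_neg_one := B.isom_ext_basis fun p => by
      rw [H.qr_apply, H.smul_right, smul_smul]
      have hsc : ((-1 : F) - 1) * (H.σ e * H.h (B.b p) w) * e = -H.h (B.b p) w := by
        linear_combination (-2 * H.h (B.b p) w) * he - H.h (B.b p) w * (mul_inv_cancel₀ h20)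
      rw [hsc, hw, H.sub_right, H.smul_right, B.hb, B.hb]
      rcases eq_or_ne p i with rfl | hpi
      · rw [(hl p).1, hi, if_pos rfl, if_neg hij]; module
      · rcases eq_or_ne p j with rfl | hpj
        · rw [(hl p).1, hj, hlj, if_pos rfl, if_neg hpi]
          linear_combination (norm := module) hN • B.b p
        · rw [hfix p hpi hpj, if_neg hpi, if_neg hpj]; module
    have h1 := congrArg Units.val (show H.detHom z.1 = 1 from z.2)
    rw [hzeq, H.det_qr, Units.val_one] at h1
    exact h20 (by linear_combination -h1)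

variable {K : Subgroup H.SIsom} (hM : ∀ g : H.SIsom, B.Mono1 g.1 → g ∈ K)

/-- `a, b, c` are distinct, `ζ` is on the circle and `α (b a - ζ b b) + β b c` has image of support at most 4. -/
def Short (g : H.SIsom) (a b c : ι) (ζ β : F) : Prop :=
  (B.supp (g.1.1 (B.b a - ζ • B.b b + β • B.b c))).card ≤ 4

variable {hM}

set_option maxHeartbeats 1000000 in
include hM in
theorem bad_pair (hq : 3 ≤ H.q) (h20 : (2 : F) ≠ 0) (hn : 10 ≤ Fintype.card ι) (hNF : B.NoLine K) {g : H.SIsom}
    (hg : g ∈ K) (hgM : ¬ B.Mono1 g.1) {a b c : ι} (hab : a ≠ b) (hac : a ≠ c) (hbc : b ≠ c) {ζ : F}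
    (hζ : ζ * H.σ ζ = 1) {i j : ι} (hij : i ≠ j) :
    ∃ (y : V) (T : Finset ι) (α β : F), y ≠ 0 ∧ T.card ≤ 4 ∧ i ∈ T ∧ j ∈ T ∧ B.supp y ⊆ T ∧
      y = g.1.1 (α • (B.b a - ζ • B.b b) + β • B.b c) := by
  have h5 : 5 ≤ Fintype.card ι := by omega
  set s := B.b a - ζ • B.b b with hs
  obtain ⟨e, he⟩ := H.conj.norm_surjective (a := (2 : F)⁻¹) (by rw [map_inv₀, map_ofNat])
  have hhs : ∀ x, H.h x s = B.co x a - H.σ ζ * B.co x b := fun x => by
    rw [hs, H.sub_right, H.smul_right]; rfl
  have hsco : ∀ l, B.co s l = (if a = l then 1 else 0) - ζ * (if b = l then 1 else 0) := fun l => by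
    rw [hs, co_sub, co_smul, co_b, co_b]
  have hss : H.h s s = 2 := by
    rw [hhs, hsco, hsco, if_pos rfl, if_pos rfl, if_neg hab, if_neg hab.symm]
    linear_combination hζ
  set u := e • s with hu
  have huu : H.h u u = 1 := by
    rw [hu, H.smul_left, H.smul_right, hss, ← mul_assoc, he, inv_mul_cancel₀ h20]
  have huc : H.h u (B.b c) = 0 := by
    rw [hu, H.smul_left]
    change e * B.co s c = 0
    rw [hsco, if_neg hac, if_neg hbc]; ring
  have hu2 : ∀ x, ((-2 : F) * H.h x u) • u = -(H.h x s) • s := fun x => by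
    rw [hu, H.smul_right, smul_smul]
    congr 1
    linear_combination (-2 * H.h x s) * he - H.h x s * (mul_inv_cancel₀ h20)
  set τ := negPair huu (B.b_self c) with hτ
  have hτM : B.Mono1 τ.1 := fun l => by
    have key : ∃ (r : F) (p : ι), τ.1.1 (B.b l) = r • B.b p := by
      rw [hτ, negPair_apply huu (B.b_self c) huc, hu2, hhs, co_b, co_b]
      rcases eq_or_ne l a with rfl | hla
      · exact ⟨ζ, b, by rw [if_pos rfl, if_neg hab, B.b_ne hac, hs]; module⟩
      · rcases eq_or_ne l b with rfl | hlb
        · refine ⟨H.σ ζ, a, ?_⟩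
          rw [if_neg hla, if_pos rfl, B.b_ne hbc, hs]
          linear_combination (norm := module) -(hζ • B.b l)
        · rcases eq_or_ne l c with rfl | hlc
          · exact ⟨-1, l, by rw [if_neg hla, if_neg hlb, b_self]; module⟩
          · exact ⟨1, l, by rw [if_neg hla, if_neg hlb, B.b_ne hlc]; module⟩
    obtain ⟨r, p, hp⟩ := key
    rw [hp]
    exact (Finset.card_le_card (B.supp_smul_subset r _)).trans (by rw [supp_b, Finset.card_singleton])
  set d := negPair (B.b_self i) (B.b_self j) with hd
  have hdM : B.Mono1 d.1 := B.mono1_ph hij H.circle_neg_one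
  have hdco : ∀ x l, B.co (d.1.1 x) l = if l = i ∨ l = j then -B.co x l else B.co x l := fun x l => by
    change B.co ((B.ph i j H.circle_neg_one).1.1 x) l = _
    rw [B.co_ph hij, map_neg, map_one]
    rcases eq_or_ne l i with rfl | h1
    · simp
    · rcases eq_or_ne l j with rfl | h2
      · simp [h1]
      · simp [h1, h2]
  have hPeig : ∀ x, d.1.1 x = -x → B.supp x ⊆ {i, j} := fun x hx l hl => by
    rw [Finset.mem_insert, Finset.mem_singleton]
    by_contra hne
    have := congrArg (fun y => B.co y l) hx
    simp only [hdco, if_neg hne] at this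
    rw [show -x = (-1 : F) • x by rw [neg_one_smul], co_smul] at this
    exact B.mem_supp.mp hl (mul_left_cancel₀ h20 (by linear_combination this))
  set gu := g.1.1 u with hgu
  set gc := g.1.1 (B.b c) with hgc
  set d' := g * τ * g⁻¹ with hd'
  have hd'e : d' = negPair (u := gu) (v := gc) (by rw [hgu, H.map_form, huu]) (by rw [hgc, H.map_form, b_self]) := by
    rw [hd', hτ, negPair_conj]
  have hguc : H.h gu gc = 0 := by rw [hgu, hgc, H.map_form, huc]
  have hd'app : ∀ x, d'.1.1 x = x + (-2 * H.h x gu) • gu + (-2 * H.h x gc) • gc := fun x => by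
    rw [hd'e, negPair_apply _ _ hguc]
  have hτ2 : τ * τ = 1 := negPair_sq _ _ huc
  have hd2 : d * d = 1 := negPair_sq _ _ (B.b_ne hij)
  have hd'2 : d' * d' = 1 := by
    rw [hd', show g * τ * g⁻¹ * (g * τ * g⁻¹) = g * (τ * τ) * g⁻¹ by group, hτ2, mul_one, mul_inv_cancel]
  have hclK : Subgroup.closure ({d, d'} : Set H.SIsom) ≤ K := by
    rw [Subgroup.closure_le]
    rintro _ (rfl | rfl)
    · exact hM _ hdM
    · exact K.mul_mem (K.mul_mem hg (hM _ hτM)) (K.inv_mem hg)
  haveI : Finite V := Module.finite_of_finite F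
  haveI : Finite H.SIsom := by
    refine Finite.of_injective (fun g : H.SIsom => (g.1.1 : V → V)) fun g k h => ?_
    exact Subtype.ext (H.isom_ext fun x => congrFun h x)
  have hwhole : ∀ {x : V}, x ≠ 0 → B.supp x ⊆ {i, j} → (B.supp x).card + 2 ≤ Fintype.card ι := fun hx h => by
    have := (Finset.card_le_card h).trans Finset.card_le_two
    omega
  have hcolzero : ∀ {k : H.SIsom}, k ∈ K → ¬ B.Mono1 k.1 → ∀ l, B.supp (k.1.1 (B.b l)) ⊆ {i, j} → False :=
    fun hk hkM l h => B.col_supp hM hq h5 hNF hk hkM
      (hwhole ((LinearEquiv.map_ne_zero_iff _).mpr (B.b.ne_zero l)) h)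
  rcases dihedral_cases hd2 hd'2 with ⟨t, ht, htd⟩ | ⟨z, hz, hz1, hz2, hzd, hzd'⟩
  · exfalso
    set k := t * g with hk
    have hkK : k ∈ K := K.mul_mem (hclK ht) hg
    have hkτ : k * τ = d * k := by
      rw [← htd, hd', hk]; group
    have hkneg : ∀ x, τ.1.1 x = -x → B.supp (k.1.1 x) ⊆ {i, j} := fun x hx => hPeig _ (by
      rw [← H.sisom_mul_apply, ← hkτ, H.sisom_mul_apply, hx, map_neg])
    have hτc : τ.1.1 (B.b c) = -B.b c := by
      rw [hτ, negPair_apply huu (B.b_self c) huc, H.eq_zero_symm huc, b_self]; module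
    have hτu : τ.1.1 u = -u := by rw [hτ, negPair_apply huu (B.b_self c) huc, huu, huc]; module
    have hkc := hkneg _ hτc
    by_cases hkM : B.Mono1 k.1
    · obtain ⟨π, l, hl⟩ := B.mono1_iff.mp hkM
      have hks := hkneg _ hτu
      have he0 : e ≠ 0 := fun h => inv_ne_zero h20 (by rw [← he, h, zero_mul])
      rw [hu, map_smul, B.supp_smul he0, hs, map_sub, map_smul, (hl a).1, (hl b).1] at hks
      rw [(hl c).1, B.supp_smul (hl c).2, supp_b, Finset.singleton_subset_iff] at hkc
      have ha' : π a ∈ ({i, j} : Finset ι) := hks (B.mem_supp.mpr (by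
        simp [co_sub, co_smul, co_b, π.injective.ne hab.symm, (hl a).2]))
      have hb' : π b ∈ ({i, j} : Finset ι) := hks (B.mem_supp.mpr (by
        simp [co_sub, co_smul, co_b, π.injective.ne hab, (hl b).2, H.circle_ne_zero hζ]))
      have h3 : ({π a, π b, π c} : Finset ι).card ≤ ({i, j} : Finset ι).card := Finset.card_le_card fun p hp => by
        simp only [Finset.mem_insert, Finset.mem_singleton] at hp ⊢
        rcases hp with rfl | rfl | rfl
        · simpa using ha'
        · simpa using hb'
        · simpa using hkc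
      rw [Finset.card_eq_three.mpr ⟨_, _, _, π.injective.ne hab, π.injective.ne hac, π.injective.ne hbc, rfl⟩] at h3
      have := h3.trans Finset.card_le_two
      omega
    · exact hcolzero hkK hkM c hkc
  · have hzK := hclK hz
    have hzdx : ∀ x, z.1.1 (d.1.1 x) = d.1.1 (z.1.1 x) := fun x => by
      rw [← H.sisom_mul_apply, hzd, H.sisom_mul_apply]
    have hzd'x : ∀ x, z.1.1 (d'.1.1 x) = d'.1.1 (z.1.1 x) := fun x => by
      rw [← H.sisom_mul_apply, hzd', H.sisom_mul_apply]
    have hdb : ∀ p, p = i ∨ p = j → d.1.1 (B.b p) = -B.b p := fun p hp => by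
      rw [hd, negPair_apply _ _ (B.b_ne hij)]
      rcases hp with rfl | rfl
      · rw [b_self, B.b_ne hij]; module
      · rw [b_self, B.b_ne hij.symm]; module
    have hzP : ∀ p, p = i ∨ p = j → B.supp (z.1.1 (B.b p)) ⊆ {i, j} := fun p hp => hPeig _ (by
      rw [← hzdx, hdb p hp, map_neg])
    by_cases hzM : B.Mono1 z.1
    swap
    · exact absurd (hcolzero hzK hzM i (hzP i (Or.inl rfl))) not_false
    obtain ⟨π, l, hl⟩ := B.mono1_iff.mp hzM
    have hπP : ∀ p, p = i ∨ p = j → π p = i ∨ π p = j := fun p hp => by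
      have := hzP p hp
      rw [(hl p).1, B.supp_smul (hl p).2, supp_b, Finset.singleton_subset_iff] at this
      simpa using this
    have hπQ : ∀ k, k ≠ i → k ≠ j → π k ≠ i ∧ π k ≠ j := by
      intro k hki hkj
      rcases hπP i (Or.inl rfl) with h | h <;> rcases hπP j (Or.inr rfl) with h' | h'
      · exact absurd (π.injective (h.trans h'.symm)) hij
      · exact ⟨fun e' => hki (π.injective (e'.trans h.symm)), fun e' => hkj (π.injective (e'.trans h'.symm))⟩
      · exact ⟨fun e' => hkj (π.injective (e'.trans h'.symm)), fun e' => hki (π.injective (e'.trans h.symm))⟩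
      · exact absurd (π.injective (h.trans h'.symm)) hij
    -- elements of the dihedral group move vectors inside `U`
    set U := Submodule.span F ({B.b i, B.b j, g.1.1 s, gc} : Set V) with hU
    have hgs : g.1.1 s ∈ U := Submodule.subset_span (by simp)
    have hgcU : gc ∈ U := Submodule.subset_span (by simp)
    have hguU : gu ∈ U := by rw [hgu, hu, map_smul]; exact U.smul_mem _ hgs
    have hmove : ∀ k ∈ Subgroup.closure ({d, d'} : Set H.SIsom), ∀ x, k.1.1 x - x ∈ U := by
      intro k hk
      induction hk using Subgroup.closure_induction with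
      | mem k hk =>
        intro x
        rcases hk with rfl | rfl
        · rw [hd, negPair_apply _ _ (B.b_ne hij), add_assoc, add_sub_cancel_left]
          exact U.add_mem (U.smul_mem _ (Submodule.subset_span (by simp))) (U.smul_mem _ (Submodule.subset_span (by simp)))
        · rw [hd'app, add_assoc, add_sub_cancel_left]
          exact U.add_mem (U.smul_mem _ hguU) (U.smul_mem _ hgcU)
      | one => intro x; change x - x ∈ U; rw [sub_self]; exact U.zero_mem
      | mul p r _ _ hp hr =>
        intro x
        have := U.add_mem (hp (r.1.1 x)) (hr x)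
        rwa [sub_add_sub_cancel, ← H.sisom_mul_apply] at this
      | inv p _ hp =>
        intro x
        have := U.neg_mem (hp ((p⁻¹).1.1 x))
        rwa [H.sisom_apply_inv, neg_sub] at this
    by_cases hfix : ∀ k, k ≠ i → k ≠ j → z.1.1 (B.b k) = B.b k
    · -- supported on the plane
      have hdd' : d * d' = d' * d := by
        rw [show d = z from (B.plane_involution h20 hij hz1 hz2 hl hπP hfix).symm]; exact hzd'
      have hpres : ∀ p, p = i ∨ p = j → B.supp (d'.1.1 (B.b p)) ⊆ {i, j} := fun p hp => hPeig _ (by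
        rw [← H.sisom_mul_apply, hdd', H.sisom_mul_apply, hdb p hp, map_neg])
      obtain ⟨p, hp, hy0⟩ : ∃ p, (p = i ∨ p = j) ∧
          g.1.1 ((2 * H.h (B.b p) gu * e) • s + (2 * H.h (B.b p) gc) • B.b c) ≠ 0 := by
        by_contra hc
        push Not at hc
        have hz0 : ∀ p, p = i ∨ p = j → B.co gc p = 0 := fun p hp => by
          have h := (LinearEquiv.map_eq_zero_iff _).mp (hc p hp)
          have h' := congrArg (fun x => B.co x c) h
          simp only [co_add, co_smul, co_b, hsco, if_neg hac, if_neg hbc, ↓reduceIte, if_pos, co_zero] at h'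
          have hh : H.h (B.b p) gc = 0 := (mul_eq_zero.mp (show 2 * H.h (B.b p) gc = 0 by linear_combination h')).resolve_left h20
          exact H.eq_zero_symm hh
        exact B.col_two_zeros hM hq h5 hNF hg hgM hij (hz0 i (Or.inl rfl)) (hz0 j (Or.inr rfl))
      refine ⟨_, {i, j}, _, _, hy0, le_trans Finset.card_le_two (by norm_num), by simp, by simp, ?_, rfl⟩
      have heq : g.1.1 ((2 * H.h (B.b p) gu * e) • s + (2 * H.h (B.b p) gc) • B.b c) = B.b p - d'.1.1 (B.b p) := by
        rw [hd'app, map_add, map_smul, map_smul, ← hgc, hgu, hu, map_smul]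
        module
      rw [heq]
      refine (B.supp_sub_subset _ _).trans (Finset.union_subset ?_ (hpres p hp))
      rw [supp_b, Finset.singleton_subset_iff, Finset.mem_insert, Finset.mem_singleton]
      exact hp
    · push Not at hfix
      obtain ⟨k, hki, hkj, hzk⟩ := hfix
      have hw := hmove z hz (B.b k)
      obtain ⟨hli', hlj'⟩ := hπQ k hki hkj
      set w := z.1.1 (B.b k) - B.b k with hwdef
      have hwsupp : B.supp w ⊆ {k, π k} := by
        refine (B.supp_sub_subset _ _).trans ?_
        rw [(hl k).1, B.supp_smul (hl k).2, supp_b, supp_b]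
        intro p hp
        simp only [Finset.mem_union, Finset.mem_insert, Finset.mem_singleton] at hp ⊢
        tauto
      rw [hU, Submodule.mem_span_insert] at hw
      obtain ⟨α₁, w₁, hw₁, hwe⟩ := hw
      rw [Submodule.mem_span_insert] at hw₁
      obtain ⟨α₂, w₂, hw₂, rfl⟩ := hw₁
      obtain ⟨α, β, rfl⟩ := Submodule.mem_span_pair.mp hw₂
      have hy : g.1.1 (α • s + β • B.b c) = w - α₁ • B.b i - α₂ • B.b j := by
        rw [hwe, map_add, map_smul, map_smul, ← hgc]; abel
      refine ⟨_, {i, j, k, π k}, α, β, ?_, Finset.card_le_four, by simp, by simp, ?_, rfl⟩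
      · intro h0
        rw [hy, sub_sub, sub_eq_zero] at h0
        refine hzk (sub_eq_zero.mp ?_)
        rw [← hwdef]
        refine B.supp_eq_empty.mp (Finset.eq_empty_of_forall_notMem fun p hp => ?_)
        have h1 := hwsupp hp
        simp only [Finset.mem_insert, Finset.mem_singleton] at h1
        refine B.mem_supp.mp hp ?_
        rw [h0]
        rcases h1 with rfl | rfl <;>
          simp [co_add, co_smul, co_b, Ne.symm hki, Ne.symm hkj, Ne.symm hli', Ne.symm hlj']
      · rw [hy]
        refine (B.supp_sub_subset _ _).trans (Finset.union_subset ((B.supp_sub_subset _ _).trans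
          (Finset.union_subset ?_ ?_)) ?_)
        · exact hwsupp.trans (by intro p; simp; tauto)
        · exact (B.supp_smul_subset _ _).trans (by simp [supp_b])
        · exact (B.supp_smul_subset _ _).trans (by simp [supp_b])

end UFrame

end Cfsg.Lib.Classical
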