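import Mathlib
import Cfsg.Agent.Classical.Unitary.FrameColumn

set_option autoImplicit false
set_option linter.unusedVariables false
set_option linter.unusedSimpArgs false
set_option linter.unusedSectionVars false
set_option linter.style.haveILetI false

/-! Even characteristic: overgroups of monomial unitary groups map some frame line to a frame line. -/

namespace Cfsg.Lib.Classical

universe u v w

namespace UFrame

variable {F : Type u} [Field F] [Fintype F] [DecidableEq F] {V : Type v} [AddCommGroup V] [Module F V]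
  [FiniteDimensional F V] {H : HermSpace F V}
  {ι : Type w} [DecidableEq ι] [Fintype ι] (B : UFrame H ι)

/-- An isotropic vector whose transvection with parameter one lies in `K`. -/
def UnitCentre (K : Subgroup H.SIsom) (x : V) : Prop :=
  ∃ hx : H.h x x = 0, ∀ hc : (1 : F) + H.σ 1 = 0,
    (⟨H.uT hx hc, H.uT_mem_SIsom hx hc⟩ : H.SIsom) ∈ K

variable {K : Subgroup H.SIsom}

theorem unitCentre_map {x : V} (hx : UnitCentre (H := H) K x) {g : H.SIsom} (hg : g ∈ K) :
    UnitCentre (H := H) K (g.1.1 x) := by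
  obtain ⟨hxx, hK⟩ := hx
  refine ⟨by rw [H.map_form, hxx], fun hc => ?_⟩
  have := K.mul_mem (K.mul_mem hg (hK hc)) (K.inv_mem hg)
  convert this using 1
  exact Subtype.ext (H.uT_conj g.1 hxx hc).symm

theorem h_pair (x : V) (i j : ι) (e : F) : H.h x (B.b i + e • B.b j) = B.co x i + H.σ e * B.co x j := by
  rw [H.add_right, H.smul_right]; rfl

theorem pair_iso {i j : ι} (hij : i ≠ j) {e : F} (he : e * H.σ e = 1) (h2 : (2 : F) = 0) :
    H.h (B.b i + e • B.b j) (B.b i + e • B.b j) = 0 := by
  rw [h_pair, co_add, co_add, co_smul, co_smul, co_b, co_b, co_b, co_b, if_pos rfl, if_pos rfl, if_neg hij,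
    if_neg hij.symm]
  linear_combination he + h2

variable (hM : ∀ g : H.SIsom, B.Mono1 g.1 → g ∈ K)

include hM in
theorem unitCentre_pair {i j : ι} (hij : i ≠ j) {e : F} (he : e * H.σ e = 1) (h2 : (2 : F) = 0) :
    UnitCentre (H := H) K (B.b i + e • B.b j) := by
  refine ⟨B.pair_iso hij he h2, fun hc => hM _ fun l => ?_⟩
  change (B.supp ((H.uT (B.pair_iso hij he h2) hc).1 (B.b l))).card ≤ 1
  rw [H.uT_apply, h_pair, co_b, co_b]
  rcases eq_or_ne l i with rfl | hli
  · refine le_trans (Finset.card_le_card (t := {j}) fun a ha => ?_) (le_of_eq (Finset.card_singleton _))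
    rw [Finset.mem_singleton]
    by_contra hne
    refine B.mem_supp.mp ha ?_
    simp only [co_add, co_smul, co_b, if_neg hij, if_neg (Ne.symm hne), ↓reduceIte, if_pos]
    split_ifs
    · linear_combination h2
    · simp
  · rcases eq_or_ne l j with rfl | hlj
    · refine le_trans (Finset.card_le_card (t := {i}) fun a ha => ?_) (le_of_eq (Finset.card_singleton _))
      rw [Finset.mem_singleton]
      by_contra hne
      refine B.mem_supp.mp ha ?_
      simp only [co_add, co_smul, co_b, if_neg hij.symm, if_neg (Ne.symm hne), ↓reduceIte, if_pos]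
      split_ifs
      · linear_combination he + h2
      · simp
    · rw [if_neg hli, if_neg hlj]
      simp [supp_b]

include hM in
/-- Adding along disjoint frame transpositions. -/
theorem unitCentre_step {x : V} (hx : UnitCentre (H := H) K x) (h2 : (2 : F) = 0) {m : H.SIsom} (hm : m ∈ K)
    {z : V} (hz : m.1.1 x = x + z) (h1 : H.h z x = 1) : UnitCentre (H := H) K z := by
  obtain ⟨hxx, hK⟩ := hx
  have hc : (1 : F) + H.σ 1 = 0 := by rw [map_one]; linear_combination h2
  have h := unitCentre_map (unitCentre_map ⟨hxx, hK⟩ hm) (hK hc)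
  change UnitCentre (H := H) K ((H.uT hxx hc).1 (m.1.1 x)) at h
  rw [H.uT_apply, hz, H.add_left, hxx, h1, zero_add, mul_one, one_smul] at h
  convert h using 1
  rw [show x + z + x = z + (2 : F) • x by rw [two_smul]; abel, h2, zero_smul, add_zero]

include hM in
theorem tau_mul {i j : ι} (hij : i ≠ j) {e : F} (he : e * H.σ e = 1) (h2 : (2 : F) = 0) (x : V) :
    ∃ m : H.SIsom, m ∈ K ∧ ∀ y, m.1.1 y = y + H.h y (B.b i + e • B.b j) • (B.b i + e • B.b j) := by
  obtain ⟨hv, hK⟩ := B.unitCentre_pair hM hij he h2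
  have hc : (1 : F) + H.σ 1 = 0 := by rw [map_one]; linear_combination h2
  exact ⟨_, hK hc, fun y => by
    change (H.uT hv hc).1 y = _
    rw [H.uT_apply, one_mul]⟩

theorem nm_pair (x : V) (i j : ι) {e : F} (he : e * H.σ e = 1) :
    (B.co x i + e * B.co x j) * H.σ (B.co x i + e * B.co x j) = B.nm x i + B.nm x j +
      ((B.co x j * H.σ (B.co x i)) * e + H.σ ((B.co x j * H.σ (B.co x i)) * e)) := by
  simp only [nm, map_add, map_mul, H.conj.invol]
  linear_combination (B.co x j * H.σ (B.co x j)) * he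

theorem even_q (h2 : (2 : F) = 0) : 2 ∣ H.q := by
  have h1 : (1 + 1 : fixedField H.σ) = 0 := Subtype.ext (by
    change (1 : F) + 1 = 0
    rw [one_add_one_eq_two, h2])
  have h : addOrderOf (1 : fixedField H.σ) = 2 := addOrderOf_eq_prime (by rw [two_nsmul]; exact h1) one_ne_zero
  rw [← h]
  exact addOrderOf_dvd_natCard _

set_option maxHeartbeats 1000000 in
include hM in
theorem exists_line_even (hq : 4 ≤ H.q) (h2 : (2 : F) = 0) (hn : 6 ≤ Fintype.card ι) {g : H.SIsom}
    (hg : g ∈ K) (hgM : ¬ B.Mono1 g.1) : ¬ B.NoLine K := by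
  intro hNF
  have h3 : 3 ≤ H.q := by omega
  have h5 : 5 ≤ Fintype.card ι := by omega
  obtain ⟨a, b, hab⟩ := Fintype.exists_pair_of_one_lt_card (α := ι) (by omega)
  -- a short unit centre is impossible
  have short : ∀ z, UnitCentre (H := H) K z → 3 ≤ (B.supp z).card → (B.supp z).card + 2 ≤ Fintype.card ι →
      False := by
    rintro z ⟨hzz, hK⟩ hz3 hz6
    have hc : (1 : F) + H.σ 1 = 0 := by rw [map_one]; linear_combination h2
    obtain ⟨e, he⟩ : (B.supp z).Nonempty := Finset.card_pos.mp (by omega)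
    have hcol : ∀ l, B.co ((H.uT hzz hc).1 (B.b e)) l =
        (if e = l then 1 else 0) + H.σ (B.co z e) * B.co z l := fun l => by
      rw [H.uT_apply, co_add, co_smul, co_b, one_mul, H.symm (B.b e) z]; rfl
    refine B.col_supp hM h3 h5 hNF (hK hc) ?_ (j := e) ?_
    · intro hmono
      have h1 : (B.supp z).erase e ⊆ B.supp ((H.uT hzz hc).1 (B.b e)) := fun l hl => by
        rw [Finset.mem_erase] at hl
        rw [mem_supp, hcol, if_neg hl.1.symm, zero_add]
        exact mul_ne_zero ((map_ne_zero _).mpr (B.mem_supp.mp he)) (B.mem_supp.mp hl.2)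
      have := (Finset.card_le_card h1).trans (hmono e)
      rw [Finset.card_erase_of_mem he] at this
      omega
    · change (B.supp ((H.uT hzz hc).1 (B.b e))).card + 2 ≤ _
      have h1 : B.supp ((H.uT hzz hc).1 (B.b e)) ⊆ B.supp z := fun l hl => by
        rw [mem_supp, hcol] at hl
        by_contra hlz
        apply hl
        rw [if_neg (fun h : e = l => hlz (h ▸ he)), B.notMem_supp.mp hlz, mul_zero, add_zero]
      have := Finset.card_le_card h1
      omega
  -- two transpositions
  have two : ∀ x, UnitCentre (H := H) K x → ∀ i j k l : ι, i ≠ j → k ≠ l → i ≠ k → i ≠ l → j ≠ k → j ≠ l → ∀ e f : F, e * H.σ e = 1 →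
      f * H.σ f = 1 → B.co x i + e * B.co x j ≠ 0 → B.co x k + f * B.co x l ≠ 0 →
      (B.co x i + e * B.co x j) * H.σ (B.co x i + e * B.co x j) +
        (B.co x k + f * B.co x l) * H.σ (B.co x k + f * B.co x l) = 1 → False := by
    intro x hx i j k l hij hkl hik hil hjk hjl e f he hf hre hrf hsum
    have he' := H.circle_conj he
    have hf' := H.circle_conj hf
    obtain ⟨m₁, hm₁, hm₁'⟩ := B.tau_mul hM hij he' h2 x
    obtain ⟨m₂, hm₂, hm₂'⟩ := B.tau_mul hM hkl hf' h2 x
    set v := B.b i + H.σ e • B.b j with hv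
    set w := B.b k + H.σ f • B.b l with hw
    have hvw : H.h v w = 0 := by
      rw [hw, h_pair, hv]
      simp [co_add, co_smul, co_b, hik, hil, hjk, hjl]
    have hm : (m₂ * m₁).1.1 x = x + ((B.co x i + e * B.co x j) • v + (B.co x k + f * B.co x l) • w) := by
      rw [H.sisom_mul_apply, hm₁', hm₂', H.add_left, H.smul_left, hvw, mul_zero, add_zero, hv, hw, h_pair,
        h_pair, H.conj.invol, H.conj.invol, add_assoc]
    have hzx : ∀ (p q : ι) (c : F), H.h (B.b p + H.σ c • B.b q) x = H.σ (B.co x p + c * B.co x q) :=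
      fun p q c => by rw [H.symm, h_pair, H.conj.invol]
    refine short _ (B.unitCentre_step hM hx h2 (K.mul_mem hm₂ hm₁) hm ?_) ?_ ?_
    · rw [H.add_left, H.smul_left, H.smul_left, hv, hw, hzx, hzx]; exact hsum
    · have : ({i, j, k} : Finset ι) ⊆
          B.supp ((B.co x i + e * B.co x j) • v + (B.co x k + f * B.co x l) • w) := by
        intro p hp
        simp only [Finset.mem_insert, Finset.mem_singleton] at hp
        rw [mem_supp, co_add, co_smul, co_smul, hv, hw]
        rcases hp with rfl | rfl | rfl <;>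
          simp [co_add, co_smul, co_b, hij, hij.symm, hkl, hkl.symm, hik, hik.symm, hil, hil.symm, hjk, hjk.symm,
            hjl, hjl.symm, hre, hrf, H.circle_ne_zero he]
      refine le_trans ?_ (Finset.card_le_card this)
      rw [Finset.card_eq_three.mpr ⟨i, j, k, hij, hik, hjk, rfl⟩]
    · refine le_trans (Nat.add_le_add_right ((Finset.card_le_card (t := {i, j, k, l}) fun p hp => ?_).trans Finset.card_le_four) 2) hn
      by_contra hne
      simp only [Finset.mem_insert, Finset.mem_singleton, not_or] at hne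
      refine B.mem_supp.mp hp ?_
      simp [hv, hw, co_add, co_smul, co_b, Ne.symm hne.1, Ne.symm hne.2.1, Ne.symm hne.2.2.1, Ne.symm hne.2.2.2]
  have heven := even_q (H := H) h2
  have uneq : ∀ x, UnitCentre (H := H) K x → 5 ≤ (B.supp x).card → ∀ i ∈ B.supp x, ∀ j ∈ B.supp x,
      B.nm x i ≠ B.nm x j → False := by
    intro x hx hx5 i hi j hj hne
    have hij : i ≠ j := fun h => hne (by rw [h])
    have hc : 1 < (((B.supp x).erase i).erase j).card := by
      rw [Finset.card_erase_of_mem (Finset.mem_erase.mpr ⟨hij.symm, hj⟩), Finset.card_erase_of_mem hi]; omega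
    obtain ⟨k, hk, l, hl, hkl⟩ := Finset.one_lt_card.mp hc
    simp only [Finset.mem_erase] at hk hl
    set θ₁ := B.co x j * H.σ (B.co x i) with hθ₁
    set θ₂ := B.co x l * H.σ (B.co x k) with hθ₂
    have hθ₁0 : θ₁ ≠ 0 := mul_ne_zero (B.mem_supp.mp hj) ((map_ne_zero _).mpr (B.mem_supp.mp hi))
    have hθ₂0 : θ₂ ≠ 0 := mul_ne_zero (B.mem_supp.mp hl.2.2) ((map_ne_zero _).mpr (B.mem_supp.mp hk.2.2))
    set R₁ := (H.trImg θ₁).image (fun v => B.nm x i + B.nm x j + v) with hR₁
    set R₂ := (H.trImg θ₂).image (fun v => 1 + (B.nm x k + B.nm x l + v)) with hR₂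
    have s1 : R₁ ⊆ H.fixF := by
      intro v hv
      obtain ⟨w, hw, rfl⟩ := Finset.mem_image.mp hv
      rw [H.mem_fixF, map_add, map_add, B.nm_fixed, B.nm_fixed, H.mem_fixF.mp (H.trImg_subset _ hw)]
    have s2 : R₂ ⊆ H.fixF := by
      intro v hv
      obtain ⟨w, hw, rfl⟩ := Finset.mem_image.mp hv
      rw [H.mem_fixF, map_add, map_add, map_add, map_one, B.nm_fixed, B.nm_fixed,
        H.mem_fixF.mp (H.trImg_subset _ hw)]
    obtain ⟨v, hv1, hv2, hv⟩ := H.exists_common s1 s2 (by
      rw [hR₁, hR₂, Finset.card_image_of_injective _ (add_right_injective _),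
        Finset.card_image_of_injective _ (fun a b hab => add_right_injective _ (add_right_injective (1 : F) hab))]
      have := H.card_trImg hθ₁0
      have := H.card_trImg hθ₂0
      omega) 1
    obtain ⟨w₁, hw₁, hw₁v⟩ := Finset.mem_image.mp hv1
    obtain ⟨w₂, hw₂, hw₂v⟩ := Finset.mem_image.mp hv2
    obtain ⟨e, he, hew⟩ := H.mem_trImg.mp hw₁
    obtain ⟨f, hf, hfw⟩ := H.mem_trImg.mp hw₂
    have N1 := B.nm_pair x i j he
    have N2 := B.nm_pair x k l hf
    rw [← hθ₁, hew, hw₁v] at N1
    rw [← hθ₂, hfw] at N2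
    refine two x hx i j k l hij hkl (Ne.symm hk.2.1) (Ne.symm hl.2.1) (Ne.symm hk.1) (Ne.symm hl.1) e f he hf
      (fun h => hne ?_) (fun h => hv ?_) ?_
    · have : B.co x i = -(e * B.co x j) := eq_neg_of_add_eq_zero_left h
      simp only [nm, this, map_neg, map_mul]
      linear_combination (B.co x j * H.σ (B.co x j)) * he
    · rw [h, zero_mul] at N2
      rw [← hw₂v, ← N2, add_zero]
    · rw [N1, N2]
      linear_combination hw₂v + (v - 1) * h2
  -- a long unit centre
  obtain ⟨x, hx, hxs⟩ : ∃ x, UnitCentre (H := H) K x ∧ Fintype.card ι ≤ (B.supp x).card + 1 := by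
    by_contra hc
    push Not at hc
    obtain ⟨e, he, he'⟩ := H.exists_circle_notMem (S := {1}) (by rw [Finset.card_singleton]; omega)
    rw [Finset.mem_singleton] at he'
    have hs2 : ∀ z, UnitCentre (H := H) K z → (B.supp z).card ≤ 2 := fun z hz => by
      by_contra h
      exact short z hz (by omega) (by have := hc z hz; omega)
    have k1 := hs2 _ (unitCentre_map (B.unitCentre_pair hM hab H.circle_one h2) hg)
    have k2 := hs2 _ (unitCentre_map (B.unitCentre_pair hM hab he h2) hg)
    refine B.col_supp hM h3 h5 hNF hg hgM (j := b) ?_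
    have e1 : g.1.1 (B.b b) = (e - 1)⁻¹ • (g.1.1 (B.b a + e • B.b b) - g.1.1 (B.b a + (1 : F) • B.b b)) := by
      rw [← map_sub, ← map_smul, one_smul, add_sub_add_left_eq_sub,
        show e • B.b b - B.b b = (e - 1) • B.b b by rw [sub_smul, one_smul], smul_smul,
        inv_mul_cancel₀ (sub_ne_zero.mpr he'), one_smul]
    rw [e1]
    have k3 := (Finset.card_le_card ((B.supp_smul_subset (e - 1)⁻¹ _).trans (B.supp_sub_subset
      (g.1.1 (B.b a + e • B.b b)) (g.1.1 (B.b a + (1 : F) • B.b b))))).trans (Finset.card_union_le _ _)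
    omega
  by_cases hall : ∀ i ∈ B.supp x, ∀ j ∈ B.supp x, B.nm x i = B.nm x j
  swap
  · push Not at hall
    obtain ⟨i, hi, j, hj, hne⟩ := hall
    exact uneq x hx (by omega) i hi j hj hne
  -- equal norms: a transvection with this centre makes two of them differ
  obtain ⟨i, hi, j, hj, hij⟩ := Finset.one_lt_card.mp (by omega : 1 < (B.supp x).card)
  obtain ⟨hxx, hxK⟩ := hx
  have hc1 : (1 : F) + H.σ 1 = 0 := by rw [map_one]; linear_combination h2
  set θ := B.co x j * H.σ (B.co x i) with hθ
  have hθ0 : θ ≠ 0 := mul_ne_zero (B.mem_supp.mp hj) ((map_ne_zero _).mpr (B.mem_supp.mp hi))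
  set A := B.nm x i with hA
  have hA0 : A ≠ 0 := fun h => B.mem_supp.mp hi (B.nm_eq_zero.mp h)
  have hσA : H.σ A = A := B.nm_fixed _ _
  obtain ⟨w, hw, hw0, hw1⟩ : ∃ w ∈ (H.trImg (1 : F)).image (A * ·), w ≠ 0 ∧ w ≠ 1 := by
    by_contra hc
    push Not at hc
    have hsub : (H.trImg (1 : F)).image (A * ·) ⊆ {0, 1} := fun u hu => by
      rw [Finset.mem_insert, Finset.mem_singleton]; exact or_iff_not_imp_left.mpr (hc u hu)
    have hle := (Finset.card_le_card hsub).trans Finset.card_le_two
    rw [Finset.card_image_of_injective _ (mul_right_injective₀ hA0)] at hle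
    have := H.card_trImg_one
    omega
  obtain ⟨t, ht, rfl⟩ := Finset.mem_image.mp hw
  obtain ⟨η, hη, rfl⟩ := H.mem_trImg.mp ht
  have hθN : θ * H.σ θ = A * A := by
    have e2 := hall j hj i hi
    simp only [nm] at e2
    rw [hθ, map_mul, H.conj.invol, hA, nm]
    linear_combination (B.co x i * H.σ (B.co x i)) * e2
  set e := A * η / θ with hedef
  have he : e * H.σ e = 1 := by
    rw [hedef, map_div₀, map_mul, hσA, div_mul_div_comm, hθN, div_eq_one_iff_eq (mul_ne_zero hA0 hA0)]
    linear_combination (A * A) * hη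
  have he' := H.circle_conj he
  set p := B.b i + H.σ e • B.b j with hp
  set c := B.co x i + e * B.co x j with hcdef
  clear_value c e
  have hcN : c * H.σ c = A * (1 * η + H.σ (1 * η)) := by
    rw [hcdef, B.nm_pair x i j he, hall j hj i hi, ← hA, ← hθ, mul_comm θ e, hedef, div_mul_cancel₀ _ hθ0,
      map_mul, hσA, one_mul]
    linear_combination A * h2
  have hpx : H.h p x = H.σ c := by rw [H.symm, hp, h_pair, H.conj.invol, hcdef]
  have hy := unitCentre_map (B.unitCentre_pair hM hij he' h2) (hxK hc1)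
  change UnitCentre (H := H) K ((H.uT hxx hc1).1 p) at hy
  rw [H.uT_apply, one_mul, hpx] at hy
  set y := p + H.σ c • x with hydef
  have hyco : ∀ l, B.co y l = (if i = l then 1 else 0) + H.σ e * (if j = l then 1 else 0) + H.σ c * B.co x l :=
    fun l => by rw [hydef, hp, co_add, co_add, co_smul, co_smul, co_b, co_b]
  have hc0 : c ≠ 0 := fun h => hw0 (by rw [← hcN, h, zero_mul])
  have hrest : ((B.supp x).erase i).erase j ⊆ B.supp y := fun l hl => by
    simp only [Finset.mem_erase] at hl
    rw [mem_supp, hyco, if_neg (Ne.symm hl.2.1), if_neg (Ne.symm hl.1), mul_zero, add_zero, zero_add]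
    exact mul_ne_zero ((map_ne_zero _).mpr hc0) (B.mem_supp.mp hl.2.2)
  have hr3 : 3 ≤ (((B.supp x).erase i).erase j).card := by
    rw [Finset.card_erase_of_mem (Finset.mem_erase.mpr ⟨hij.symm, hj⟩), Finset.card_erase_of_mem hi]; omega
  obtain ⟨l, hl⟩ := Finset.card_pos.mp (by omega : 0 < (((B.supp x).erase i).erase j).card)
  have hly := hrest hl
  simp only [Finset.mem_erase] at hl
  have hnl : B.nm y l = c * H.σ c * A := by
    rw [nm, hyco, if_neg (Ne.symm hl.2.1), if_neg (Ne.symm hl.1), mul_zero, add_zero, zero_add, map_mul,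
      H.conj.invol, hA, ← hall l hl.2.2 i hi, nm]
    ring
  have hej : e * B.co x j * H.σ (B.co x i) = A * η := by
    rw [mul_assoc, ← hθ, hedef, div_mul_cancel₀ _ hθ0]
  have hej' : H.σ e * H.σ (B.co x j) * B.co x i = A * H.σ η := by
    have := congrArg H.σ hej
    simpa only [map_mul, H.conj.invol, hσA] using this
  have hni : B.nm y i = 1 + c * H.σ c + c * H.σ c * A := by
    rw [hcN, one_mul, nm, hyco, if_pos rfl, if_neg hij.symm, mul_zero, add_zero, map_add, map_one, map_mul,
      H.conj.invol]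
    have : H.σ c * B.co x i + c * H.σ (B.co x i) = 2 * A + A * H.σ η + A * η := by
      rw [hcdef, map_add, map_mul, hA, nm]
      rw [hA, nm] at hej hej'
      linear_combination hej + hej'
    have e0 := hcN
    rw [one_mul] at e0
    have hAi : B.co x i * H.σ (B.co x i) = A := rfl
    linear_combination this - e0 + A * h2 + (c * H.σ c) * hAi + (1 + A) * e0
  have hnj : B.nm y j = 1 + c * H.σ c + c * H.σ c * A := by
    rw [nm, hyco, if_pos rfl, if_neg hij, mul_one, zero_add, map_add, map_mul, H.conj.invol, H.conj.invol]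
    have hAj : B.co x j * H.σ (B.co x j) = A := hall j hj i hi
    have e0 := hcN
    rw [one_mul] at e0
    have : e * H.σ c * B.co x j + H.σ e * c * H.σ (B.co x j) = 2 * A + A * H.σ η + A * η := by
      rw [hcdef, map_add, map_mul]
      linear_combination hej + hej' + (2 * (e * H.σ e)) * hAj + (2 * A) * he
    linear_combination this - e0 + A * h2 + he + (c * H.σ c) * hAj
  have hne : B.nm y l ≠ B.nm y i := fun h => hw1 (by
    rw [hnl, hni] at h
    rw [← hcN]
    linear_combination -h - h2)
  by_cases hsy : (B.supp y).card + 2 ≤ Fintype.card ι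
  · exact short y hy (le_trans hr3 (Finset.card_le_card hrest)) hsy
  refine uneq y hy (by omega) l hly i ?_ hne
  rw [mem_supp]
  intro h0
  apply hsy
  have h0' : B.co y j = 0 := B.nm_eq_zero.mp (by rw [hnj, ← hni, nm, h0, zero_mul])
  have hsub : B.supp y ⊆ ({i, j} : Finset ι)ᶜ := fun p' hp' => by
    rw [Finset.mem_compl, Finset.mem_insert, Finset.mem_singleton]
    rintro (rfl | rfl)
    · exact B.mem_supp.mp hp' h0
    · exact B.mem_supp.mp hp' h0'
  have := Finset.card_le_card hsub
  rw [Finset.card_compl, Finset.card_pair hij] at this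
  omega

end UFrame

end Cfsg.Lib.Classical
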