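import Mathlib
import Cfsg.Agent.Classical.Unitary.FrameLineEven

set_option autoImplicit false
set_option linter.unusedVariables false
set_option linter.unusedSimpArgs false
set_option linter.unusedSectionVars false
set_option linter.style.haveILetI false

/-! Overgroups of monomial unitary groups map some frame line to a frame line, in dimension at least six.

In odd characteristic: the monomial group controls the fusion of two kinds of involutions with a two-dimensional
negative space, the diagonal ones and those swapping two frame lines, and contains their centralisers; the usual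
dihedral argument then gives a contradiction. -/

namespace Cfsg.Lib.Classical

universe u v w

/-- Two involutions: they are conjugate, or some central involution of their dihedral group multiplies the first
into the class of the first or of the second. -/
theorem involution_pair {G : Type*} [Group G] [Finite G] {a b : G} (ha : a * a = 1) (hb : b * b = 1)
    {K : Subgroup G} (haK : a ∈ K) (hbK : b ∈ K) :
    (∃ d ∈ K, d * b * d⁻¹ = a) ∨
      ∃ d ∈ K, ∃ z ∈ K, z ≠ 1 ∧ z * a = a * z ∧ z * b = b * z ∧ (d * a * d⁻¹ = z * a ∨ d * b * d⁻¹ = z * a) := by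
  set x := a * b with hx
  have ai : a⁻¹ = a := inv_eq_of_mul_eq_one_left ha
  have bi : b⁻¹ = b := inv_eq_of_mul_eq_one_left hb
  have hxK : ∀ m : ℕ, x ^ m ∈ K := fun m => K.pow_mem (K.mul_mem haK hbK) m
  have hax : a * x = x⁻¹ * a := by
    rw [hx, mul_inv_rev, ai, bi, ← mul_assoc, ha, one_mul, mul_assoc, ha, mul_one]
  have hbx : b * x = x⁻¹ * b := by
    rw [hx, mul_inv_rev, ai, bi]; group
  have haP : ∀ m : ℕ, a * x ^ m = (x ^ m)⁻¹ * a := fun m => by
    have h : SemiconjBy a x x⁻¹ := hax
    rw [← inv_pow]; exact h.pow_right m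
  have hbP : ∀ m : ℕ, b * x ^ m = (x ^ m)⁻¹ * b := fun m => by
    have h : SemiconjBy b x x⁻¹ := hbx
    rw [← inv_pow]; exact h.pow_right m
  have haC : ∀ m : ℕ, x ^ m * a * (x ^ m)⁻¹ = x ^ (2 * m) * a := fun m => by
    rw [mul_inv_eq_iff_eq_mul, mul_assoc (x ^ (2 * m)), haP, two_mul, pow_add]; group
  have hbC : ∀ m : ℕ, x ^ m * b * (x ^ m)⁻¹ = x ^ (2 * m) * b := fun m => by
    rw [mul_inv_eq_iff_eq_mul, mul_assoc (x ^ (2 * m)), hbP, two_mul, pow_add]; group
  have hxb : x * b = a := by rw [hx, mul_assoc, hb, mul_one]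
  rcases Nat.even_or_odd' (orderOf x) with ⟨k, hk | hk⟩
  · right
    have hk0 : 0 < k := by
      have := orderOf_pos x; omega
    set z := x ^ k with hz
    have hzz : z⁻¹ = z := inv_eq_of_mul_eq_one_left (by rw [hz, ← pow_add, ← two_mul, ← hk, pow_orderOf_eq_one])
    have hz1 : z ≠ 1 := fun h => by
      have := Nat.le_of_dvd hk0 (orderOf_dvd_of_pow_eq_one h); omega
    have hza : z * a = a * z := by rw [haP, hzz]
    have hzb : z * b = b * z := by rw [hbP, hzz]
    rcases Nat.even_or_odd' k with ⟨j, hj | hj⟩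
    · exact ⟨x ^ j, hxK j, z, hxK k, hz1, hza, hzb, Or.inl (by rw [haC, ← hj])⟩
    · refine ⟨x ^ (j + 1), hxK _, z, hxK k, hz1, hza, hzb, Or.inr ?_⟩
      rw [hbC, show 2 * (j + 1) = k + 1 by omega, pow_succ, mul_assoc, hxb]
  · refine Or.inl ⟨x ^ (k + 1), hxK _, ?_⟩
    rw [hbC, show 2 * (k + 1) = orderOf x + 1 by omega, pow_succ, pow_orderOf_eq_one, one_mul, hxb]

namespace UFrame

variable {F : Type u} [Field F] [Fintype F] [DecidableEq F] {V : Type v} [AddCommGroup V] [Module F V]
  [FiniteDimensional F V] {H : HermSpace F V}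
  {ι : Type w} [DecidableEq ι] [Fintype ι] (B : UFrame H ι)

theorem exists_common_supp {x y : V} (h : H.h x y ≠ 0) : ∃ p, p ∈ B.supp x ∧ p ∈ B.supp y := by
  rw [B.h_co] at h
  obtain ⟨p, -, hp⟩ := Finset.exists_ne_zero_of_sum_ne_zero h
  exact ⟨p, B.mem_supp.mpr (left_ne_zero_of_mul hp),
    B.mem_supp.mpr fun h0 => hp (by rw [h0, map_zero, mul_zero])⟩

theorem neg_two_apply {u v : V} (hu : H.h u u = 1) (hv : H.h v v = 1) (huv : H.h u v = 0) (x : V) :
    (H.qp hu hv H.circle_neg_one).1.1 x = x + (-2 * H.h x u) • u + (-2 * H.h x v) • v := by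
  rw [H.qp_apply hu hv huv, map_neg, map_one]
  norm_num

theorem neg_pair_invol {u v : V} (hu : H.h u u = 1) (hv : H.h v v = 1) (huv : H.h u v = 0) :
    H.qp hu hv H.circle_neg_one * H.qp hu hv H.circle_neg_one = 1 := by
  refine Subtype.ext (H.isom_ext fun x => ?_)
  change (H.qp hu hv H.circle_neg_one * H.qp hu hv H.circle_neg_one).1.1 x = x
  rw [H.sisom_mul_apply, neg_two_apply hu hv huv, neg_two_apply hu hv huv]
  simp only [H.add_left, H.smul_left, hu, hv, huv, H.eq_zero_symm huv]
  module

/-- A monomial negative pair has small support. -/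
theorem neg_pair_supp (h20 : (2 : F) ≠ 0) {u v : V} (hu : H.h u u = 1) (hv : H.h v v = 1) (huv : H.h u v = 0)
    (hm : B.Mono1 (H.qp hu hv H.circle_neg_one).1) : (B.supp u ∪ B.supp v).card ≤ 4 := by
  obtain ⟨π, c, hc⟩ := B.mono1_iff.mp hm
  set W : ι → V := fun i => H.σ (B.co u i) • u + H.σ (B.co v i) • v with hW
  have hcoW : ∀ i l, B.co (W i) l = H.σ (B.co u i) * B.co u l + H.σ (B.co v i) * B.co v l := fun i l => by
    rw [hW]; simp only [co_add, co_smul]
  have hcol : ∀ i l, c i * (if π i = l then 1 else 0) = (if i = l then 1 else 0) + -2 * B.co (W i) l := fun i l => by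
    have h := congrArg (fun y => B.co y l) ((hc i).1.symm.trans (neg_two_apply hu hv huv (B.b i)))
    have e : ∀ y, H.h (B.b i) y = H.σ (B.co y i) := fun y => H.symm _ _
    simp only [co_add, co_smul, co_b, e] at h
    rw [h, hcoW]; ring
  have hsym : ∀ i l, H.σ (B.co (W i) l) = B.co (W l) i := fun i l => by
    rw [hcoW, hcoW]; simp only [map_add, map_mul, H.conj.invol]; ring
  have hsupp : ∀ i l, B.co (W i) l ≠ 0 → l = i ∨ l = π i := fun i l h => by
    by_contra hne
    rw [not_or] at hne
    have := hcol i l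
    rw [if_neg (Ne.symm hne.1), if_neg (Ne.symm hne.2), mul_zero, zero_add] at this
    exact h ((mul_eq_zero.mp this.symm).resolve_left (neg_ne_zero.mpr h20))
  have hinv : ∀ i, π (π i) = i := fun i => by
    rcases eq_or_ne (π i) i with h | h
    · rw [h, h]
    · have h1 : B.co (W i) (π i) ≠ 0 := fun h0 => by
        have := hcol i (π i)
        rw [if_pos rfl, if_neg (Ne.symm h), h0, mul_zero, zero_add, mul_one] at this
        exact (hc i).2 this
      have h2 : B.co (W (π i)) i ≠ 0 := by rw [← hsym]; exact (map_ne_zero _).mpr h1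
      rcases hsupp _ _ h2 with h3 | h3
      · exact absurd h3.symm h
      · exact h3.symm
  set T := B.supp u ∪ B.supp v with hT
  have hWne : ∀ i ∈ T, W i ≠ 0 := fun i hi h => by
    have h1 := congrArg (fun y => H.h y u) h
    have h2 := congrArg (fun y => H.h y v) h
    simp only [hW, H.add_left, H.smul_left, hu, hv, huv, H.eq_zero_symm huv, H.zero_left, mul_one, mul_zero,
      add_zero, zero_add, map_eq_zero] at h1 h2
    rw [hT, Finset.mem_union, mem_supp, mem_supp] at hi
    tauto
  have hWsub : ∀ i, B.supp (W i) ⊆ {i, π i} := fun i l hl => by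
    rw [Finset.mem_insert, Finset.mem_singleton]
    exact hsupp i l (B.mem_supp.mp hl)
  by_contra hlt
  obtain ⟨i, hi⟩ : T.Nonempty := Finset.card_pos.mp (by omega)
  obtain ⟨j, hj, hji⟩ := Finset.exists_mem_notMem_of_card_lt_card (s := {i, π i}) (t := T)
    (lt_of_le_of_lt Finset.card_le_two (by omega))
  obtain ⟨l, hl, hlij⟩ := Finset.exists_mem_notMem_of_card_lt_card (s := {i, π i, j, π j}) (t := T)
    (lt_of_le_of_lt Finset.card_le_four (by omega))
  simp only [Finset.mem_insert, Finset.mem_singleton, not_or] at hji hlij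
  have disj : ∀ a b : ι, b ≠ a → b ≠ π a → Disjoint (B.supp (W a)) (B.supp (W b)) := fun a b h1 h2 => by
    refine Finset.disjoint_left.mpr fun p hp hp' => ?_
    have ha := hWsub a hp
    have hb := hWsub b hp'
    rw [Finset.mem_insert, Finset.mem_singleton] at ha hb
    rcases ha with rfl | rfl <;> rcases hb with hb | hb
    · exact h1 hb.symm
    · exact h2 (by rw [hb, hinv])
    · exact h2 hb.symm
    · exact h1 (π.injective hb).symm
  have d1 := disj i j hji.1 hji.2
  have d2 := disj i l hlij.1 hlij.2.1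
  have d3 := disj j l hlij.2.2.1 hlij.2.2.2
  have hli : LinearIndependent F ![W i, W j, W l] := by
    rw [Fintype.linearIndependent_iff]
    intro g hg
    have key : ∀ a ∈ [i, j, l], ∀ p ∈ B.supp (W a),
        g 0 * B.co (W i) p + g 1 * B.co (W j) p + g 2 * B.co (W l) p = 0 := fun a _ p _ => by
      have := congrArg (fun y => B.co y p) hg
      simpa [Fin.sum_univ_three, co_add, co_smul, co_zero] using this
    have hz : ∀ (a b : ι), Disjoint (B.supp (W a)) (B.supp (W b)) → ∀ p ∈ B.supp (W a), B.co (W b) p = 0 :=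
      fun a b h p hp => B.notMem_supp.mp (Finset.disjoint_left.mp h hp)
    have ne : ∀ a ∈ T, ∃ p, p ∈ B.supp (W a) := fun a ha => by
      rw [← Finset.Nonempty, Finset.nonempty_iff_ne_empty, ne_eq, supp_eq_empty]; exact hWne a ha
    obtain ⟨pi, hpi⟩ := ne i hi
    obtain ⟨pj, hpj⟩ := ne j hj
    obtain ⟨pl, hpl⟩ := ne l hl
    have k1 := key i (by simp) pi hpi
    have k2 := key j (by simp) pj hpj
    have k3 := key l (by simp) pl hpl
    rw [hz i j d1 pi hpi, hz i l d2 pi hpi, mul_zero, mul_zero, add_zero, add_zero] at k1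
    rw [hz j i d1.symm pj hpj, hz j l d3 pj hpj, mul_zero, mul_zero, zero_add, add_zero] at k2
    rw [hz l i d2.symm pl hpl, hz l j d3.symm pl hpl, mul_zero, mul_zero, zero_add, zero_add] at k3
    intro a
    fin_cases a
    · exact (mul_eq_zero.mp k1).resolve_right (B.mem_supp.mp hpi)
    · exact (mul_eq_zero.mp k2).resolve_right (B.mem_supp.mp hpj)
    · exact (mul_eq_zero.mp k3).resolve_right (B.mem_supp.mp hpl)
  have hspan : ∀ a, W a ∈ Submodule.span F (Set.range ![u, v]) := fun a =>
    Submodule.add_mem _ (Submodule.smul_mem _ _ (Submodule.subset_span ⟨0, rfl⟩))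
      (Submodule.smul_mem _ _ (Submodule.subset_span ⟨1, rfl⟩))
  have hle : Submodule.span F (Set.range ![W i, W j, W l]) ≤ Submodule.span F (Set.range ![u, v]) := by
    rw [Submodule.span_le]
    rintro _ ⟨a, rfl⟩
    fin_cases a <;> exact hspan _
  have h1 := Submodule.finrank_mono hle
  rw [finrank_span_eq_card hli] at h1
  have h2 := finrank_range_le_card (R := F) ![u, v]
  simp only [Set.finrank, Fintype.card_fin] at h1 h2
  omega

variable {K : Subgroup H.SIsom} (hM : ∀ g : H.SIsom, B.Mono1 g.1 → g ∈ K)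

include hM in
/-- In odd characteristic some element outside the monomial group maps a frame line to a frame line. -/
theorem exists_line_odd_six (hq : 3 ≤ H.q) (h20 : (2 : F) ≠ 0) (hn : 6 ≤ Fintype.card ι) {g : H.SIsom}
    (hg : g ∈ K) (hgM : ¬ B.Mono1 g.1) : ¬ B.NoLine K := by
  intro hNF
  haveI : Finite (V ≃ₗ[F] V) := by
    haveI : Finite V := Module.finite_of_finite F
    exact Finite.of_injective _ DFunLike.coe_injective
  haveI : Finite H.SIsom := by
    haveI : Finite H.Isom := Finite.of_injective _ Subtype.val_injective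
    exact Finite.of_injective _ Subtype.val_injective
  have h5 : 5 ≤ Fintype.card ι := by omega
  have hcol : ∀ k ∈ K, ∀ j, (B.supp (k.1.1 (B.b j))).card + 2 ≤ Fintype.card ι → B.Mono1 k.1 :=
    fun k hk j h => by
      by_contra hkM
      exact B.col_supp hM hq h5 hNF hk hkM h
  -- fusion is controlled
  have rigid : ∀ k ∈ K, ∀ (u₀ : V) (j : ι) (hu₀ : H.h u₀ u₀ = 1), H.h u₀ (B.b j) = 0 →
      B.Mono1 (k * H.qp hu₀ (B.b_self j) H.circle_neg_one * k⁻¹).1 → B.Mono1 k.1 := by
    intro k hk u₀ j hu₀ ho hm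
    rw [H.qp_conj] at hm
    have := B.neg_pair_supp h20 _ _ (by rw [H.map_form, ho]) hm
    exact hcol k hk j (by
      have := Finset.card_le_card (Finset.subset_union_right (s₁ := B.supp (k.1.1 u₀)) (s₂ := B.supp (k.1.1 (B.b j))))
      omega)
  obtain ⟨f⟩ : Nonempty (Fin 3 ↪ ι) := Function.Embedding.nonempty_of_card_le (by rw [Fintype.card_fin]; omega)
  set a := f 0
  set b := f 1
  set c := f 2
  have hab : a ≠ b := f.injective.ne (by decide)
  have hac : a ≠ c := f.injective.ne (by decide)
  have hbc : b ≠ c := f.injective.ne (by decide)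
  obtain ⟨e, he⟩ := H.conj.norm_surjective (a := (2 : F)⁻¹) (by rw [map_inv₀, map_ofNat])
  set s := B.b a - B.b b with hs
  set u₀ := e • s with hu₀
  have hsy : ∀ y, H.h y s = B.co y a - B.co y b := fun y => by rw [hs, H.sub_right]; rfl
  have hss : H.h s s = 2 := by
    rw [hsy, hs, co_sub, co_sub, co_b, co_b, co_b, co_b, if_pos rfl, if_pos rfl, if_neg hab, if_neg hab.symm]; ring
  have hu₀u : H.h u₀ u₀ = 1 := by
    rw [hu₀, H.smul_left, H.smul_right, hss, ← mul_assoc, he, inv_mul_cancel₀ h20]
  have hu₀c : H.h u₀ (B.b c) = 0 := by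
    rw [hu₀, H.smul_left]
    show e * B.co s c = 0
    rw [hs, co_sub, co_b, co_b, if_neg hac, if_neg hbc, sub_zero, mul_zero]
  set P := B.ph a b H.circle_neg_one with hP
  set S := H.qp hu₀u (B.b_self c) H.circle_neg_one with hSdef
  have hSb : ∀ y, S.1.1 y = y - (B.co y a - B.co y b) • s + (-2 * B.co y c) • B.b c := fun y => by
    have e1 : (-2 * (H.σ e * (B.co y a - B.co y b)) * e) = -(B.co y a - B.co y b) := by
      linear_combination (-2 * (B.co y a - B.co y b)) * he -
        (B.co y a - B.co y b) * mul_inv_cancel₀ h20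
    rw [hSdef, neg_two_apply hu₀u (B.b_self c) hu₀c, hu₀, H.smul_right, hsy, smul_smul, e1, neg_smul,
      ← sub_eq_add_neg]
    rfl
  have hSa : S.1.1 (B.b a) = B.b b := by
    rw [hSb]; simp only [co_b, ↓reduceIte, if_neg hab, if_neg hac, mul_zero, zero_smul, add_zero, sub_zero,
      one_smul, hs]; abel
  have hSbb : S.1.1 (B.b b) = B.b a := by
    rw [hSb]; simp only [co_b, ↓reduceIte, if_neg hab.symm, if_neg hbc, mul_zero, zero_smul, add_zero, zero_sub,
      neg_smul, one_smul, hs]; abel
  have hSc : S.1.1 (B.b c) = (-1 : F) • B.b c := by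
    rw [hSb]; simp only [co_b, ↓reduceIte, if_neg hac.symm, if_neg hbc.symm, sub_zero, zero_smul, mul_one]
    module
  have hSo : ∀ i, i ≠ a → i ≠ b → i ≠ c → S.1.1 (B.b i) = B.b i := fun i ha hb hc' => by
    rw [hSb]; simp only [co_b, if_neg ha, if_neg hb, if_neg hc', sub_zero, zero_smul, mul_zero, add_zero]
  have hSM : B.Mono1 S.1 := fun i => by
    rcases eq_or_ne i a with rfl | ha
    · rw [hSa, supp_b, Finset.card_singleton]
    rcases eq_or_ne i b with rfl | hb
    · rw [hSbb, supp_b, Finset.card_singleton]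
    rcases eq_or_ne i c with rfl | hc'
    · rw [hSc]; exact (Finset.card_le_card (B.supp_smul_subset _ _)).trans (by rw [supp_b, Finset.card_singleton])
    · rw [hSo i ha hb hc', supp_b, Finset.card_singleton]
  have hPs : ∀ i, ∃ μ : F, (μ = 1 ∨ μ = -1) ∧ P.1.1 (B.b i) = μ • B.b i ∧ (i ≠ a → i ≠ b → μ = 1) ∧
      ((i = a ∨ i = b) → μ = -1) := fun i => by
    rw [hP, ph, neg_two_apply (B.b_self a) (B.b_self b) (B.b_ne hab), B.hb, B.hb]
    rcases eq_or_ne i a with rfl | ha
    · exact ⟨-1, Or.inr rfl, by rw [if_pos rfl, if_neg hab]; module, fun h => absurd rfl h, fun _ => rfl⟩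
    rcases eq_or_ne i b with rfl | hb
    · exact ⟨-1, Or.inr rfl, by rw [if_neg hab.symm, if_pos rfl]; module, fun _ h => absurd rfl h, fun _ => rfl⟩
    · exact ⟨1, Or.inl rfl, by rw [if_neg ha, if_neg hb]; module, fun _ _ => rfl, fun h => (h.elim ha hb).elim⟩
  choose sg hsg hPb hsg1 hsgm using hPs
  have hPM : B.Mono1 P.1 := B.mono1_ph hab H.circle_neg_one
  have hPP : P * P = 1 := neg_pair_invol (B.b_self a) (B.b_self b) (B.b_ne hab)
  have hSS : S * S = 1 := neg_pair_invol hu₀u (B.b_self c) hu₀c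
  -- centralisers of monomial elements
  have commute : ∀ (z : H.SIsom) (k : H.SIsom), k ∈ K → z * k = k * z → ∀ (j l l' : ι) (x y y' : F),
      (x = 1 ∨ x = -1) → z.1.1 (B.b j) = x • B.b j → y = -x → z.1.1 (B.b l) = y • B.b l → y' = -x →
      z.1.1 (B.b l') = y' • B.b l' → l ≠ l' → B.Mono1 k.1 := by
    intro z k hk hzk j l l' x y y' hx hj hy hl hy' hl' hne
    have zero : ∀ p (w : F), w = -x → z.1.1 (B.b p) = w • B.b p → B.co (k.1.1 (B.b j)) p = 0 := by
      intro p w hw hp
      have h := H.map_form z.1 (k.1.1 (B.b j)) (B.b p)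
      rw [← H.sisom_mul_apply, hzk, H.sisom_mul_apply, hj, map_smul, hp, H.smul_left, H.smul_right, hw] at h
      have h' : (2 : F) * H.h (k.1.1 (B.b j)) (B.b p) = 0 := by
        rcases hx with rfl | rfl <;> simp only [neg_neg, map_neg, map_one] at h <;> linear_combination -h
      exact (mul_eq_zero.mp h').resolve_left h20
    refine hcol k hk j ?_
    have hsub : B.supp (k.1.1 (B.b j)) ⊆ ({l, l'} : Finset ι)ᶜ := fun p hp => by
      rw [Finset.mem_compl, Finset.mem_insert, Finset.mem_singleton]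
      rintro (rfl | rfl)
      · exact B.mem_supp.mp hp (zero _ _ hy hl)
      · exact B.mem_supp.mp hp (zero _ _ hy' hl')
    have := Finset.card_le_card hsub
    rw [Finset.card_compl, Finset.card_pair hne] at this
    omega
  set u := g * S * g⁻¹ with hu
  have huK : u ∈ K := K.mul_mem (K.mul_mem hg (hM _ hSM)) (K.inv_mem hg)
  have huu : u * u = 1 := by
    rw [hu, show g * S * g⁻¹ * (g * S * g⁻¹) = g * (S * S) * g⁻¹ by group, hSS, mul_one, mul_inv_cancel]
  have huM : ¬ B.Mono1 u.1 := fun h => hgM (rigid g hg u₀ c hu₀u hu₀c h)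
  have lines : ∀ k : H.SIsom, B.Mono1 k.1 → ∀ i, ∃ (t : ι) (l : F), k.1.1 (B.b i) = l • B.b t ∧ l ≠ 0 :=
    fun k hk i => by
      obtain ⟨π, l, h⟩ := B.mono1_iff.mp hk
      exact ⟨π i, l i, h i⟩
  have hPK : P ∈ K := hM _ hPM
  rcases involution_pair hPP huu hPK huK with ⟨d, hd, hde⟩ | ⟨d, hd, z, hzK, hz1, hzP, hzu, hcase⟩
  · -- the two classes are not fused
    set k := d * g with hk
    have hkS : k * S * k⁻¹ = P := by rw [← hde, hu, hk]; group
    have hkM := rigid k (K.mul_mem hd hg) u₀ c hu₀u hu₀c (by rw [← hSdef, hkS]; exact hPM)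
    obtain ⟨t, l, htl, hl⟩ := lines k hkM a
    have h1 : k.1.1 (B.b b) = sg t • k.1.1 (B.b a) := by
      rw [← hSa, ← H.sisom_mul_apply, show k * S = P * k by rw [← hkS]; group, H.sisom_mul_apply, htl, map_smul,
        hPb, smul_comm]
    rw [← map_smul] at h1
    have h2 := congrArg (fun y => B.co y b) (k.1.1.injective h1)
    simp only [co_smul, co_b, ↓reduceIte, if_neg hab, mul_zero] at h2
    exact one_ne_zero h2
  have hzM : B.Mono1 z.1 :=
    rigid z hzK (B.b a) b (B.b_self a) (B.b_ne hab) (by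
      change B.Mono1 (z * P * z⁻¹).1
      rw [hzP, mul_inv_cancel_right]; exact hPM)
  have hzPM : B.Mono1 (z * P).1 := B.mono1_mul hzM hPM
  have hzu' : z * u = u * z := hzu
  rcases hcase with h | h
  · -- `z * P` is a conjugate of `P`
    have hdM := rigid d hd (B.b a) b (B.b_self a) (B.b_ne hab) (by
      change B.Mono1 (d * P * d⁻¹).1
      rw [h]; exact hzPM)
    obtain ⟨A, la, hA, hla⟩ := lines d hdM a
    obtain ⟨A', la', hA', hla'⟩ := lines d hdM b
    obtain ⟨π, l, hπ⟩ := B.mono1_iff.mp hdM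
    have hsgn : ∀ i, (z * P).1.1 (B.b i) = sg (π.symm i) • B.b i := fun i => by
      have e := (hπ (π.symm i)).1
      rw [Equiv.apply_symm_apply] at e
      refine smul_right_injective V (hπ (π.symm i)).2 ?_
      change l (π.symm i) • _ = l (π.symm i) • _
      rw [← map_smul, ← e, ← H.sisom_mul_apply, ← h, mul_assoc, inv_mul_cancel, mul_one, H.sisom_mul_apply, hPb,
        map_smul, e, smul_comm]
    have hzb : ∀ i, z.1.1 (B.b i) = (sg (π.symm i) * sg i) • B.b i := fun i => by
      have e : z = z * P * P := by rw [mul_assoc, hPP, mul_one]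
      rw [e, H.sisom_mul_apply, hPb, map_smul, hsgn, smul_smul, mul_comm]
    obtain ⟨j, hj⟩ : ∃ j, sg (π.symm j) * sg j = -1 := by
      by_contra hno
      push Not at hno
      refine hz1 (Subtype.ext (H.isom_ext fun x => ?_))
      change z.1.1 x = x
      rw [← B.sum_co x, map_sum]
      refine Finset.sum_congr rfl fun i _ => ?_
      have hprod : sg (π.symm i) * sg i = 1 := by
        rcases hsg (π.symm i) with h1 | h1 <;> rcases hsg i with h2 | h2
        · rw [h1, h2, mul_one]
        · exact absurd (by rw [h1, h2, one_mul]) (hno i)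
        · exact absurd (by rw [h1, h2, mul_one]) (hno i)
        · rw [h1, h2, neg_mul_neg, one_mul]
      rw [map_smul, hzb, hprod, one_smul]
    have hT : 1 < (({a, b, π a, π b} : Finset ι)ᶜ).card := by
      rw [Finset.card_compl]
      have : ({a, b, π a, π b} : Finset ι).card ≤ 4 := Finset.card_le_four
      omega
    obtain ⟨p, hp, p', hp', hpp⟩ := Finset.one_lt_card.mp hT
    simp only [Finset.mem_compl, Finset.mem_insert, Finset.mem_singleton, not_or] at hp hp'
    have fixd : ∀ p, p ≠ a → p ≠ b → p ≠ π a → p ≠ π b → z.1.1 (B.b p) = (1 : F) • B.b p :=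
      fun p h1 h2 h3 h4 => by
        rw [hzb, hsg1 p h1 h2, hsg1 _ (fun e => h3 (by rw [← e, Equiv.apply_symm_apply]))
          (fun e => h4 (by rw [← e, Equiv.apply_symm_apply])), mul_one]
    exact huM (commute z u huK hzu' j p p' (-1) 1 1 (Or.inr rfl) (by rw [hzb, hj]) (neg_neg 1).symm
      (fixd p hp.1 hp.2.1 hp.2.2.1 hp.2.2.2) (neg_neg 1).symm (fixd p' hp'.1 hp'.2.1 hp'.2.2.1 hp'.2.2.2) hpp)
  · -- `z * P` is a conjugate of the swap
    set k := d * g with hk
    have hkS : k * S * k⁻¹ = z * P := by rw [← h, hu, hk]; group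
    have hkM := rigid k (K.mul_mem hd hg) u₀ c hu₀u hu₀c (by rw [← hSdef, hkS]; exact hzPM)
    obtain ⟨π, l, hπ⟩ := B.mono1_iff.mp hkM
    have act : ∀ i, (z * P).1.1 (k.1.1 (B.b i)) = k.1.1 (S.1.1 (B.b i)) := fun i => by
      rw [← hkS, ← H.sisom_mul_apply, inv_mul_cancel_right, H.sisom_mul_apply]
    set A := π a with hAdef
    set B' := π b with hBdef
    set C := π c with hCdef
    have hne : A ≠ B' ∧ A ≠ C ∧ B' ≠ C := ⟨π.injective.ne hab, π.injective.ne hac, π.injective.ne hbc⟩
    have hQA : (z * P).1.1 (B.b A) = ((l a)⁻¹ * l b) • B.b B' := by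
      have h1 := act a
      rw [(hπ a).1, hSa, (hπ b).1, map_smul] at h1
      rw [← smul_smul, ← h1, smul_smul, inv_mul_cancel₀ (hπ a).2, one_smul]
    have hQC : (z * P).1.1 (B.b C) = (-1 : F) • B.b C := by
      have h1 := act c
      rw [(hπ c).1, hSc, map_smul, map_smul, (hπ c).1] at h1
      refine smul_right_injective V (hπ c).2 ?_
      change l c • _ = l c • _
      rw [h1, smul_comm]
    have hQo : ∀ i, i ≠ A → i ≠ B' → i ≠ C → (z * P).1.1 (B.b i) = B.b i := fun i h1 h2 h3 => by
      have h4 := act (π.symm i)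
      rw [hSo _ (fun e => h1 (by rw [hAdef, ← e, Equiv.apply_symm_apply]))
        (fun e => h2 (by rw [hBdef, ← e, Equiv.apply_symm_apply]))
        (fun e => h3 (by rw [hCdef, ← e, Equiv.apply_symm_apply])), (hπ (π.symm i)).1,
        Equiv.apply_symm_apply, map_smul] at h4
      exact smul_right_injective V (hπ (π.symm i)).2 h4
    have zQ : ∀ i, z.1.1 (B.b i) = sg i • (z * P).1.1 (B.b i) := fun i => by
      conv_lhs => rw [show z = z * P * P by rw [mul_assoc, hPP, mul_one]]
      rw [H.sisom_mul_apply, hPb, map_smul]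
    have hswap : sg A = sg B' := by
      have h1 : P.1.1 ((z * P).1.1 (B.b A)) = (z * P).1.1 (P.1.1 (B.b A)) := by
        rw [← H.sisom_mul_apply, ← H.sisom_mul_apply, ← mul_assoc, ← hzP]
      rw [hPb, map_smul, hQA, map_smul, hPb, smul_smul, smul_smul] at h1
      have h2 := congrArg (fun y => B.co y B') h1
      simp only [co_smul, co_b, ↓reduceIte, mul_one] at h2
      exact (mul_left_cancel₀ (mul_ne_zero (inv_ne_zero (hπ a).2) (hπ b).2) (by linear_combination h2)).symm
    have hzC : z.1.1 (B.b C) = (-sg C) • B.b C := by rw [zQ, hQC, smul_smul, mul_neg_one]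
    have hzo : ∀ i, i ≠ A → i ≠ B' → i ≠ C → z.1.1 (B.b i) = sg i • B.b i := fun i h1 h2 h3 => by
      rw [zQ, hQo i h1 h2 h3]
    by_cases hT : ({a, b, A, B', C} : Finset ι).card ≤ 4
    · obtain ⟨j, hj⟩ : ∃ j, z.1.1 (B.b j) = (-1 : F) • B.b j := by
        by_cases hC : C = a ∨ C = b
        · -- the other end of the diagonal pair
          obtain ⟨o, ho, hoC⟩ : ∃ o, (o = a ∨ o = b) ∧ o ≠ C := by
            rcases hC with h1 | h1
            · exact ⟨b, Or.inr rfl, h1 ▸ hab.symm⟩
            · exact ⟨a, Or.inl rfl, h1 ▸ hab⟩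
          have out : o ≠ A ∧ o ≠ B' := by
            have key : ∀ X Y : ι, sg X = sg Y → X ≠ Y → X ≠ C → Y ≠ C → o ≠ X := fun X Y hXY h1 h2 h3 e => by
              subst e
              have hY : Y ≠ a ∧ Y ≠ b := by
                constructor <;> intro e <;> subst e <;> rcases ho with rfl | rfl <;> rcases hC with h4 | h4 <;>
                  first
                  | exact h1 rfl
                  | exact h3 h4.symm
                  | exact hoC h4.symm
              rw [hsgm o ho, hsg1 Y hY.1 hY.2] at hXY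
              exact h20 (by linear_combination -hXY)
            exact ⟨key A B' hswap hne.1 hne.2.1 hne.2.2, key B' A hswap.symm hne.1.symm hne.2.2 hne.2.1⟩
          exact ⟨o, by rw [hzo o out.1 out.2 hoC, hsgm o ho]⟩
        · rw [not_or] at hC
          exact ⟨C, by rw [hzC, hsg1 C hC.1 hC.2]⟩
      have h2 : 1 < (({a, b, A, B', C} : Finset ι)ᶜ).card := by rw [Finset.card_compl]; omega
      obtain ⟨p, hp, p', hp', hpp⟩ := Finset.one_lt_card.mp h2
      simp only [Finset.mem_compl, Finset.mem_insert, Finset.mem_singleton, not_or] at hp hp'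
      exact huM (commute z u huK hzu' j p p' (-1) 1 1 (Or.inr rfl) hj (neg_neg 1).symm
        (by rw [hzo p hp.2.2.1 hp.2.2.2.1 hp.2.2.2.2, hsg1 p hp.1 hp.2.1]) (neg_neg 1).symm
        (by rw [hzo p' hp'.2.2.1 hp'.2.2.2.1 hp'.2.2.2.2, hsg1 p' hp'.1 hp'.2.1]) hpp)
    · -- five different lines: use a fixed one
      obtain ⟨j, -, hj⟩ := Finset.exists_mem_notMem_of_card_lt_card (s := {a, b, A, B', C})
        (t := (Finset.univ : Finset ι)) (lt_of_le_of_lt Finset.card_le_five (by rw [Finset.card_univ]; omega))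
      have hd4 : ∀ s : Finset ι, ({a, b, A, B', C} : Finset ι) ⊆ s → 4 < s.card := fun s hs =>
        lt_of_lt_of_le (not_le.mp hT) (Finset.card_le_card hs)
      have h4 : ∀ w x y z : ι, ({a, b, A, B', C} : Finset ι) ⊆ {w, x, y, z} → False := fun w x y z hs => by
        have := hd4 _ hs
        have := Finset.card_le_four (a := w) (b := x) (c := y) (d := z)
        omega
      have haA : a ≠ A := fun e => h4 b A B' C (by intro i hi; simp only [Finset.mem_insert, Finset.mem_singleton] at hi ⊢; rw [e] at hi; tauto)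
      have haB : a ≠ B' := fun e => h4 b A B' C (by intro i hi; simp only [Finset.mem_insert, Finset.mem_singleton] at hi ⊢; rw [e] at hi; tauto)
      have haC : a ≠ C := fun e => h4 b A B' C (by intro i hi; simp only [Finset.mem_insert, Finset.mem_singleton] at hi ⊢; rw [e] at hi; tauto)
      have hCb : C ≠ b := fun e => h4 a b A B' (by intro i hi; simp only [Finset.mem_insert, Finset.mem_singleton] at hi ⊢; rw [e] at hi; tauto)
      simp only [Finset.mem_insert, Finset.mem_singleton, not_or] at hj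
      exact huM (commute z u huK hzu' j a C 1 (-1) (-1) (Or.inl rfl)
        (by rw [hzo j hj.2.2.1 hj.2.2.2.1 hj.2.2.2.2, hsg1 j hj.1 hj.2.1]) rfl
        (by rw [hzo a haA haB haC, hsgm a (Or.inl rfl)]) rfl
        (by rw [hzC, hsg1 C haC.symm hCb]) haC)

include hM in
/-- In dimension at least six some element outside the monomial group maps a frame line to a frame line. -/
theorem exists_line (hq : 3 ≤ H.q) (hn : 6 ≤ Fintype.card ι) {g : H.SIsom} (hg : g ∈ K)
    (hgM : ¬ B.Mono1 g.1) : ∃ g ∈ K, ¬ B.Mono1 g.1 ∧ ∃ i j, B.supp (g.1.1 (B.b i)) ⊆ {j} := by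
  have h : ¬ B.NoLine K := by
    by_cases h2 : (2 : F) = 0
    · have := even_q (H := H) h2
      exact B.exists_line_even hM (by omega) h2 (by omega) hg hgM
    · exact B.exists_line_odd_six hM hq h2 hn hg hgM
  unfold NoLine at h
  push Not at h
  obtain ⟨g, hg, i, j, hij, hgM⟩ := h
  exact ⟨g, hg, hgM, i, j, hij⟩

end UFrame

end Cfsg.Lib.Classical
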