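import Mathlib
import Cfsg.Agent.Classical.Unitary.FrameLine

set_option autoImplicit false
set_option linter.unusedVariables false
set_option linter.unusedSimpArgs false
set_option linter.unusedSectionVars false
set_option linter.style.haveILetI false

/-! Overgroups of monomial unitary groups contain a full root group. -/

namespace Cfsg.Lib.Classical

universe u v w

namespace HermSpace

variable {F : Type u} [Field F] {V : Type v} [AddCommGroup V] [Module F V] (H : HermSpace F V)

theorem siegel_conj_isom (g : H.Isom) {v w : V} (hv : H.h v v = 0) (hwv : H.h w v = 0) {a : F}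
    (ha : a + H.σ a = -H.h w w) :
    g * H.siegel hv hwv ha * g⁻¹ = H.siegel (v := g.1 v) (w := g.1 w) (by rw [H.map_form, hv])
      (by rw [H.map_form, hwv]) (by rw [H.map_form]; exact ha) :=
  H.isom_ext fun x => by
    have e : ∀ y, H.h ((g⁻¹).1 x) y = H.h x (g.1 y) := fun y => by rw [← H.map_form g, H.apply_inv_self]
    rw [mul_apply', mul_apply', siegel_apply, siegel_apply, map_add, map_add, map_smul, map_smul,
      H.apply_inv_self, e, e]

end HermSpace

namespace UFrame

variable {F : Type u} [Field F] [Fintype F] [DecidableEq F] {V : Type v} [AddCommGroup V] [Module F V]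
  [FiniteDimensional F V] {H : HermSpace F V}
  {ι : Type w} [DecidableEq ι] [Fintype ι] (B : UFrame H ι)

/-- Norm one vectors orthogonal to `b s` whose pair of quasi-reflections lies in `K`. -/
def Fixer (K : Subgroup H.SIsom) (s : ι) (x : V) : Prop :=
  ∃ hx : H.h x x = 1, H.h x (B.b s) = 0 ∧ ∀ (a : F) (ha : a * H.σ a = 1), H.qp hx (B.b_self s) ha ∈ K

variable {K : Subgroup H.SIsom}

theorem fixer_map {s : ι} {x : V} (hx : B.Fixer K s x) {g : H.SIsom} (hg : g ∈ K) {e : F}
    (he : g.1.1 (B.b s) = e • B.b s) : B.Fixer K s (g.1.1 x) := by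
  obtain ⟨hxx, hxs, hK⟩ := hx
  have hee : e * H.σ e = 1 := by
    have := H.map_form g.1 (B.b s) (B.b s)
    rwa [he, H.smul_left, H.smul_right, B.b_self, mul_one] at this
  refine ⟨by rw [H.map_form, hxx], ?_, fun a ha => ?_⟩
  · have := H.map_form g.1 x (B.b s)
    rw [he, H.smul_right, hxs, mul_eq_zero] at this
    exact this.resolve_left ((map_ne_zero _).mpr (H.circle_ne_zero hee))
  · have h := K.mul_mem (K.mul_mem hg (hK a ha)) (K.inv_mem hg)
    rw [H.qp_conj] at h
    convert h using 1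
    apply Subtype.ext
    change H.qr _ ha * H.qr _ _ = H.qr _ ha * H.qr _ _
    rw [H.qr_congr he _ (by rw [← he, H.map_form, b_self]) (H.circle_conj ha) (H.circle_conj ha) rfl,
      H.qr_smul (B.b_self s) hee]

theorem fixer_smul {s : ι} {x : V} (hx : B.Fixer K s x) {e : F} (he : e * H.σ e = 1) :
    B.Fixer K s (e • x) := by
  obtain ⟨hxx, hxs, hK⟩ := hx
  refine ⟨by rw [H.smul_left, H.smul_right, hxx, mul_one, he], by rw [H.smul_left, hxs, mul_zero],
    fun a ha => ?_⟩
  convert hK a ha using 1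
  apply Subtype.ext
  change H.qr _ ha * H.qr _ _ = H.qr _ ha * H.qr _ _
  rw [H.qr_smul hxx he]

variable (hM : ∀ g : H.SIsom, B.Mono1 g.1 → g ∈ K)

include hM in
theorem fixer_basis {s i : ι} (h : i ≠ s) : B.Fixer K s (B.b i) :=
  ⟨B.b_self i, B.b_ne h, fun a ha => hM _ (B.mono1_ph h ha)⟩

include hM in
theorem exists_fixer_three (hq : 3 ≤ H.q) (hn : 4 ≤ Fintype.card ι)
    (hex : ∃ g ∈ K, ¬ B.Mono1 g.1 ∧ ∃ i j, B.supp (g.1.1 (B.b i)) ⊆ {j}) :
    ∃ s x, B.Fixer K s x ∧ 3 ≤ (B.supp x).card := by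
  obtain ⟨g, hg, hgM, i₀, j₀, hline⟩ := hex
  obtain ⟨p, z, hz, hpb, hpco⟩ := B.exists_perm (Equiv.swap i₀ j₀) i₀
  have hpM : B.Mono1 p.1 := fun l => by
    rw [hpb]
    exact (Finset.card_le_card (B.supp_smul_subset _ _)).trans (by rw [supp_b, Finset.card_singleton])
  set k := p * g with hk
  have hkK : k ∈ K := K.mul_mem (hM _ hpM) hg
  have hkM : ¬ B.Mono1 k.1 := fun h => hgM (by
    have := B.mono1_mul (B.mono1_inv hpM) h
    change B.Mono1 (p.1⁻¹ * (p.1 * g.1)) at this
    rwa [inv_mul_cancel_left] at this)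
  have hks : k.1.1 (B.b i₀) = (B.co (g.1.1 (B.b i₀)) j₀ * z) • B.b i₀ := by
    rw [hk, H.sisom_mul_apply, B.eq_smul_b hline, map_smul, hpb, Equiv.swap_apply_right, if_pos rfl, smul_smul]
    congr 2
    rw [← B.eq_smul_b hline]
  unfold Mono1 at hkM
  push Not at hkM
  obtain ⟨l, hl⟩ := hkM
  have hls : l ≠ i₀ := by
    rintro rfl
    rw [hks] at hl
    have := Finset.card_le_card (B.supp_smul_subset (B.co (g.1.1 (B.b l)) j₀ * z) (B.b l))
    rw [supp_b, Finset.card_singleton] at this
    omega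
  have hu := B.fixer_map (B.fixer_basis hM hls) hkK hks
  by_cases h3 : 3 ≤ (B.supp (k.1.1 (B.b l))).card
  · exact ⟨_, _, hu, h3⟩
  set s := i₀
  set x := k.1.1 (B.b l) with hx
  obtain ⟨i, j, hij, hxij⟩ := Finset.card_eq_two.mp (by omega : (B.supp x).card = 2)
  obtain ⟨hxx, hxs, hxK⟩ := hu
  have hxi : B.co x i ≠ 0 := B.mem_supp.mp (by rw [hxij]; simp)
  have hxj : B.co x j ≠ 0 := B.mem_supp.mp (by rw [hxij]; simp)
  have hsi : i ≠ s := fun h => hxi (by rw [h]; exact hxs)
  have hsj : j ≠ s := fun h => hxj (by rw [h]; exact hxs)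
  obtain ⟨m, -, hm⟩ := Finset.exists_mem_notMem_of_card_lt_card (s := {i, j, s}) (t := (Finset.univ : Finset ι))
    (lt_of_le_of_lt Finset.card_le_three (by rw [Finset.card_univ]; omega))
  simp only [Finset.mem_insert, Finset.mem_singleton, not_or] at hm
  set π := Equiv.swap i j * Equiv.swap j m with hπ
  have hπi : π i = j := by
    rw [hπ, Equiv.Perm.mul_apply, Equiv.swap_apply_of_ne_of_ne hij (Ne.symm hm.1), Equiv.swap_apply_left]
  have hπj : π j = m := by
    rw [hπ, Equiv.Perm.mul_apply, Equiv.swap_apply_left, Equiv.swap_apply_of_ne_of_ne hm.1 hm.2.1]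
  have hπs : π s = s := by
    rw [hπ, Equiv.Perm.mul_apply, Equiv.swap_apply_of_ne_of_ne hsj.symm (Ne.symm hm.2.2),
      Equiv.swap_apply_of_ne_of_ne hsi.symm hsj.symm]
  obtain ⟨p', z', hz', hp'b, hp'co⟩ := B.exists_perm π s
  have hp'M : B.Mono1 p'.1 := fun l => by
    rw [hp'b]
    exact (Finset.card_le_card (B.supp_smul_subset _ _)).trans (by rw [supp_b, Finset.card_singleton])
  have hy := B.fixer_map ⟨hxx, hxs, hxK⟩ (hM _ hp'M) (e := z') (by rw [hp'b, hπs, if_pos rfl])
  set y := p'.1.1 x with hydef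
  have hyj : B.co y j = B.co x i := by
    have := hp'co x i
    rwa [hπi, if_neg hsj, one_mul] at this
  have hym : B.co y m = B.co x j := by
    have := hp'co x j
    rwa [hπj, if_neg hm.2.2, one_mul] at this
  have hyo : ∀ t, t ≠ j → t ≠ m → B.co y t = 0 := fun t h1 h2 => by
    have := hp'co x (π.symm t)
    rw [Equiv.apply_symm_apply] at this
    rw [this, B.notMem_supp.mp (fun h => ?_), mul_zero]
    rw [hxij, Finset.mem_insert, Finset.mem_singleton] at h
    rcases h with h | h
    · exact h1 (by rw [← hπi, ← h, Equiv.apply_symm_apply])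
    · exact h2 (by rw [← hπj, ← h, Equiv.apply_symm_apply])
  have hyx : H.h y x = B.co x i * H.σ (B.co x j) := by
    rw [B.h_co, Finset.sum_eq_single j (fun t _ ht => ?_) (fun h => absurd (Finset.mem_univ j) h), hyj]
    rcases eq_or_ne t m with rfl | htm
    · rw [(B.notMem_supp (x := x) (i := t)).mp (by rw [hxij]; simp [hm.1, hm.2.1]), map_zero, mul_zero]
    · rw [hyo t ht htm, zero_mul]
  have hAj : B.nm x j ≠ 0 := fun h => hxj (B.nm_eq_zero.mp h)
  obtain ⟨a, ha, ha'⟩ := H.exists_circle_notMem (S := {1, 1 - (B.nm x j)⁻¹}) (by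
    have : ({1, 1 - (B.nm x j)⁻¹} : Finset F).card ≤ 2 := Finset.card_le_two
    omega)
  simp only [Finset.mem_insert, Finset.mem_singleton, not_or] at ha'
  have hz2 : (H.qp hxx (B.b_self s) ha).1.1 (B.b s) = H.σ a • B.b s := by
    rw [H.qp_apply _ _ hxs, H.eq_zero_symm hxs, b_self]; module
  refine ⟨s, _, B.fixer_map hy (hxK a ha) hz2, ?_⟩
  have hys : H.h y (B.b s) = 0 := hy.2.1
  have hco : ∀ t, B.co ((H.qp hxx (B.b_self s) ha).1.1 y) t = B.co y t + (a - 1) * H.h y x * B.co x t := fun t => by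
    rw [H.qp_apply _ _ hxs, co_add, co_add, co_smul, co_smul, hys]; ring
  have : ({i, j, m} : Finset ι) ⊆ B.supp ((H.qp hxx (B.b_self s) ha).1.1 y) := by
    intro t ht
    simp only [Finset.mem_insert, Finset.mem_singleton] at ht
    rw [mem_supp, hco, hyx]
    rcases ht with rfl | rfl | rfl
    · rw [hyo t hij (Ne.symm hm.1), zero_add]
      exact mul_ne_zero (mul_ne_zero (sub_ne_zero.mpr ha'.1) (mul_ne_zero hxi ((map_ne_zero _).mpr hxj))) hxi
    · rw [hyj, show B.co x i + (a - 1) * (B.co x i * H.σ (B.co x t)) * B.co x t =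
        B.co x i * (1 + (a - 1) * B.nm x t) by rw [nm]; ring]
      refine mul_ne_zero hxi fun h => ha'.2 ?_
      field_simp
      linear_combination h
    · rw [hym, (B.notMem_supp (x := x) (i := t)).mp (by rw [hxij]; simp [hm.1, hm.2.1]), mul_zero, add_zero]
      exact hxj
  refine le_trans ?_ (Finset.card_le_card this)
  rw [Finset.card_eq_three.mpr ⟨i, j, m, hij, Ne.symm hm.1, Ne.symm hm.2.1, rfl⟩]

set_option maxHeartbeats 1000000 in
include hM in
/-- Some nonzero vector with a zero coordinate is a centre. -/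
theorem exists_centre (hq : 3 ≤ H.q) (hn : 4 ≤ Fintype.card ι)
    (hex : ∃ g ∈ K, ¬ B.Mono1 g.1 ∧ ∃ i j, B.supp (g.1.1 (B.b i)) ⊆ {j}) :
    ∃ x, x ∈ H.uCentres K ∧ x ≠ 0 ∧ ∃ e, B.co x e = 0 := by
  obtain ⟨s, u, hu, hu3⟩ := B.exists_fixer_three hM hq hn hex
  obtain ⟨i, j, l, hi, hj, hl, hij, hil, hjl⟩ := Finset.two_lt_card_iff.mp (by omega : 2 < (B.supp u).card)
  obtain ⟨huu, hus, huK⟩ := hu
  set A := B.nm u i with hA
  set C := B.nm u j with hC
  have hA0 : A ≠ 0 := fun h => B.mem_supp.mp hi (B.nm_eq_zero.mp h)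
  have hC0 : C ≠ 0 := fun h => B.mem_supp.mp hj (B.nm_eq_zero.mp h)
  have hσA : H.σ A = A := B.nm_fixed _ _
  have hσC : H.σ C = C := B.nm_fixed _ _
  obtain ⟨ζ, η, t, hζ, hη, ht, hne, hsum⟩ : ∃ ζ η t : F, ζ * H.σ ζ = 1 ∧ η * H.σ η = 1 ∧ t * H.σ t = 1 ∧
      ¬ (ζ = 1 ∧ η = 1) ∧ A * ζ + C * η + (1 - A - C) = t := by
    by_cases hK' : 1 - A - C = 0
    · obtain ⟨ξ, hξ, hξ1⟩ := H.exists_circle_notMem (S := {1}) (by rw [Finset.card_singleton]; omega)
      rw [Finset.mem_singleton] at hξ1
      exact ⟨ξ, ξ, ξ, hξ, hξ, hξ, fun h => hξ1 h.1, by linear_combination (1 - ξ) * hK'⟩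
    set K' := 1 - A - C with hK'def
    have hσK : H.σ K' = K' := by rw [hK'def, map_sub, map_sub, map_one, hσA, hσC]
    set R₁ := (H.trImg (1 : F)).image (fun v => A * A + C * C + A * C * v) with hR₁
    set R₂ := (H.trImg (1 : F)).image (fun v => 1 + K' * K' + -K' * v) with hR₂
    have s1 : R₁ ⊆ H.fixF := by
      intro v hv
      obtain ⟨w, hw, rfl⟩ := Finset.mem_image.mp hv
      simp only [H.mem_fixF, map_add, map_mul, hσA, hσC, H.mem_fixF.mp (H.trImg_subset _ hw)]
    have s2 : R₂ ⊆ H.fixF := by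
      intro v hv
      obtain ⟨w, hw, rfl⟩ := Finset.mem_image.mp hv
      simp only [H.mem_fixF, map_add, map_mul, map_neg, map_one, hσK, H.mem_fixF.mp (H.trImg_subset _ hw)]
    obtain ⟨v, hv1, hv2, hv⟩ := H.exists_common s1 s2 (by
      rw [hR₁, hR₂, Finset.card_image_of_injective _
          (fun a b h => mul_left_cancel₀ (mul_ne_zero hA0 hC0) (add_left_cancel h)),
        Finset.card_image_of_injective _ (fun a b h => mul_left_cancel₀ (neg_ne_zero.mpr hK') (add_left_cancel h))]
      have := H.card_trImg_one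
      omega) ((A + C) * (A + C))
    obtain ⟨w₁, hw₁, rfl⟩ := Finset.mem_image.mp hv1
    obtain ⟨w₂, hw₂, hw⟩ := Finset.mem_image.mp hv2
    obtain ⟨η, hη, rfl⟩ := H.mem_trImg.mp hw₁
    obtain ⟨t, ht, rfl⟩ := H.mem_trImg.mp hw₂
    simp only [one_mul] at hw hv
    have hη1 : η ≠ 1 := fun h => hv (by rw [h, map_one]; ring)
    have hN : (t - K') * H.σ (t - K') = (A + C * η) * H.σ (A + C * η) := by
      rw [map_sub, map_add, map_mul, hσA, hσC, hσK]
      linear_combination ht + hw - C * C * hη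
    by_cases hr : A + C * η = 0
    · have : t - K' = 0 := by
        rw [hr, zero_mul, mul_eq_zero] at hN
        exact hN.elim id H.conj.eq_zero.mp
      exact ⟨1, η, t, H.circle_one, hη, ht, fun h => hη1 h.2, by linear_combination hr - this⟩
    · set ξ := (t - K') / (A + C * η) with hξ
      have hξN : ξ * H.σ ξ = 1 := by
        rw [hξ, map_div₀, div_mul_div_comm, hN, div_self (mul_ne_zero hr ((map_ne_zero _).mpr hr))]
      have hξr : ξ * (A + C * η) = t - K' := div_mul_cancel₀ _ hr
      exact ⟨ξ, ξ * η, t, hξN, H.circle_mul hξN hη, ht, fun h => hη1 (by simpa [h.1] using h.2),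
        by linear_combination hξr⟩
  have his : i ≠ s := fun h => B.mem_supp.mp hi (by rw [h]; exact hus)
  have hjs : j ≠ s := fun h => B.mem_supp.mp hj (by rw [h]; exact hus)
  set k := B.ph i s hζ * B.ph j s hη with hk
  have hkK : k ∈ K := K.mul_mem (hM _ (B.mono1_ph his hζ)) (hM _ (B.mono1_ph hjs hη))
  have hks : k.1.1 (B.b s) = (H.σ ζ * H.σ η) • B.b s := B.ext_co fun p => by
    rw [hk, H.sisom_mul_apply, B.co_ph his, B.co_ph hjs, B.co_ph hjs, B.co_ph hjs, co_smul]
    simp only [co_b]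
    rcases eq_or_ne p s with rfl | hps
    · simp [his, his.symm, hjs, hjs.symm]
    · split_ifs <;> simp_all
  set w := k.1.1 u with hw
  obtain ⟨hww, hws, hwK⟩ := B.fixer_map ⟨huu, hus, huK⟩ hkK hks
  replace hww : H.h w w = 1 := hww
  replace hws : H.h w (B.b s) = 0 := hws
  replace hwK : ∀ (a : F) (ha : a * H.σ a = 1), H.qp hww (B.b_self s) ha ∈ K := hwK
  have hwe : w = u + ((ζ - 1) * B.co u i) • B.b i + ((η - 1) * B.co u j) • B.b j := B.ext_co fun p => by
    have hus' : B.co u s = 0 := hus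
    rw [hw, hk, H.sisom_mul_apply, B.co_ph his, B.co_ph hjs, B.co_ph hjs, B.co_ph hjs, co_add, co_add, co_smul,
      co_smul, co_b, co_b]
    rcases eq_or_ne p i with rfl | hpi
    · simp [hij, hij.symm, his]; ring
    · rcases eq_or_ne p j with rfl | hpj
      · simp [hij, hij.symm, hjs]; ring
      · simp only [if_neg hpi, if_neg hpj, if_neg (Ne.symm hpi), if_neg (Ne.symm hpj), mul_zero, add_zero]
        split_ifs with h1 <;> simp_all
  have hwu : H.h w u = t := by
    have e : ∀ p, H.h (B.b p) u = H.σ (B.co u p) := fun p => H.symm _ _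
    rw [hwe, H.add_left, H.add_left, H.smul_left, H.smul_left, huu, e, e, ← hsum, hA, hC]
    simp only [nm]; ring
  obtain ⟨huu', hus', huK'⟩ := B.fixer_smul ⟨huu, hus, huK⟩ ht
  set u' := t • u with hu'
  set x := w - u' with hx
  have hwu' : H.h w u' = 1 := by rw [hu', H.smul_right, hwu, mul_comm]; exact ht
  have hu'w : H.h u' w = 1 := by rw [H.symm, hwu', map_one]
  have hxx : H.h x x = 0 := by
    simp only [hx, H.sub_left, H.sub_right, hww, huu', hwu', hu'w]; ring
  have hxu : H.h x u' = 0 := by rw [hx, H.sub_left, hwu', huu', sub_self]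
  have hux := H.eq_zero_symm hxu
  have hxs : H.h x (B.b s) = 0 := by rw [hx, H.sub_left, hws, hus', sub_zero]
  have hx0 : x ≠ 0 := by
    intro h
    have h' := fun p => congrArg (fun y => B.co y p) h
    simp only [hx, hu', hwe, co_sub, co_add, co_smul, co_b, co_zero] at h'
    have hl0 := B.mem_supp.mp hl
    have ht1 : t = 1 := by
      have := h' l
      rw [if_neg hil, if_neg hjl, mul_zero, mul_zero, add_zero, add_zero] at this
      have : (1 - t) * B.co u l = 0 := by linear_combination this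
      exact (sub_eq_zero.mp ((mul_eq_zero.mp this).resolve_right hl0)).symm
    refine hne ⟨?_, ?_⟩
    · have := h' i
      rw [if_pos rfl, if_neg hij.symm, ht1] at this
      have : (ζ - 1) * B.co u i = 0 := by linear_combination this
      exact sub_eq_zero.mp ((mul_eq_zero.mp this).resolve_right (B.mem_supp.mp hi))
    · have := h' j
      rw [if_pos rfl, if_neg hij, ht1] at this
      have : (η - 1) * B.co u j = 0 := by linear_combination this
      exact sub_eq_zero.mp ((mul_eq_zero.mp this).resolve_right (B.mem_supp.mp hj))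
  -- transvections with centre `x`
  obtain ⟨a, ha, hgen⟩ := H.exists_circle_gen
  have haa : H.σ a - a ≠ 0 := sub_ne_zero.mpr fun h => hgen 2 (by norm_num) (by omega) (by rw [sq]; nth_rewrite 2 [← h]; exact ha)
  let Λ : AddSubgroup (fixedField H.σ) :=
    { carrier := {r | ∀ hc : (r : F) * (H.σ a - a) + H.σ ((r : F) * (H.σ a - a)) = 0,
        (⟨H.uT hxx hc, H.uT_mem_SIsom hxx hc⟩ : H.SIsom) ∈ K}
      zero_mem' := fun hc => by
        convert K.one_mem using 1
        exact Subtype.ext (H.isom_ext fun z => by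
          rw [H.uT_apply]; simp)
      add_mem' := fun {r r'} hr hr' hc => by
        have h1 : ∀ r : fixedField H.σ, (r : F) * (H.σ a - a) + H.σ ((r : F) * (H.σ a - a)) = 0 := fun r => by
          rw [map_mul, map_sub, H.conj.invol, mem_fixedField.mp r.2]; ring
        convert K.mul_mem (hr (h1 r)) (hr' (h1 r')) using 1
        exact Subtype.ext (H.isom_ext fun z => by
          change (H.uT hxx hc).1 z = (H.uT hxx (h1 r) * H.uT hxx (h1 r')).1 z
          rw [H.mul_apply', H.uT_apply, H.uT_apply, H.uT_apply, H.add_left, H.smul_left, hxx,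
            Subfield.coe_add]
          module)
      neg_mem' := fun {r} hr hc => by
        have h1 : (r : F) * (H.σ a - a) + H.σ ((r : F) * (H.σ a - a)) = 0 := by
          rw [map_mul, map_sub, H.conj.invol, mem_fixedField.mp r.2]; ring
        convert K.inv_mem (hr h1) using 1
        refine eq_inv_of_mul_eq_one_left (Subtype.ext (H.isom_ext fun z => ?_))
        change (H.uT hxx hc * H.uT hxx h1).1 z = z
        rw [H.mul_apply', H.uT_apply, H.uT_apply, H.add_left, H.smul_left, hxx, Subfield.coe_neg]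
        module }
  have hgenΛ : ∀ b : F, b * H.σ b = 1 → ∀ r : fixedField H.σ, (r : F) = 2 - (b + H.σ b) → r ∈ Λ := by
    intro b hb r hr hc
    have hτ : (b - 1) + H.σ (b - 1) = -H.h ((b - 1) • u') ((b - 1) • u') := by
      rw [H.smul_left, H.smul_right, huu', map_sub, map_one]; linear_combination hb
    have hτ' : (b - 1) + H.σ (b - 1) = -H.h ((a * (b - 1)) • u') ((a * (b - 1)) • u') := by
      rw [hτ, H.smul_left (b - 1), H.smul_right (b - 1), H.smul_left (a * (b - 1)), H.smul_right (a * (b - 1)), huu', map_mul]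
      linear_combination ((b - 1) * H.σ (b - 1)) * ha
    have hwx : ∀ c : F, H.h (c • u') x = 0 := fun c => by rw [H.smul_left, hux, mul_zero]
    let S₁ : H.SIsom := ⟨H.siegel hxx (hwx (b - 1)) hτ, H.siegel_mem_SIsom _ _ _⟩
    let S₂ : H.SIsom := ⟨H.siegel hxx (hwx (a * (b - 1))) hτ', H.siegel_mem_SIsom _ _ _⟩
    have h1 : S₁ * H.qp huu' (B.b_self s) hb = H.qp hww (B.b_self s) hb := by
      refine Subtype.ext (H.isom_ext fun z => ?_)
      change (S₁ * H.qp huu' (B.b_self s) hb).1.1 z = _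
      rw [H.sisom_mul_apply, H.qp_apply huu' _ hus', H.qp_apply hww _ hws]
      change (H.siegel hxx (hwx (b - 1)) hτ).1 _ = _
      rw [H.siegel_apply, show w = u' + x by rw [hx]; abel]
      simp only [H.add_left, H.add_right, H.smul_left, H.smul_right, hux, huu', hxs, hus',
        H.eq_zero_symm hus', H.eq_zero_symm hxs, map_sub, map_one]
      linear_combination (norm := module) (-(H.h z u')) • hb • x
    have hS₁ : S₁ ∈ K := by
      rw [eq_mul_inv_of_mul_eq h1]; exact K.mul_mem (hwK b hb) (K.inv_mem (huK' b hb))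
    have hS₂ : S₂ ∈ K := by
      have h := K.mul_mem (K.mul_mem (huK' a ha) hS₁) (K.inv_mem (huK' a ha))
      convert h using 1
      apply Subtype.ext
      change H.siegel hxx (hwx (a * (b - 1))) hτ' = (H.qp huu' (B.b_self s) ha).1 * H.siegel hxx (hwx (b - 1)) hτ * (H.qp huu' (B.b_self s) ha).1⁻¹
      rw [H.siegel_conj_isom]
      have e1 : (H.qp huu' (B.b_self s) ha).1.1 x = x := by
        rw [H.qp_apply huu' _ hus', hxu, hxs]; module
      have e2 : (H.qp huu' (B.b_self s) ha).1.1 ((b - 1) • u') = (a * (b - 1)) • u' := by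
        rw [map_smul, H.qp_apply huu' _ hus', huu', hus']; module
      exact H.isom_ext fun z => by rw [H.siegel_apply, H.siegel_apply, e1, e2]
    have hfin : (⟨H.uT hxx hc, H.uT_mem_SIsom hxx hc⟩ : H.SIsom) = S₁ * S₂ * (S₂ * S₁)⁻¹ := by
      rw [eq_mul_inv_iff_mul_eq]
      refine Subtype.ext (H.isom_ext fun z => ?_)
      change (H.uT hxx hc * (H.siegel hxx (hwx (a * (b - 1))) hτ' * H.siegel hxx (hwx (b - 1)) hτ)).1 z =
        (H.siegel hxx (hwx (b - 1)) hτ * H.siegel hxx (hwx (a * (b - 1))) hτ').1 z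
      simp only [H.mul_apply', H.uT_apply, H.siegel_apply, H.add_left, H.smul_left, H.smul_right, hxx, hux, hxu,
        huu', map_mul, map_sub, map_one, hr]
      linear_combination (norm := module) (-(H.h z x * (H.σ a - a))) • hb • x
    rw [hfin]
    exact K.mul_mem (K.mul_mem hS₁ hS₂) (K.inv_mem (K.mul_mem hS₂ hS₁))
  have hΛ : Λ = ⊤ := by
    set S := (H.trImg (1 : F)).image (fun v => 2 - v) with hS
    have hsub : ∀ v ∈ S, ∃ r : fixedField H.σ, r ∈ Λ ∧ (r : F) = v := by
      intro v hv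
      obtain ⟨w, hw, rfl⟩ := Finset.mem_image.mp hv
      obtain ⟨b, hb, rfl⟩ := H.mem_trImg.mp hw
      have hmem : H.σ (2 - (1 * b + H.σ (1 * b))) = 2 - (1 * b + H.σ (1 * b)) := by
        rw [map_sub, map_ofNat, H.conj.trace_mem]
      exact ⟨⟨_, hmem⟩, hgenΛ b hb _ (by simp), rfl⟩
    choose f hf hf' using hsub
    have hle : S.card ≤ Nat.card Λ := by
      have := Nat.card_le_card_of_injective (fun v : S => (⟨f v.1 v.2, hf v.1 v.2⟩ : Λ)) (fun v v' hvv => by
        have := congrArg (fun r : Λ => ((r.1 : fixedField H.σ) : F)) hvv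
        simp only [hf'] at this
        exact Subtype.ext this)
      rwa [Nat.card_eq_fintype_card, Fintype.card_coe] at this
    rw [hS, Finset.card_image_of_injective _ (fun a b h => by simpa using h)] at hle
    have h1 := H.card_trImg_one
    obtain ⟨c, hc⟩ := AddSubgroup.card_addSubgroup_dvd_card Λ
    refine AddSubgroup.eq_top_of_card_eq _ ?_
    have hq' : H.q = Nat.card Λ * c := hc
    rcases c with _ | _ | c
    · omega
    · change Nat.card Λ = H.q; omega
    · have : Nat.card Λ * (c + 1 + 1) = Nat.card Λ * c + 2 * Nat.card Λ := by ring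
      omega
  refine ⟨x, ⟨hxx, fun c hc => ?_⟩, hx0, s, hxs⟩
  have hr : H.σ (c / (H.σ a - a)) = c / (H.σ a - a) := by
    rw [map_div₀, map_sub, H.conj.invol, eq_neg_of_add_eq_zero_right hc, ← neg_sub (H.σ a), neg_div_neg_eq]
  have hmem : (⟨c / (H.σ a - a), hr⟩ : fixedField H.σ) ∈ Λ := by rw [hΛ]; trivial
  have hc' : c / (H.σ a - a) * (H.σ a - a) + H.σ (c / (H.σ a - a) * (H.σ a - a)) = 0 := by
    rw [div_mul_cancel₀ _ haa]; exact hc
  convert hmem hc' using 1
  exact Subtype.ext (H.isom_ext fun z => by rw [H.uT_apply, H.uT_apply, div_mul_cancel₀ _ haa])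

end UFrame

end Cfsg.Lib.Classical
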