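import Mathlib
import Cfsg.Agent.Classical.Unitary.FrameCentre

set_option autoImplicit false
set_option linter.unusedVariables false
set_option linter.unusedSimpArgs false
set_option linter.unusedSectionVars false
set_option linter.style.haveILetI false

/-! Overgroups of decomposition stabilisers in unitary groups: two-coordinate centres. -/

namespace Cfsg.Lib.Classical

universe u v w w'

namespace UFrame

variable {F : Type u} [Field F] [Fintype F] [DecidableEq F] {V : Type v} [AddCommGroup V] [Module F V]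
  [FiniteDimensional F V] {H : HermSpace F V}
  {ι : Type w} [DecidableEq ι] [Fintype ι] (B : UFrame H ι)

/-- All isotropic vectors supported in `{i, j}` are centres. -/
def PairC (K : Subgroup H.SIsom) (i j : ι) : Prop :=
  ∀ x, H.h x x = 0 → B.supp x ⊆ {i, j} → x ∈ H.uCentres K

variable {K : Subgroup H.SIsom} {β : Type w'} (blk : ι → β)

theorem centre_of_local (hM : ∀ g : H.SIsom, B.Mono blk g.1 → g ∈ K) {x : V} (hx : H.h x x = 0)
    (hloc : ∀ a c, a ∈ B.supp x → c ∈ B.supp x → blk a = blk c) : x ∈ H.uCentres K :=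
  ⟨hx, fun c hc => hM _ (B.mono_of_mono1_local blk fun i a ha => by
    rw [H.uT_apply, co_add, co_smul, co_b] at ha
    by_cases h : i = a
    · rw [h]
    rw [if_neg h, zero_add, mul_ne_zero_iff, mul_ne_zero_iff] at ha
    have hi : B.co x i ≠ 0 := fun h0 => ha.1.2 (by rw [H.symm]; change H.σ (B.co x i) = 0; rw [h0, map_zero])
    exact hloc a i (B.mem_supp.mpr ha.2) (B.mem_supp.mpr hi))⟩

theorem uCentres_neg {x : V} (hx : x ∈ H.uCentres K) : -x ∈ H.uCentres K := by
  rw [show -x = (-1 : F) • x by rw [neg_one_smul]]; exact HermSpace.uCentres_smul hx _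

variable (hM : ∀ g : H.SIsom, B.Mono blk g.1 → g ∈ K)

include hM in
/-- Centres with the same coordinate norms and a common zero coordinate correspond. -/
theorem phase_move {x y : V} (hx : x ∈ H.uCentres K) {e : ι} (hex : B.co x e = 0) (hey : B.co y e = 0)
    (hnm : ∀ l, B.nm x l = B.nm y l) : y ∈ H.uCentres K := by
  induction hd : (Finset.univ.filter fun l => B.co x l ≠ B.co y l).card using Nat.strong_induction_on
    generalizing x with
  | _ d ih =>
    rcases Finset.eq_empty_or_nonempty (Finset.univ.filter fun l => B.co x l ≠ B.co y l) with h | ⟨l, hl⟩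
    · rw [show y = x from B.ext_co fun l => by
        by_contra hne
        exact Finset.eq_empty_iff_forall_notMem.mp h l (by simp [Ne.symm hne])]
      exact hx
    rw [Finset.mem_filter] at hl
    have hxl : B.co x l ≠ 0 := fun h0 => hl.2 (by
      rw [h0, (B.nm_eq_zero.mp ((hnm l).symm.trans (B.nm_eq_zero.mpr h0)))])
    have hle : l ≠ e := fun h => hl.2 (by rw [h, hex, hey])
    have hz : B.co y l / B.co x l * H.σ (B.co y l / B.co x l) = 1 := by
      rw [map_div₀, div_mul_div_comm, show B.co y l * H.σ (B.co y l) = B.nm x l from (hnm l).symm]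
      exact div_self (fun h0 => hxl (B.nm_eq_zero.mp h0))
    have hlt : (Finset.univ.filter fun t => B.co ((B.ph l e hz).1.1 x) t ≠ B.co y t).card < d := by
      rw [← hd]
      refine Finset.card_lt_card ((Finset.ssubset_iff_of_subset fun t ht => ?_).mpr ⟨l, by simp [hl.2], ?_⟩)
      · simp only [Finset.mem_filter, Finset.mem_univ, true_and, B.co_ph hle] at ht ⊢
        intro h0
        apply ht
        split_ifs with h1 h2
        · rw [h1]; exact div_mul_cancel₀ _ hxl
        · rw [h2, hex, mul_zero, hey]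
        · exact h0
      · simp only [Finset.mem_filter, Finset.mem_univ, true_and, B.co_ph hle, ↓reduceIte, if_pos, not_not]
        exact div_mul_cancel₀ _ hxl
    refine ih _ hlt (HermSpace.uCentres_map hx (hM _ (B.mono_ph blk hle hz))) ?_ (fun t => ?_) rfl
    · rw [B.co_ph hle, if_neg hle.symm, if_pos rfl, hex, mul_zero]
    · rw [B.nm_ph hle]; exact hnm t

include hM in
theorem pairC_of_exact (hn : 3 ≤ Fintype.card ι) {i j : ι} (hij : i ≠ j) {x : V} (hx : x ∈ H.uCentres K)
    (hs : B.supp x ⊆ {i, j}) (hi : B.co x i ≠ 0) : B.PairC K i j := by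
  intro y hy hys
  obtain ⟨e, -, he⟩ := Finset.exists_mem_notMem_of_card_lt_card (s := {i, j}) (t := (Finset.univ : Finset ι))
    (lt_of_le_of_lt Finset.card_le_two (by rw [Finset.card_univ]; omega))
  set l := B.co y i / B.co x i with hl
  have hx2 : ∀ z, B.supp z ⊆ {i, j} → H.h z z = B.nm z i + B.nm z j := fun z hz => by
    rw [B.h_self_nm, ← Finset.sum_pair hij]
    exact (Finset.sum_subset (Finset.subset_univ _) fun t _ ht =>
      B.nm_eq_zero.mpr (B.notMem_supp.mp fun h => ht (hz h))).symm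
  have hxx : B.nm x i + B.nm x j = 0 := by rw [← hx2 x hs]; exact hx.1
  have hyy : B.nm y i + B.nm y j = 0 := by rw [← hx2 y hys]; exact hy
  refine B.phase_move blk hM (x := l • x) (HermSpace.uCentres_smul hx l) (e := e) ?_ ?_ fun t => ?_
  · rw [co_smul, B.notMem_supp.mp (fun h => he (hs h)), mul_zero]
  · exact B.notMem_supp.mp fun h => he (hys h)
  · have e1 : B.nm (l • x) t = l * H.σ l * B.nm x t := by rw [nm, co_smul, nm, map_mul]; ring
    have e2 : l * H.σ l * B.nm x i = B.nm y i := by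
      rw [hl, nm, nm, map_div₀]
      field_simp [hi, (map_ne_zero H.σ).mpr hi]
    rw [e1]
    rcases eq_or_ne t i with rfl | hti
    · exact e2
    rcases eq_or_ne t j with rfl | htj
    · linear_combination (l * H.σ l) * hxx - hyy - e2
    · have h0 : ∀ z, B.supp z ⊆ {i, j} → B.nm z t = 0 := fun z hz => B.nm_eq_zero.mpr (B.notMem_supp.mp fun h => by
        have := hz h
        simp [hti, htj] at this)
      rw [h0 x hs, h0 y hys, mul_zero]

include hM in
theorem pair_sub (hn : 3 ≤ Fintype.card ι) {i j : ι} (hij : i ≠ j) {x : V} (hx : x ∈ H.uCentres K) {m : H.SIsom}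
    (hm : m ∈ K) (hfix : ∀ l, l ≠ i → l ≠ j → B.co (m.1.1 x) l = B.co x l) (hi : B.co (m.1.1 x) i ≠ B.co x i)
    (hiso : H.h (x - m.1.1 x) (x - m.1.1 x) = 0) (hne : H.h x (m.1.1 x) ≠ 0) : B.PairC K i j := by
  have hd := HermSpace.uCentres_span hx (HermSpace.uCentres_map hx hm) hne (a := 1) (b := -1)
    (by rwa [one_smul, neg_one_smul, ← sub_eq_add_neg])
  rw [one_smul, neg_one_smul, ← sub_eq_add_neg] at hd
  refine B.pairC_of_exact blk hM hn hij hd (fun l hl => ?_) ?_
  · rw [Finset.mem_insert, Finset.mem_singleton]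
    by_contra h
    rw [not_or] at h
    exact B.mem_supp.mp hl (by rw [co_sub, hfix l h.1 h.2, sub_self])
  · rw [co_sub]; exact sub_ne_zero.mpr (Ne.symm hi)

theorem h_sub_two (x y : V) {i j : ι} (hij : i ≠ j) (hfix : ∀ l, l ≠ i → l ≠ j → B.co y l = B.co x l) :
    H.h (x - y) (x - y) = B.nm (x - y) i + B.nm (x - y) j ∧
      H.h x y = H.h x x + B.co x i * (H.σ (B.co y i) - H.σ (B.co x i)) +
        B.co x j * (H.σ (B.co y j) - H.σ (B.co x j)) := by
  constructor
  · rw [B.h_self_nm, ← Finset.sum_pair hij]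
    refine (Finset.sum_subset (Finset.subset_univ _) fun t _ ht => B.nm_eq_zero.mpr ?_).symm
    simp only [Finset.mem_insert, Finset.mem_singleton, not_or] at ht
    rw [co_sub, hfix t ht.1 ht.2, sub_self]
  · rw [add_assoc, B.h_co x y, B.h_co x x, ← sub_eq_iff_eq_add', ← Finset.sum_sub_distrib]
    simp only [← mul_sub]
    rw [← Finset.sum_pair (f := fun t => B.co x t * (H.σ (B.co y t) - H.σ (B.co x t))) hij]
    refine (Finset.sum_subset (Finset.subset_univ _) fun t _ ht => ?_).symm
    simp only [Finset.mem_insert, Finset.mem_singleton, not_or] at ht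
    rw [hfix t ht.1 ht.2, sub_self, mul_zero]

include hM in
theorem pair_sum_zero (hn : 3 ≤ Fintype.card ι) {i j : ι} (hij : i ≠ j) {x : V} (hx : x ∈ H.uCentres K)
    (hi : B.co x i ≠ 0) (hsum : B.nm x i + B.nm x j = 0) : B.PairC K i j := by
  obtain ⟨z, hz⟩ := H.exists_norm_ker_sq_ne_one
  have hzz : (z.1 : F) * H.σ z.1 = 1 := congrArg Units.val (MonoidHom.mem_ker.mp z.2)
  set ζ := (z.1 : F)
  have hζ : ζ ≠ H.σ ζ := fun h => hz (by rw [sq]; nth_rewrite 2 [h]; exact hzz)
  have hζ1 : ζ ≠ 1 := fun h => hζ (by rw [h, map_one])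
  have hfix : ∀ l, l ≠ i → l ≠ j → B.co ((B.ph i j hzz).1.1 x) l = B.co x l := fun l h1 h2 => by
    rw [B.co_ph hij, if_neg h1, if_neg h2]
  obtain ⟨e1, e2⟩ := B.h_sub_two x ((B.ph i j hzz).1.1 x) hij hfix
  refine B.pair_sub blk hM hn hij hx (hM _ (B.mono_ph blk hij hzz)) hfix ?_ ?_ ?_
  · rw [B.co_ph hij, if_pos rfl]
    intro h
    exact hζ1 (mul_right_cancel₀ hi (h.trans (one_mul _).symm))
  · rw [e1, nm, nm, co_sub, co_sub, B.co_ph hij, B.co_ph hij, if_pos rfl, if_neg hij.symm, if_pos rfl]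
    simp only [nm] at hsum
    simp only [map_sub, map_mul, H.conj.invol]
    linear_combination (2 - ζ - H.σ ζ) * hsum + (B.co x i * H.σ (B.co x i) + B.co x j * H.σ (B.co x j)) * hzz
  · rw [e2, hx.1, B.co_ph hij, B.co_ph hij, if_pos rfl, if_neg hij.symm, if_pos rfl]
    simp only [map_mul, H.conj.invol]
    intro h
    simp only [nm] at hsum
    have : (H.σ ζ - ζ) * (B.co x i * H.σ (B.co x i)) = 0 := by linear_combination h - (ζ - 1) * hsum
    exact mul_ne_zero (sub_ne_zero.mpr hζ.symm) (mul_ne_zero hi ((map_ne_zero _).mpr hi)) this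

include hM in
theorem pair_spare (hn : 3 ≤ Fintype.card ι) {i j e : ι} (hij : i ≠ j) {x : V}
    (hx : x ∈ H.uCentres K) (hi : B.co x i ≠ 0) (hj : B.co x j ≠ 0) (he : B.co x e = 0) : B.PairC K i j := by
  by_cases hsum : B.nm x i + B.nm x j = 0
  · exact B.pair_sum_zero blk hM hn hij hx hi hsum
  set A := B.nm x i with hA
  set C := B.nm x j with hC
  have hA0 : A ≠ 0 := fun h => hi (B.nm_eq_zero.mp h)
  have hC0 : C ≠ 0 := fun h => hj (B.nm_eq_zero.mp h)
  have hσA : H.σ A = A := B.nm_fixed _ _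
  have hσC : H.σ C = C := B.nm_fixed _ _
  set R₁ := (H.trImg (1 : F)).image (fun v => A * (2 - v)) with hR₁
  set R₂ := (H.trImg (1 : F)).image (fun v => -C * (2 - v)) with hR₂
  have s1 : R₁ ⊆ H.fixF := by
    intro v hv
    obtain ⟨w, hw, rfl⟩ := Finset.mem_image.mp hv
    simp only [H.mem_fixF, map_mul, map_sub, map_ofNat, hσA, H.mem_fixF.mp (H.trImg_subset _ hw)]
  have s2 : R₂ ⊆ H.fixF := by
    intro v hv
    obtain ⟨w, hw, rfl⟩ := Finset.mem_image.mp hv
    simp only [H.mem_fixF, map_mul, map_neg, map_sub, map_ofNat, hσC, H.mem_fixF.mp (H.trImg_subset _ hw)]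
  obtain ⟨v, hv1, hv2, hv⟩ := H.exists_common s1 s2 (by
    rw [hR₁, hR₂, Finset.card_image_of_injective _
        (fun a b h => sub_right_injective (mul_left_cancel₀ hA0 h)),
      Finset.card_image_of_injective _ (fun a b h => sub_right_injective (mul_left_cancel₀ (neg_ne_zero.mpr hC0) h))]
    have := H.card_trImg_one
    omega) 0
  obtain ⟨w₁, hw₁, hv₁⟩ := Finset.mem_image.mp hv1
  obtain ⟨w₂, hw₂, hv₂⟩ := Finset.mem_image.mp hv2
  obtain ⟨ζ, hζ, hζw⟩ := H.mem_trImg.mp hw₁
  obtain ⟨η, hη, hηw⟩ := H.mem_trImg.mp hw₂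
  simp only [one_mul] at hζw hηw
  have hζ1 : ζ ≠ 1 := fun h => hv (by rw [← hv₁, ← hζw, h, map_one]; ring)
  have hη1 : η ≠ 1 := fun h => hv (by rw [← hv₂, ← hηw, h, map_one]; ring)
  have hie : i ≠ e := fun h => hi (by rw [h]; exact he)
  have hje : j ≠ e := fun h => hj (by rw [h]; exact he)
  have use' : ∀ (ζ η : F) (hζ : ζ * H.σ ζ = 1) (hη : η * H.σ η = 1), ζ ≠ 1 →
      A * (2 - (ζ + H.σ ζ)) + C * (2 - (η + H.σ η)) = 0 →
      A * (H.σ ζ - 1) + C * (H.σ η - 1) ≠ 0 → B.PairC K i j := by
    intro ζ η hζ hη hζ1 hiso hne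
    set m := B.ph i e hζ * B.ph j e hη
    have hfix : ∀ l, l ≠ i → l ≠ j → B.co (m.1.1 x) l = B.co x l := fun l h1 h2 => by
      rw [H.sisom_mul_apply, B.co_ph hie, B.co_ph hje, B.co_ph hje, B.co_ph hje, if_neg h1, if_neg h2]
      split_ifs with h3 <;> simp_all
    have mi : B.co (m.1.1 x) i = ζ * B.co x i := by
      rw [H.sisom_mul_apply, B.co_ph hie, if_pos rfl, B.co_ph hje, if_neg hij, if_neg hie]
    have mj : B.co (m.1.1 x) j = η * B.co x j := by
      rw [H.sisom_mul_apply, B.co_ph hie, if_neg hij.symm, if_neg hje, B.co_ph hje, if_pos rfl]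
    obtain ⟨e1, e2⟩ := B.h_sub_two x (m.1.1 x) hij hfix
    refine B.pair_sub blk hM hn hij hx (K.mul_mem (hM _ (B.mono_ph blk hie hζ)) (hM _ (B.mono_ph blk hje hη)))
      hfix ?_ ?_ ?_
    · rw [mi]; exact fun h => hζ1 (mul_right_cancel₀ hi (h.trans (one_mul _).symm))
    · rw [e1, nm, nm, co_sub, co_sub, mi, mj]
      simp only [hA, hC, nm] at hiso
      simp only [map_sub, map_mul]
      linear_combination hiso + (B.co x i * H.σ (B.co x i)) * hζ + (B.co x j * H.σ (B.co x j)) * hη
    · rw [e2, hx.1, mi, mj]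
      intro h
      apply hne
      simp only [hA, hC, nm]
      simp only [map_mul] at h
      linear_combination h
  have hiso : A * (2 - (ζ + H.σ ζ)) + C * (2 - (η + H.σ η)) = 0 := by
    rw [hζw, hηw]; linear_combination hv₁ - hv₂
  by_cases h1 : A * (H.σ ζ - 1) + C * (H.σ η - 1) = 0
  · by_cases h2 : A * (H.σ ζ - 1) + C * (η - 1) = 0
    · have hηη : H.σ η = η := by
        have : C * (H.σ η - η) = 0 := by linear_combination h1 - h2
        exact sub_eq_zero.mp ((mul_eq_zero.mp this).resolve_left hC0)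
      have h1' := congrArg H.σ h1
      simp only [map_add, map_mul, map_sub, map_one, map_zero, H.conj.invol, hσA, hσC] at h1'
      have hζζ : H.σ ζ = ζ := by
        have : A * (H.σ ζ - ζ) = 0 := by linear_combination h1 - h1' - C * hηη
        exact sub_eq_zero.mp ((mul_eq_zero.mp this).resolve_left hA0)
      have e1 : ζ = -1 := by rw [hζζ] at hζ; exact (mul_self_eq_one_iff.mp hζ).resolve_left hζ1
      have e2 : η = -1 := by rw [hηη] at hη; exact (mul_self_eq_one_iff.mp hη).resolve_left hη1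
      exfalso
      rw [e1, e2, map_neg, map_one] at h1
      have : 2 * (A + C) = 0 := by linear_combination -h1
      rcases mul_eq_zero.mp this with h | h
      · exact hζ1 (by rw [e1]; linear_combination -h)
      · exact hsum h
    · exact use' ζ (H.σ η) hζ (H.circle_conj hη) hζ1 (by rw [H.conj.invol]; linear_combination hiso)
        (by rwa [H.conj.invol])
  · exact use' ζ η hζ hη hζ1 hiso h1

include hM in
theorem pairs_all (hn : 3 ≤ Fintype.card ι)
    (hperm : ∀ i j i' j', blk i ≠ blk j → blk i' ≠ blk j' →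
      ∃ π : Equiv.Perm ι, (∀ a d, blk a = blk d → blk (π a) = blk (π d)) ∧ π i = i' ∧ π j = j')
    {i j : ι} (hij : blk i ≠ blk j) (hC : B.PairC K i j) : ∀ i' j', B.PairC K i' j' := by
  intro i' j'
  by_cases hb : blk i' = blk j'
  · intro x hx hs
    refine B.centre_of_local blk hM hx fun a c ha hc => ?_
    have h1 := hs ha
    have h2 := hs hc
    simp only [Finset.mem_insert, Finset.mem_singleton] at h1 h2
    rcases h1 with rfl | rfl <;> rcases h2 with rfl | rfl <;> simp [hb]
  obtain ⟨π, hπ, hπi, hπj⟩ := hperm i j i' j' hij hb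
  obtain ⟨g, z, hz, hgb, hgco⟩ := B.exists_perm π i'
  intro x hx hs
  have hgK : g ∈ K := hM _ (B.mono_perm hgb hπ)
  have h := hC ((g⁻¹).1.1 x) (by rw [H.map_form, hx]) (fun l hl => by
    rw [mem_supp] at hl
    have := hgco ((g⁻¹).1.1 x) l
    rw [H.sisom_apply_inv] at this
    have h1 : B.co x (π l) ≠ 0 := by
      rw [this]
      refine mul_ne_zero ?_ hl
      split_ifs
      · exact H.circle_ne_zero hz
      · exact one_ne_zero
    have h2 := hs (B.mem_supp.mpr h1)
    simp only [Finset.mem_insert, Finset.mem_singleton] at h2 ⊢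
    rcases h2 with h2 | h2
    · exact Or.inl (π.injective (h2.trans hπi.symm))
    · exact Or.inr (π.injective (h2.trans hπj.symm)))
  have := HermSpace.uCentres_map h hgK
  rwa [H.sisom_apply_inv] at this

/-- The span of a block. -/
noncomputable def blockSub [DecidableEq β] (b : β) : Submodule F V :=
  Submodule.span F (B.b '' ((Finset.univ.filter fun i => blk i = b) : Finset ι))

theorem mem_blockSub [DecidableEq β] {b : β} {x : V} :
    x ∈ B.blockSub blk b ↔ ∀ i, blk i ≠ b → B.co x i = 0 := by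
  constructor
  · intro hx i hi
    rw [blockSub] at hx
    induction hx using Submodule.span_induction with
    | mem y hy =>
      obtain ⟨l, hl, rfl⟩ := hy
      rw [Finset.mem_coe, Finset.mem_filter] at hl
      rw [co_b, if_neg (fun h : l = i => hi (h ▸ hl.2))]
    | zero => exact B.co_zero i
    | add a c _ _ ha hc => rw [co_add, ha, hc, add_zero]
    | smul r a _ ha => rw [co_smul, ha, mul_zero]
  · intro h
    refine B.mem_span_of_supp fun i hi => ?_
    rw [Finset.mem_filter]
    exact ⟨Finset.mem_univ _, by_contra fun hne => B.mem_supp.mp hi (h i hne)⟩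

theorem b_mem_blockSub [DecidableEq β] (i : ι) : B.b i ∈ B.blockSub blk (blk i) :=
  (B.mem_blockSub blk).mpr fun l hl => by rw [co_b, if_neg (fun h : i = l => hl (by rw [h]))]

theorem nondeg_blockSub [DecidableEq β] (b : β) : H.NondegOn (B.blockSub blk b) := fun v hv h =>
  B.ext_co fun i => by
    rw [co_zero]
    by_cases hi : blk i = b
    · exact H.eq_zero_symm (h _ (hi ▸ B.b_mem_blockSub blk i))
    · exact (B.mem_blockSub blk).mp hv i hi

theorem b_mem_orth [DecidableEq β] {i : ι} {b : β} (hi : blk i ≠ b) : B.b i ∈ H.orth (B.blockSub blk b) :=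
  fun w hw => H.eq_zero_symm ((B.mem_blockSub blk).mp hw i hi)

include hM in
theorem local_move [DecidableEq β] {b : β} {P Q : V} (hP : P ∈ B.blockSub blk b) (hQ : Q ∈ B.blockSub blk b)
    (hP0 : P ≠ 0) (hQ0 : Q ≠ 0) (hPQ : H.h Q Q = H.h P P) {c : ι} (hc : blk c ≠ b) :
    ∃ m : H.SIsom, m ∈ K ∧ m.1.1 P = Q ∧ ∃ z : F, z * H.σ z = 1 ∧
      ∀ y ∈ H.orth (B.blockSub blk b), ∀ l, B.co (m.1.1 y) l = if l = c then z * B.co y l else B.co y l := by
  set W := B.blockSub blk b with hWdef
  have hW := B.nondeg_blockSub blk b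
  obtain ⟨k, hk⟩ := (H.restrict W hW).exists_isom_same_norm (a := ⟨P, hP⟩) (a' := ⟨Q, hQ⟩)
    (fun e => hP0 (congrArg Subtype.val e)) (fun e => hQ0 (congrArg Subtype.val e)) hPQ
  obtain ⟨m, hm1, hm2⟩ := H.exists_glue hW hW k.1.toLinearMap LinearMap.id k.2 (fun _ _ => rfl)
  obtain ⟨z, hz⟩ := H.exists_SIsom_correct m (B.b_self c)
  have hzz : (z.1 : F) * H.σ z.1 = 1 := congrArg Units.val (MonoidHom.mem_ker.mp z.2)
  have he : H.qrefl (B.b_self c) z = H.qr (B.b_self c) hzz := by
    unfold HermSpace.qr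
    congr 1
    exact Subtype.ext (Units.ext rfl)
  have hW' : ∀ x ∈ W, (H.qrefl (B.b_self c) z).1 x = x := fun x hx =>
    H.qrefl_orth _ _ (H.eq_zero_symm (B.b_mem_orth blk hc x hx))
  refine ⟨⟨_, hz⟩, hM _ (B.mono_of_mono1_local blk fun i a ha => ?_), ?_, z.1, hzz, fun y hy l => ?_⟩
  · by_contra hne
    apply ha
    rw [H.mul_apply']
    by_cases hi : blk i = b
    · have hmem : B.b i ∈ W := by rw [hWdef, ← hi]; exact B.b_mem_blockSub blk i
      rw [hm1 ⟨_, hmem⟩]
      change B.co ((H.qrefl (B.b_self c) z).1 ((k.1 ⟨_, hmem⟩ : W) : V)) a = 0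
      rw [hW' _ (k.1 ⟨_, hmem⟩).2]
      exact (B.mem_blockSub blk).mp (k.1 ⟨_, hmem⟩).2 a (fun h => hne (h.trans hi.symm))
    · rw [hm2 ⟨_, B.b_mem_orth blk hi⟩]
      change B.co ((H.qrefl (B.b_self c) z).1 (B.b i)) a = 0
      rw [he, co_qr, co_b, co_b]
      split_ifs <;> simp_all
  · change (H.qrefl (B.b_self c) z * m).1 P = Q
    rw [H.mul_apply', hm1 ⟨P, hP⟩]
    change (H.qrefl (B.b_self c) z).1 (k.1 ⟨P, hP⟩ : W) = Q
    rw [hk, hW' _ hQ]
  · change B.co ((H.qrefl (B.b_self c) z * m).1 y) l = _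
    rw [H.mul_apply', hm2 ⟨y, hy⟩]
    change B.co ((H.qrefl (B.b_self c) z).1 y) l = _
    rw [he, co_qr]
    split_ifs with h
    · rw [h]
    · rfl

include hM in
/-- With blocks of size at least two, some centre pair joins two blocks. -/
theorem cross_pair (hk : ∀ i, ∃ j, j ≠ i ∧ blk j = blk i) (hn : 3 ≤ Fintype.card ι) {g : H.SIsom} (hg : g ∈ K)
    (hgM : ¬ B.Mono blk g.1) : ∃ i j, blk i ≠ blk j ∧ B.PairC K i j := by
  classical
  obtain ⟨x, hx, a₀, c, ha₀, hc, hac⟩ : ∃ x, x ∈ H.uCentres K ∧ ∃ a c, B.co x a ≠ 0 ∧ B.co x c ≠ 0 ∧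
      blk a ≠ blk c := by
    by_contra hno
    push Not at hno
    apply hgM
    intro i j a c hij ha hc
    set W := B.blockSub blk (blk i) with hWdef
    have hW := B.nondeg_blockSub blk (blk i)
    have hd : 2 ≤ Module.finrank F W := by
      obtain ⟨l, hli, hl⟩ := hk i
      have hli' : LinearIndependent F ![B.b i, B.b l] := by
        rw [LinearIndependent.pair_iff]
        intro r r' h
        have h1 := congrArg (fun y => B.co y i) h
        have h2 := congrArg (fun y => B.co y l) h
        simp [co_add, co_smul, co_b, co_zero, hli, hli.symm] at h1 h2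
        exact ⟨h1, h2⟩
      have h1 := finrank_span_eq_card hli'
      rw [Fintype.card_fin] at h1
      refine h1.ge.trans (Submodule.finrank_mono (Submodule.span_le.mpr ?_))
      rintro _ ⟨p, rfl⟩
      fin_cases p
      · exact B.b_mem_blockSub blk i
      · change B.b l ∈ W
        rw [hWdef, ← hl]; exact B.b_mem_blockSub blk l
    have hCW : ∀ v ∈ W, H.h v v = 0 → v ∈ H.uCentres K := fun v hv hvv =>
      B.centre_of_local blk hM hvv fun p r hp hr => by
        have h1 : ∀ p, p ∈ B.supp v → blk p = blk i := fun p hp =>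
          by_contra fun h => B.mem_supp.mp hp ((B.mem_blockSub blk).mp hv p h)
        rw [h1 p hp, h1 r hr]
    have hbk : ∀ v ∈ W, H.h v v = 0 → ∀ p r, B.co (g.1.1 v) p ≠ 0 → B.co (g.1.1 v) r ≠ 0 → blk p = blk r :=
      fun v hv hvv p r hp hr => hno _ (HermSpace.uCentres_map (hCW v hv hvv) hg) p r hp hr
    have hsame : ∀ v ∈ W, H.h v v = 0 → ∀ w ∈ W, H.h w w = 0 → ∀ p r, B.co (g.1.1 v) p ≠ 0 →
        B.co (g.1.1 w) r ≠ 0 → blk p = blk r := by
      intro v hv hvv w hw hww p r hp hr
      have hv0 : (⟨v, hv⟩ : W) ≠ 0 := fun h => hp (by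
        rw [show v = 0 from congrArg Subtype.val h, map_zero, co_zero])
      have hw0 : (⟨w, hw⟩ : W) ≠ 0 := fun h => hr (by
        rw [show w = 0 from congrArg Subtype.val h, map_zero, co_zero])
      obtain ⟨s, hs, hvs, hws⟩ := (H.restrict W hW).exists_isotropic_nonorth hv0 hw0 hvv hww
      replace hvs : H.h v (s : V) ≠ 0 := hvs
      replace hws : H.h w (s : V) ≠ 0 := hws
      obtain ⟨l, hl, hl'⟩ := B.exists_common_supp (x := g.1.1 v) (y := g.1.1 (s : V)) (by rw [H.map_form]; exact hvs)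
      obtain ⟨l', hl'', hl'''⟩ := B.exists_common_supp (x := g.1.1 w) (y := g.1.1 (s : V)) (by rw [H.map_form]; exact hws)
      rw [mem_supp] at hl hl' hl'' hl'''
      rw [hbk v hv hvv p l hp hl, hbk (s : V) s.2 hs l l' hl' hl''', hbk w hw hww r l' hr hl'']
    -- pick an isotropic vector of the block
    obtain ⟨v₀, hv₀, hv₀v⟩ := (H.restrict W hW).exists_isotropic_of_two_le hd
    replace hv₀v : H.h (v₀ : V) v₀ = 0 := hv₀v
    obtain ⟨p₀, hp₀⟩ : (B.supp (g.1.1 (v₀ : V))).Nonempty := by
      rw [Finset.nonempty_iff_ne_empty, ne_eq, supp_eq_empty, LinearEquiv.map_eq_zero_iff]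
      exact fun h => hv₀ (Subtype.ext h)
    rw [mem_supp] at hp₀
    have himg : ∀ y : W, g.1.1 (y : V) ∈ B.blockSub blk (blk p₀) := by
      intro y
      have hy : y ∈ Submodule.span F {z : W | H.h (z : V) z = 0} := by
        have h := (H.restrict W hW).span_isotropic hd
        change Submodule.span F {z : W | H.h (z : V) z = 0} = ⊤ at h
        rw [h]; trivial
      induction hy using Submodule.span_induction with
      | mem z hz =>
        rw [mem_blockSub]
        intro r hr
        by_contra h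
        exact hr (hsame _ z.2 hz _ v₀.2 hv₀v r p₀ h hp₀)
      | zero => rw [Submodule.coe_zero, map_zero]; exact Submodule.zero_mem _
      | add p r _ _ hp hr => rw [Submodule.coe_add, map_add]; exact Submodule.add_mem _ hp hr
      | smul e p _ hp => rw [Submodule.coe_smul, map_smul]; exact Submodule.smul_mem _ e hp
    have hloc : ∀ l, blk l = blk i → ∀ r, B.co (g.1.1 (B.b l)) r ≠ 0 → blk r = blk p₀ := fun l hl r hr => by
      have := himg ⟨B.b l, by rw [hWdef, ← hl]; exact B.b_mem_blockSub blk l⟩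
      rw [mem_blockSub] at this
      exact by_contra fun h => hr (this r h)
    rw [hloc i rfl a ha, hloc j hij.symm c hc]
  -- make the coordinate norms opposite
  obtain ⟨a', ha', hab⟩ := hk a₀
  set W := B.blockSub blk (blk a₀) with hWdef
  set P := ∑ l ∈ Finset.univ.filter (fun l => blk l = blk a₀), B.co x l • B.b l with hP
  have hPco : ∀ l, B.co P l = if blk l = blk a₀ then B.co x l else 0 := fun l => by
    simp only [hP, co, H.sum_left, H.smul_left, B.hb]
    simp [Finset.sum_ite_eq', mul_ite]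
  have hPW : P ∈ W := (B.mem_blockSub blk).mpr fun l hl => by rw [hPco, if_neg hl]
  have hP0 : P ≠ 0 := fun h => ha₀ (by
    have := hPco a₀
    rw [h, co_zero, if_pos rfl] at this
    exact this.symm)
  have hrest : x - P ∈ H.orth W := fun w hw => by
    rw [B.h_co]
    refine Finset.sum_eq_zero fun l _ => ?_
    rw [co_sub, hPco]
    by_cases hl : blk l = blk a₀
    · rw [if_pos hl, sub_self, zero_mul]
    · rw [(B.mem_blockSub blk).mp hw l hl, map_zero, mul_zero]
  obtain ⟨e, he⟩ := H.conj.norm_surjective (a := -B.nm x c) (by rw [map_neg, B.nm_fixed])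
  obtain ⟨e', he'⟩ := H.conj.norm_surjective (a := H.h P P + B.nm x c) (by
    rw [map_add, H.self_fixed, B.nm_fixed])
  have he0 : e ≠ 0 := fun h => hc (B.nm_eq_zero.mp (by rw [h, zero_mul] at he; linear_combination he))
  set Q := e • B.b a₀ + e' • B.b a' with hQ
  have hQW : Q ∈ W := W.add_mem (W.smul_mem _ (B.b_mem_blockSub blk a₀))
    (W.smul_mem _ (by rw [hWdef, ← hab]; exact B.b_mem_blockSub blk a'))
  have hQa : B.co Q a₀ = e := by rw [hQ, co_add, co_smul, co_smul, co_b, co_b, if_pos rfl, if_neg ha']; ring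
  have hQ0 : Q ≠ 0 := fun h => he0 (by rw [← hQa, h, co_zero])
  have hQQ : H.h Q Q = H.h P P := by
    simp only [hQ, H.add_left, H.add_right, H.smul_left, H.smul_right, B.hb, ↓reduceIte, if_pos, if_neg ha',
      if_neg ha'.symm, mul_zero, mul_one, add_zero, zero_add]
    linear_combination he + he'
  obtain ⟨m, hmK, hmP, z, hz, hmy⟩ := B.local_move blk hM hPW hQW hP0 hQ0 hQQ (Ne.symm hac)
  refine ⟨a₀, c, hac, B.pair_sum_zero blk hM hn (fun h => hac (congrArg blk h)) (HermSpace.uCentres_map hx hmK) ?_ ?_⟩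
  all_goals
    have hmx : ∀ l, B.co (m.1.1 x) l =
        B.co Q l + (if l = c then z * B.co (x - P) l else B.co (x - P) l) := fun l => by
      rw [← hmy _ hrest, ← hmP, ← co_add, ← map_add, add_sub_cancel]
  · rw [hmx, hQa, if_neg (fun h : a₀ = c => hac (congrArg blk h)), co_sub, hPco, if_pos rfl, sub_self, add_zero]
    exact he0
  · rw [nm, nm, hmx, hmx, hQa, if_neg (fun h : a₀ = c => hac (congrArg blk h)), if_pos rfl, co_sub, co_sub, hPco,
      hPco, if_pos rfl, if_neg (Ne.symm hac), sub_self, add_zero, sub_zero,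
      (B.mem_blockSub blk).mp hQW c (Ne.symm hac), zero_add, he, map_mul]
    simp only [nm]
    linear_combination (B.co x c * H.σ (B.co x c)) * hz

end UFrame

end Cfsg.Lib.Classical
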