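import Mathlib
import Cfsg.Agent.Classical.Unitary.FramePairs

set_option autoImplicit false
set_option linter.unusedVariables false
set_option linter.unusedSimpArgs false
set_option linter.unusedSectionVars false
set_option linter.style.haveILetI false

/-! From two-coordinate centres to all isotropic vectors, for `q ≥ 3`. -/

namespace Cfsg.Lib.Classical

universe u v w

namespace UFrame

variable {F : Type u} [Field F] [Fintype F] [DecidableEq F] {V : Type v} [AddCommGroup V] [Module F V]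
  [FiniteDimensional F V] {H : HermSpace F V}
  {ι : Type w} [DecidableEq ι] [Fintype ι] (B : UFrame H ι) {K : Subgroup H.SIsom}

/-- The vector orthogonal to `x` in the plane of `a, b`. -/
noncomputable def perp (a b : ι) (x : V) : V := (-H.σ (B.co x b)) • B.b a + H.σ (B.co x a) • B.b b

theorem co_perp {a b : ι} (hab : a ≠ b) (x : V) :
    B.co (B.perp a b x) a = -H.σ (B.co x b) ∧ B.co (B.perp a b x) b = H.σ (B.co x a) := by
  simp only [perp, co_add, co_smul, co_b]
  simp [hab, hab.symm]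

theorem supp_perp (a b : ι) (x : V) : B.supp (B.perp a b x) ⊆ {a, b} := fun l hl => by
  by_contra hne
  simp only [Finset.mem_insert, Finset.mem_singleton, not_or] at hne
  exact B.mem_supp.mp hl (by rw [perp, co_add, co_smul, co_smul, co_b, co_b]; simp [Ne.symm hne.1, Ne.symm hne.2])

theorem h_plane {a b : ι} (hab : a ≠ b) {x : V} (hx : B.supp x ⊆ {a, b}) (y : V) :
    H.h x y = B.co x a * H.σ (B.co y a) + B.co x b * H.σ (B.co y b) := by
  rw [B.h_co, ← Finset.sum_pair (f := fun l => B.co x l * H.σ (B.co y l)) hab]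
  refine (Finset.sum_subset (Finset.subset_univ _) fun t _ ht => ?_).symm
  rw [B.notMem_supp.mp (fun h => ht (hx h)), zero_mul]

theorem perp_norm {a b : ι} (hab : a ≠ b) {x : V} (hx : B.supp x ⊆ {a, b}) :
    H.h (B.perp a b x) (B.perp a b x) = H.h x x ∧ H.h x (B.perp a b x) = 0 := by
  rw [B.h_plane hab (B.supp_perp a b x), B.h_plane hab hx, B.h_plane hab hx, (B.co_perp hab x).1,
    (B.co_perp hab x).2, map_neg, H.conj.invol, H.conj.invol]
  constructor <;> ring

theorem plane_decomp {a b : ι} (hab : a ≠ b) {P Q : V} (hP : B.supp P ⊆ {a, b}) (hQ : B.supp Q ⊆ {a, b}) :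
    H.h P P • Q = H.h Q P • P + H.h Q (B.perp a b P) • B.perp a b P := by
  refine B.ext_co fun l => ?_
  rw [co_add, co_smul, co_smul, co_smul, B.h_plane hab hP, B.h_plane hab hQ, B.h_plane hab hQ,
    (B.co_perp hab P).1, (B.co_perp hab P).2, map_neg, H.conj.invol, H.conj.invol]
  rcases eq_or_ne l a with rfl | hla
  · rw [(B.co_perp hab P).1]; ring
  rcases eq_or_ne l b with rfl | hlb
  · rw [(B.co_perp hab P).2]; ring
  have h0 : ∀ z, B.supp z ⊆ {a, b} → B.co z l = 0 := fun z hz => B.notMem_supp.mp fun h => by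
    have := hz h
    simp [hla, hlb] at this
  rw [h0 P hP, h0 Q hQ, h0 _ (B.supp_perp a b P)]; ring

variable {a b : ι}

theorem move_transv (hC : B.PairC K a b) {P R : V} (hP : B.supp P ⊆ {a, b}) (hR : B.supp R ⊆ {a, b})
    (hPR : H.h R R = H.h P P) (hiso : H.h (R - P) (R - P) = 0) (hne : H.h P (R - P) ≠ 0) :
    ∃ g : H.SIsom, g ∈ K ∧ g.1.1 P = R ∧ ∀ y, B.co y a = 0 → B.co y b = 0 → g.1.1 y = y := by
  have hd : B.supp (R - P) ⊆ {a, b} := (B.supp_sub_subset _ _).trans (Finset.union_subset hR hP)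
  obtain ⟨hdd, hK⟩ := hC _ hiso hd
  have hc : (H.h P (R - P))⁻¹ + H.σ (H.h P (R - P))⁻¹ = 0 := by
    have h1 : H.h (R - P) P + H.h P (R - P) = 0 := by
      simp only [H.sub_left, H.sub_right] at hiso ⊢
      linear_combination hPR - hiso
    rw [map_inv₀, ← H.symm, eq_neg_of_add_eq_zero_left h1, inv_neg, add_neg_cancel]
  refine ⟨_, hK _ hc, ?_, fun y ha hb => ?_⟩
  · change (H.uT hdd hc).1 P = R
    rw [H.uT_apply, inv_mul_cancel₀ hne, one_smul, add_sub_cancel]
  · change (H.uT hdd hc).1 y = y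
    have : H.h y (R - P) = 0 := by
      rw [B.h_co]
      refine Finset.sum_eq_zero fun l _ => ?_
      by_cases hl : l ∈ B.supp (R - P)
      · have := hd hl
        simp only [Finset.mem_insert, Finset.mem_singleton] at this
        rcases this with rfl | rfl
        · rw [ha, zero_mul]
        · rw [hb, zero_mul]
      · rw [B.notMem_supp.mp hl, map_zero, mul_zero]
    rw [H.uT_apply, this, mul_zero, zero_smul, add_zero]

theorem move_transv' (hab : a ≠ b) (hC : B.PairC K a b) {P R : V} (hP : B.supp P ⊆ {a, b}) (hR : B.supp R ⊆ {a, b})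
    (hP0 : H.h P P ≠ 0) (hPR : H.h R R = H.h P P) (hiso : H.h (R - P) (R - P) = 0) :
    ∃ g : H.SIsom, g ∈ K ∧ g.1.1 P = R ∧ ∀ y, B.co y a = 0 → B.co y b = 0 → g.1.1 y = y := by
  by_cases hne : H.h P (R - P) = 0
  · refine ⟨1, K.one_mem, ?_, fun y _ _ => rfl⟩
    change P = R
    have hd : B.supp (R - P) ⊆ {a, b} := (B.supp_sub_subset _ _).trans (Finset.union_subset hR hP)
    have h1 := B.plane_decomp hab hP hd
    rw [H.eq_zero_symm hne, zero_smul, zero_add] at h1
    have h2 := congrArg (fun z => H.h z z) h1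
    simp only [H.smul_left, H.smul_right, hiso, (B.perp_norm hab hP).1, mul_zero] at h2
    rcases mul_eq_zero.mp h2.symm with h | h
    · rw [h, zero_smul] at h1
      exact (sub_eq_zero.mp ((smul_eq_zero.mp h1).resolve_left hP0)).symm
    · rcases mul_eq_zero.mp h with h | h
      · rw [H.conj.eq_zero.mp h, zero_smul] at h1
        exact (sub_eq_zero.mp ((smul_eq_zero.mp h1).resolve_left hP0)).symm
      · exact absurd h hP0
  · exact B.move_transv hC hP hR hPR hiso hne

theorem move_generic (hq : 2 ≤ H.q) (hab : a ≠ b) (hC : B.PairC K a b) {P Q : V} (hP : B.supp P ⊆ {a, b})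
    (hQ : B.supp Q ⊆ {a, b}) (hP0 : H.h P P ≠ 0) (hPQ : H.h Q Q = H.h P P)
    (hne : H.h Q (B.perp a b P) ≠ 0) :
    ∃ g : H.SIsom, g ∈ K ∧ g.1.1 P = Q ∧ ∀ y, B.co y a = 0 → B.co y b = 0 → g.1.1 y = y := by
  set τ := H.h P P with hτ
  set P' := B.perp a b P with hP'
  have hστ : H.σ τ = τ := H.self_fixed P
  obtain ⟨hP'P', hPP'⟩ := B.perp_norm hab hP
  rw [← hP', ← hτ] at hP'P'
  rw [← hP'] at hPP'
  have hP'P := H.eq_zero_symm hPP'
  set γ := H.h Q P / τ with hγ
  set ε := H.h Q P' / τ with hε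
  have hε0 : ε ≠ 0 := div_ne_zero hne hP0
  have hQe : Q = γ • P + ε • P' := by
    have h := B.plane_decomp hab hP hQ
    rw [← hP', ← hτ] at h
    rw [hγ, hε, div_eq_inv_mul, div_eq_inv_mul, mul_smul, mul_smul, ← smul_add, ← h, smul_smul,
      inv_mul_cancel₀ hP0, one_smul]
  have hN : γ * H.σ γ + ε * H.σ ε = 1 := by
    have h := hPQ
    rw [hQe] at h
    simp only [H.add_left, H.add_right, H.smul_left, H.smul_right, hP'P', hPP', hP'P, ← hτ] at h
    exact mul_right_cancel₀ hP0 (by linear_combination h)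
  by_cases htr : γ + H.σ γ = 2
  · refine B.move_transv' hab hC hP hQ hP0 hPQ ?_
    rw [hQe]
    simp only [H.add_left, H.add_right, H.sub_left, H.sub_right, H.smul_left, H.smul_right, hP'P', hPP', hP'P, ← hτ]
    linear_combination τ * hN - τ * htr
  obtain ⟨δ₀, hδ₀0, hδ₀⟩ := H.conj.exists_skew
  obtain ⟨η₀, hη₀⟩ := H.conj.norm_surjective (a := (-1 : F)) (by rw [map_neg, map_one])
  have hη₀0 : η₀ ≠ 0 := fun h => neg_ne_zero.mpr one_ne_zero (by rw [← hη₀, h, zero_mul] : (-1 : F) = 0)
  set w := η₀ * H.σ ε with hw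
  have hθ : δ₀ * w ≠ 0 := mul_ne_zero hδ₀0 (mul_ne_zero hη₀0 ((map_ne_zero _).mpr hε0))
  obtain ⟨z, hz, hL⟩ : ∃ z, z * H.σ z = 1 ∧ H.σ γ - γ + (w * z - H.σ (w * z)) ≠ 0 := by
    by_contra hc
    push Not at hc
    have hle := H.card_fibre_tr hθ (δ₀ * (γ - H.σ γ))
    rw [Finset.filter_true_of_mem (fun z hz => ?_), H.card_circle] at hle
    · omega
    · have := hc z (H.mem_circle.mp hz)
      rw [show δ₀ * w * z = δ₀ * (w * z) by ring, map_mul H.σ δ₀, eq_neg_of_add_eq_zero_right hδ₀]
      linear_combination δ₀ * this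
  set L := H.σ γ - γ + (w * z - H.σ (w * z)) with hLdef
  set η := η₀ * z with hη
  have hηN : η * H.σ η = -1 := by rw [hη, map_mul]; linear_combination (z * H.σ z) * hη₀ - hz
  set δ := (2 - (γ + H.σ γ)) / L with hδ
  have hδ0 : δ ≠ 0 := div_ne_zero (sub_ne_zero.mpr (Ne.symm htr)) hL
  have hδs : H.σ δ = -δ := by
    rw [hδ, map_div₀, map_sub, map_ofNat, map_add, H.conj.invol, ← div_neg, add_comm (H.σ γ) γ]
    congr 1
    rw [hLdef, map_add, map_sub, map_sub, H.conj.invol, H.conj.invol]; ring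
  have hδL : δ * L = 2 - (γ + H.σ γ) := div_mul_cancel₀ _ hL
  set R := (1 + δ) • P + (δ * η) • P' with hR
  have hRs : B.supp R ⊆ {a, b} := (B.supp_add_subset _ _).trans
    (Finset.union_subset ((B.supp_smul_subset _ _).trans hP) ((B.supp_smul_subset _ _).trans (B.supp_perp a b P)))
  have hRR : H.h R R = τ := by
    simp only [hR, H.add_left, H.add_right, H.smul_left, H.smul_right, hP'P', hPP', hP'P, ← hτ, map_add, map_one,
      map_mul, hδs]
    linear_combination (-δ * δ * τ) * hηN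
  obtain ⟨g₁, hg₁, hg₁P, hg₁y⟩ := B.move_transv' hab hC hP hRs hP0 hRR (by
    simp only [hR, H.add_left, H.add_right, H.sub_left, H.sub_right, H.smul_left, H.smul_right, hP'P', hPP', hP'P,
      ← hτ, map_add, map_one, map_mul, hδs]
    linear_combination (-δ * δ * τ) * hηN)
  obtain ⟨g₂, hg₂, hg₂P, hg₂y⟩ := B.move_transv' hab hC hRs hQ (hRR ▸ hP0) (hPQ.trans hRR.symm) (by
    rw [hQe, hR]
    simp only [H.add_left, H.add_right, H.sub_left, H.sub_right, H.smul_left, H.smul_right, hP'P', hPP', hP'P,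
      ← hτ, map_add, map_one, map_mul, hδs]
    simp only [hLdef, hw, map_mul, H.conj.invol] at hδL
    simp only [hη, map_mul] at hηN ⊢
    linear_combination τ * hN - (δ * δ * τ) * hηN - τ * hδL)
  refine ⟨g₂ * g₁, K.mul_mem hg₂ hg₁, by rw [H.sisom_mul_apply, hg₁P, hg₂P], fun y h1 h2 => ?_⟩
  rw [H.sisom_mul_apply, hg₁y y h1 h2, hg₂y y h1 h2]

/-- `K` moves vectors of equal nonzero norm in a coordinate plane of centres. -/
theorem move_plane (hq : 2 ≤ H.q) (hab : a ≠ b) (hC : B.PairC K a b) {P Q : V} (hP : B.supp P ⊆ {a, b})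
    (hQ : B.supp Q ⊆ {a, b}) (hP0 : H.h P P ≠ 0) (hPQ : H.h Q Q = H.h P P) :
    ∃ g : H.SIsom, g ∈ K ∧ g.1.1 P = Q ∧ ∀ y, B.co y a = 0 → B.co y b = 0 → g.1.1 y = y := by
  by_cases hne : H.h Q (B.perp a b P) = 0
  · obtain ⟨hn, hPP'⟩ := B.perp_norm hab hP
    obtain ⟨g₁, hg₁, hg₁P, hg₁y⟩ := B.move_generic hq hab hC hP (B.supp_perp a b P) hP0 hn (by rw [hn]; exact hP0)
    have e : B.perp a b (B.perp a b P) = -P := B.ext_co fun l => by
      rw [show -P = (-1 : F) • P by rw [neg_one_smul], co_smul]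
      rcases eq_or_ne l a with rfl | hla
      · rw [(B.co_perp hab _).1, (B.co_perp hab P).2, H.conj.invol]; ring
      rcases eq_or_ne l b with rfl | hlb
      · rw [(B.co_perp hab _).2, (B.co_perp hab P).1, map_neg, H.conj.invol]; ring
      have h0 : ∀ z, B.supp z ⊆ {a, b} → B.co z l = 0 := fun z hz => B.notMem_supp.mp fun h => by
        have := hz h
        simp [hla, hlb] at this
      rw [h0 _ (B.supp_perp a b _), h0 P hP, mul_zero]
    obtain ⟨g₂, hg₂, hg₂P, hg₂y⟩ := B.move_generic hq hab hC (B.supp_perp a b P) hQ (by rw [hn]; exact hP0)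
      (hPQ.trans hn.symm) (by
        rw [e, H.neg_right, neg_ne_zero]
        intro h
        have := B.plane_decomp hab hP hQ
        rw [h, hne, zero_smul, zero_smul, add_zero] at this
        exact hP0 (by rw [← hPQ, (smul_eq_zero.mp this).resolve_left hP0, H.zero_left]))
    refine ⟨g₂ * g₁, K.mul_mem hg₂ hg₁, by rw [H.sisom_mul_apply, hg₁P, hg₂P], fun y h1 h2 => ?_⟩
    rw [H.sisom_mul_apply, hg₁y y h1 h2, hg₂y y h1 h2]
  · exact B.move_generic hq hab hC hP hQ hP0 hPQ hne

theorem mem_of_image {x : V} {g : H.SIsom} (hg : g ∈ K) (h : g.1.1 x ∈ H.uCentres K) : x ∈ H.uCentres K := by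
  have := HermSpace.uCentres_map h (K.inv_mem hg)
  rwa [H.sisom_inv_apply] at this

/-- All isotropic vectors are centres once all two-coordinate ones are, for `q ≥ 3`. -/
theorem all_centres (hq : 3 ≤ H.q) (hn : 2 ≤ Fintype.card ι) (hC : ∀ i j, B.PairC K i j) :
    ∀ y, H.h y y = 0 → y ∈ H.uCentres K := by
  intro y hy
  induction hd : (B.supp y).card using Nat.strong_induction_on generalizing y with
  | _ d ih =>
  have small : ∀ z, H.h z z = 0 → (B.supp z).card < d → z ∈ H.uCentres K := fun z hz h => ih _ h z hz rfl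
  rcases le_or_gt d 2 with hd2 | hd3
  · rcases Nat.lt_or_ge d 2 with h | h
    · rcases Finset.eq_empty_or_nonempty (B.supp y) with he | ⟨i, hi⟩
      · rw [B.supp_eq_empty.mp he]; exact H.uCentres_zero K
      · exact hC i i y hy (fun l hl => by
          simp [Finset.card_le_one.mp (by omega : (B.supp y).card ≤ 1) l hl i hi])
    · obtain ⟨i, j, -, hij⟩ := Finset.card_eq_two.mp (by omega : (B.supp y).card = 2)
      exact hC i j y hy hij.le
  have red : ∀ z, H.h z z = 0 → (B.supp z).card ≤ d → ∀ a b, a ∈ B.supp z → b ∈ B.supp z → a ≠ b →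
      B.nm z a + B.nm z b ≠ 0 → z ∈ H.uCentres K := by
    intro z hz hzd a b ha hb hab hsum
    set P := B.co z a • B.b a + B.co z b • B.b b with hP
    have hPs : B.supp P ⊆ {a, b} := fun l hl => by
      by_contra hne
      simp only [Finset.mem_insert, Finset.mem_singleton, not_or] at hne
      exact B.mem_supp.mp hl (by simp [hP, co_add, co_smul, co_b, Ne.symm hne.1, Ne.symm hne.2])
    have hPP : H.h P P = B.nm z a + B.nm z b := by
      rw [B.h_plane hab hPs]
      simp [hP, co_add, co_smul, co_b, hab, hab.symm, nm]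
    obtain ⟨e, he⟩ := H.conj.norm_surjective (a := H.h P P) (H.self_fixed P)
    have hQs : B.supp (e • B.b a) ⊆ {a, b} := (B.supp_smul_subset _ _).trans (by simp [supp_b])
    obtain ⟨g, hg, hgP, hgy⟩ := B.move_plane (by omega) hab (hC a b) hPs hQs (by rwa [hPP])
      (by rw [H.smul_left, H.smul_right, b_self, mul_one, he])
    have hz' : g.1.1 z = e • B.b a + (z - P) := by
      conv_lhs => rw [show z = P + (z - P) by abel, map_add, hgP]
      rw [hgy (z - P) (by simp [hP, co_sub, co_add, co_smul, co_b, hab.symm])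
        (by simp [hP, co_sub, co_add, co_smul, co_b, hab])]
    refine mem_of_image hg (small _ (by rw [H.map_form, hz]) ?_)
    refine lt_of_lt_of_le (Finset.card_lt_card ((Finset.ssubset_iff_of_subset fun l hl => ?_).mpr ⟨b, hb, ?_⟩)) hzd
    · rw [mem_supp, hz'] at hl
      by_contra hlz
      have hla : a ≠ l := fun h => hlz (h ▸ ha)
      have hlb : b ≠ l := fun h => hlz (h ▸ hb)
      exact hl (by simp [hP, co_add, co_sub, co_smul, co_b, hla, hlb, B.notMem_supp.mp hlz])
    · rw [notMem_supp, hz']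
      simp [hP, co_add, co_sub, co_smul, co_b, hab]
  by_cases hex : ∃ a b, a ∈ B.supp y ∧ b ∈ B.supp y ∧ a ≠ b ∧ B.nm y a + B.nm y b ≠ 0
  · obtain ⟨a, b, ha, hb, hab, hsum⟩ := hex
    exact red y hy (by omega) a b ha hb hab hsum
  push Not at hex
  obtain ⟨a, b, c, ha, hb, hc, hab, hac, hbc⟩ := Finset.two_lt_card_iff.mp (by omega : 2 < (B.supp y).card)
  have hA0 : B.nm y a ≠ 0 := fun h => B.mem_supp.mp ha (B.nm_eq_zero.mp h)
  have hAB := hex a b ha hb hab
  have hAC := hex a c ha hc hac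
  have hBC := hex b c hb hc hbc
  have h2 : (2 : F) = 0 := by
    have : 2 * B.nm y a = 0 := by linear_combination hAB + hAC - hBC
    exact (mul_eq_zero.mp this).resolve_right hA0
  obtain ⟨η, hη, hne⟩ : ∃ η, η * H.σ η = 1 ∧ B.co y a + H.σ η * B.co y b ≠ 0 := by
    obtain ⟨η, hη, hη'⟩ := H.exists_circle_notMem (S := {-H.σ (B.co y a / B.co y b)})
      (by rw [Finset.card_singleton]; omega)
    rw [Finset.mem_singleton] at hη'
    refine ⟨η, hη, fun h => hη' ?_⟩
    rw [← map_neg, ← H.conj.invol η]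
    congr 1
    rw [← neg_div, eq_div_iff (B.mem_supp.mp hb)]
    linear_combination h
  set v := B.b a + η • B.b b with hv
  have hvs : B.supp v ⊆ {a, b} := fun l hl => by
    by_contra hne'
    simp only [Finset.mem_insert, Finset.mem_singleton, not_or] at hne'
    exact B.mem_supp.mp hl (by simp [hv, co_add, co_smul, co_b, Ne.symm hne'.1, Ne.symm hne'.2])
  have hvv : H.h v v = 0 := by
    rw [B.h_plane hab hvs]
    simp only [hv, co_add, co_smul, co_b, ↓reduceIte, if_pos, if_neg hab, if_neg hab.symm, mul_one, mul_zero,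
      add_zero, zero_add, map_one]
    linear_combination hη + h2
  set t := H.h y v with ht
  have ht0 : t ≠ 0 := by
    rw [ht, hv, H.add_right, H.smul_right]
    exact hne
  set r := t * H.σ (B.co y a) + H.σ t * B.co y a with hr
  obtain ⟨r', hc', hr'⟩ : ∃ k ∈ H.fixF, k ∉ ({0, -r / (t * H.σ t)} : Finset F) :=
    Finset.not_subset.mp fun h => by
      have := (Finset.card_le_card h).trans Finset.card_le_two
      rw [H.card_fixF] at this
      omega
  simp only [Finset.mem_insert, Finset.mem_singleton, not_or] at hr'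
  rw [H.mem_fixF] at hc'
  have hcc : r' + H.σ r' = 0 := by rw [hc']; linear_combination r' * h2
  obtain ⟨hvv', hvK⟩ := hC a b v hvv hvs
  set g : H.SIsom := ⟨H.uT hvv' hcc, H.uT_mem_SIsom hvv' hcc⟩
  have hgK : g ∈ K := hvK _ hcc
  have hco : ∀ l, B.co (g.1.1 y) l = B.co y l + r' * t * B.co v l := fun l => by
    change B.co ((H.uT hvv' hcc).1 y) l = _
    rw [H.uT_apply, co_add, co_smul]
  have hva : B.co v a = 1 := by simp [hv, co_add, co_smul, co_b, hab.symm]
  have hout : ∀ l, l ∉ ({a, b} : Finset ι) → B.co (g.1.1 y) l = B.co y l := fun l hl => by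
    rw [hco, B.notMem_supp.mp (fun h => hl (hvs h)), mul_zero, add_zero]
  have hsub : B.supp (g.1.1 y) ⊆ B.supp y := fun l hl => by
    by_cases h : l ∈ ({a, b} : Finset ι)
    · simp only [Finset.mem_insert, Finset.mem_singleton] at h
      rcases h with rfl | rfl
      · exact ha
      · exact hb
    · rw [mem_supp, hout l h] at hl; exact B.mem_supp.mpr hl
  refine mem_of_image hgK ?_
  by_cases hza : B.co (g.1.1 y) a = 0
  · exact small _ (by rw [H.map_form, hy]) (hd ▸ Finset.card_lt_card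
      ((Finset.ssubset_iff_of_subset hsub).mpr ⟨a, ha, B.notMem_supp.mpr hza⟩))
  have hcab : c ∉ ({a, b} : Finset ι) := by simp [hac.symm, hbc.symm]
  refine red _ (by rw [H.map_form, hy]) (hd ▸ Finset.card_le_card hsub) a c (B.mem_supp.mpr hza)
    (B.mem_supp.mpr (by rw [hout c hcab]; exact B.mem_supp.mp hc)) hac fun h => ?_
  apply hr'.2
  rw [nm, nm, hout c hcab, hco, hva, mul_one, map_add, map_mul, hc'] at h
  simp only [nm] at hAC
  have hrt : r' * (r + r' * (t * H.σ t)) = 0 := by rw [hr]; linear_combination h - hAC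
  have hN0 : t * H.σ t ≠ 0 := mul_ne_zero ht0 ((map_ne_zero _).mpr ht0)
  rw [eq_div_iff hN0]
  linear_combination (mul_eq_zero.mp hrt).resolve_left hr'.1

end UFrame

end Cfsg.Lib.Classical
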