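import Mathlib
import Cfsg.Agent.Classical.Unitary.FrameClosure

set_option autoImplicit false
set_option linter.unusedVariables false
set_option linter.unusedSimpArgs false
set_option linter.unusedSectionVars false
set_option linter.style.haveILetI false

/-! From two- and four-coordinate centres to all isotropic vectors, for `q = 2`. -/

namespace Cfsg.Lib.Classical

universe u v w

namespace UFrame

variable {F : Type u} [Field F] [Fintype F] [DecidableEq F] {V : Type v} [AddCommGroup V] [Module F V]
  [FiniteDimensional F V] {H : HermSpace F V}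
  {ι : Type w} [DecidableEq ι] [Fintype ι] (B : UFrame H ι)

theorem fixed_two (hq : H.q = 2) {a : F} (ha : H.σ a = a) : a = 0 ∨ a = 1 := by
  have h1 : ({0, 1} : Finset F) ⊆ H.fixF := by
    intro x hx
    rw [Finset.mem_insert, Finset.mem_singleton] at hx
    rw [H.mem_fixF]
    rcases hx with rfl | rfl <;> simp
  have h2 := Finset.eq_of_subset_of_card_le h1 (by rw [H.card_fixF, hq, Finset.card_pair zero_ne_one])
  have h3 : a ∈ H.fixF := H.mem_fixF.mpr ha
  rw [← h2, Finset.mem_insert, Finset.mem_singleton] at h3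
  exact h3

theorem two_zero (hq : H.q = 2) : (2 : F) = 0 := by
  rcases fixed_two (H := H) hq (a := (1 + 1 : F)) (by rw [map_add, map_one]) with h | h
  · linear_combination h
  · exact absurd (by linear_combination h : (1 : F) = 0) one_ne_zero

theorem nm_one (hq : H.q = 2) {x : V} {l : ι} (hl : B.co x l ≠ 0) : B.nm x l = 1 :=
  (fixed_two (H := H) hq (B.nm_fixed x l)).resolve_left fun h => hl (B.nm_eq_zero.mp h)

theorem self_eq_card (hq : H.q = 2) (x : V) : H.h x x = ((B.supp x).card : F) := by
  rw [B.h_self_nm, ← Finset.sum_subset (Finset.subset_univ (B.supp x))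
    (fun t _ ht => B.nm_eq_zero.mpr (B.notMem_supp.mp ht)),
    Finset.sum_congr rfl fun t ht => B.nm_one hq (B.mem_supp.mp ht)]
  simp

theorem two_dvd_supp (hq : H.q = 2) {x : V} (hx : H.h x x = 0) : 2 ∣ (B.supp x).card := by
  rcases Nat.even_or_odd' (B.supp x).card with ⟨k, hk | hk⟩
  · exact ⟨k, hk⟩
  · have h := B.self_eq_card hq x
    rw [hx, hk, Nat.cast_add, Nat.cast_mul, Nat.cast_ofNat, two_zero (H := H) hq, zero_mul, zero_add,
      Nat.cast_one] at h
    exact absurd h zero_ne_one

theorem exists_omega (hq : H.q = 2) : ∃ ω : F, ω * H.σ ω = 1 ∧ ω ≠ 1 ∧ H.σ ω = ω + 1 ∧ ω * ω = ω + 1 := by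
  obtain ⟨ω, hω, hω1⟩ := H.exists_circle_notMem (S := {1}) (by rw [Finset.card_singleton]; omega)
  rw [Finset.mem_singleton] at hω1
  have h2 := two_zero (H := H) hq
  have hne : ω + H.σ ω ≠ 0 := fun h => hω1 (by
    have : (ω - 1) * (ω - 1) = 0 := by linear_combination ω * h - hω - ω * h2
    exact sub_eq_zero.mp (mul_self_eq_zero.mp this))
  have htr : ω + H.σ ω = 1 := (fixed_two (H := H) hq (H.conj.trace_mem ω)).resolve_left hne
  exact ⟨ω, hω, hω1, by linear_combination htr - ω * h2, by linear_combination ω * htr - hω - h2⟩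

variable {K : Subgroup H.SIsom} {β : Type*} (blk : ι → β) (hM : ∀ g : H.SIsom, B.Mono blk g.1 → g ∈ K)

theorem h_of_supp {T : Finset ι} {x : V} (hx : B.supp x ⊆ T) (y : V) :
    H.h x y = ∑ l ∈ T, B.co x l * H.σ (B.co y l) := by
  rw [B.h_co]
  refine (Finset.sum_subset (Finset.subset_univ T) fun t _ ht => ?_).symm
  rw [B.notMem_supp.mp (fun h => ht (hx h)), zero_mul]

theorem span_add (h2 : (2 : F) = 0) {z w : V} (hz : z ∈ H.uCentres K) (hw : w ∈ H.uCentres K)
    (h1 : H.h z w = 1) : z + w ∈ H.uCentres K := by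
  have := HermSpace.uCentres_span hz hw (by rw [h1]; exact one_ne_zero) (a := 1) (b := 1) (by
    rw [one_smul, one_smul, H.add_left, H.add_right, H.add_right, hz.1, hw.1, h1, H.symm w z, h1, map_one]
    linear_combination h2)
  rwa [one_smul, one_smul] at this

include hM in
theorem fours (hq : H.q = 2) (hn : 6 ≤ Fintype.card ι) (hC : ∀ i j, B.PairC K i j) {z : V}
    (hz : z ∈ H.uCentres K) (hz4 : (B.supp z).card = 4) :
    ∀ y, (B.supp y).card = 4 → y ∈ H.uCentres K := by
  have h2 := two_zero (H := H) hq
  intro y hy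
  induction hd : (B.supp y \ B.supp z).card using Nat.strong_induction_on generalizing z with
  | _ d ih =>
    rcases Finset.eq_empty_or_nonempty (B.supp y \ B.supp z) with he | ⟨e, he⟩
    · have hs : B.supp y = B.supp z :=
        Finset.eq_of_subset_of_card_le (Finset.sdiff_eq_empty_iff_subset.mp he) (by omega)
      obtain ⟨p, -, hp⟩ := Finset.exists_mem_notMem_of_card_lt_card (s := B.supp z) (t := (Finset.univ : Finset ι))
        (by rw [Finset.card_univ]; omega)
      refine B.phase_move blk hM hz (e := p) (B.notMem_supp.mp hp) (B.notMem_supp.mp (hs ▸ hp)) fun l => ?_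
      by_cases hl : l ∈ B.supp z
      · rw [B.nm_one hq (B.mem_supp.mp hl), B.nm_one hq (B.mem_supp.mp (hs ▸ hl))]
      · rw [B.nm_eq_zero.mpr (B.notMem_supp.mp hl), B.nm_eq_zero.mpr (B.notMem_supp.mp (hs ▸ hl))]
    rw [Finset.mem_sdiff] at he
    obtain ⟨c, hc⟩ : (B.supp z \ B.supp y).Nonempty := by
      rw [Finset.nonempty_iff_ne_empty]
      intro h
      exact he.2 (Finset.eq_of_subset_of_card_le (Finset.sdiff_eq_empty_iff_subset.mp h) (by omega) ▸ he.1)
    rw [Finset.mem_sdiff] at hc
    have hce : c ≠ e := fun h => he.2 (h ▸ hc.1)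
    have hzc := B.mem_supp.mp hc.1
    have hze := B.notMem_supp.mp he.2
    set w := B.co z c • (B.b c + B.b e) with hw
    have hws : B.supp w ⊆ {c, e} := (B.supp_smul_subset _ _).trans ((B.supp_add_subset _ _).trans (by simp [supp_b]))
    have hww : H.h w w = 0 := by
      rw [B.h_of_supp hws, Finset.sum_pair hce]
      simp [hw, co_add, co_smul, co_b, hce, hce.symm]
      linear_combination (B.co z c * H.σ (B.co z c)) * h2
    have hzw : H.h z w = 1 := by
      rw [H.symm, B.h_of_supp hws, Finset.sum_pair hce, hze]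
      simp [hw, co_add, co_smul, co_b, hce, hce.symm]
      rw [mul_comm, H.conj.invol]; exact B.nm_one hq hzc
    have hnew := span_add h2 hz (hC c e w hww hws) hzw
    have hco : ∀ l, B.co (z + w) l = if l = c then 0 else if l = e then B.co z c else B.co z l := fun l => by
      rw [co_add, hw, co_smul, co_add, co_b, co_b]
      rcases eq_or_ne l c with rfl | hlc
      · rw [if_pos rfl, if_neg hce.symm, if_pos rfl]
        linear_combination B.co z l * h2
      · rcases eq_or_ne l e with rfl | hle
        · rw [if_neg hlc.symm, if_pos rfl, if_neg hlc, if_pos rfl, hze]; ring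
        · rw [if_neg hlc.symm, if_neg hle.symm, if_neg hlc, if_neg hle]; ring
    have hsupp : B.supp (z + w) = insert e ((B.supp z).erase c) := by
      ext l
      rw [mem_supp, hco, Finset.mem_insert, Finset.mem_erase, mem_supp]
      rcases eq_or_ne l c with rfl | hlc
      · simp [hce]
      · rcases eq_or_ne l e with rfl | hle
        · simp [hlc, hzc]
        · simp [hlc, hle]
    refine ih _ ?_ hnew ?_ rfl
    · rw [← hd]
      refine Finset.card_lt_card ((Finset.ssubset_iff_of_subset fun l hl => ?_).mpr
        ⟨e, Finset.mem_sdiff.mpr he, by simp [hsupp]⟩)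
      rw [Finset.mem_sdiff, hsupp, Finset.mem_insert, Finset.mem_erase, not_or] at hl
      rw [Finset.mem_sdiff]
      exact ⟨hl.1, fun h => hl.2.2 ⟨fun h' => hc.2 (h' ▸ hl.1), h⟩⟩
    · rw [hsupp, Finset.card_insert_of_notMem (fun h => he.2 (Finset.mem_of_mem_erase h)),
        Finset.card_erase_of_mem hc.1, hz4]

include hM in
theorem exists_four (hq : H.q = 2) (hn : 7 ≤ Fintype.card ι) {x : V} (hx : x ∈ H.uCentres K)
    (hx4 : 4 ≤ (B.supp x).card) : ∃ z, z ∈ H.uCentres K ∧ (B.supp z).card = 4 := by
  obtain ⟨ω, hω, hω1, hσω, hωω⟩ := exists_omega (H := H) hq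
  have h2 := two_zero (H := H) hq
  have hω0 := H.circle_ne_zero hω
  have small : ∀ x, x ∈ H.uCentres K → 4 ≤ (B.supp x).card → (∃ e, B.co x e = 0) →
      ∃ z, z ∈ H.uCentres K ∧ (B.supp z).card = 4 := by
    rintro x hx hx4 ⟨e, he⟩
    obtain ⟨T, hT, hTc⟩ := Finset.exists_subset_card_eq hx4
    obtain ⟨p, hp⟩ : T.Nonempty := Finset.card_pos.mp (by omega)
    set f : ι → F := fun l => if l = p then H.σ ω else if l ∈ T then ω else 1 with hf
    set y := ∑ l, (f l * B.co x l) • B.b l with hy
    have hyco : ∀ l, B.co y l = f l * B.co x l := fun l => by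
      simp only [hy, co, H.sum_left, H.smul_left, B.hb]
      simp
    have hfN : ∀ l, f l * H.σ (f l) = 1 := fun l => by
      simp only [hf]
      split_ifs
      · exact H.circle_conj hω
      · exact hω
      · exact H.circle_one
    have hyC : y ∈ H.uCentres K := B.phase_move blk hM hx (e := e) he (by rw [hyco, he, mul_zero]) fun l => by
      rw [nm, nm, hyco, map_mul]
      linear_combination (-(B.co x l * H.σ (B.co x l))) * hfN l
    have hxy : H.h x y = 1 := by
      have h1 : H.h x y - H.h x x = ∑ l ∈ T, (H.σ (f l) - 1) := by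
        rw [B.h_co x y, B.h_co x x, ← Finset.sum_sub_distrib]
        refine (Eq.trans (Finset.sum_subset (Finset.subset_univ T) fun t _ ht => ?_).symm
          (Finset.sum_congr rfl fun t ht => ?_))
        · rw [hyco]
          simp only [hf, if_neg ht, if_neg (fun h : t = p => ht (h ▸ hp)), one_mul, sub_self]
        · have hN := B.nm_one hq (B.mem_supp.mp (hT ht))
          rw [nm] at hN
          rw [hyco, map_mul]
          linear_combination (H.σ (f t) - 1) * hN
      rw [hx.1, sub_zero, ← Finset.add_sum_erase T _ hp] at h1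
      rw [h1, Finset.sum_congr rfl (g := fun _ => H.σ ω - 1) fun t ht => by
        rw [Finset.mem_erase] at ht
        simp only [hf, if_neg ht.1, if_pos ht.2], Finset.sum_const, Finset.card_erase_of_mem hp, hTc]
      simp only [hf, ↓reduceIte, if_pos, H.conj.invol, nsmul_eq_mul]
      rw [hσω]
      push_cast
      linear_combination (2 * ω - 1) * h2
    refine ⟨_, span_add h2 hx hyC hxy, ?_⟩
    rw [show B.supp (x + y) = T by
      ext l
      rw [mem_supp, co_add, hyco, ← one_add_mul, mul_ne_zero_iff]
      by_cases hl : l ∈ T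
      · simp only [hl, iff_true]
        refine ⟨fun h => ?_, B.mem_supp.mp (hT hl)⟩
        simp only [hf, hl, if_true] at h
        split_ifs at h with h'
        · rw [hσω] at h
          exact hω0 (by linear_combination h - h2)
        · exact hω1 (by linear_combination h - h2)
      · simp only [hl, iff_false, not_and_or, not_not]
        left
        simp only [hf, if_neg hl, if_neg (fun h : l = p => hl (h ▸ hp))]
        linear_combination h2]
    exact hTc
  by_cases hsp : ∃ e, B.co x e = 0
  · exact small x hx hx4 hsp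
  push Not at hsp
  obtain ⟨f⟩ : Nonempty (Fin 6 ↪ ι) := Function.Embedding.nonempty_of_card_le (by rw [Fintype.card_fin]; omega)
  have hne : ∀ a c : Fin 6, a ≠ c → f a ≠ f c := fun a c h h' => h (f.injective h')
  set m := B.ph (f 0) (f 1) hω * (B.ph (f 2) (f 3) hω * B.ph (f 4) (f 5) hω) with hm
  have hmK : m ∈ K := K.mul_mem (hM _ (B.mono_ph blk (hne 0 1 (by decide)) hω))
    (K.mul_mem (hM _ (B.mono_ph blk (hne 2 3 (by decide)) hω)) (hM _ (B.mono_ph blk (hne 4 5 (by decide)) hω)))
  set T : Finset ι := Finset.univ.map f with hT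
  have hmT : ∀ a : Fin 6, B.co (m.1.1 x) (f a) = (if a.1 % 2 = 0 then ω else H.σ ω) * B.co x (f a) := fun a => by
    rw [hm, H.sisom_mul_apply, H.sisom_mul_apply]
    simp only [B.co_ph (hne 0 1 (by decide)), B.co_ph (hne 2 3 (by decide)), B.co_ph (hne 4 5 (by decide))]
    fin_cases a <;> simp
  have hmo : ∀ l, l ∉ T → B.co (m.1.1 x) l = B.co x l := fun l hl => by
    have h : ∀ a : Fin 6, l ≠ f a := fun a h => hl (h ▸ Finset.mem_map_of_mem f (Finset.mem_univ a))
    rw [hm, H.sisom_mul_apply, H.sisom_mul_apply]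
    simp only [B.co_ph (hne 0 1 (by decide)), B.co_ph (hne 2 3 (by decide)), B.co_ph (hne 4 5 (by decide)), if_neg (h _)]
  have hxy : H.h x (m.1.1 x) = 1 := by
    have h1 : H.h x (m.1.1 x) - H.h x x = ∑ a : Fin 6, (H.σ (if a.1 % 2 = 0 then ω else H.σ ω) - 1) := by
      rw [B.h_co x (m.1.1 x), B.h_co x x, ← Finset.sum_sub_distrib]
      refine Eq.trans (Finset.sum_subset (Finset.subset_univ T) fun t _ ht => by rw [hmo t ht, sub_self]).symm ?_
      rw [hT, Finset.sum_map]
      refine Finset.sum_congr rfl fun a _ => ?_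
      have hN := B.nm_one hq (hsp (f a))
      rw [nm] at hN
      rw [hmT, map_mul]
      linear_combination (H.σ (if a.1 % 2 = 0 then ω else H.σ ω) - 1) * hN
    rw [hx.1, sub_zero] at h1
    rw [h1, Fin.sum_univ_six]
    simp [H.conj.invol, hσω]
    linear_combination (3 * ω + 1) * h2
  have hnew := span_add h2 hx (HermSpace.uCentres_map hx hmK) hxy
  have hs : B.supp (x + m.1.1 x) = T := by
    ext l
    rw [mem_supp, co_add]
    by_cases hl : l ∈ T
    · obtain ⟨a, -, rfl⟩ := Finset.mem_map.mp hl
      simp only [hl, iff_true, hmT, ← one_add_mul, mul_ne_zero_iff]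
      refine ⟨fun h => ?_, hsp _⟩
      split_ifs at h
      · exact hω1 (by linear_combination h - h2)
      · rw [hσω] at h
        exact hω0 (by linear_combination h - h2)
    · simp only [hl, iff_false, not_not, hmo l hl]
      linear_combination B.co x l * h2
  have hcard : (B.supp (x + m.1.1 x)).card = 6 := by rw [hs, hT, Finset.card_map]; simp
  by_cases hs' : ∃ e, B.co (x + m.1.1 x) e = 0
  · exact small _ hnew (by omega) hs'
  · -- only six coordinates: a shorter correction
    push Not at hs'
    have h6 : Fintype.card ι = 6 := by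
      rw [← hcard, ← Finset.card_univ]
      congr 1
      ext l
      simp [mem_supp, hs' l]
    omega

set_option maxHeartbeats 1000000 in
include hM in
/-- All isotropic vectors are centres once two- and four-coordinate ones are. -/
theorem all_centres_two (hq : H.q = 2) (hn : 6 ≤ Fintype.card ι) (hC : ∀ i j, B.PairC K i j) {z : V}
    (hz : z ∈ H.uCentres K) (hz4 : (B.supp z).card = 4) : ∀ y, H.h y y = 0 → y ∈ H.uCentres K := by
  obtain ⟨ω, hω, hω1, hσω, hωω⟩ := exists_omega (H := H) hq
  have h2 := two_zero (H := H) hq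
  intro y hy
  induction hd : (B.supp y).card using Nat.strong_induction_on generalizing y with
  | _ d ih =>
    obtain ⟨r, hr⟩ := B.two_dvd_supp hq hy
    rcases (by omega : d = 0 ∨ d = 2 ∨ d = 4 ∨ 6 ≤ d) with h | h | h | h
    · rw [B.supp_eq_empty.mp (Finset.card_eq_zero.mp (hd.trans h))]; exact H.uCentres_zero K
    · obtain ⟨i, j, -, hij⟩ := Finset.card_eq_two.mp (hd.trans h)
      exact hC i j y hy hij.le
    · exact B.fours blk hM hq (by omega) hC hz hz4 y (hd.trans h)
    · obtain ⟨T, hT, hTc⟩ := Finset.exists_subset_card_eq (by omega : 4 ≤ (B.supp y).card)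
      obtain ⟨e⟩ : Nonempty (Fin 4 ≃ T) := ⟨(T.equivFinOfCardEq hTc).symm⟩
      set f : Fin 4 → ι := fun a => (e a).1 with hf
      have hfne : ∀ a c, a ≠ c → f a ≠ f c := fun a c h h' => h (e.injective (Subtype.ext h'))
      have hfy : ∀ a, B.co y (f a) ≠ 0 := fun a => B.mem_supp.mp (hT (e a).2)
      set w := (H.σ ω * B.co y (f 0)) • B.b (f 0) + (ω * B.co y (f 1)) • B.b (f 1) + B.co y (f 2) • B.b (f 2) +
        B.co y (f 3) • B.b (f 3) with hw
      have hwco : ∀ l, B.co w l = if l = f 0 then H.σ ω * B.co y l else if l = f 1 then ω * B.co y l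
          else if l = f 2 ∨ l = f 3 then B.co y l else 0 := fun l => by
        rcases eq_or_ne l (f 0) with rfl | h0
        · simp [hw, co_add, co_smul, co_b, hfne 1 0 (by decide), hfne 2 0 (by decide), hfne 3 0 (by decide)]
        rcases eq_or_ne l (f 1) with rfl | h1
        · simp [hw, co_add, co_smul, co_b, h0.symm, hfne 1 0 (by decide), hfne 2 1 (by decide), hfne 3 1 (by decide)]
        rcases eq_or_ne l (f 2) with rfl | h2'
        · simp [hw, co_add, co_smul, co_b, h0, h0.symm, h1, h1.symm, hfne 3 2 (by decide)]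
        rcases eq_or_ne l (f 3) with rfl | h3
        · simp [hw, co_add, co_smul, co_b, h0, h0.symm, h1, h1.symm, h2', h2'.symm]
        · simp [hw, co_add, co_smul, co_b, h0, h0.symm, h1, h1.symm, h2', h2'.symm, h3, h3.symm]
      have hTf : ∀ l, l ∈ T ↔ l = f 0 ∨ l = f 1 ∨ l = f 2 ∨ l = f 3 := fun l => by
        constructor
        · intro hl
          have : ∀ a : Fin 4, a = 0 ∨ a = 1 ∨ a = 2 ∨ a = 3 := by decide
          have hl' : l = f (e.symm ⟨l, hl⟩) := by rw [hf]; simp
          rcases this (e.symm ⟨l, hl⟩) with h | h | h | h <;> rw [h] at hl' <;> tauto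
        · rintro (rfl | rfl | rfl | rfl) <;> exact (e _).2
      have hws : B.supp w = T := by
        ext l
        rw [mem_supp, hwco, hTf]
        split_ifs with a1 a2 a3
        · subst a1; simp [H.circle_ne_zero hω, hfy]
        · subst a2; simp [H.circle_ne_zero hω, hfy]
        · rcases a3 with rfl | rfl <;> simp [hfy]
        · simp at a3 ⊢; tauto
      have hwC : w ∈ H.uCentres K := B.fours blk hM hq (by omega) hC hz hz4 w (by rw [hws, hTc])
      set v := y - w with hv
      have hvco : ∀ l, B.co v l = if l = f 0 then ω * B.co y l else if l = f 1 then H.σ ω * B.co y l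
          else if l = f 2 ∨ l = f 3 then 0 else B.co y l := fun l => by
        rw [hv, co_sub, hwco, hσω]
        split_ifs
        · linear_combination (-(ω * B.co y l)) * h2
        · linear_combination (-(ω * B.co y l)) * h2
        · ring
        · ring
      have hvs : B.supp v = ((B.supp y).erase (f 2)).erase (f 3) := by
        ext l
        rw [Finset.mem_erase, Finset.mem_erase, mem_supp, mem_supp, hvco]
        split_ifs with a1 a2 a3
        · subst a1; simp [H.circle_ne_zero hω, hfy, hfne 0 2 (by decide), hfne 0 3 (by decide)]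
        · subst a2; simp [H.circle_ne_zero hω, hfy, hfne 1 2 (by decide), hfne 1 3 (by decide)]
        · rcases a3 with rfl | rfl <;> simp
        · simp at a3; simp [a3]
      have hvc : (B.supp v).card = d - 2 := by
        rw [hvs, Finset.card_erase_of_mem (Finset.mem_erase.mpr ⟨hfne 3 2 (by decide), B.mem_supp.mpr (hfy 3)⟩),
          Finset.card_erase_of_mem (B.mem_supp.mpr (hfy 2)), hd]
        omega
      have hvv : H.h v v = 0 := by
        rw [B.self_eq_card hq, hvc, show d - 2 = 2 * (r - 1) by omega, Nat.cast_mul, Nat.cast_ofNat, h2, zero_mul]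
      have hwv : H.h w v = 1 := by
        rw [B.h_of_supp hws.le, show T = {f 0, f 1, f 2, f 3} by ext l; simp [hTf]]
        rw [Finset.sum_insert (by simp [hfne 0 1 (by decide), hfne 0 2 (by decide), hfne 0 3 (by decide)]),
          Finset.sum_insert (by simp [hfne 1 2 (by decide), hfne 1 3 (by decide)]),
          Finset.sum_pair (hfne 2 3 (by decide)), hwco, hwco, hwco, hwco, hvco, hvco, hvco, hvco]
        simp [hfne 1 0 (by decide), hfne 2 0 (by decide), hfne 3 0 (by decide), hfne 2 1 (by decide),
          hfne 3 1 (by decide), map_mul, H.conj.invol]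
        have e0 := B.nm_one hq (hfy 0)
        have e1 := B.nm_one hq (hfy 1)
        simp only [nm] at e0 e1
        rw [hσω]
        linear_combination ((ω + 1) * (ω + 1)) * e0 + (ω * ω) * e1 + 2 * hωω + (2 * ω + 1) * h2
      have := span_add h2 hwC (ih _ (by omega) v hvv hvc) hwv
      rwa [hv, add_sub_cancel] at this

end UFrame

end Cfsg.Lib.Classical
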