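import Mathlib
import Cfsg.Agent.Classical.Unitary.FrameTwo

set_option autoImplicit false
set_option linter.unusedVariables false
set_option linter.unusedSimpArgs false
set_option linter.unusedSectionVars false
set_option linter.style.haveILetI false

/-! Stabilisers of orthogonal decompositions are maximal in special unitary groups, in dimension at least 13. -/

namespace Cfsg.Lib.Classical

universe u v w

namespace UFrame

variable {F : Type u} [Field F] [Fintype F] [DecidableEq F] {V : Type v} [AddCommGroup V] [Module F V]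
  [FiniteDimensional F V] {H : HermSpace F V}
  {ι : Type w} [DecidableEq ι] [Fintype ι] (B : UFrame H ι) {K : Subgroup H.SIsom}

/-- Frame pairs are centres in the monomial case with `q = 2`. -/
theorem pairs_mono_two (hM : ∀ g : H.SIsom, B.Mono (id : ι → ι) g.1 → g ∈ K) (hq : H.q = 2)
    (hn : 3 ≤ Fintype.card ι) {i j : ι} (hij : i ≠ j) : B.PairC K i j := by
  have h2 := two_zero (H := H) hq
  have hM1 : ∀ g : H.SIsom, B.Mono1 g.1 → g ∈ K := fun g hg => hM g (B.mono_of_mono1 Function.injective_id hg)
  obtain ⟨hv, hK⟩ := B.unitCentre_pair hM1 hij H.circle_one h2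
  have hx : B.b i + (1 : F) • B.b j ∈ H.uCentres K := ⟨hv, fun c hc => by
    have hσc : H.σ c = c := by linear_combination hc - c * h2
    rcases fixed_two (H := H) hq hσc with rfl | rfl
    · convert K.one_mem using 1
      exact Subtype.ext (H.isom_ext fun z => by rw [H.uT_apply]; simp)
    · exact hK hc⟩
  refine B.pairC_of_exact id hM hn hij hx ?_ ?_
  · rw [one_smul]
    exact (B.supp_add_subset _ _).trans (by simp [supp_b])
  · simp [co_add, co_smul, co_b, hij.symm]

/-- Outside the monomial group some image of a pair has four or more coordinates. -/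
theorem four_mono_two (hM : ∀ g : H.SIsom, B.Mono (id : ι → ι) g.1 → g ∈ K) (hq : H.q = 2)
    (hn : 4 ≤ Fintype.card ι) {g : H.SIsom} (hg : g ∈ K) (hgM : ¬ B.Mono1 g.1) :
    ∃ x, x ∈ H.uCentres K ∧ 4 ≤ (B.supp x).card := by
  by_contra hno
  push Not at hno
  have h2 := two_zero (H := H) hq
  unfold Mono1 at hgM
  push Not at hgM
  obtain ⟨i, hi⟩ := hgM
  set U := B.supp (g.1.1 (B.b i)) with hU
  have key : ∀ j, j ≠ i → B.supp (g.1.1 (B.b j)) = U ∧ U.card = 3 := by
    intro j hji
    set W := B.supp (g.1.1 (B.b j)) with hW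
    set r : ι → F := fun p => -(B.co (g.1.1 (B.b i)) p / B.co (g.1.1 (B.b j)) p) with hr
    have hnz : ∀ l, B.co (g.1.1 (B.b l)) = B.co (g.1.1 (B.b l)) := fun l => rfl
    have hone : ∀ z ∈ H.circle, (B.supp (g.1.1 (B.b i + z • B.b j))).card = 2 ∧
        B.supp (g.1.1 (B.b i + z • B.b j)) = (U ∪ W) \ ((U ∩ W).filter fun p => r p = z) := by
      intro z hz
      rw [H.mem_circle] at hz
      have hiso : H.h (B.b i + z • B.b j) (B.b i + z • B.b j) = 0 := B.pair_iso hji.symm hz h2
      have hC : B.b i + z • B.b j ∈ H.uCentres K := B.pairs_mono_two hM hq (by omega) hji.symm _ hiso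
        ((B.supp_add_subset _ _).trans (Finset.union_subset (by simp [supp_b])
          ((B.supp_smul_subset _ _).trans (by simp [supp_b]))))
      have h4 := hno _ (HermSpace.uCentres_map hC hg)
      have hne : g.1.1 (B.b i + z • B.b j) ≠ 0 := by
        rw [ne_eq, LinearEquiv.map_eq_zero_iff]
        intro h
        have := congrArg (fun x => B.co x i) h
        simp [co_add, co_smul, co_b, co_zero, hji] at this
      have hpos : 0 < (B.supp (g.1.1 (B.b i + z • B.b j))).card := by
        rw [Finset.card_pos, Finset.nonempty_iff_ne_empty, ne_eq, supp_eq_empty]; exact hne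
      obtain ⟨k, hk⟩ := B.two_dvd_supp hq (x := g.1.1 (B.b i + z • B.b j)) (by rw [H.map_form]; exact hiso)
      refine ⟨by omega, ?_⟩
      ext p
      rw [mem_supp, map_add, map_smul, co_add, co_smul, Finset.mem_sdiff, Finset.mem_filter, Finset.mem_inter,
        Finset.mem_union, hU, hW, mem_supp, mem_supp]
      simp only [hr]
      by_cases hb : B.co (g.1.1 (B.b j)) p = 0
      · simp [hb]
      by_cases ha : B.co (g.1.1 (B.b i)) p = 0
      · simp [ha, hb, H.circle_ne_zero hz]
      simp only [ha, hb, not_false_eq_true, or_true, true_and, and_true, ne_eq]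
      rw [not_iff_not, ← neg_div, div_eq_iff hb, neg_eq_iff_add_eq_zero]
    have hrc : ∀ p ∈ U ∩ W, r p ∈ H.circle := by
      intro p hp
      rw [Finset.mem_inter, hU, hW, mem_supp, mem_supp] at hp
      have e1 := B.nm_one hq hp.1
      have e2 := B.nm_one hq hp.2
      simp only [nm] at e1 e2
      rw [H.mem_circle, hr, map_neg, map_div₀, neg_mul_neg, div_mul_div_comm, e1, e2, div_one]
    have hsum := Finset.card_eq_sum_card_fiberwise hrc
    have hcirc : H.circle.card = 3 := by rw [H.card_circle, hq]
    have hfib : ∀ z ∈ H.circle, ((U ∩ W).filter fun p => r p = z).card + 2 = (U ∪ W).card := by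
      intro z hz
      obtain ⟨h1, h2'⟩ := hone z hz
      rw [h2', Finset.card_sdiff_of_subset ((Finset.filter_subset _ _).trans Finset.inter_subset_union)] at h1
      have := Finset.card_le_card (((Finset.filter_subset (fun p => r p = z) _).trans Finset.inter_subset_union) :
        _ ⊆ U ∪ W)
      omega
    have hsum' : (U ∩ W).card + 6 = 3 * (U ∪ W).card := by
      have h := Finset.sum_congr rfl hfib
      rw [Finset.sum_add_distrib, ← hsum, Finset.sum_const, Finset.sum_const, hcirc, smul_eq_mul, smul_eq_mul] at h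
      omega
    have hle : (U ∩ W).card ≤ (U ∪ W).card := Finset.card_le_card Finset.inter_subset_union
    have hWpos : 0 < W.card := by
      rw [Finset.card_pos, Finset.nonempty_iff_ne_empty, ne_eq, hW, supp_eq_empty, LinearEquiv.map_eq_zero_iff]
      exact B.b.ne_zero j
    have hie := Finset.card_union_add_card_inter U W
    rcases (by omega : (U ∪ W).card = 3 ∨ (U ∪ W).card ≤ 2) with h | h
    · have hI : (U ∩ W).card = 3 := by omega
      have e1 : U ∩ W = U ∪ W := Finset.eq_of_subset_of_card_le Finset.inter_subset_union (by omega)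
      have hUW : U = W := by
        apply le_antisymm
        · exact fun p hp => (Finset.mem_inter.mp (e1 ▸ Finset.mem_union_left W hp)).2
        · exact fun p hp => (Finset.mem_inter.mp (e1 ▸ Finset.mem_union_right U hp)).1
      refine ⟨hUW.symm, ?_⟩
      rwa [← hUW, Finset.inter_self] at hI
    · omega
  obtain ⟨j, hj⟩ := Fintype.exists_ne_of_one_lt_card (by omega : 1 < Fintype.card ι) i
  have hU3 := (key j hj).2
  have hle := B.card_le_of_orth (κ := ι) (w := fun l => g.1.1 (B.b l))
    (fun a => by rw [H.map_form, b_self]; exact one_ne_zero)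
    (fun a c hac => by rw [H.map_form]; exact B.b_ne hac) (T := U) (fun l => by
      rcases eq_or_ne l i with rfl | hli
      · exact hU.ge
      · exact (key l hli).1.le)
  omega

theorem decomp_eq_top {β : Type*} (blk : ι → β) (hM : ∀ g : H.SIsom, B.Mono blk g.1 → g ∈ K)
    (hn : 6 ≤ Fintype.card ι) (hn7 : H.q = 2 → Function.Injective blk → 7 ≤ Fintype.card ι)
    (hperm : ∀ i j i' j', blk i ≠ blk j → blk i' ≠ blk j' →
      ∃ π : Equiv.Perm ι, (∀ a d, blk a = blk d → blk (π a) = blk (π d)) ∧ π i = i' ∧ π j = j')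
    (hblk : Function.Injective blk ∨ ∀ i, ∃ j, j ≠ i ∧ blk j = blk i)
    (htwo : H.q = 2 → Function.Injective blk ∨
      ∀ i, ∃ j l, j ≠ i ∧ l ≠ i ∧ j ≠ l ∧ blk j = blk i ∧ blk l = blk i)
    {g : H.SIsom} (hg : g ∈ K) (hgM : ¬ B.Mono blk g.1) : K = ⊤ := by
  classical
  have hfr : 6 ≤ Module.finrank F V := by rw [Module.finrank_eq_card_basis B.b]; exact hn
  refine HermSpace.eq_top_of_uCentres (Or.inl (by omega)) ?_
  have hq2 : 2 ≤ H.q := H.two_le_q
  by_cases hq : H.q = 2
  · rcases htwo hq with hinj | h3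
    · have h7 := hn7 hq hinj
      have hMid : ∀ g : H.SIsom, B.Mono (id : ι → ι) g.1 → g ∈ K := fun g hg =>
        hM g (B.mono_of_mono1 hinj (B.mono1_of_mono Function.injective_id hg))
      have hC : ∀ i j, B.PairC K i j := fun i j => by
        rcases eq_or_ne i j with rfl | hij
        · intro x hx hs
          exact B.centre_of_local id hMid hx fun a c ha hc => by
            have h1 := hs ha
            have h2 := hs hc
            simp at h1 h2
            simp [h1, h2]
        · exact B.pairs_mono_two hMid hq (by omega) hij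
      obtain ⟨x, hx, hx4⟩ := B.four_mono_two hMid hq (by omega) hg (fun h => hgM (B.mono_of_mono1 hinj h))
      obtain ⟨z, hz, hz4⟩ := B.exists_four id hMid hq (by omega) hx hx4
      exact B.all_centres_two id hMid hq (by omega) hC hz hz4
    · have hk : ∀ i, ∃ j, j ≠ i ∧ blk j = blk i := fun i => by
        obtain ⟨j, l, hj, -, -, hb, -⟩ := h3 i; exact ⟨j, hj, hb⟩
      obtain ⟨i, j, hij, hp⟩ := B.cross_pair blk hM hk (by omega) hg hgM
      have hC := B.pairs_all blk hM (by omega) hperm hij hp
      have h2 := two_zero (H := H) hq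
      obtain ⟨i₁, i₂, h1, h2', h12, hb1, hb2⟩ := h3 i
      obtain ⟨j', hj', hbj⟩ := hk j
      have hne : i ≠ j := fun h => hij (congrArg blk h)
      set x := B.b i + B.b j with hx
      have hxs : B.supp x ⊆ {i, j} := (B.supp_add_subset _ _).trans (by simp [supp_b])
      have hxx : H.h x x = 0 := by
        rw [B.h_of_supp hxs, Finset.sum_pair hne]
        simp [hx, co_add, co_b, hne, hne.symm]
        linear_combination h2
      set Q := B.b i + B.b i₁ + B.b i₂ with hQ
      have hQW : Q ∈ B.blockSub blk (blk i) :=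
        Submodule.add_mem _ (Submodule.add_mem _ (B.b_mem_blockSub blk i) (hb1 ▸ B.b_mem_blockSub blk i₁))
          (hb2 ▸ B.b_mem_blockSub blk i₂)
      have hQi : B.co Q i = 1 := by simp [hQ, co_add, co_b, h1, h2']
      have hQQ : H.h Q Q = H.h (B.b i) (B.b i) := by
        simp [hQ, H.add_left, H.add_right, B.hb, h1, h1.symm, h2', h2'.symm, h12, h12.symm]
        linear_combination h2
      obtain ⟨m, hmK, hmP, z, hz, hmy⟩ := B.local_move blk hM (B.b_mem_blockSub blk i) hQW (B.b.ne_zero i)
        (fun h => one_ne_zero (α := F) (by rw [← hQi, h, co_zero])) hQQ (c := j') (by rw [hbj]; exact Ne.symm hij)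
      have hnew := HermSpace.uCentres_map (hC i j x hxx hxs) hmK
      have hco : ∀ l, B.co (m.1.1 x) l = B.co Q l + (if l = j' then z * B.co (B.b j) l else B.co (B.b j) l) := fun l => by
        rw [hx, map_add, co_add, hmP, hmy _ (B.b_mem_orth blk (Ne.symm hij))]
      have hjo : i ≠ j ∧ i₁ ≠ j ∧ i₂ ≠ j ∧ i ≠ j' ∧ i₁ ≠ j' ∧ i₂ ≠ j' :=
        ⟨hne, fun h => hij (by rw [← hb1, h]), fun h => hij (by rw [← hb2, h]), fun h => hij (by rw [h, hbj]),
          fun h => hij (by rw [← hb1, h, hbj]), fun h => hij (by rw [← hb2, h, hbj])⟩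
      have h4 : 4 ≤ (B.supp (m.1.1 x)).card := by
        have hsub : ({i, i₁, i₂, j} : Finset ι) ⊆ B.supp (m.1.1 x) := by
          obtain ⟨a1, a2, a3, a4, a5, a6⟩ := hjo
          intro p hp
          simp only [Finset.mem_insert, Finset.mem_singleton] at hp
          rw [mem_supp, hco]
          rcases hp with rfl | rfl | rfl | rfl
          · simp [hQ, co_add, co_b, h1, h2', a1.symm, a4]
          · simp [hQ, co_add, co_b, h1.symm, h12.symm, a2.symm, a5]
          · simp [hQ, co_add, co_b, h2'.symm, h12, a3.symm, a6]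
          · simp [hQ, co_add, co_b, a1, a2, a3, hj'.symm]
        refine le_trans ?_ (Finset.card_le_card hsub)
        rw [Finset.card_insert_of_notMem (by simp [h1.symm, h2'.symm, hne]),
          Finset.card_insert_of_notMem (by simp [h12, hjo.2.1]), Finset.card_pair hjo.2.2.1]
      have h4' : (B.supp (m.1.1 x)).card ≤ 4 := by
        refine le_trans (Finset.card_le_card (t := {i, i₁, i₂, j}) fun p hp => ?_) Finset.card_le_four
        by_contra hne
        simp only [Finset.mem_insert, Finset.mem_singleton, not_or] at hne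
        refine B.mem_supp.mp hp ?_
        rw [hco]
        rcases eq_or_ne p j' with rfl | hpj
        · simp [hQ, co_add, co_b, Ne.symm hne.1, Ne.symm hne.2.1, Ne.symm hne.2.2.1, Ne.symm hne.2.2.2]
        · simp [hQ, co_add, co_b, Ne.symm hne.1, Ne.symm hne.2.1, Ne.symm hne.2.2.1, Ne.symm hne.2.2.2, hpj]
      exact B.all_centres_two blk hM hq (by omega) hC hnew (le_antisymm h4' h4)
  · have hq3 : 3 ≤ H.q := by omega
    obtain ⟨i, j, hij, hp⟩ : ∃ i j, blk i ≠ blk j ∧ B.PairC K i j := by
      rcases hblk with hinj | hk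
      · have hM1 : ∀ g : H.SIsom, B.Mono1 g.1 → g ∈ K := fun g hg => hM g (B.mono_of_mono1 hinj hg)
        obtain ⟨x, hx, hx0, e, he⟩ := B.exists_centre hM1 hq3 (by omega)
          (B.exists_line hM1 hq3 hn hg (fun h => hgM (B.mono_of_mono1 hinj h)))
        have hs : 1 < (B.supp x).card := by
          by_contra hlt
          rcases Finset.eq_empty_or_nonempty (B.supp x) with h | ⟨a, ha⟩
          · exact hx0 (B.supp_eq_empty.mp h)
          have h := hx.1
          rw [B.h_self_nm, Finset.sum_eq_single a (fun t _ hta => ?_) (fun h => absurd (Finset.mem_univ a) h)] at h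
          · exact B.mem_supp.mp ha (B.nm_eq_zero.mp h)
          · exact B.nm_eq_zero.mpr (B.notMem_supp.mp fun ht => hta (Finset.card_le_one.mp (by omega) t ht a ha))
        obtain ⟨a, ha, c, hc, hac⟩ := Finset.one_lt_card.mp hs
        exact ⟨a, c, hinj.ne hac, B.pair_spare blk hM (by omega) hac hx (B.mem_supp.mp ha) (B.mem_supp.mp hc) he⟩
      · exact B.cross_pair blk hM hk (by omega) hg hgM
    exact B.all_centres hq3 (by omega) (B.pairs_all blk hM (by omega) hperm hij hp)

/-- Stabilisers of blocks are proper. -/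
theorem exists_not_mono {β : Type*} (blk : ι → β) (hn : 4 ≤ Fintype.card ι) {i j : ι} (hij : blk i ≠ blk j) :
    ∃ g : H.SIsom, ¬ B.Mono blk g.1 := by
  have hne : i ≠ j := fun h => hij (congrArg blk h)
  have hc : 1 < (({i, j} : Finset ι)ᶜ).card := by
    rw [Finset.card_compl, Finset.card_pair hne]; omega
  obtain ⟨p, hp, r, hr, hpr⟩ := Finset.one_lt_card.mp hc
  simp only [Finset.mem_compl, Finset.mem_insert, Finset.mem_singleton, not_or] at hp hr
  obtain ⟨e, he⟩ := H.conj.norm_surjective (a := (-1 : F)) (by rw [map_neg, map_one])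
  have he0 : e ≠ 0 := fun h => neg_ne_zero.mpr one_ne_zero (by rw [← he, h, zero_mul] : (-1 : F) = 0)
  obtain ⟨c, hc0, hcs⟩ := H.conj.exists_skew
  set v := B.b p + e • B.b i + B.b j + e • B.b r with hv
  have hvv : H.h v v = 0 := by
    simp [hv, H.add_left, H.add_right, H.smul_left, H.smul_right, B.hb, hne, hne.symm, hp.1, hp.2, hr.1, hr.2,
      Ne.symm hp.1, Ne.symm hp.2, Ne.symm hr.1, Ne.symm hr.2, hpr, hpr.symm]
    linear_combination 2 * he
  refine ⟨⟨H.uT hvv hcs, H.uT_mem_SIsom hvv hcs⟩, fun h => hij (h p p i j rfl ?_ ?_)⟩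
  all_goals
    change B.co ((H.uT hvv hcs).1 (B.b p)) _ ≠ 0
    rw [H.uT_apply, co_add, co_smul, H.symm (B.b p) v]
    change _ + c * H.σ (B.co v p) * _ ≠ 0
    simp [hv, co_add, co_smul, co_b, hne, hne.symm, hp.1, hp.2, hr.1, hr.2, Ne.symm hp.1, Ne.symm hp.2,
      Ne.symm hr.1, Ne.symm hr.2, hpr, hpr.symm, hc0, he0]

end UFrame

end Cfsg.Lib.Classical
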