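import Mathlib
import Cfsg.Agent.Classical.Unitary.Root

set_option autoImplicit false
set_option linter.unusedVariables false
set_option linter.unusedSimpArgs false
set_option linter.style.haveILetI false

/-! The stabiliser of a rational structure with symmetric form is maximal in the special unitary group. -/

namespace Cfsg.Lib.Classical

universe u v w

variable {F : Type u} [Field F] {V : Type v} [AddCommGroup V] [Module F V]

namespace HermSpace

variable (H : HermSpace F V)

/-- A rational structure on which the form is symmetric. -/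
structure OrthStructure (F₀ : Subfield F) {V₀ : Type w} [AddCommGroup V₀] [Module F₀ V₀] (ι : V₀ →+ V) (τ : F) :
    Prop where
  smul : ∀ (a : F₀) u, ι (a • u) = (a : F) • ι u
  fixed : ∀ a : F₀, H.σ a = a
  fixed_mem : ∀ c, H.σ c = c → c ∈ F₀
  real : ∀ u v, H.h (ι u) (ι v) ∈ F₀
  skew : τ + H.σ τ = 0
  ne_zero : τ ≠ 0
  two : (2 : F) ≠ 0
  inj : ∀ u, ι u = 0 → u = 0
  span : ∀ x, ∃ r s, x = ι r + τ • ι s

theorem siegel_conj (g : H.Isom) {v w : V} (hv : H.h v v = 0) (hwv : H.h w v = 0) {a : F}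
    (ha : a + H.σ a = -H.h w w) :
    g * H.siegel hv hwv ha * g⁻¹ = H.siegel (v := g.1 v) (w := g.1 w) (a := a) (by rw [H.map_form, hv])
      (by rw [H.map_form, hwv]) (by rw [H.map_form, ha]) :=
  H.isom_ext fun x => by
    rw [mul_apply', mul_apply', siegel_apply, siegel_apply, map_add, map_add, map_smul, map_smul,
      H.apply_inv_self]
    have e : ∀ y, H.h ((g⁻¹).1 x) y = H.h x (g.1 y) := fun y => by rw [← H.map_form g, H.apply_inv_self]
    rw [e, e]

/-- A Siegel element in `SU`. -/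
noncomputable def sS {v w : V} (hv : H.h v v = 0) (hwv : H.h w v = 0) {a : F} (ha : a + H.σ a = -H.h w w) :
    H.SIsom := ⟨H.siegel hv hwv ha, H.siegel_mem_SIsom _ _ _⟩

theorem sS_apply {v w : V} (hv : H.h v v = 0) (hwv : H.h w v = 0) {a : F} (ha : a + H.σ a = -H.h w w) (x : V) :
    (H.sS hv hwv ha).1.1 x = x + H.h x v • w + (a * H.h x v - H.h x w) • v := H.siegel_apply hv hwv ha x

theorem sS_congr {v w v' w' : V} (hv : H.h v v = 0) (hwv : H.h w v = 0) {a : F} (ha : a + H.σ a = -H.h w w)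
    (hv' : H.h v' v' = 0) (hwv' : H.h w' v' = 0) {a' : F} (ha' : a' + H.σ a' = -H.h w' w') (e : v = v')
    (e' : w = w') (ea : a = a') : H.sS hv hwv ha = H.sS hv' hwv' ha' := by
  subst e e' ea; rfl

/-- Vectors `y` whose scalar multiples are axes at `x`. -/
def Axes (F₀ : Subfield F) (K : Subgroup H.SIsom) (x : V) (y : V) : Prop :=
  ∀ l : F₀, ∃ (hx : H.h x x = 0) (hy : H.h ((l : F) • y) x = 0) (a : F) (ha : a + H.σ a = -H.h ((l : F) • y) ((l : F) • y)),
    H.sS hx hy ha ∈ K

variable {H} {F₀ : Subfield F} {K : Subgroup H.SIsom}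

theorem Axes.iso {x y : V} (h : H.Axes F₀ K x y) : H.h x x = 0 := (h 0).1

theorem Axes.orth {x y : V} (h : H.Axes F₀ K x y) : H.h y x = 0 := by
  obtain ⟨_, hy, _⟩ := h 1
  simpa using hy

theorem Axes.add {x y y' : V} (h : H.Axes F₀ K x y) (h' : H.Axes F₀ K x y') : H.Axes F₀ K x (y + y') := by
  intro l
  obtain ⟨hx, hy, a, ha, hm⟩ := h l
  obtain ⟨_, hy', a', ha', hm'⟩ := h' l
  have hs : H.h ((l : F) • (y + y')) x = 0 := by rw [smul_add, H.add_left, hy, hy', add_zero]
  have hb : a + a' - H.h ((l : F) • y') ((l : F) • y) + H.σ (a + a' - H.h ((l : F) • y') ((l : F) • y)) =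
      -H.h ((l : F) • (y + y')) ((l : F) • (y + y')) := by
    rw [map_sub, map_add, ← H.symm ((l : F) • y) ((l : F) • y'), smul_add]
    simp only [H.add_left, H.add_right]
    linear_combination ha + ha'
  refine ⟨hx, hs, _, hb, ?_⟩
  have := K.mul_mem hm hm'
  convert this using 1
  refine H.sisom_ext fun z => ?_
  have hy₀ : H.h y x = 0 := h.orth
  have hy₀' : H.h y' x = 0 := h'.orth
  simp only [smul_mul_apply, sS_apply, smul_add, H.add_left, H.add_right, H.smul_left, H.smul_right, H.sub_left, hx, hy₀, hy₀',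
    H.eq_zero_symm hy₀, H.eq_zero_symm hy₀']
  module

theorem Axes.smul {x y : V} (h : H.Axes F₀ K x y) (k : F₀) : H.Axes F₀ K x ((k : F) • y) := by
  intro l
  have e : ((l * k : F₀) : F) • y = (l : F) • (k : F) • y := by rw [smul_smul]; rfl
  have := h (l * k)
  rw [e] at this
  exact this

theorem Axes.sub {x y y' : V} (h : H.Axes F₀ K x y) (h' : H.Axes F₀ K x y') : H.Axes F₀ K x (y - y') := by
  have := h.add (h'.smul (-1))
  rwa [NegMemClass.coe_neg, OneMemClass.coe_one, neg_one_smul, ← sub_eq_add_neg] at this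

theorem Axes.map {x y : V} (h : H.Axes F₀ K x y) {g : H.SIsom} (hg : g ∈ K) :
    H.Axes F₀ K (g.1.1 x) (g.1.1 y) := by
  intro l
  obtain ⟨hx, hy, a, ha, hm⟩ := h l
  rw [← map_smul]
  refine ⟨by rw [H.map_form, hx], by rw [H.map_form, hy], a, by rw [H.map_form, ha], ?_⟩
  have := K.mul_mem (K.mul_mem hg hm) (K.inv_mem hg)
  convert this using 1
  exact Subtype.ext (H.siegel_conj g.1 hx hy ha).symm

/-- Two axes with a non-symmetric product give the whole root group. -/
theorem Axes.centre {x y y' : V} (hfix : ∀ c, H.σ c = c → c ∈ F₀) (h : H.Axes F₀ K x y) (h' : H.Axes F₀ K x y')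
    (hne : H.h y y' ∉ F₀) : x ∈ H.uCentres K := by
  refine ⟨h.iso, fun c hc => ?_⟩
  set d := H.h y y' - H.h y' y with hd
  have hd0 : d ≠ 0 := fun e => hne (hfix _ (by rw [← H.symm]; exact (sub_eq_zero.mp e).symm))
  have hdd : d + H.σ d = 0 := by rw [hd, map_sub, ← H.symm, ← H.symm]; ring
  have hl : c / d ∈ F₀ := hfix _ (by
    rw [map_div₀, eq_neg_of_add_eq_zero_right hc, eq_neg_of_add_eq_zero_right hdd, neg_div_neg_eq])
  obtain ⟨hx, hy, a, ha, hm⟩ := h ⟨_, hl⟩
  obtain ⟨hx', hy', a', ha', hm'⟩ := h' 1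
  have := K.mul_mem (K.inv_mem (K.mul_mem hm' hm)) (K.mul_mem hm hm')
  convert this using 1
  rw [eq_inv_mul_iff_mul_eq]
  refine H.sisom_ext fun z => ?_
  change (H.sS hx' hy' ha').1.1 ((H.sS hx hy ha).1.1 ((H.uT hx hc).1 z)) = (H.sS hx hy ha).1.1 ((H.sS hx' hy' ha').1.1 z)
  have hσl : H.σ (c / d) = c / d := by
    rw [map_div₀, eq_neg_of_add_eq_zero_right hc, eq_neg_of_add_eq_zero_right hdd, neg_div_neg_eq]
  have hy₀ := h.orth
  have hy₀' := h'.orth
  have hcd : c = c / d * (H.h y y' - H.h y' y) := by rw [← hd, div_mul_cancel₀ _ hd0]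
  simp only [sS_apply, uT_apply, OneMemClass.coe_one, one_smul, H.add_left, H.smul_left, H.smul_right,
    H.sub_left, hx, hy₀, hy₀', H.eq_zero_symm hy₀, H.eq_zero_symm hy₀', hσl]
  linear_combination (norm := module) hcd • H.h z x • x

namespace OrthStructure

variable {V₀ : Type w} [AddCommGroup V₀] [Module F₀ V₀] {ι : V₀ →+ V} {τ : F}
  (S : H.OrthStructure F₀ ι τ)

include S

theorem real' (u v : V₀) : H.h (ι u) (ι v) = H.h (ι v) (ι u) := by
  rw [H.symm (ι v) (ι u)]; exact (S.fixed ⟨_, S.real u v⟩).symm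

/-- The rational bilinear form. -/
def form : LinearMap.BilinForm F₀ V₀ :=
  LinearMap.mk₂ F₀ (fun u v => ⟨_, S.real u v⟩)
    (fun u u' v => Subtype.ext (by
      change H.h (ι (u + u')) (ι v) = H.h (ι u) (ι v) + H.h (ι u') (ι v)
      rw [map_add, H.add_left]))
    (fun a u v => Subtype.ext (by
      change H.h (ι (a • u)) (ι v) = (a : F) * H.h (ι u) (ι v)
      rw [S.smul, H.smul_left]))
    (fun u v v' => Subtype.ext (by
      change H.h (ι u) (ι (v + v')) = H.h (ι u) (ι v) + H.h (ι u) (ι v')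
      rw [map_add, H.add_right]))
    (fun a u v => Subtype.ext (by
      change H.h (ι u) (ι (a • v)) = (a : F) * H.h (ι u) (ι v)
      rw [S.smul, H.smul_right, S.fixed]))

theorem coe_form (u v : V₀) : (S.form u v : F) = H.h (ι u) (ι v) := rfl

theorem form_isRefl : S.form.IsRefl := fun u v h => Subtype.ext (by
  rw [S.coe_form, S.real', ← S.coe_form, h])

theorem form_symm (u v : V₀) : S.form u v = S.form v u := Subtype.ext (S.real' u v)

theorem h_eq {u v : V₀} {a : F₀} (h : S.form u v = a) : H.h (ι u) (ι v) = a := by rw [← S.coe_form, h]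

theorem h_eq_zero {u v : V₀} (h : S.form u v = 0) : H.h (ι u) (ι v) = 0 := by rw [S.h_eq h]; rfl

theorem two_ne_zero' : (2 : F₀) ≠ 0 := fun h => S.two (by
  rw [← map_ofNat F₀.subtype 2, h, map_zero])

theorem eq_zero_of_orth {x : V} (h : ∀ u, H.h x (ι u) = 0) : x = 0 :=
  H.nondeg _ fun y => H.eq_zero_symm (by
    obtain ⟨r, s, rfl⟩ := S.span y
    rw [H.add_right, H.smul_right, h, h, mul_zero, add_zero])

theorem form_nondegenerate : S.form.Nondegenerate :=
  (LinearMap.IsRefl.nondegenerate_iff_separatingLeft S.form_isRefl).mpr fun u hu =>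
    S.inj u (S.eq_zero_of_orth fun v => S.h_eq_zero (hu v))

/-- An isotropic vector in every three-dimensional subspace. -/
theorem exists_iso_mem [Finite F] [FiniteDimensional F₀ V₀] (W : Submodule F₀ V₀)
    (hW : 3 ≤ Module.finrank F₀ W) : ∃ v ∈ W, v ≠ 0 ∧ S.form v v = 0 := by
  haveI : Finite F₀ := Finite.of_injective _ Subtype.val_injective
  have cut : ∀ (W' : Submodule F₀ V₀) (a : V₀), Module.finrank F₀ W' ≤
      Module.finrank F₀ (W' ⊓ LinearMap.ker (S.form a) : Submodule F₀ V₀) + 1 := by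
    intro W' a
    have h := LinearMap.finrank_range_add_finrank_ker ((S.form a).comp W'.subtype)
    have h1 := Submodule.finrank_le (LinearMap.range ((S.form a).comp W'.subtype))
    rw [Module.finrank_self] at h1
    have h2 : (LinearMap.ker ((S.form a).comp W'.subtype)).map W'.subtype = W' ⊓ LinearMap.ker (S.form a) := by
      rw [LinearMap.ker_comp, Submodule.map_comap_subtype]
    rw [← h2, Submodule.finrank_map_subtype_eq]
    omega
  have get : ∀ W' : Submodule F₀ V₀, 1 ≤ Module.finrank F₀ W' → ∃ a ∈ W', a ≠ 0 := fun W' h =>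
    Submodule.exists_mem_ne_zero_of_ne_bot (Submodule.one_le_finrank_iff.mp h)
  by_contra hc
  push Not at hc
  obtain ⟨a, ha, ha0⟩ := get W (by omega)
  set W₁ := W ⊓ LinearMap.ker (S.form a)
  have hW₁ : Module.finrank F₀ W ≤ Module.finrank F₀ W₁ + 1 := cut W a
  obtain ⟨b, hb, hb0⟩ := get W₁ (by omega)
  set W₂ := W₁ ⊓ LinearMap.ker (S.form b)
  have hW₂ : Module.finrank F₀ W₁ ≤ Module.finrank F₀ W₂ + 1 := cut W₁ b
  obtain ⟨c, hc', hc0⟩ := get W₂ (by omega)
  have hab : S.form a b = 0 := hb.2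
  have hac : S.form a c = 0 := hc'.1.2
  have hbc : S.form b c = 0 := hc'.2
  have hA := hc a ha ha0
  have hB := hc b hb.1 hb0
  have hC := hc c hc'.1.1 hc0
  -- solve `A X² + B Y² = -C`
  haveI : Fintype F₀ := Fintype.ofFinite _
  classical
  have hodd : Fintype.card F₀ % 2 = 1 := by
    refine FiniteField.odd_card_of_char_ne_two (fun h => ?_)
    haveI : CharP F₀ 2 := h ▸ ringChar.charP F₀
    exact S.two_ne_zero' (CharTwo.two_eq_zero)
  obtain ⟨p, q, hpq⟩ := FiniteField.exists_root_sum_quadratic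
    (f := Polynomial.C (S.form a a) * Polynomial.X ^ 2)
    (g := Polynomial.C (S.form b b) * Polynomial.X ^ 2 + Polynomial.C (S.form c c))
    (Polynomial.degree_C_mul_X_pow 2 hA)
    (by rw [Polynomial.degree_add_C (by rw [Polynomial.degree_C_mul_X_pow 2 hB]; decide),
      Polynomial.degree_C_mul_X_pow 2 hB]; rfl) hodd
  simp only [Polynomial.eval_mul, Polynomial.eval_add, Polynomial.eval_C, Polynomial.eval_pow,
    Polynomial.eval_X] at hpq
  refine hc (p • a + q • b + c) (W.add_mem (W.add_mem (W.smul_mem _ ha) (W.smul_mem _ hb.1)) hc'.1.1) (fun h => ?_) ?_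
  · have h1 := congrArg (S.form c) h
    simp only [map_add, map_smul, map_zero, S.form_symm c a, S.form_symm c b, hac, hbc, smul_zero, zero_add] at h1
    exact hC h1
  · simp only [map_add, map_smul, LinearMap.add_apply, LinearMap.smul_apply, smul_eq_mul, hab, hac, hbc,
      S.form_symm c a, S.form_symm c b, S.form_symm b a]
    linear_combination hpq

theorem exists_pair_of_rad [Finite F] [FiniteDimensional F₀ V₀] {k : ℕ} (f : Fin k → V₀) {d : ℕ}
    (hrad : Module.finrank F₀ ↥(Submodule.span F₀ (Set.range f) ⊓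
      LinearMap.BilinForm.orthogonal S.form (Submodule.span F₀ (Set.range f))) ≤ d)
    (hk : k + d + 3 ≤ Module.finrank F₀ V₀) :
    ∃ v w, (∀ i, S.form v (f i) = 0) ∧ (∀ i, S.form w (f i) = 0) ∧
      S.form v v = 0 ∧ S.form w w = 0 ∧ S.form v w = 1 := by
  set U := Submodule.span F₀ (Set.range f)
  set W := LinearMap.BilinForm.orthogonal S.form U
  set R := W ⊓ LinearMap.BilinForm.orthogonal S.form W
  have hU : Module.finrank F₀ U ≤ k := (finrank_range_le_card f).trans_eq (Fintype.card_fin k)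
  have hoo : LinearMap.BilinForm.orthogonal S.form W = U :=
    LinearMap.BilinForm.orthogonal_orthogonal S.form_nondegenerate S.form_isRefl U
  obtain ⟨C, hC⟩ := Submodule.exists_isCompl R
  have hd : 3 ≤ Module.finrank F₀ (W ⊓ C : Submodule F₀ V₀) := by
    have h1 := Submodule.finrank_sup_add_finrank_inf_eq W C
    have h2 := Submodule.finrank_le (W ⊔ C)
    have h3 := Submodule.finrank_add_eq_of_isCompl hC
    have h4 : Module.finrank F₀ R ≤ d :=
      (Submodule.finrank_mono (le_inf (hoo ▸ inf_le_right : R ≤ U) inf_le_left)).trans hrad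
    have h5 : Module.finrank F₀ V₀ - Module.finrank F₀ U = Module.finrank F₀ W :=
      (LinearMap.BilinForm.finrank_orthogonal S.form_nondegenerate U).symm
    omega
  obtain ⟨v, ⟨hvW, hvC⟩, hv0, hvv⟩ := S.exists_iso_mem _ hd
  have hvR : v ∉ R := fun h => hv0 ((Submodule.disjoint_def.mp hC.disjoint) v h hvC)
  obtain ⟨w, hw, hwv⟩ : ∃ w ∈ W, S.form v w ≠ 0 := by
    by_contra hc
    push Not at hc
    exact hvR ⟨hvW, fun w hw => S.form_isRefl _ _ (hc w hw)⟩
  have hWf : ∀ x ∈ W, ∀ i, S.form x (f i) = 0 := fun x hx i =>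
    S.form_isRefl _ _ (hx (f i) (Submodule.subset_span ⟨i, rfl⟩))
  obtain ⟨w₁, hw₁W, hw₁⟩ : ∃ w₁ ∈ W, S.form v w₁ = 1 :=
    ⟨(S.form v w)⁻¹ • w, W.smul_mem _ hw, by rw [map_smul, smul_eq_mul, inv_mul_cancel₀ hwv]⟩
  refine ⟨v, w₁ - (S.form w₁ w₁ / 2) • v, hWf v hvW, hWf _ (W.sub_mem hw₁W (W.smul_mem _ hvW)), hvv, ?_, ?_⟩
  · have h2 := S.two_ne_zero'
    have hw₁' : S.form w₁ v = 1 := by rw [S.form_symm, hw₁]
    rw [map_sub, map_sub, LinearMap.sub_apply, LinearMap.sub_apply, map_smul, map_smul, LinearMap.smul_apply,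
      LinearMap.smul_apply, hw₁, hw₁', map_smul, hvv]
    simp only [smul_eq_mul, mul_zero, sub_zero, mul_one]
    field_simp
    ring
  · rw [map_sub, map_smul, hvv, smul_zero, sub_zero, hw₁]

theorem exists_pair [Finite F] [FiniteDimensional F₀ V₀] {k : ℕ} (f : Fin k → V₀)
    (hk : 2 * k + 3 ≤ Module.finrank F₀ V₀) :
    ∃ v w, (∀ i, S.form v (f i) = 0) ∧ (∀ i, S.form w (f i) = 0) ∧
      S.form v v = 0 ∧ S.form w w = 0 ∧ S.form v w = 1 :=
  S.exists_pair_of_rad f (d := k)
    ((Submodule.finrank_mono inf_le_left).trans ((finrank_range_le_card f).trans_eq (Fintype.card_fin k))) (by omega)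

/-- An isotropic vector orthogonal to few given ones, outside a smaller subspace. -/
theorem exists_iso_notMem [Finite F] [FiniteDimensional F₀ V₀] {k : ℕ} (f : Fin k → V₀)
    (hk : 2 * k + 3 ≤ Module.finrank F₀ V₀) (T : Submodule F₀ V₀)
    (hT : Module.finrank F₀ T + k < Module.finrank F₀ V₀) :
    ∃ p, S.form p p = 0 ∧ (∀ i, S.form p (f i) = 0) ∧ p ∉ T := by
  by_contra hc
  push Not at hc
  obtain ⟨a, b, ha, hb, haa, hbb, hab⟩ := S.exists_pair f hk
  set U := Submodule.span F₀ (Set.range f) with hU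
  set W := LinearMap.BilinForm.orthogonal S.form U with hWdef
  have hUd : Module.finrank F₀ U ≤ k := (finrank_range_le_card f).trans_eq (Fintype.card_fin k)
  have hWd : Module.finrank F₀ W = Module.finrank F₀ V₀ - Module.finrank F₀ U :=
    LinearMap.BilinForm.finrank_orthogonal S.form_nondegenerate U
  have hle : W ≤ T := by
    intro z hz
    have hzf : ∀ i, S.form z (f i) = 0 := fun i => S.form_isRefl _ _ (hz (f i) (Submodule.subset_span ⟨i, rfl⟩))
    have hba : S.form b a = 1 := by rw [S.form_symm, hab]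
    set z' := z - S.form z b • a - S.form z a • b with hz'
    have hz'a : S.form z' a = 0 := by simp [hz', haa, hba]
    have hz'b : S.form z' b = 0 := by simp [hz', hbb, hab]
    set l := -(S.form z' z' / 2) with hl
    have hy : S.form (z' + a + l • b) (z' + a + l • b) = 0 := by
      have h2 := S.two_ne_zero'
      simp only [map_add, map_smul, LinearMap.add_apply, LinearMap.smul_apply, smul_eq_mul, haa, hbb, hab, hba,
        hz'a, hz'b, S.form_symm a z', S.form_symm b z', hl]
      field_simp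
      ring
    have e : z = (z' + a + l • b) + (S.form z b - 1) • a + (S.form z a - l) • b := by
      simp only [hz']; module
    rw [e]
    refine T.add_mem (T.add_mem (hc _ hy fun i => ?_) (T.smul_mem _ (hc a haa ha))) (T.smul_mem _ (hc b hbb hb))
    simp [hz', hzf, ha, hb]
  have := Submodule.finrank_mono hle
  omega

/-- Rational isotropic vectors orthogonal to an isotropic one span its orthogonal. -/
theorem orth_le_span_iso [Finite F] [FiniteDimensional F₀ V₀] (hd : 6 ≤ Module.finrank F₀ V₀) {v : V₀}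
    (hv0 : v ≠ 0) (hv : S.form v v = 0) {z : V₀} (hz : S.form z v = 0) :
    z ∈ Submodule.span F₀ {y : V₀ | S.form y y = 0 ∧ S.form y v = 0} := by
  obtain ⟨w, hvw⟩ : ∃ w, S.form v w ≠ 0 := by
    by_contra hc
    push Not at hc
    exact hv0 (S.form_nondegenerate.1 v hc)
  obtain ⟨a, b, ha, hb, haa, hbb, hab⟩ := S.exists_pair_of_rad ![v, w] (d := 1) (by
    refine (Submodule.finrank_mono (show _ ≤ Submodule.span F₀ {v} from ?_)).trans
      (finrank_span_singleton hv0).le
    rintro y ⟨hy1, hy2⟩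
    obtain ⟨c, hc⟩ := (Submodule.mem_span_range_iff_exists_fun F₀).mp hy1
    have e : S.form v y = 0 := hy2 v (Submodule.subset_span ⟨0, rfl⟩)
    simp only [Fin.sum_univ_two, Matrix.cons_val] at hc
    rw [← hc] at e ⊢
    rw [map_add, map_smul, map_smul, hv, smul_zero, zero_add, smul_eq_mul] at e
    rw [(mul_eq_zero.mp e).resolve_right hvw, zero_smul, add_zero]
    exact Submodule.smul_mem _ _ (Submodule.mem_span_singleton_self v)) (by omega)
  have ha1 : S.form a v = 0 := ha 0
  have hb1 : S.form b v = 0 := hb 0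
  set T := Submodule.span F₀ {y : V₀ | S.form y y = 0 ∧ S.form y v = 0}
  have hmem : ∀ y, S.form y y = 0 → S.form y v = 0 → y ∈ T := fun y h1 h2 => Submodule.subset_span ⟨h1, h2⟩
  have hba : S.form b a = 1 := by rw [S.form_symm, hab]
  set z' := z - S.form z b • a - S.form z a • b
  have hz'a : S.form z' a = 0 := by simp [z', haa, hba]
  have hz'b : S.form z' b = 0 := by simp [z', hbb, hab]
  have hz'v : S.form z' v = 0 := by simp [z', hz, ha1, hb1]
  set l := -(S.form z' z' / 2)
  have hy : S.form (z' + a + l • b) (z' + a + l • b) = 0 := by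
    have h2 := S.two_ne_zero'
    simp only [map_add, map_smul, LinearMap.add_apply, LinearMap.smul_apply, smul_eq_mul, haa, hbb, hab, hba,
      hz'a, hz'b, S.form_symm a z', S.form_symm b z', l]
    field_simp
    ring
  have h1 := hmem _ hy (by simp [hz'v, ha1, hb1])
  have e : z = (z' + a + l • b) + (S.form z b - 1) • a + (S.form z a - l) • b := by
    simp only [z']; module
  rw [e]
  exact T.add_mem (T.add_mem h1 (T.smul_mem _ (hmem a haa ha1))) (T.smul_mem _ (hmem b hbb hb1))

theorem mem_span_iso [Finite F] [FiniteDimensional F₀ V₀] (hd : 6 ≤ Module.finrank F₀ V₀) (z : V₀) :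
    z ∈ Submodule.span F₀ {y : V₀ | S.form y y = 0} := by
  obtain ⟨v, w, -, -, hvv, hww, hvw⟩ := S.exists_pair (k := 0) ![] (by omega)
  have hv0 : v ≠ 0 := fun h => by rw [h, LinearMap.map_zero₂] at hvw; exact zero_ne_one hvw
  rw [← sub_add_cancel z (S.form z v • w)]
  refine Submodule.add_mem _ (Submodule.span_mono (fun y hy => hy.1) (S.orth_le_span_iso hd hv0 hvv ?_))
    (Submodule.smul_mem _ _ (Submodule.subset_span hww))
  rw [map_sub, map_smul, LinearMap.sub_apply, LinearMap.smul_apply, S.form_symm w v, hvw, smul_eq_mul, mul_one, sub_self]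

/-- A rational Siegel element. -/
theorem sS_rational {v w : V₀} (hv : H.h (ι v) (ι v) = 0) (hwv : H.h (ι w) (ι v) = 0) {a : F} (ha0 : a ∈ F₀)
    (ha : a + H.σ a = -H.h (ι w) (ι w)) (u : V₀) : ∃ r, (H.sS hv hwv ha).1.1 (ι u) = (1 : F) • ι r :=
  ⟨u + S.form u v • w + (⟨a, ha0⟩ * S.form u v - S.form u w) • v, by
    rw [sS_apply, one_smul, map_add, map_add, S.smul, S.smul, AddSubgroupClass.coe_sub, Subfield.coe_mul,
      S.coe_form, S.coe_form]⟩

variable (hM : ∀ g : H.SIsom, (∃ a : F, a ≠ 0 ∧ ∀ u, ∃ r, g.1.1 (ι u) = a • ι r) → g ∈ K)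

include hM

theorem axes_rational {v y : V₀} (hv : S.form v v = 0) (hy : S.form y v = 0) : H.Axes F₀ K (ι v) (ι y) := by
  intro l
  rw [← S.smul]
  have h1 := S.h_eq_zero hv
  have h2 : H.h (ι (l • y)) (ι v) = 0 := S.h_eq_zero (by rw [map_smul, LinearMap.smul_apply, hy, smul_zero])
  have ha0 : -H.h (ι (l • y)) (ι (l • y)) / 2 ∈ F₀ := by
    rw [show -H.h (ι (l • y)) (ι (l • y)) / 2 = ((-(S.form (l • y) (l • y)) / 2 : F₀) : F) by
      push_cast [S.coe_form]; rfl]
    exact SetLike.coe_mem _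
  have ha : -H.h (ι (l • y)) (ι (l • y)) / 2 + H.σ (-H.h (ι (l • y)) (ι (l • y)) / 2) =
      -H.h (ι (l • y)) (ι (l • y)) := by
    rw [S.fixed ⟨_, ha0⟩]
    have := S.two
    field_simp
    ring
  exact ⟨h1, h2, _, ha, hM _ ⟨1, one_ne_zero, S.sS_rational h1 h2 ha0 ha⟩⟩

/-- A centre spreads to orthogonal rational isotropic vectors. -/
theorem centre_step [Finite F] [FiniteDimensional F₀ V₀] (hd : 6 ≤ Module.finrank F₀ V₀)
    {x : V} (hx : x ∈ H.uCentres K) {w : V₀} (hw : S.form w w = 0) (hxw : H.h x (ι w) = 0)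
    (hne : ∀ c : F, x ≠ c • ι w) : ι w ∈ H.uCentres K := by
  rcases eq_or_ne w 0 with rfl | hw0
  · rw [map_zero]; exact H.uCentres_zero K
  have hww := S.h_eq_zero hw
  obtain ⟨v, hvv, hvw, hvx⟩ : ∃ v, S.form v v = 0 ∧ S.form v w = 0 ∧ H.h (ι v) x ≠ 0 := by
    by_contra hc
    push Not at hc
    obtain ⟨u, hu⟩ : ∃ u, S.form u w ≠ 0 := by
      by_contra hc'
      push Not at hc'
      exact hw0 (S.form_nondegenerate.2 w hc')
    have hu' : H.h (ι u) (ι w) ≠ 0 := fun h => hu (Subtype.ext h)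
    have horth : ∀ z, S.form z w = 0 → H.h (ι z) x = 0 := by
      intro z hz
      have hz' := S.orth_le_span_iso hd hw0 hw hz
      clear hz
      induction hz' using Submodule.span_induction with
      | mem y hy => exact hc y hy.1 hy.2
      | zero => rw [map_zero, H.zero_left]
      | add a b _ _ ha hb => rw [map_add, H.add_left, ha, hb, add_zero]
      | smul a b _ hb => rw [S.smul, H.smul_left, hb, mul_zero]
    refine hne (H.σ (H.h (ι u) x / H.h (ι u) (ι w))) (sub_eq_zero.mp (S.eq_zero_of_orth fun z => ?_))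
    apply H.eq_zero_symm
    have hz0 := horth (z - (S.form z w / S.form u w) • u) (by
      rw [map_sub, map_smul, LinearMap.sub_apply, LinearMap.smul_apply, smul_eq_mul, div_mul_cancel₀ _ hu, sub_self])
    rw [map_sub, S.smul, H.sub_left, H.smul_left, sub_eq_zero, Subfield.coe_div, S.coe_form, S.coe_form] at hz0
    rw [H.sub_right, H.smul_right, H.conj.invol, hz0]
    field_simp
    ring
  obtain ⟨c, hc0, hc⟩ : ∃ c : F, c ≠ 0 ∧ c + H.σ c = 0 := ⟨τ, S.ne_zero, S.skew⟩
  have h0 := S.axes_rational hM hw hvw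
  have h1 := h0.map (g := H.sT hx.1 hc) (hx.2 c hc)
  rw [sT_apply, sT_apply, H.eq_zero_symm hxw, mul_zero, zero_smul, add_zero] at h1
  refine h1.centre S.fixed_mem h0 fun hmem => ?_
  rw [H.add_left, H.smul_left, S.h_eq_zero hvv, zero_add] at hmem
  have e := S.fixed ⟨_, hmem⟩
  simp only [map_mul, ← H.symm x (ι v), ← H.symm (ι v) x, eq_neg_of_add_eq_zero_right hc] at e
  have hxv : H.h x (ι v) ≠ 0 := fun h => hvx (H.eq_zero_symm h)
  have h2 : (2 : F) * (c * H.h (ι v) x * H.h x (ι v)) = 0 := by linear_combination -e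
  exact mul_ne_zero S.two (mul_ne_zero (mul_ne_zero hc0 hvx) hxv) h2

/-- One centre gives the whole group. -/
theorem top_of_centre [Finite F] [FiniteDimensional F V] [FiniteDimensional F₀ V₀]
    (hd : 4 ≤ Module.finrank F V) (hd₀ : 6 ≤ Module.finrank F₀ V₀)
    {x : V} (hx : x ∈ H.uCentres K) (hx0 : x ≠ 0) : K = ⊤ := by
  -- a rational centre
  obtain ⟨w₀, hne0, hw₀w₀, hc0⟩ : ∃ w₀, ι w₀ ≠ 0 ∧ S.form w₀ w₀ = 0 ∧ ι w₀ ∈ H.uCentres K := by
    obtain ⟨r, s, hrs⟩ := S.span x
    set U := Submodule.span F₀ (Set.range ![r, s]) with hU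
    obtain ⟨w₀, hw, hw0, hww⟩ := S.exists_iso_mem (LinearMap.BilinForm.orthogonal S.form U) (by
      rw [LinearMap.BilinForm.finrank_orthogonal S.form_nondegenerate]
      have : Module.finrank F₀ U ≤ 2 := (finrank_range_le_card _).trans_eq (Fintype.card_fin 2)
      omega)
    refine ⟨w₀, fun h => hw0 (S.inj _ h), hww, ?_⟩
    by_cases hex : ∃ c : F, x = c • ι w₀
    · obtain ⟨c, hc⟩ := hex
      have := uCentres_smul hx c⁻¹
      rwa [hc, smul_smul, inv_mul_cancel₀ (fun h => hx0 (by rw [hc, h, zero_smul])), one_smul] at this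
    push Not at hex
    refine S.centre_step hM hd₀ hx hww ?_ hex
    have h1 : S.form w₀ r = 0 := S.form_isRefl _ _ (hw r (Submodule.subset_span ⟨0, rfl⟩))
    have h2 : S.form w₀ s = 0 := S.form_isRefl _ _ (hw s (Submodule.subset_span ⟨1, rfl⟩))
    apply H.eq_zero_symm
    rw [hrs, H.add_right, H.smul_right, S.h_eq_zero h1, S.h_eq_zero h2, mul_zero, add_zero]
  have hrat : ∀ u, S.form u u = 0 → ι u ∈ H.uCentres K := by
    intro u hu
    rcases eq_or_ne u 0 with rfl | hu0
    · rw [map_zero]; exact H.uCentres_zero K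
    by_cases hwu : S.form w₀ u = 0
    · by_cases hex : ∃ c : F, ι w₀ = c • ι u
      · obtain ⟨c, hc⟩ := hex
        have := uCentres_smul hc0 c⁻¹
        rwa [hc, smul_smul, inv_mul_cancel₀ (fun h => hne0 (by rw [hc, h, zero_smul])), one_smul] at this
      push Not at hex
      exact S.centre_step hM hd₀ hc0 hu (S.h_eq_zero hwu) hex
    obtain ⟨z, z', hz, hz', hzz, hzz', hzz''⟩ := S.exists_pair_of_rad ![w₀, u] (d := 0) (by
      refine le_of_eq (Submodule.finrank_eq_zero.mpr (eq_bot_iff.mpr ?_))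
      rintro y ⟨hy1, hy2⟩
      obtain ⟨c, hc⟩ := (Submodule.mem_span_range_iff_exists_fun F₀).mp hy1
      have e1 : S.form w₀ y = 0 := hy2 w₀ (Submodule.subset_span ⟨0, rfl⟩)
      have e2 : S.form u y = 0 := hy2 u (Submodule.subset_span ⟨1, rfl⟩)
      simp only [Fin.sum_univ_two, Matrix.cons_val] at hc
      rw [← hc] at e1 e2 ⊢
      rw [map_add, map_smul, map_smul, hw₀w₀, smul_zero, zero_add, smul_eq_mul] at e1
      rw [map_add, map_smul, map_smul, hu, smul_zero, add_zero, smul_eq_mul, S.form_symm u w₀] at e2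
      rw [(mul_eq_zero.mp e1).resolve_right hwu, (mul_eq_zero.mp e2).resolve_right hwu, zero_smul, zero_smul,
        add_zero]
      exact Submodule.zero_mem _) (by omega)
    have hz0 : z ≠ 0 := fun h => by rw [h, LinearMap.map_zero₂] at hzz''; exact zero_ne_one hzz''
    have hzc : ι z ∈ H.uCentres K := by
      refine S.centre_step hM hd₀ hc0 hzz (H.eq_zero_symm (S.h_eq_zero (hz 0))) fun c hc => hne0 ?_
      have h1 : H.h (ι w₀) (ι z') = 0 := H.eq_zero_symm (S.h_eq_zero (hz' 0))
      rw [hc, H.smul_left, S.h_eq hzz'', OneMemClass.coe_one, mul_one] at h1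
      rw [hc, h1, zero_smul]
    refine S.centre_step hM hd₀ hzc hu (S.h_eq_zero (hz 1)) fun c hc => ?_
    have h1 : H.h (ι z) (ι z') = 1 := by rw [S.h_eq hzz'']; rfl
    have h2 : S.form z' u = 0 := hz' 1
    rw [hc, H.smul_left, H.eq_zero_symm (S.h_eq_zero h2), mul_zero] at h1
    exact zero_ne_one h1
  refine eq_top_of_uCentres (Or.inl hd) fun y hyy => ?_
  rcases eq_or_ne y 0 with rfl | hy0
  · exact H.uCentres_zero K
  obtain ⟨v, hv, hyv⟩ : ∃ v, S.form v v = 0 ∧ H.h y (ι v) ≠ 0 := by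
    by_contra hc
    push Not at hc
    refine hy0 (S.eq_zero_of_orth fun u => ?_)
    have hu := S.mem_span_iso hd₀ u
    induction hu using Submodule.span_induction with
    | mem z hz => exact hc z hz
    | zero => rw [map_zero, H.zero_right]
    | add a b _ _ ha hb => rw [map_add, H.add_right, ha, hb, add_zero]
    | smul a b _ hb => rw [S.smul, H.smul_right, hb, mul_zero]
  have hv0 : v ≠ 0 := fun e => hyv (by rw [e, map_zero, H.zero_right])
  have hvv := S.h_eq_zero hv
  have hax : ∀ p, S.form p v = 0 → H.Axes F₀ K (ι v) (τ • ι p) := by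
    intro p hp
    have hp' := S.orth_le_span_iso hd₀ hv0 hv hp
    clear hp
    induction hp' using Submodule.span_induction with
    | mem p hp =>
      intro l
      have hpp := S.h_eq_zero hp.1
      have hpv := S.h_eq_zero hp.2
      have hy : H.h ((l : F) • τ • ι p) (ι v) = 0 := by rw [H.smul_left, H.smul_left, hpv, mul_zero, mul_zero]
      have ha : (0 : F) + H.σ 0 = -H.h ((l : F) • τ • ι p) ((l : F) • τ • ι p) := by
        simp [H.smul_left, H.smul_right, hpp]
      refine ⟨hvv, hy, 0, ha, ?_⟩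
      have hcs : (l : F) * τ + H.σ ((l : F) * τ) = 0 := by rw [map_mul, S.fixed, ← mul_add, S.skew, mul_zero]
      have hsum : H.h ((1 : F) • ι v + ι p) ((1 : F) • ι v + ι p) = 0 := by
        simp [H.add_left, H.add_right, H.smul_left, H.smul_right, hvv, hpp, hpv, H.eq_zero_symm hpv]
      have h3 : (1 : F) • ι v + ι p ∈ H.uCentres K := by
        rw [one_smul, ← map_add]
        refine hrat _ (Subtype.ext ?_)
        rw [S.coe_form, map_add]
        simpa using hsum
      have h4 : H.sT hsum hcs ∈ K := h3.2 _ hcs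
      rw [H.sT_split hvv hpp hpv 1 hsum hcs, mul_one] at h4
      have h5 := (K.mul_mem_cancel_left (K.mul_mem ((hrat v hv).2 _ _) ((hrat p hp.1).2 _ hcs))).mp h4
      convert h5 using 1
      refine H.sisom_ext fun z => ?_
      rw [sS_apply, sR_apply, H.smul_right, H.smul_right, eq_neg_of_add_eq_zero_right hcs, S.fixed,
        eq_neg_of_add_eq_zero_right S.skew]
      module
    | zero =>
      have := (S.axes_rational hM hv (show S.form 0 v = 0 by rw [LinearMap.map_zero₂]))
      rwa [map_zero, smul_zero, ← map_zero ι]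
    | add a b _ _ ha hb => rw [map_add, smul_add]; exact ha.add hb
    | smul a b _ hb => rw [S.smul, smul_comm]; exact hb.smul a
  obtain ⟨u', hu', -⟩ : ∃ u', S.form u' v = 1 ∧ True := by
    obtain ⟨u, hu⟩ : ∃ u, S.form u v ≠ 0 := by
      by_contra hc'
      push Not at hc'
      exact hv0 (S.form_nondegenerate.2 v hc')
    exact ⟨(S.form u v)⁻¹ • u, by rw [map_smul, LinearMap.smul_apply, smul_eq_mul, inv_mul_cancel₀ hu], trivial⟩
  set u := u' - (S.form u' u' / 2) • v
  have huv : S.form u v = 1 := by rw [map_sub, map_smul, LinearMap.sub_apply, LinearMap.smul_apply, hu', hv,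
    smul_zero, sub_zero]
  have huu : S.form u u = 0 := by
    have h2 := S.two_ne_zero'
    simp only [u, map_sub, map_smul, LinearMap.sub_apply, LinearMap.smul_apply, hu', S.form_symm v u', hv,
      smul_eq_mul, mul_zero, sub_zero, mul_one]
    field_simp
    ring
  clear_value u
  have huv' : H.h (ι u) (ι v) = 1 := by rw [S.h_eq huv]; rfl
  have huu' := S.h_eq_zero huu
  set y' := (H.h y (ι v))⁻¹ • y with hy'
  have hy'v : H.h y' (ι v) = 1 := by rw [hy', H.smul_left, inv_mul_cancel₀ hyv]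
  have hy'y' : H.h y' y' = 0 := by rw [hy', H.smul_left, H.smul_right, hyy, mul_zero, mul_zero]
  set w := y' - ι u with hw
  have hwv : H.h w (ι v) = 0 := by rw [hw, H.sub_left, hy'v, huv', sub_self]
  obtain ⟨p, p', hpp'⟩ := S.span w
  have hp : S.form p v = 0 ∧ S.form p' v = 0 := by
    have h := hwv
    rw [hpp', H.add_left, H.smul_left, ← S.coe_form, ← S.coe_form] at h
    have h' := congrArg H.σ h
    rw [map_add, map_mul, S.fixed, S.fixed, map_zero, eq_neg_of_add_eq_zero_right S.skew] at h'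
    have h3 : (2 : F) * (S.form p v : F) = 0 := by linear_combination h + h'
    have h4 : (S.form p v : F) = 0 := (mul_eq_zero.mp h3).resolve_left S.two
    rw [h4, zero_add] at h
    exact ⟨Subtype.ext h4, Subtype.ext ((mul_eq_zero.mp h).resolve_left S.ne_zero)⟩
  have hwA : H.Axes F₀ K (ι v) w := by
    rw [hpp']; exact (S.axes_rational hM hv hp.1).add (hax p' hp.2)
  obtain ⟨_, hw', a, ha, hm⟩ := hwA 1
  have e1 : ((1 : F₀) : F) • w = w := by rw [OneMemClass.coe_one, one_smul]
  have hb : H.h (ι u) w + H.σ (H.h (ι u) w) = -H.h w w := by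
    rw [← H.symm, hw]
    simp only [H.sub_left, H.sub_right, hy'y', huu']
    ring
  have hd' : H.h (ι u) w - a + H.σ (H.h (ι u) w - a) = 0 := by
    rw [e1] at ha
    rw [map_sub]; linear_combination hb - ha
  have hmem : H.sS hvv hwv hb ∈ K := by
    have := K.mul_mem hm ((hrat v hv).2 _ hd')
    convert this using 1
    refine H.sisom_ext fun z => ?_
    simp only [smul_mul_apply, sS_apply, uT_apply, OneMemClass.coe_one, one_smul, H.add_left, H.smul_left, hvv,
      H.eq_zero_symm hwv]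
    module
  have hC := uCentres_map (hrat u huu) hmem
  rw [sS_apply, huv', mul_one, sub_self, zero_smul, add_zero, one_smul, hw, add_sub_cancel] at hC
  have := uCentres_smul hC (H.h y (ι v))
  rwa [hy', smul_smul, mul_inv_cancel₀ hyv, one_smul] at this

end OrthStructure

end HermSpace

end Cfsg.Lib.Classical
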