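import Cfsg.Agent.Classical.Unitary.RationalMaximal

set_option autoImplicit false
set_option linter.unusedVariables false
set_option linter.unusedSimpArgs false
set_option linter.style.haveILetI false

/-! The subfield subgroup of the special unitary group in dimension at least four. -/

namespace Cfsg.Lib.Classical

universe u

variable {F : Type u} [Field F] {ι : Type} [Fintype ι] [DecidableEq ι] {F₀ : Subfield F}

/-- A scalar multiple of a rational map moving rational vectors inside a plane is rational, for odd prime index. -/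
theorem scalar_mem_of_moves_in_plane [Finite F] {r : ℕ} (hr : r.Prime) (hr3 : 3 ≤ r)
    (hcard : Nat.card F = Nat.card F₀ ^ r) (hd : 4 ≤ Fintype.card ι) {g : (ι → F) →ₗ[F] (ι → F)}
    {P : Submodule F (ι → F)} (hP : Module.finrank F P ≤ 2) (hmove : ∀ x, g x - x ∈ P) {c : F} (hc : c ≠ 0)
    (hg : ∀ u : ι → F₀, ∃ r', g (ratVec F₀ u) = c • ratVec F₀ r') : c ∈ F₀ := by
  classical
  by_contra hc0
  haveI : Finite F₀ := Finite.of_injective _ Subtype.val_injective
  haveI : Module.Finite F₀ F := Module.Finite.of_finite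
  have hrF : Module.finrank F₀ F = r := Nat.pow_right_injective (Finite.one_lt_card : 2 ≤ Nat.card F₀)
    ((Module.natCard_eq_pow_finrank (K := F₀) (V := F)).symm.trans hcard)
  set μ : F := c⁻¹ with hμ
  have hμ0 : μ ∉ F₀ := fun h => hc0 (by simpa [hμ] using F₀.inv_mem h)
  have hint : IsIntegral F₀ μ := Algebra.IsIntegral.isIntegral _
  have hdeg : 3 ≤ (minpoly F₀ μ).natDegree := by
    rcases hr.eq_one_or_self_of_dvd _ (hrF ▸ minpoly.degree_dvd hint) with h1 | h1
    · obtain ⟨x, hx⟩ := minpoly.natDegree_eq_one_iff.mp h1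
      exact absurd (hx ▸ x.2) hμ0
    · omega
  -- quadratic relations are trivial
  have hquad : ∀ a b d : F₀, (a : F) * μ ^ 2 + (b : F) * μ + (d : F) = 0 → a = 0 := by
    intro a b d h
    set p : Polynomial F₀ := Polynomial.C a * Polynomial.X ^ 2 + Polynomial.C b * Polynomial.X + Polynomial.C d with hp
    have hev : Polynomial.aeval μ p = 0 := by
      simp only [hp, map_add, map_mul, map_pow, Polynomial.aeval_C, Polynomial.aeval_X]
      exact h
    by_contra ha
    have hp0 : p ≠ 0 := fun h0 => ha (by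
      have := congrArg (fun q => Polynomial.coeff q 2) h0
      simpa [hp, Polynomial.coeff_X, Polynomial.coeff_C] using this)
    have h2 : p.natDegree ≤ 2 := by rw [hp]; exact Polynomial.natDegree_quadratic_le
    have := Polynomial.natDegree_le_of_dvd (minpoly.dvd F₀ μ hev) hp0
    omega
  choose R hR using hg
  let A : ι → ι → F₀ := fun j l => R (Pi.single j 1) l
  have hoff : ∀ i j : ι, i ≠ j → A j i = 0 := by
    intro i j hij
    obtain ⟨p, hp⟩ : (({i, j} : Finset ι)ᶜ).Nonempty := by
      rw [← Finset.card_pos, Finset.card_compl, Finset.card_pair hij]; omega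
    obtain ⟨p', hp'⟩ : (({i, j, p} : Finset ι)ᶜ).Nonempty := by
      rw [← Finset.card_pos, Finset.card_compl]
      have := Finset.card_le_three (a := i) (b := j) (c := p)
      omega
    simp only [Finset.mem_compl, Finset.mem_insert, Finset.mem_singleton, not_or] at hp hp'
    obtain ⟨hpi, hpj⟩ := hp
    obtain ⟨hpi', hpj', hpp⟩ := hp'
    let f : Fin 3 → ι := ![p, p', j]
    let f' : Fin 3 → ι := ![p, p', i]
    let v : Fin 3 → P := fun a => ⟨_, hmove (ratVec F₀ (Pi.single (f a) (1 : F₀)))⟩
    obtain ⟨s, hs, j₀, hj₀⟩ : ∃ s : Fin 3 → F, ∑ a, s a • v a = 0 ∧ ∃ a, s a ≠ 0 := by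
      by_contra hcon
      push Not at hcon
      have := (Fintype.linearIndependent_iff.mpr hcon).fintype_card_le_finrank
      rw [Fintype.card_fin] at this
      omega
    let M : Matrix (Fin 3) (Fin 3) F := fun a b => (A (f a) (f' b) : F) - if f a = f' b then μ else 0
    have hdet : M.det = 0 := by
      refine Matrix.exists_vecMul_eq_zero_iff.mp ⟨s, fun h => hj₀ (congrFun h j₀), funext fun b => ?_⟩
      have hk := congrArg (fun z : P => (z : ι → F) (f' b)) hs
      simp only [Submodule.coe_sum, Submodule.coe_smul, Finset.sum_apply, Pi.smul_apply, smul_eq_mul,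
        ZeroMemClass.coe_zero, Pi.zero_apply, v, Pi.sub_apply, hR, ratVec] at hk
      simp only [Matrix.vecMul, dotProduct, Pi.zero_apply]
      refine Eq.trans ?_ (mul_eq_zero_of_right c⁻¹ hk)
      rw [Finset.mul_sum]
      refine Finset.sum_congr rfl fun a _ => ?_
      simp only [M, A]
      by_cases h : f a = f' b
      · rw [if_pos h, ← h, Pi.single_eq_same, OneMemClass.coe_one, hμ]; field_simp
      · rw [if_neg h, Pi.single_eq_of_ne (Ne.symm h), ZeroMemClass.coe_zero]; field_simp; ring
    rw [Matrix.det_fin_three] at hdet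
    refine hquad _ (A p i * A j p + A p' i * A j p' - A p p * A j i - A p' p' * A j i)
      (A p p * A p' p' * A j i - A p p * A p' i * A j p' - A p p' * A p' p * A j i + A p p' * A p' i * A j p
        + A p i * A p' p * A j p' - A p i * A p' p' * A j p) ?_
    simp [M, f, f', hpi, hpi', hpj, hpj', hpp, Ne.symm hpp, Ne.symm hpj, Ne.symm hpj', Ne.symm hij] at hdet
    push_cast
    linear_combination hdet
  -- so the map is diagonal
  have hdiag : ∀ j, ratVec F₀ (R (Pi.single j 1)) = ((A j j : F₀) : F) • ratVec F₀ (Pi.single j 1) := fun j =>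
    funext fun l => by
      by_cases h : l = j
      · subst h; simp [ratVec, A]
      · simp only [ratVec, Pi.smul_apply, smul_eq_mul, Pi.single_eq_of_ne h, ZeroMemClass.coe_zero, mul_zero]
        exact congrArg Subtype.val (hoff l j h)
  -- each diagonal entry fixes the scalar
  obtain ⟨S, hS⟩ : ∃ S : Finset ι, S.card = 3 := by
    obtain ⟨S, -, hS⟩ := Finset.exists_subset_card_eq (s := (Finset.univ : Finset ι)) (n := 3)
      (by rw [Finset.card_univ]; omega)
    exact ⟨S, hS⟩
  let v : S → P := fun a => ⟨_, hmove (ratVec F₀ (Pi.single (a : ι) (1 : F₀)))⟩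
  obtain ⟨s, hs, j₀, hj₀⟩ : ∃ s : S → F, ∑ a, s a • v a = 0 ∧ ∃ a, s a ≠ 0 := by
    by_contra hcon
    push Not at hcon
    have := (Fintype.linearIndependent_iff.mpr hcon).fintype_card_le_finrank
    rw [Fintype.card_coe, hS] at this
    omega
  have hk := congrArg (fun z : P => (z : ι → F) (j₀ : ι)) hs
  simp only [Submodule.coe_sum, Submodule.coe_smul, Finset.sum_apply, Pi.smul_apply, smul_eq_mul,
    ZeroMemClass.coe_zero, Pi.zero_apply, v, Pi.sub_apply, hR, hdiag] at hk
  rw [Finset.sum_eq_single j₀ (fun a _ ha => by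
    have : (j₀ : ι) ≠ a := fun h => ha (Subtype.ext h.symm)
    simp [ratVec, this]) (by simp)] at hk
  have h1 : c * (A j₀ j₀ : F) = 1 := by
    simp [ratVec, hj₀] at hk
    linear_combination hk
  exact hc0 (by rw [eq_inv_of_mul_eq_one_left h1]; exact F₀.inv_mem (SetLike.coe_mem _))

namespace HermSpace

variable {H : HermSpace F (ι → F)}

namespace UStd

variable (S : H.UStd F₀) {K : Subgroup H.SIsom}

include S

/-- An element commuting with a rational involution is scaled rational. -/
theorem scaled_of_comm [Finite F] (hd : 4 ≤ Fintype.card ι)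
    (hM : ∀ g : H.SIsom, RatScaled F₀ g.1.1.toLinearMap → g ∈ K) (hnon : S.NoNonrational K) {g z : H.SIsom}
    (hg : g ∈ K) (hze : RatExact F₀ z.1.1.toLinearMap) (hzz : z.1.1 * z.1.1 = 1) (hz1 : z.1.1 ≠ 1)
    (hz2 : 2 ≤ Module.finrank F (LinearMap.ker (z.1.1.toLinearMap - LinearMap.id)))
    (he : ∀ x, g.1.1 (z.1.1 x) = z.1.1 (g.1.1 x)) : RatScaled F₀ g.1.1.toLinearMap := by
  obtain ⟨a, ha0, haa, hza⟩ := S.exists_rat_fix hze hz2
  obtain ⟨u, v', hv0', hvv', hv'⟩ := S.exists_rat_moved hze hzz hz1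
  refine S.ratScaled_of_orth_image hd hM hnon hg hv0' ha0 hvv' haa ?_
  rw [hv', map_sub, he, H.sub_left]
  nth_rewrite 1 [← hza]
  change H.h (z.1.1 _) (z.1.1 _) - _ = 0
  rw [H.map_form, sub_self]

set_option maxHeartbeats 1600000 in
/-- Some rational isotropic vector is orthogonal to the centre of a transvection in the group. -/
theorem exists_rat_orth [Finite F] {r : ℕ} (hr : r.Prime) (hr3 : 3 ≤ r) (hcard : Nat.card F = Nat.card F₀ ^ r)
    (hd : 4 ≤ Fintype.card ι) (e2 : Fin 2 × Bool ↪ ι)
    (hM : ∀ g : H.SIsom, RatScaled F₀ g.1.1.toLinearMap → g ∈ K) (hnon : S.NoNonrational K) {δ : F}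
    (hδ0 : δ ≠ 0) (hδ : δ + H.σ δ = 0) {y : ι → F} (hyy : H.h y y = 0) (hy : H.sT hyy hδ ∈ K) :
    ∃ a : ι → F₀, a ≠ 0 ∧ S.rat.h a a = 0 ∧ H.h y (ratVec F₀ a) = 0 := by
  classical
  haveI : Finite F₀ := Finite.of_injective _ Subtype.val_injective
  haveI : Nonempty ι := ⟨e2 (0, true)⟩
  have hIso : pairInvol F e2 ∈ H.Isom := by
    intro x z
    rw [S.std, S.std]
    simp only [pairInvol_apply]
    exact Equiv.sum_comp (pairPerm e2) fun i => x i * H.σ (z i)
  obtain ⟨i, hi⟩ : ∃ i : H.SIsom, i.1.1 = pairInvol F e2 :=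
    ⟨⟨⟨_, hIso⟩, by rw [mem_SIsom, det_pairInvol, neg_one_sq]⟩, rfl⟩
  have hie : RatExact F₀ i.1.1.toLinearMap := hi ▸ pairInvol_exact F₀ e2
  have hii : i.1.1 * i.1.1 = 1 := hi ▸ pairInvol_sq e2
  have hfix := finrank_fix_pairInvol (F := F) e2
  rw [← hi] at hfix
  have hi1 : i.1.1 ≠ 1 := fun h => by
    rw [h, show LinearMap.ker ((1 : (ι → F) ≃ₗ[F] (ι → F)).toLinearMap - LinearMap.id) = ⊤ from
      eq_top_iff.mpr fun x _ => by simp, finrank_top, Module.finrank_fintype_fun_eq_card] at hfix
    omega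
  have hi2 : 2 ≤ Module.finrank F (LinearMap.ker (i.1.1.toLinearMap - LinearMap.id)) := by omega
  have hiK : i ∈ K := hM i hie.scaled
  have hinv : ∀ x, i.1.1 (i.1.1 x) = x := fun x => LinearEquiv.congr_fun hii x
  have hi' : i⁻¹ = i := inv_eq_of_mul_eq_one_right (Subtype.ext (Subtype.ext hii))
  set y' := i.1.1 y with hy'
  have hsym : ∀ a b, H.h (i.1.1 a) b = H.h a (i.1.1 b) := fun a b => by
    conv_lhs => rw [← hinv b]
    exact H.map_form i.1 _ _
  -- the eigenvectors of the involution
  by_cases hp : y' = y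
  · obtain ⟨u, v, hv0, hvv, hv⟩ := S.exists_rat_moved hie hii hi1
    exact ⟨v, hv0, hvv, by rw [hv, H.sub_right, ← hsym, ← hy', hp, sub_self]⟩
  by_cases hn : y' = -y
  · obtain ⟨a, ha0, haa, hia⟩ := S.exists_rat_fix hie hi2
    refine ⟨a, ha0, haa, ?_⟩
    have h := hsym y (ratVec F₀ a)
    rw [← hy', hn, H.neg_left, show i.1.1 (ratVec F₀ a) = ratVec F₀ a from hia] at h
    have h2 : (2 : F) ≠ 0 := fun h2 => hp (by rw [hn, neg_eq_iff_add_eq_zero, ← two_smul F, h2, zero_smul])
    exact (mul_eq_zero.mp (show (2 : F) * H.h y (ratVec F₀ a) = 0 by linear_combination -h)).resolve_left h2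
  have hy0 : y ≠ 0 := fun h => hp (by rw [hy', h, map_zero])
  have hind : ∀ {α β : F}, α • y + β • y' = 0 → α = 0 ∧ β = 0 := by
    intro α β h
    have h' : α • y' + β • y = 0 := by
      have e := congrArg i.1.1 h
      rw [map_add, map_smul, map_smul, map_zero, ← hy', show i.1.1 y' = y from hinv y] at e
      exact e
    have h1 : (α + β) • (y + y') = 0 := by
      rw [show (α + β) • (y + y') = α • y + β • y' + (α • y' + β • y) by module, h, h', add_zero]
    have h3 : (α - β) • (y - y') = 0 := by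
      rw [show (α - β) • (y - y') = α • y + β • y' - (α • y' + β • y) by module, h, h', sub_zero]
    rw [smul_eq_zero, add_eq_zero_iff_neg_eq (a := y)] at h1
    rw [smul_eq_zero, sub_eq_zero (a := y)] at h3
    have a1 := h1.resolve_right fun e => hn e.symm
    have a2 := h3.resolve_right fun e => hp e.symm
    by_cases h2 : (2 : F) = 0
    · have hab : α = β := sub_eq_zero.mp a2
      subst hab
      rw [← smul_add, smul_eq_zero, add_eq_zero_iff_neg_eq (a := y)] at h
      have hz := h.resolve_right fun e => hn e.symm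
      exact ⟨hz, hz⟩
    have a3 : (2 : F) * α = 0 := by linear_combination a1 + a2
    obtain rfl := (mul_eq_zero.mp a3).resolve_left h2
    exact ⟨rfl, by rwa [zero_add] at a1⟩
  have hyy' : H.h y' y' = 0 := by rw [hy', H.map_form, hyy]
  set t := H.sT hyy hδ with ht
  set t' := H.sT hyy' hδ with ht'
  have hit : i * t * i = t' := by
    have := H.sT_conj i hyy hδ
    rw [hi'] at this
    exact this
  have ht'K : t' ∈ K := hit ▸ K.mul_mem (K.mul_mem hiK hy) hiK
  set c := H.h y y' with hc
  have hcσ : H.σ c = c := by rw [hc, ← H.symm, hy', hsym]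
  have hc' : H.h y' y = c := by rw [H.symm, ← hc, hcσ]
  set P : Submodule F (ι → F) := Submodule.span F {y, y'} with hP
  have hP2 : Module.finrank F P ≤ 2 := by
    refine (finrank_span_le_card ({y, y'} : Set (ι → F))).trans ?_
    rw [Set.toFinset_insert, Set.toFinset_singleton]
    exact Finset.card_le_two
  let Q : Subgroup H.SIsom :=
    { carrier := {g | ∀ x, g.1.1 x - x ∈ P}
      one_mem' := fun x => by simp
      mul_mem' := fun {a b} ha hb x => by
        rw [smul_mul_apply, ← sub_add_sub_cancel _ (b.1.1 x) x]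
        exact P.add_mem (ha _) (hb x)
      inv_mem' := fun {a} ha x => by
        have := P.neg_mem (ha ((a⁻¹).1.1 x))
        rwa [show a.1.1 ((a⁻¹).1.1 x) = x from H.apply_inv_self a.1 x, neg_sub] at this }
  have htQ : t ∈ Q := fun x => by
    rw [ht, sT_apply, add_sub_cancel_left]; exact P.smul_mem _ (Submodule.subset_span (by simp))
  have ht'Q : t' ∈ Q := fun x => by
    rw [ht', sT_apply, add_sub_cancel_left]; exact P.smul_mem _ (Submodule.subset_span (by simp))
  -- an element of the plane group commuting with the involution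
  obtain ⟨g, hgK, hgQ, hg1, hgi, hg0⟩ : ∃ g : H.SIsom, g ∈ K ∧ g ∈ Q ∧ g ≠ 1 ∧ g * i = i * g ∧
      (c = 0 → ∀ x, g.1.1 x = x + (δ * H.h x y) • y + (δ * H.h x y') • y') := by
    by_cases hc0 : c = 0
    · have happ : ∀ x, (t * t').1.1 x = x + (δ * H.h x y) • y + (δ * H.h x y') • y' := fun x => by
        simp only [smul_mul_apply, ht, ht', sT_apply, H.add_left, H.smul_left, hc', hc0, mul_zero, add_zero]
        abel
      have hcom : t' * t = t * t' := H.sisom_ext fun x => by
        rw [happ]
        simp only [smul_mul_apply, ht, ht', sT_apply, H.add_left, H.smul_left, ← hc, hc0, mul_zero, add_zero]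
      refine ⟨t * t', K.mul_mem hy ht'K, Q.mul_mem htQ ht'Q, fun h => ?_, ?_, fun _ => happ⟩
      · refine hy0 (S.ext_left fun u => ?_)
        have h1 := happ (ratVec F₀ u)
        rw [h, OneMemClass.coe_one, OneMemClass.coe_one, LinearEquiv.coe_one, id_eq, add_assoc] at h1
        have h3 := (hind (add_eq_left.mp h1.symm)).1
        exact H.eq_zero_symm ((mul_eq_zero.mp h3).resolve_left hδ0)
      · have hii' : i * i = 1 := Subtype.ext (Subtype.ext hii)
        rw [← hit]
        calc t * (i * t * i) * i = t * i * t * (i * i) := by group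
          _ = t * i * t := by rw [hii', mul_one]
          _ = i * i * (t * i * t) := by rw [hii', one_mul]
          _ = i * (i * t * i * t) := by group
          _ = i * (t * (i * t * i)) := by rw [hit, hcom]
    · have hii' : i * i = 1 := Subtype.ext (Subtype.ext hii)
      obtain ⟨d, hd'⟩ : ∃ d, d = t' * t⁻¹ := ⟨_, rfl⟩
      have hdK : d ∈ K := hd' ▸ K.mul_mem ht'K (K.inv_mem hy)
      have hdQ : d ∈ Q := hd' ▸ Q.mul_mem ht'Q (Q.inv_mem htQ)
      have hidi : ∀ k : ℕ, i * d ^ k * i = (d ^ k)⁻¹ := by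
        intro k
        have e1 : i * d * i⁻¹ = d⁻¹ := by
          rw [hd', ← hit, _root_.mul_inv_rev, inv_inv, _root_.mul_inv_rev, _root_.mul_inv_rev, hi']
          calc i * (i * t * i * t⁻¹) * i = i * i * (t * (i * (t⁻¹ * i))) := by group
            _ = t * (i * (t⁻¹ * i)) := by rw [hii', one_mul]
        rw [← inv_pow, ← e1, conj_pow, hi']
      haveI : Finite H.SIsom := by
        haveI : Finite ((ι → F) ≃ₗ[F] (ι → F)) := Finite.of_injective _ DFunLike.coe_injective
        exact Finite.of_injective (fun g => g.1.1) fun a b h => Subtype.ext (Subtype.ext h)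
      have hpos : 0 < orderOf d := (isOfFinOrder_of_finite d).orderOf_pos
      rcases Nat.even_or_odd (orderOf d) with ⟨m, hm⟩ | ⟨k, hk⟩
      · refine ⟨d ^ m, K.pow_mem hdK m, Q.pow_mem hdQ m, fun h => ?_, ?_, fun h => absurd h hc0⟩
        · have := Nat.le_of_dvd (by omega) (orderOf_dvd_of_pow_eq_one h)
          omega
        · have hinv' : (d ^ m)⁻¹ = d ^ m :=
            inv_eq_of_mul_eq_one_right (by rw [← pow_add, ← hm, pow_orderOf_eq_one])
          have h := hidi m
          rw [hinv'] at h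
          calc d ^ m * i = i * d ^ m * i * i := by rw [h]
            _ = i * d ^ m := by rw [mul_assoc, hii', mul_one]
      · refine ⟨d ^ (k + 1) * t, K.mul_mem (K.pow_mem hdK _) hy, Q.mul_mem (Q.pow_mem hdQ _) htQ, fun h => ?_,
          ?_, fun h => absurd h hc0⟩
        · have hte : t = (d ^ (k + 1))⁻¹ := eq_inv_of_mul_eq_one_right h
          have hcomm : Commute t d := hte ▸ ((Commute.refl d).pow_left (k + 1)).inv_left
          have h' : t * t' = t' * t := by
            calc t * t' = t * d * t := by rw [hd']; group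
              _ = d * t * t := by rw [hcomm.eq]
              _ = t' * t := by rw [hd']; group
          have hx := congrArg (fun g : H.SIsom => g.1.1 y) h'
          simp only [smul_mul_apply, ht, ht', sT_apply, hyy, mul_zero, zero_smul, add_zero, H.add_left, H.smul_left,
            ← hc, hc', zero_add, add_eq_left, smul_eq_zero, hy0, or_false, mul_eq_zero, hδ0, false_or, hc0,
            or_self] at hx
        · have h := hidi (k + 1)
          have hk' : (d ^ (k + 1))⁻¹ * d = d ^ (k + 1) := by
            rw [inv_mul_eq_iff_eq_mul, ← pow_add, show k + 1 + (k + 1) = orderOf d + 1 by omega, pow_add,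
              pow_orderOf_eq_one, one_mul, pow_one]
          have e2 : i * t * i = d * t := by rw [hit, hd', inv_mul_cancel_right]
          have e3 : i * (d ^ (k + 1) * t) * i = d ^ (k + 1) * t := by
            calc i * (d ^ (k + 1) * t) * i = i * d ^ (k + 1) * (i * i) * t * i := by rw [hii', mul_one]; group
              _ = i * d ^ (k + 1) * i * (i * t * i) := by group
              _ = (d ^ (k + 1))⁻¹ * d * t := by rw [h, e2, mul_assoc]
              _ = d ^ (k + 1) * t := by rw [hk']
          nth_rewrite 1 [← e3]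
          rw [mul_assoc _ i i, hii', mul_one]
  -- it is rational
  have hgx : ∀ x, g.1.1 (i.1.1 x) = i.1.1 (g.1.1 x) := fun x =>
    congrArg (fun k : H.SIsom => k.1.1 x) hgi
  obtain ⟨s, hs0, hs⟩ := S.scaled_of_comm (by omega) hM hnon hgK hie hii hi1 hi2 hgx
  have hsF : s ∈ F₀ := scalar_mem_of_moves_in_plane hr hr3 hcard hd hP2 hgQ hs0 hs
  have hge : RatExact F₀ g.1.1.toLinearMap := fun u => by
    obtain ⟨r', hr'⟩ := hs u
    exact ⟨(⟨s, hsF⟩ : F₀) • r', by rw [hr', ratVec_smul]⟩
  have hfix2 : 2 ≤ Module.finrank F (LinearMap.ker (g.1.1.toLinearMap - LinearMap.id)) := by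
    have h := (g.1.1.toLinearMap - LinearMap.id).finrank_range_add_finrank_ker
    have hle : LinearMap.range (g.1.1.toLinearMap - LinearMap.id) ≤ P := by
      rintro _ ⟨x, rfl⟩; exact hgQ x
    have := Submodule.finrank_mono hle
    rw [Module.finrank_fintype_fun_eq_card] at h
    omega
  obtain ⟨a, ha0, haa, hga⟩ := S.exists_rat_fix hge hfix2
  by_cases hne : H.h y (ratVec F₀ a) = 0
  · exact ⟨a, ha0, haa, hne⟩
  have hga' : g.1.1 (ratVec F₀ a) = ratVec F₀ a := hga
  set A := H.h y (ratVec F₀ a) with hA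
  set B := H.h y' (ratVec F₀ a) with hB
  by_cases hc0 : c = 0
  · exfalso
    have h := hg0 hc0 (ratVec F₀ a)
    rw [hga', add_assoc] at h
    have h' := (hind (add_eq_left.mp h.symm)).1
    exact hne (H.eq_zero_symm ((mul_eq_zero.mp h').resolve_left hδ0))
  -- the moved line
  set w := B • y + (-A) • y' with hw
  have hline : ∀ x, ∃ k : F, g.1.1 x - x = k • w := by
    intro x
    obtain ⟨α, β, hαβ⟩ := Submodule.mem_span_pair.mp (hgQ x)
    have h0 : α * A + β * B = 0 := by
      rw [hA, hB, ← H.smul_left, ← H.smul_left, ← H.add_left, hαβ, H.sub_left]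
      nth_rewrite 1 [← hga']
      rw [H.map_form, sub_self]
    refine ⟨-β / A, ?_⟩
    rw [← hαβ, hw]
    match_scalars
    · field_simp; linear_combination h0
    · field_simp
  obtain ⟨x₀, hx₀⟩ : ∃ x, g.1.1 x ≠ x := by
    by_contra hall
    push Not at hall
    exact hg1 (H.sisom_ext fun x => by rw [hall]; rfl)
  obtain ⟨k₀, hk₀⟩ := hline x₀
  have hk00 : k₀ ≠ 0 := fun h => hx₀ (by rwa [h, zero_smul, sub_eq_zero] at hk₀)
  have hiy' : i.1.1 y' = y := hinv y
  obtain ⟨k₁, hk₁⟩ := hline (i.1.1 x₀)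
  have hiw : i.1.1 w = (k₁ / k₀) • w := by
    rw [hgx, ← map_sub, hk₀, map_smul] at hk₁
    rw [div_eq_mul_inv, mul_comm, mul_smul, ← hk₁, smul_smul, inv_mul_cancel₀ hk00, one_smul]
  set s' := k₁ / k₀
  rw [hw, map_add, map_smul, map_smul, ← hy', hiy', smul_add, smul_smul, smul_smul] at hiw
  have hcoef := hind (α := -A - s' * B) (β := B + s' * A) (by
    rw [← sub_eq_zero] at hiw; rw [← hiw]; module)
  have hBA : B = -(s' * A) := eq_neg_of_add_eq_zero_left hcoef.2
  have hs' : s' * s' = 1 := by
    have h := hcoef.1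
    rw [hBA] at h
    have : A * (s' * s' - 1) = 0 := by linear_combination h
    exact sub_eq_zero.mp ((mul_eq_zero.mp this).resolve_left hne)
  by_cases h2 : (2 : F) = 0
  · -- the moved line is rational
    have hs1 : s' = 1 := by
      rcases mul_self_eq_one_iff.mp hs' with h | h
      · exact h
      · rw [h, neg_eq_iff_add_eq_zero, one_add_one_eq_two, h2]
    obtain ⟨u₀, hu₀⟩ : ∃ u₀ : ι → F₀, g.1.1 (ratVec F₀ u₀) ≠ ratVec F₀ u₀ := by
      by_contra hall
      push Not at hall
      exact hg1 (H.sisom_ext fun x => (LinearMap.congr_fun (ext_on_ratVec (F₀ := F₀) (f := g.1.1.toLinearMap)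
        (g := LinearMap.id) hall) x))
    obtain ⟨k, hk⟩ := hline (ratVec F₀ u₀)
    obtain ⟨r', hr'⟩ := hge u₀
    rw [LinearEquiv.coe_coe] at hr'
    have hk0 : k ≠ 0 := fun h => hu₀ (by rwa [h, zero_smul, sub_eq_zero] at hk)
    set W : ι → F₀ := r' - u₀ with hWdef
    have hW : ratVec F₀ W = k • w := by rw [hWdef, ratVec_sub, ← hr', hk]
    have hW0 : W ≠ 0 := fun h => hu₀ (by
      rw [← sub_eq_zero, hr', ← ratVec_sub, ← hWdef, h, ratVec_zero])
    have hwy : w = (-A) • (y + y') := by
      rw [hw, show B = -A by rw [hBA, hs1, one_mul], smul_add]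
    -- a rational vector orthogonal to the line
    obtain ⟨p₀, hp₀⟩ := Function.ne_iff.mp hW0
    obtain ⟨p₁, hp₁e, hp₁⟩ := Finset.exists_mem_notMem_of_card_lt_card (s := {p₀, pairPerm e2 p₀})
      (t := Finset.univ.map e2) (lt_of_le_of_lt Finset.card_le_two (by
        rw [Finset.card_map, Finset.card_univ]; simp))
    simp only [Finset.mem_insert, Finset.mem_singleton, not_or] at hp₁
    obtain ⟨⟨s₀, b₀⟩, -, hp₁b⟩ := Finset.mem_map.mp hp₁e
    set v : ι → F₀ := S.rat.σ (W p₁) • Pi.single p₀ 1 + (-(S.rat.σ (W p₀))) • Pi.single p₁ 1 with hv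
    set b : ι → F₀ := v + fun l => v (pairPerm e2 l) with hb
    have hbv : ratVec F₀ b = ratVec F₀ v + i.1.1 (ratVec F₀ v) := by
      rw [hb, ratVec_add]
      congr 1
      funext l
      rw [hi, pairInvol_apply]
      rfl
    refine ⟨b, fun h => ?_, S.rat_h_eq_zero ?_, ?_⟩
    · have h1 := congrFun h p₁
      have hne' : pairPerm e2 p₁ ≠ p₀ := fun e => hp₁.2 (by rw [← e, pairPerm_pairPerm])
      have hfix' : pairPerm e2 p₁ ≠ p₁ := by
        rw [← hp₁b, pairPerm_apply]
        intro e
        have := congrArg Prod.snd (e2.injective e)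
        simp at this
      simp [hb, hv, hp₁.1, hne', hfix'] at h1
      exact hp₀ (by simpa using h1)
    · rw [hbv, H.add_left, H.add_right, H.add_right, hsym, H.map_form]
      linear_combination (H.h (ratVec F₀ v) (ratVec F₀ v) + H.h (ratVec F₀ v) (i.1.1 (ratVec F₀ v))) * h2
    · have hWv : H.h (ratVec F₀ W) (ratVec F₀ v) = 0 := by
        rw [hv, ratVec_add, ratVec_smul, ratVec_smul, H.add_right, H.smul_right, H.smul_right, S.h_single,
          S.h_single]
        push_cast
        simp only [ratVec, S.coe_σ, map_neg, H.conj.invol]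
        ring
      rw [hW, hwy, H.smul_left, H.smul_left, mul_eq_zero, mul_eq_zero] at hWv
      have h := (hWv.resolve_left hk0).resolve_left (neg_ne_zero.mpr hne)
      rw [hbv, H.add_right, ← hsym, ← hy']
      rwa [H.add_left] at h
  exfalso
  have hww : H.h w w ≠ 0 := by
    have e : H.h w w = (A * H.σ A) * ((s' + H.σ s') * c) := by
      simp only [hw, hBA, H.add_left, H.add_right, H.smul_left, H.smul_right, hyy, hyy', ← hc, hc', map_neg,
        map_mul]
      ring
    have hs1 : s' = 1 ∨ s' = -1 := mul_self_eq_one_iff.mp hs'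
    rw [e]
    refine mul_ne_zero (mul_ne_zero hne ((map_ne_zero _).mpr hne)) (mul_ne_zero ?_ hc0)
    rcases hs1 with h | h <;> rw [h]
    · rw [map_one, one_add_one_eq_two]; exact h2
    · rw [map_neg, map_one, ← neg_add, one_add_one_eq_two]; exact neg_ne_zero.mpr h2
  have hw0 : w ≠ 0 := fun h => hww (by rw [h, H.zero_left])
  obtain ⟨j, hj⟩ := Function.ne_iff.mp hw0
  let φ : Module.Dual F (ι → F) :=
    (w j)⁻¹ • ((LinearMap.proj j : (ι → F) →ₗ[F] F) ∘ₗ (g.1.1.toLinearMap - LinearMap.id))
  have hgφ : g.1.1.toLinearMap = LinearMap.transvection φ w := LinearMap.ext fun x => by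
    obtain ⟨k, hk⟩ := hline x
    have hφx : φ x = k := by
      show (w j)⁻¹ * (g.1.1 x - x) j = k
      rw [hk, Pi.smul_apply, smul_eq_mul, mul_comm k, inv_mul_cancel_left₀ hj]
    rw [LinearMap.transvection.apply, hφx, ← hk, add_sub_cancel, LinearEquiv.coe_coe]
  have hgw : g.1.1 w = w := by
    have hdet : LinearMap.det (LinearMap.transvection φ w) = 1 := by
      rw [← hgφ, ← LinearEquiv.coe_det, show LinearEquiv.det g.1.1 = 1 from g.2, Units.val_one]
    rw [LinearMap.transvection.det, add_eq_left] at hdet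
    rw [← LinearEquiv.coe_coe, hgφ, LinearMap.transvection.apply, hdet, zero_smul, add_zero]
  have h0 : H.h (g.1.1 x₀ - x₀) w = 0 := by
    rw [H.sub_left]
    nth_rewrite 1 [← hgw]
    rw [H.map_form, sub_self]
  rw [hk₀, H.smul_left, mul_eq_zero] at h0
  exact hww (h0.resolve_left hk00)

/-- The subfield subgroup is maximal from dimension four on. -/
theorem isCoatom_subfield_small [Finite F] {r : ℕ} (hr : r.Prime) (hr2 : r ≠ 2)
    (hcard : Nat.card F = Nat.card F₀ ^ r) (hd : 4 ≤ Fintype.card ι)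
    (e2 : Fin 2 × Bool ↪ ι) (hne : ∃ c : F, c + H.σ c = 0 ∧ c ∉ F₀)
    {M : Subgroup H.SIsom} (hM : ∀ g : H.SIsom, g ∈ M ↔ RatScaled F₀ g.1.1.toLinearMap) : IsCoatom M := by
  classical
  haveI : Nonempty ι := ⟨e2 (0, true)⟩
  haveI : Finite F₀ := Finite.of_injective _ Subtype.val_injective
  refine S.isCoatom_subfield_of hr hr2 hcard hd (fun K hH hnon g hg => ?_) hne hM
  obtain ⟨v, hv0, hvv⟩ := S.rat.exists_isotropic_of_two_le (by rw [Module.finrank_fintype_fun_eq_card]; omega)
  set y := g.1.1 (ratVec F₀ v) with hy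
  obtain ⟨δ, hδ0, hδ⟩ := S.exists_rat_skew
  have hv2 := S.h_ratVec_zero hvv
  have hs := K.mul_mem (K.mul_mem hg (S.sT_mem hH hv2 hδ δ.2)) (K.inv_mem hg)
  rw [sT_conj] at hs
  obtain ⟨a, ha0, haa, ha⟩ := S.exists_rat_orth hr (by have := hr.two_le; omega) hcard hd e2 hH hnon
    (fun h => hδ0 (Subtype.ext h)) hδ _ hs
  exact S.ratScaled_of_orth_image hd hH hnon hg hv0 ha0 hvv haa ha

end UStd

end HermSpace

end Cfsg.Lib.Classical
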