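import Mathlib
import Cfsg.Agent.Classical.Unitary.FrameColumn

set_option autoImplicit false
set_option linter.unusedVariables false
set_option linter.unusedSimpArgs false
set_option linter.unusedSectionVars false
set_option linter.style.haveILetI false

/-!
In four dimensions and for `q ≥ 4` some element outside the monomial group maps a frame line to a frame line.
Otherwise the elements fixing pointwise the orthogonal space of two centres of homologies form a group on which
a homology of prime power order acts without fixed points, and so normalises a nontrivial central subgroup; for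
`q = 7`, where these homologies are involutions, all entries are forced to have norm two.
-/

namespace Cfsg.Lib.Classical

universe u v w

namespace HermSpace

variable {F : Type u} [Field F] {V : Type v} [AddCommGroup V] [Module F V] (H : HermSpace F V)

/-- A scalar isometry. -/
noncomputable def scal {t : F} (ht : t * H.σ t = 1) : H.Isom :=
  ⟨LinearEquiv.smulOfNeZero F V t (H.circle_ne_zero ht), fun x y => by
    change H.h (t • x) (t • y) = _
    rw [H.smul_left, H.smul_right, ← mul_assoc, ht, one_mul]⟩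

theorem scal_apply {t : F} (ht : t * H.σ t = 1) (x : V) : (H.scal ht).1 x = t • x := rfl

variable [FiniteDimensional F V]

/-- A homology of determinant one in dimension four. -/
noncomputable def hom (hd : Module.finrank F V = 4) {v : V} (hv : H.h v v = 1) {t : F} (ht : t * H.σ t = 1) :
    H.SIsom :=
  ⟨H.qr hv (H.circle_pow (H.circle_conj ht) 4) * H.scal ht, by
    rw [SIsom, MonoidHom.mem_ker, map_mul]
    apply Units.ext
    rw [Units.val_mul, det_qr, Units.val_one]
    change H.σ t ^ 4 * ((LinearEquiv.det (LinearEquiv.smulOfNeZero F V t _) : Fˣ) : F) = 1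
    rw [LinearEquiv.coe_det,
      show (LinearEquiv.smulOfNeZero F V t (H.circle_ne_zero ht) : V →ₗ[F] V) = t • LinearMap.id from rfl,
      LinearMap.det_smul, LinearMap.det_id, hd, mul_one, ← mul_pow, mul_comm, ht, one_pow]⟩

theorem hom_apply (hd : Module.finrank F V = 4) {v : V} (hv : H.h v v = 1) {t : F} (ht : t * H.σ t = 1) (z : V) :
    (H.hom hd hv ht).1.1 z = t • z + (t * (H.σ t ^ 4 - 1) * H.h z v) • v := by
  change (H.qr hv _ * H.scal ht).1 z = _
  rw [mul_apply', qr_apply, scal_apply, H.smul_left]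
  module

theorem hom_conj (hd : Module.finrank F V = 4) (g : H.SIsom) {v : V} (hv : H.h v v = 1) {t : F}
    (ht : t * H.σ t = 1) (hv' : H.h (g.1.1 v) (g.1.1 v) = 1) :
    g * H.hom hd hv ht * g⁻¹ = H.hom hd hv' ht := by
  refine Subtype.ext (H.isom_ext fun z => ?_)
  change (g * H.hom hd hv ht * g⁻¹).1.1 z = _
  rw [sisom_mul_apply, sisom_mul_apply, hom_apply, hom_apply, map_add, map_smul, map_smul, sisom_apply_inv]
  congr 3
  rw [← H.map_form g.1, sisom_apply_inv]

variable [Finite F]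

theorem circle_pow_card {a : F} (ha : a * H.σ a = 1) : a ^ (H.q + 1) = 1 := by
  let z : (normUnits H.σ).ker := ⟨Units.mk0 a (H.circle_ne_zero ha), MonoidHom.mem_ker.mpr (Units.ext ha)⟩
  have h := pow_card_eq_one' (x := z)
  rw [H.conj.card_norm_ker] at h
  exact congrArg (fun y : (normUnits H.σ).ker => ((y.1 : Fˣ) : F)) h

/-- The fixed field does not have six elements. -/
theorem q_ne_six : H.q ≠ 6 := by
  intro h
  haveI : Finite (fixedField H.σ) := Finite.of_injective _ Subtype.val_injective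
  haveI := Fintype.ofFinite (fixedField H.σ)
  have h1 := FiniteField.isPrimePow_card (fixedField H.σ)
  rw [← Nat.card_eq_fintype_card] at h1
  change IsPrimePow H.q at h1
  rw [h, isPrimePow_nat_iff] at h1
  obtain ⟨p, m, hp, hm, he⟩ := h1
  have : p ∣ 6 := he ▸ dvd_pow_self p (by omega)
  have hle := Nat.le_of_dvd (by norm_num) this
  have hm3 : m < 3 := by
    by_contra hm3
    have : 2 ^ 3 ≤ p ^ m := (Nat.pow_le_pow_left hp.two_le 3).trans (Nat.pow_le_pow_right hp.pos (by omega))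
    omega
  interval_cases p <;> interval_cases m <;> simp_all <;> norm_num at hp

end HermSpace

open scoped Pointwise

namespace UFrame

variable {F : Type u} [Field F] [Fintype F] [DecidableEq F] {V : Type v} [AddCommGroup V] [Module F V]
  [FiniteDimensional F V] {H : HermSpace F V}
  {ι : Type w} [DecidableEq ι] [Fintype ι] (B : UFrame H ι)
variable {K : Subgroup H.SIsom}

theorem finrank_four (B : UFrame H ι) (hn : Fintype.card ι = 4) : Module.finrank F V = 4 := by
  rw [Module.finrank_eq_card_basis B.b, hn]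

theorem co_hom (hn : Fintype.card ι = 4) {v : V} (hv : H.h v v = 1) {t : F} (ht : t * H.σ t = 1) (z : V) (l : ι) :
    B.co ((H.hom (B.finrank_four hn) hv ht).1.1 z) l =
      t * B.co z l + t * (H.σ t ^ 4 - 1) * H.h z v * B.co v l := by
  rw [H.hom_apply, co_add, co_smul, co_smul]

theorem exists_four_names (hn : Fintype.card ι = 4) (a : ι) :
    ∃ b c d : ι, a ≠ b ∧ a ≠ c ∧ a ≠ d ∧ b ≠ c ∧ b ≠ d ∧ c ≠ d ∧ ∀ i, i = a ∨ i = b ∨ i = c ∨ i = d := by
  have h : (Finset.univ.erase a).card = 3 := by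
    rw [Finset.card_erase_of_mem (Finset.mem_univ a), Finset.card_univ, hn]
  obtain ⟨b, c, d, hbc, hbd, hcd, he⟩ := Finset.card_eq_three.mp h
  have hne : ∀ i, i ∈ ({b, c, d} : Finset ι) → a ≠ i := fun i hi => (Finset.ne_of_mem_erase (he ▸ hi)).symm
  refine ⟨b, c, d, hne b (by simp), hne c (by simp), hne d (by simp), hbc, hbd, hcd, fun i => ?_⟩
  by_cases hi : i = a
  · exact Or.inl hi
  · have : i ∈ ({b, c, d} : Finset ι) := he ▸ Finset.mem_erase.mpr ⟨hi, Finset.mem_univ i⟩
    simp only [Finset.mem_insert, Finset.mem_singleton] at this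
    exact Or.inr this

variable (hM : ∀ g : H.SIsom, B.Mono1 g.1 → g ∈ K)

include hM in
theorem hom_image_mem (hn : Fintype.card ι = 4) {g : H.SIsom} (hg : g ∈ K) (i : ι) {t : F} (ht : t * H.σ t = 1)
    (hx : H.h (g.1.1 (B.b i)) (g.1.1 (B.b i)) = 1) : H.hom (B.finrank_four hn) hx ht ∈ K := by
  rw [← H.hom_conj (B.finrank_four hn) g (B.b_self i) ht hx]
  refine K.mul_mem (K.mul_mem hg (hM _ fun p => ?_)) (K.inv_mem hg)
  refine le_trans (Finset.card_le_card (t := {p}) fun l hl => ?_) (le_of_eq (Finset.card_singleton p))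
  rw [mem_supp, B.co_hom hn] at hl
  rw [Finset.mem_singleton]
  by_contra hlp
  apply hl
  rw [co_b, if_neg (Ne.symm hlp)]
  rcases eq_or_ne p i with rfl | hpi
  · rw [co_b, if_neg (Ne.symm hlp)]; ring
  · rw [B.b_ne hpi]; ring

include hM in
/-- A column with a zero has two entries, of norm one half. -/
theorem col_zero_facts (hn : Fintype.card ι = 4) (hNF : B.NoLine K) {g : H.SIsom} (hg : g ∈ K)
    (hgM : ¬ B.Mono1 g.1) {i e : ι} (he : B.co (g.1.1 (B.b i)) e = 0) {t : F} (ht : t * H.σ t = 1)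
    (hs : H.σ t ^ 4 ≠ 1) :
    (B.supp (g.1.1 (B.b i))).card = 2 ∧
      ∀ p ∈ B.supp (g.1.1 (B.b i)), 1 + (H.σ t ^ 4 - 1) * B.nm (g.1.1 (B.b i)) p = 0 := by
  set x := g.1.1 (B.b i) with hx
  have hxx : H.h x x = 1 := by rw [hx, H.map_form, b_self]
  have hK := B.hom_image_mem hM hn hg i ht hxx
  set k := H.hom (B.finrank_four hn) hxx ht with hk
  have hex : ∀ p, H.h (B.b p) x = H.σ (B.co x p) := fun p => H.symm _ _
  have hmono : B.Mono1 k.1 := hNF k hK e e fun l hl => by
    rw [mem_supp, hk, B.co_hom hn, hex, he, map_zero, co_b] at hl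
    rw [Finset.mem_singleton]
    by_contra hle
    exact hl (by rw [if_neg (Ne.symm hle)]; ring)
  have ht0 := H.circle_ne_zero ht
  have hc : t * (H.σ t ^ 4 - 1) ≠ 0 := mul_ne_zero ht0 (sub_ne_zero.mpr hs)
  have hcol : ∀ p l, p ∈ B.supp x → l ∈ B.supp x → l ≠ p → l ∈ B.supp (k.1.1 (B.b p)) := fun p l hp hl hlp => by
    rw [mem_supp, hk, B.co_hom hn, hex, co_b, if_neg (Ne.symm hlp), mul_zero, zero_add]
    exact mul_ne_zero (mul_ne_zero hc ((map_ne_zero _).mpr (B.mem_supp.mp hp))) (B.mem_supp.mp hl)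
  have h2 : 2 ≤ (B.supp x).card := by
    by_contra hlt
    have hne : (B.supp x).Nonempty := by
      rw [Finset.nonempty_iff_ne_empty, ne_eq, supp_eq_empty]
      intro h
      rw [h, H.zero_left] at hxx
      exact zero_ne_one hxx
    obtain ⟨j, hj⟩ := hne
    exact hgM (hNF g hg i j fun l hl => Finset.mem_singleton.mpr (Finset.card_le_one.mp (show (B.supp x).card ≤ 1 by omega) l hl j hj))
  have h2' : (B.supp x).card = 2 := by
    refine le_antisymm ?_ h2
    by_contra h3
    obtain ⟨a, b, c, ha, hb, hc', hab, hac, hbc⟩ := Finset.two_lt_card_iff.mp (not_le.mp h3)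
    exact hbc (Finset.card_le_one.mp (hmono a) b (hcol a b ha hb hab.symm) c (hcol a c ha hc' hac.symm))
  refine ⟨h2', fun p hp => ?_⟩
  obtain ⟨l, hl, hlp⟩ := Finset.exists_mem_ne (s := B.supp x) (by omega) p
  by_contra hne
  refine hlp (Finset.card_le_one.mp (hmono p) l (hcol p l hp hl hlp) p ?_)
  rw [mem_supp, hk, B.co_hom hn, hex, co_b, if_pos rfl]
  intro h
  apply hne
  refine (mul_eq_zero.mp (?_ : t * (1 + (H.σ t ^ 4 - 1) * B.nm x p) = 0)).resolve_left ht0
  simp only [nm]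
  linear_combination h

include hM in
theorem full_of_order (hn : Fintype.card ι = 4) (hNF : B.NoLine K) {t : F} (ht : t * H.σ t = 1)
    (hs : (H.σ t ^ 4) * (H.σ t ^ 4) ≠ 1) {g : H.SIsom} (hg : g ∈ K) (hgM : ¬ B.Mono1 g.1) (i e : ι) :
    B.co (g.1.1 (B.b i)) e ≠ 0 := by
  intro he
  set s := H.σ t ^ 4 with hsdef
  have hs1 : s ≠ 1 := fun h => hs (by rw [h, mul_one])
  obtain ⟨hc, hp⟩ := B.col_zero_facts hM hn hNF hg hgM he ht hs1
  obtain ⟨p, hpm⟩ := Finset.card_pos.mp (by omega : 0 < (B.supp (g.1.1 (B.b i))).card)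
  have h := hp p hpm
  have h' := congrArg H.σ h
  rw [map_add, map_one, map_mul, map_sub, map_one, B.nm_fixed, map_zero] at h'
  have hA : B.nm (g.1.1 (B.b i)) p ≠ 0 := fun h0 => one_ne_zero (α := F) (by rw [h0] at h; linear_combination h)
  have hσ : H.σ s = s := by
    have : B.nm (g.1.1 (B.b i)) p * (H.σ s - s) = 0 := by linear_combination h' - h
    exact sub_eq_zero.mp ((mul_eq_zero.mp this).resolve_left hA)
  have hsc : s * H.σ s = 1 := H.circle_pow (H.circle_conj ht) 4
  exact hs (by nth_rewrite 2 [← hσ]; exact hsc)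

/-- The orthogonal decomposition along a frame vector and a second vector. -/
theorem plane_parts {u w : V} (huu : H.h u u = 1) (hwu : H.h w u = 0) {z : V} (hww : H.h w w ≠ 0) :
    H.h (z - H.h z u • u - (H.h z w / H.h w w) • w) u = 0 ∧
      H.h (z - H.h z u • u - (H.h z w / H.h w w) • w) w = 0 := by
  constructor
  · rw [H.sub_left, H.sub_left, H.smul_left, H.smul_left, huu, hwu]; ring
  · rw [H.sub_left, H.sub_left, H.smul_left, H.smul_left, H.eq_zero_symm hwu, div_mul_cancel₀ _ hww]; ring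

theorem ext_plane {u w : V} (huu : H.h u u = 1) (hwu : H.h w u = 0) (hww : H.h w w ≠ 0) {a : V} (hau : H.h a u = 0)
    (haw : H.h a w = 0) (hao : ∀ z, H.h z u = 0 → H.h z w = 0 → H.h a z = 0) : a = 0 := by
  refine H.nondeg a fun z => ?_
  obtain ⟨h1, h2⟩ := plane_parts (z := z) huu hwu hww
  have e : z = (z - H.h z u • u - (H.h z w / H.h w w) • w) + H.h z u • u + (H.h z w / H.h w w) • w := by abel
  rw [e, H.add_left, H.add_left, H.smul_left, H.smul_left, H.eq_zero_symm hau, H.eq_zero_symm haw,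
    H.eq_zero_symm (hao _ h1 h2)]
  ring

include hM in
/-- An element fixing pointwise the orthogonal of the plane, and fixing the frame line, is trivial. -/
theorem eq_one_of_fix (hn : Fintype.card ι = 4) (hNF : B.NoLine K) {p : ι} {w : V} (hwp : H.h w (B.b p) = 0)
    (hww : H.h w w ≠ 0) (hw : ∀ l, l ≠ p → B.co w l ≠ 0) {k : H.SIsom} (hk : k ∈ K)
    (hfix : ∀ z, H.h z (B.b p) = 0 → H.h z w = 0 → k.1.1 z = z) {a : F} (hka : k.1.1 (B.b p) = a • B.b p) :
    k = 1 := by
  have huu := B.b_self p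
  have hmono : B.Mono1 k.1 := hNF k hk p p (by rw [hka]; exact (B.supp_smul_subset _ _).trans (by rw [supp_b]))
  have haa : a * H.σ a = 1 := by
    have := H.map_form k.1 (B.b p) (B.b p)
    rwa [hka, H.smul_left, H.smul_right, huu, mul_one] at this
  set β := H.h (k.1.1 w) w / H.h w w with hβ
  have hkw : k.1.1 w = β • w := by
    rw [← sub_eq_zero]
    refine ext_plane huu hwp hww ?_ ?_ fun z h1 h2 => ?_
    · rw [H.sub_left, H.smul_left, hwp, mul_zero, sub_zero]
      have := H.map_form k.1 w (B.b p)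
      rw [hka, H.smul_right, hwp, mul_eq_zero] at this
      exact this.resolve_left ((map_ne_zero _).mpr (H.circle_ne_zero haa))
    · rw [H.sub_left, H.smul_left, hβ, div_mul_cancel₀ _ hww, sub_self]
    · rw [H.sub_left, H.smul_left, H.eq_zero_symm h2, mul_zero, sub_zero]
      nth_rewrite 1 [← hfix z h1 h2]
      rw [H.map_form, H.eq_zero_symm h2]
  have hform : ∀ z, k.1.1 z = z + ((a - 1) * H.h z (B.b p)) • B.b p + ((β - 1) * (H.h z w / H.h w w)) • w := by
    intro z
    obtain ⟨h1, h2⟩ := plane_parts (z := z) huu hwp hww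
    have e : z = (z - H.h z (B.b p) • B.b p - (H.h z w / H.h w w) • w) + H.h z (B.b p) • B.b p +
        (H.h z w / H.h w w) • w := by abel
    conv_lhs => rw [e, map_add, map_add, map_smul, map_smul, hfix _ h1 h2, hka, hkw]
    module
  obtain ⟨q, r, r', hpq, hpr, hpr', hqr, hqr', hrr', -⟩ := exists_four_names hn p
  have hβ1 : β = 1 := by
    by_contra hne
    have hin : ∀ l, l ≠ p → l ≠ q → l ∈ B.supp (k.1.1 (B.b q)) := fun l hlp hlq => by
      rw [mem_supp, hform, co_add, co_add, co_smul, co_smul, co_b, co_b, if_neg (Ne.symm hlq),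
        if_neg (Ne.symm hlp), mul_zero, zero_add, zero_add, show H.h (B.b q) w = H.σ (B.co w q) from H.symm _ _]
      exact mul_ne_zero (mul_ne_zero (sub_ne_zero.mpr hne)
        (div_ne_zero ((map_ne_zero _).mpr (hw q hpq.symm)) hww)) (hw l hlp)
    exact hrr' (Finset.card_le_one.mp (hmono q) r (hin r hpr.symm hqr.symm) r' (hin r' hpr'.symm hqr'.symm))
  have hkq : k.1 = H.qr huu haa := H.isom_ext fun z => by
    rw [hform, hβ1, H.qr_apply]; simp
  have ha1 : a = 1 := by
    have h := congrArg (fun y : Fˣ => (y : F)) (MonoidHom.mem_ker.mp k.2)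
    rw [hkq] at h
    rwa [H.det_qr, Units.val_one] at h
  exact Subtype.ext (H.isom_ext fun z => by rw [hkq, H.qr_apply, ha1]; simp)

set_option maxHeartbeats 4000000 in
include hM in
/-- Two full homology centres with non-degenerate span, and a homology of prime power order. -/
theorem false_of_plane (hn : Fintype.card ι = 4) (hNF : B.NoLine K) {g : H.SIsom} (hg : g ∈ K) {i p : ι}
    (hfull : ∀ l, B.co (g.1.1 (B.b i)) l ≠ 0) (hA : B.nm (g.1.1 (B.b i)) p ≠ 1) {t τ : F} (ht : t * H.σ t = 1)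
    (hs : H.σ t ^ 4 ≠ 1) (hτ : τ * H.σ τ = 1) (hr2 : (H.σ τ ^ 4) * (H.σ τ ^ 4) ≠ 1) {l a : ℕ} (hl : l.Prime)
    (hrl : (H.σ τ ^ 4) ^ (l ^ a) = 1) : False := by
  classical
  haveI : Finite H.SIsom := by
    haveI : Finite V := Module.finite_of_finite F
    haveI : Finite (V ≃ₗ[F] V) := Finite.of_injective _ DFunLike.coe_injective
    exact Finite.of_injective (fun g => g.1.1) fun a b h => Subtype.ext (Subtype.ext h)
  haveI : Fact l.Prime := ⟨hl⟩
  set x := g.1.1 (B.b i) with hx
  set u := B.b p with hu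
  have huu : H.h u u = 1 := B.b_self p
  have hxx : H.h x x = 1 := by rw [hx, H.map_form, b_self]
  set w := x - B.co x p • u with hw
  have hwu : H.h w u = 0 := by rw [hw, H.sub_left, H.smul_left, huu, mul_one]; exact sub_self _
  have hwl : ∀ l, l ≠ p → B.co w l = B.co x l := fun l hl => by
    rw [hw, co_sub, co_smul, hu, co_b, if_neg (Ne.symm hl), mul_zero, sub_zero]
  have hxu : H.h x u = B.co x p := rfl
  have hux : H.h u x = H.σ (B.co x p) := H.symm _ _
  have hww : H.h w w = 1 - B.nm x p := by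
    simp only [hw, H.sub_left, H.sub_right, H.smul_left, H.smul_right, hxx, huu, hxu, hux, nm]; ring
  have hww0 : H.h w w ≠ 0 := by rw [hww]; exact sub_ne_zero.mpr (Ne.symm hA)
  have hwne : ∀ l, l ≠ p → B.co w l ≠ 0 := fun l hl => by rw [hwl l hl]; exact hfull l
  have hzx : ∀ z, H.h z u = 0 → H.h z w = 0 → H.h z x = 0 := fun z h1 h2 => by
    rw [show x = w + B.co x p • u by rw [hw]; abel, H.add_right, H.smul_right, h1, h2]; ring
  -- the group fixing the orthogonal space of the plane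
  let G : Subgroup H.SIsom :=
    { carrier := {k | k ∈ K ∧ ∀ z, H.h z u = 0 → H.h z w = 0 → k.1.1 z = z}
      one_mem' := ⟨K.one_mem, fun z _ _ => rfl⟩
      mul_mem' := fun {a b} ha hb => ⟨K.mul_mem ha.1 hb.1, fun z h1 h2 => by
        rw [H.sisom_mul_apply, hb.2 z h1 h2, ha.2 z h1 h2]⟩
      inv_mem' := fun {a} ha => ⟨K.inv_mem ha.1, fun z h1 h2 => by
        nth_rewrite 1 [← ha.2 z h1 h2]
        rw [H.sisom_inv_apply]⟩ }
  have hone : ∀ k ∈ G, ∀ a : F, k.1.1 u = a • u → k = 1 := fun k hk a hka =>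
    B.eq_one_of_fix hM hn hNF hwu hww0 hwne hk.1 hk.2 hka
  have hscal : ∀ {v : V} (hv : H.h v v = 1), (v = u ∨ v = x) → ∀ {c : F} (hc : c * H.σ c = 1) (z : V),
      H.h z u = 0 → H.h z w = 0 → (H.hom (B.finrank_four hn) hv hc).1.1 z = c • z := by
    intro v hv hvv c hc z h1 h2
    have : H.h z v = 0 := by
      rcases hvv with rfl | rfl
      · exact h1
      · exact hzx z h1 h2
    rw [H.hom_apply, this, mul_zero, zero_smul, add_zero]
  have hinvscal : ∀ (f : H.SIsom) {c : F}, c ≠ 0 → ∀ z, f.1.1 z = c • z → (f⁻¹).1.1 z = c⁻¹ • z := by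
    intro f c hc z hf
    have := congrArg (f⁻¹).1.1 hf
    rw [H.sisom_inv_apply, map_smul] at this
    rw [this, smul_smul, inv_mul_cancel₀ hc, one_smul, ← this]
  -- a non-trivial commutator
  set h₁ := H.hom (B.finrank_four hn) huu ht with hh₁
  set h₂ := H.hom (B.finrank_four hn) hxx ht with hh₂
  have ht0 := H.circle_ne_zero ht
  set c₀ := h₁ * h₂ * h₁⁻¹ * h₂⁻¹ with hc₀
  have hh₁K : h₁ ∈ K := B.hom_image_mem hM hn (g := 1) K.one_mem p ht (by exact huu)
  have hh₂K : h₂ ∈ K := B.hom_image_mem hM hn hg i ht hxx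
  have hc₀G : c₀ ∈ G := ⟨K.mul_mem (K.mul_mem (K.mul_mem hh₁K hh₂K) (K.inv_mem hh₁K)) (K.inv_mem hh₂K), fun z h1 h2 => by
    have e1 := hscal huu (Or.inl rfl) ht z h1 h2
    have e2 := hscal hxx (Or.inr rfl) ht z h1 h2
    have e1' := hinvscal h₁ ht0 z e1
    have e2' := hinvscal h₂ ht0 z e2
    rw [hc₀, H.sisom_mul_apply, H.sisom_mul_apply, H.sisom_mul_apply, e2', map_smul, e1', map_smul, map_smul,
      map_smul, map_smul, e2, map_smul, e1, smul_smul, smul_smul, smul_smul]
    convert one_smul F z using 2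
    field_simp⟩
  obtain ⟨q, -, -, hpq, -, -, -, -, -, -⟩ := exists_four_names hn p
  have hc₀1 : c₀ ≠ 1 := fun h => by
    have hcomm : h₁ * h₂ = h₂ * h₁ := by rwa [hc₀, mul_inv_eq_one, mul_inv_eq_iff_eq_mul] at h
    have h' := congrArg (fun f : H.SIsom => B.co (f.1.1 u) q) hcomm
    simp only [H.sisom_mul_apply, hh₁, hh₂, B.co_hom hn, H.hom_apply, H.add_left, H.smul_left, huu, hxx, hxu, hux,
      co_add, co_smul, hu, co_b, if_neg hpq, mul_zero, mul_one, zero_add, add_zero] at h'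
    rw [B.b_self, show H.h (B.b p) x = H.σ (B.co x p) from hux] at h'
    have : (t * (H.σ t ^ 4 - 1)) * (t * (H.σ t ^ 4 - 1)) * (H.σ (B.co x p) * B.co x q) = 0 := by
      linear_combination -h'
    simp [ht0, sub_eq_zero, hs, hfull p, hfull q] at this
  -- conjugation by the homology
  set f := H.hom (B.finrank_four hn) huu hτ with hf
  have hτ0 := H.circle_ne_zero hτ
  set r := H.σ τ ^ 4 with hr
  have hfK : f ∈ K := B.hom_image_mem hM hn (g := 1) K.one_mem p hτ (by exact huu)
  have hfG : ∀ k ∈ G, f * k * f⁻¹ ∈ G := fun k hk => ⟨K.mul_mem (K.mul_mem hfK hk.1) (K.inv_mem hfK), fun z h1 h2 => by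
    have e := hscal huu (Or.inl rfl) hτ z h1 h2
    rw [H.sisom_mul_apply, H.sisom_mul_apply, hinvscal f hτ0 z e, map_smul, hk.2 z h1 h2, map_smul, e, smul_smul,
      inv_mul_cancel₀ hτ0, one_smul]⟩
  have hfG' : ∀ k ∈ G, f⁻¹ * k * f ∈ G := fun k hk => ⟨K.mul_mem (K.mul_mem (K.inv_mem hfK) hk.1) hfK, fun z h1 h2 => by
    have e := hscal huu (Or.inl rfl) hτ z h1 h2
    rw [H.sisom_mul_apply, H.sisom_mul_apply, e, map_smul, hk.2 z h1 h2, map_smul, hinvscal f hτ0 z e, smul_smul,
      mul_inv_cancel₀ hτ0, one_smul]⟩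
  let φ : MulAut G :=
    { toFun := fun k => ⟨f * k.1 * f⁻¹, hfG k.1 k.2⟩
      invFun := fun k => ⟨f⁻¹ * k.1 * f, hfG' k.1 k.2⟩
      left_inv := fun k => Subtype.ext (by simp [mul_assoc])
      right_inv := fun k => Subtype.ext (by simp [mul_assoc])
      map_mul' := fun a b => Subtype.ext (by simp [mul_assoc]) }
  have hφpow : ∀ (n : ℕ) (k : G), ((φ ^ n) k).1 = f ^ n * k.1 * (f ^ n)⁻¹ := by
    intro n
    induction n with
    | zero => intro k; simp
    | succ n ih =>
      intro k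
      rw [pow_succ, MulAut.mul_apply, ih]
      change f ^ n * (f * k.1 * f⁻¹) * (f ^ n)⁻¹ = _
      rw [pow_succ, _root_.mul_inv_rev]
      group
  have hfact : ∀ (n : ℕ) (z : V), (f ^ n).1.1 z = τ ^ n • z + (τ ^ n * (r ^ n - 1) * H.h z u) • u := by
    intro n
    induction n with
    | zero => intro z; simp
    | succ n ih =>
      intro z
      rw [pow_succ, H.sisom_mul_apply, hf, H.hom_apply, ← hr, ← hf, ih, H.add_left, H.smul_left, H.smul_left, huu]
      rw [pow_succ, pow_succ]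
      module
  have hφ1 : φ ^ (l ^ a) = 1 := MulEquiv.ext fun k => Subtype.ext (by
    rw [hφpow]
    change _ = k.1
    rw [mul_inv_eq_iff_eq_mul]
    refine Subtype.ext (H.isom_ext fun z => ?_)
    change (f ^ (l ^ a) * k.1).1.1 z = (k.1 * f ^ (l ^ a)).1.1 z
    rw [H.sisom_mul_apply, H.sisom_mul_apply, hfact, hfact, hrl, map_add, map_smul]
    simp)
  let Z := Subgroup.zpowers φ
  have hZ : IsPGroup l Z := by
    have hd : orderOf φ ∣ l ^ a := orderOf_dvd_of_pow_eq_one hφ1
    obtain ⟨b, -, hb⟩ := (Nat.dvd_prime_pow hl).mp hd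
    exact IsPGroup.of_card (n := b) (by rw [Nat.card_zpowers, hb])
  have hfix : ∀ k : G, φ k = k → k = 1 := fun k hk => by
    apply Subtype.ext
    have hk' : f * k.1 = k.1 * f := by
      have := congrArg Subtype.val hk
      change f * k.1 * f⁻¹ = k.1 at this
      rwa [mul_inv_eq_iff_eq_mul] at this
    refine hone k.1 k.2 (B.co (k.1.1.1 u) p) (B.ext_co fun j => ?_)
    rw [co_smul, hu, co_b]
    rcases eq_or_ne p j with rfl | hpj
    · rw [if_pos rfl, mul_one]
    rw [if_neg hpj, mul_zero]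
    have h' := congrArg (fun y : H.SIsom => B.co (y.1.1 u) j) hk'
    simp only [H.sisom_mul_apply, hf, B.co_hom hn, H.hom_apply, map_add, map_smul, huu, co_add, co_smul, hu,
      co_b, if_neg hpj, mul_zero, add_zero, mul_one, ← hr] at h'
    rw [B.b_self] at h'
    have : τ * (r - 1) * B.co (k.1.1.1 (B.b p)) j = 0 := by linear_combination -h'
    refine (mul_eq_zero.mp this).resolve_left (mul_ne_zero hτ0 (sub_ne_zero.mpr fun h => hr2 ?_))
    rw [h, mul_one]
  have hmod := hZ.card_modEq_card_fixedPoints G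
  have hfp : Nat.card (MulAction.fixedPoints Z G) = 1 := by
    rw [Nat.card_eq_one_iff_unique]
    refine ⟨⟨fun a b => Subtype.ext ?_⟩, ⟨⟨1, fun m => by simp⟩⟩⟩
    rw [hfix a.1 (a.2 ⟨φ, Subgroup.mem_zpowers φ⟩), hfix b.1 (b.2 ⟨φ, Subgroup.mem_zpowers φ⟩)]
  rw [hfp] at hmod
  have hnd : ¬ l ∣ Nat.card G := fun h => by
    have h1 := hmod
    rw [Nat.ModEq, Nat.mod_eq_zero_of_dvd h, Nat.one_mod_eq_one.mpr hl.ne_one] at h1
    exact zero_ne_one h1
  have hG1 : Nat.card G ≠ 1 := fun h => hc₀1 (by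
    haveI := (Nat.card_eq_one_iff_unique.mp h).1
    exact congrArg Subtype.val (Subsingleton.elim (⟨c₀, hc₀G⟩ : G) 1))
  obtain ⟨r₀, hr₀, hr₀d⟩ := Nat.exists_prime_and_dvd hG1
  haveI : Fact r₀.Prime := ⟨hr₀⟩
  obtain ⟨P, hP⟩ := hZ.nonempty_fixed_point_of_prime_not_dvd_card (Sylow r₀ G)
    (fun h => hnd (h.trans ((Sylow.card_dvd_index (default : Sylow r₀ G)).trans (Subgroup.index_dvd_card _))))
  haveI : Nontrivial P.1 := by
    rw [← Finite.one_lt_card_iff_nontrivial]
    exact lt_of_lt_of_le hr₀.one_lt (Nat.le_of_dvd Nat.card_pos (Sylow.dvd_card_of_dvd_card P hr₀d))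
  haveI := P.isPGroup'.center_nontrivial
  obtain ⟨c, hc1⟩ := exists_ne (1 : Subgroup.center P.1)
  have hcP : φ c.1.1 ∈ P.1 := by
    have h := hP ⟨φ, Subgroup.mem_zpowers φ⟩
    have h' := congrArg (fun S : Sylow r₀ G => (S : Subgroup G)) h
    change (⟨φ, Subgroup.mem_zpowers φ⟩ : Z) • (P : Subgroup G) = P at h'
    exact (SetLike.ext_iff.mp h' _).mp
      (Subgroup.smul_mem_pointwise_smul _ (⟨φ, Subgroup.mem_zpowers φ⟩ : Z) _ c.1.2)
  have hcomm := congrArg (fun y : P.1 => ((y : G) : H.SIsom)) (Subgroup.mem_center_iff.mp c.2 ⟨_, hcP⟩)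
  set k : H.SIsom := (c.1.1 : G).1 with hk
  set d : H.SIsom := f * k * f⁻¹ with hd
  have hdk : d * k = k * d := hcomm
  have hkG : k ∈ G := (c.1.1 : G).2
  -- in the plane
  set α := H.h (k.1.1 u) u
  set γ := H.h (k.1.1 u) w / H.h w w with hγ
  set β := H.h (k.1.1 w) u with hβ
  set δ := H.h (k.1.1 w) w / H.h w w with hδ
  have hout : ∀ y z, H.h z u = 0 → H.h z w = 0 → H.h (k.1.1 y) z = H.h y z := fun y z h1 h2 => by
    nth_rewrite 1 [← hkG.2 z h1 h2]; rw [H.map_form]
  have hku : k.1.1 u = α • u + γ • w := by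
    rw [← sub_eq_zero]
    refine ext_plane huu hwu hww0 ?_ ?_ fun z h1 h2 => ?_
    · rw [H.sub_left, H.add_left, H.smul_left, H.smul_left, huu, hwu]; ring
    · rw [H.sub_left, H.add_left, H.smul_left, H.smul_left, H.eq_zero_symm hwu, hγ, div_mul_cancel₀ _ hww0]; ring
    · rw [H.sub_left, H.add_left, H.smul_left, H.smul_left, hout u z h1 h2, H.eq_zero_symm h1, H.eq_zero_symm h2]
      ring
  have hkw : k.1.1 w = β • u + δ • w := by
    rw [← sub_eq_zero]
    refine ext_plane huu hwu hww0 ?_ ?_ fun z h1 h2 => ?_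
    · rw [H.sub_left, H.add_left, H.smul_left, H.smul_left, huu, hwu]; ring
    · rw [H.sub_left, H.add_left, H.smul_left, H.smul_left, H.eq_zero_symm hwu, hδ, div_mul_cancel₀ _ hww0]; ring
    · rw [H.sub_left, H.add_left, H.smul_left, H.smul_left, hout w z h1 h2, H.eq_zero_symm h1, H.eq_zero_symm h2]
      ring
  have hγ0 : γ ≠ 0 := fun h => hc1 (Subtype.ext (Subtype.ext (Subtype.ext
    (hone k hkG α (by rw [hku, h, zero_smul, add_zero])))))
  have hβ0 : β ≠ 0 := fun h => by
    have h1 := H.map_form k.1 w u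
    rw [hwu, hku, hkw, h, zero_smul, zero_add, H.smul_left, H.add_right, H.smul_right, H.smul_right, hwu, mul_zero,
      zero_add, mul_eq_zero, mul_eq_zero, map_eq_zero] at h1
    have hδ0 : δ = 0 := h1.resolve_right fun h2 => h2.elim hγ0 hww0
    have h2 := H.map_form k.1 w w
    rw [hkw, h, hδ0, zero_smul, zero_smul, add_zero, H.zero_left] at h2
    exact hww0 h2.symm
  have hfu : f.1.1 u = (τ * r) • u := by rw [hf, H.hom_apply, ← hr, huu]; module
  have hfw : f.1.1 w = τ • w := by rw [hf, H.hom_apply, hwu]; module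
  have hr0 : r ≠ 0 := pow_ne_zero _ ((map_ne_zero _).mpr hτ0)
  have hfu' := hinvscal f (mul_ne_zero hτ0 hr0) u hfu
  have hfw' := hinvscal f hτ0 w hfw
  have hdu : d.1.1 u = α • u + (γ / r) • w := by
    rw [hd, H.sisom_mul_apply, H.sisom_mul_apply, hfu', map_smul, hku, map_smul, map_add, map_smul, map_smul, hfu,
      hfw]
    match_scalars <;> field_simp
  have hdw : d.1.1 w = (r * β) • u + δ • w := by
    rw [hd, H.sisom_mul_apply, H.sisom_mul_apply, hfw', map_smul, hkw, map_smul, map_add, map_smul, map_smul, hfu,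
      hfw]
    match_scalars <;> field_simp
  have he := congrArg (fun y : H.SIsom => H.h (y.1.1 u) u) hdk
  simp only [H.sisom_mul_apply, hku, hdu, map_add, map_smul, hkw, hdw, H.add_left, H.smul_left, huu, hwu] at he
  have : γ * β * (r * r - 1) = 0 := by
    field_simp at he
    linear_combination he
  exact (mul_ne_zero (mul_ne_zero hγ0 hβ0) (sub_ne_zero.mpr hr2)) this

/-- Some power has prime power order, above two. -/
theorem exists_prime_power_order {G : Type*} [Monoid G] (s : G) {m : ℕ} (hm : 0 < m) (hs : s ^ m = 1)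
    (hs2 : s * s ≠ 1) : ∃ n l a : ℕ, l.Prime ∧ (s ^ n) ^ (l ^ a) = 1 ∧ s ^ n * s ^ n ≠ 1 := by
  have hfo : IsOfFinOrder s := isOfFinOrder_iff_pow_eq_one.mpr ⟨m, hm, hs⟩
  set o := orderOf s with ho
  have ho0 : 0 < o := hfo.orderOf_pos
  have hno : ¬ o ∣ 2 := fun h => hs2 (by rw [← sq]; exact orderOf_dvd_iff_pow_eq_one.mp h)
  by_cases hl : ∃ l, l.Prime ∧ l ∣ o ∧ l ≠ 2
  · obtain ⟨l, hlp, ⟨n, hn⟩, hl2⟩ := hl
    refine ⟨n, l, 1, hlp, by rw [← pow_mul, pow_one, mul_comm, ← hn, ho, pow_orderOf_eq_one], fun h => ?_⟩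
    rw [← pow_add] at h
    have hd := orderOf_dvd_of_pow_eq_one h
    rw [← ho, hn, ← two_mul] at hd
    have hn0 : 0 < n := Nat.pos_of_ne_zero fun h0 => by rw [h0, mul_zero] at hn; omega
    have := Nat.le_of_dvd (by norm_num) (Nat.dvd_of_mul_dvd_mul_right hn0 hd)
    have := hlp.two_le
    omega
  · push Not at hl
    refine ⟨1, 2, o.primeFactorsList.length, Nat.prime_two, ?_, by rwa [pow_one]⟩
    rw [pow_one, ← Nat.eq_prime_pow_of_unique_prime_dvd ho0.ne' (fun {d} hd hdo => hl d hd hdo), ho,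
      pow_orderOf_eq_one]

include hM in
theorem false_of_order (hn : Fintype.card ι = 4) (hNF : B.NoLine K) {t : F} (ht : t * H.σ t = 1)
    (hs : (H.σ t ^ 4) * (H.σ t ^ 4) ≠ 1) {g : H.SIsom} (hg : g ∈ K) (hgM : ¬ B.Mono1 g.1) : False := by
  have hs1 : H.σ t ^ 4 ≠ 1 := fun h => hs (by rw [h, mul_one])
  have hfull : ∀ {g : H.SIsom}, g ∈ K → ¬ B.Mono1 g.1 → ∀ i e, B.co (g.1.1 (B.b i)) e ≠ 0 :=
    fun hg hgM i e => B.full_of_order hM hn hNF ht hs hg hgM i e
  obtain ⟨g', hg', hgM', i, p, hA⟩ : ∃ g' ∈ K, ¬ B.Mono1 g'.1 ∧ ∃ i p, B.nm (g'.1.1 (B.b i)) p ≠ 1 := by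
    by_contra hc
    push Not at hc
    obtain ⟨i⟩ : Nonempty ι := Fintype.card_pos_iff.mp (by omega)
    obtain ⟨b, c, d, hab, hac, had, hbc, hbd, hcd, -⟩ := exists_four_names hn i
    set x := g.1.1 (B.b i) with hx
    have hxx : H.h x x = 1 := by rw [hx, H.map_form, b_self]
    have h3 : (3 : F) = 0 := by
      have h := B.h_self_nm x
      rw [hxx] at h
      simp only [hx, hc g hg hgM i] at h
      rw [Finset.sum_const, Finset.card_univ, hn, nsmul_eq_mul, mul_one] at h
      norm_num at h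
      linear_combination -h
    have key : ∀ τ : F, τ * H.σ τ = 1 → H.σ τ ^ 4 ≠ 1 → H.σ τ ^ 4 + H.σ (H.σ τ ^ 4) = 1 := by
      intro τ hτ hτ1
      set k := H.hom (B.finrank_four hn) hxx hτ
      have hk : k ∈ K := B.hom_image_mem hM hn hg i hτ hxx
      have hex : ∀ p, H.h (B.b p) x = H.σ (B.co x p) := fun p => H.symm _ _
      have hco : ∀ l, l ≠ i → B.co (k.1.1 (B.b i)) l = τ * (H.σ τ ^ 4 - 1) * H.σ (B.co x i) * B.co x l := fun l hl => by
        rw [B.co_hom hn, hex, co_b, if_neg (Ne.symm hl)]; ring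
      have hkM : ¬ B.Mono1 k.1 := fun h => hbc (Finset.card_le_one.mp (h i) b
        (B.mem_supp.mpr (by rw [hco b hab.symm]; simp [H.circle_ne_zero hτ, sub_eq_zero, hτ1, hfull hg hgM i i, hfull hg hgM i b, hx]))
        c (B.mem_supp.mpr (by rw [hco c hac.symm]; simp [H.circle_ne_zero hτ, sub_eq_zero, hτ1, hfull hg hgM i i, hfull hg hgM i c, hx])))
      have h := hc k hk hkM i b
      rw [nm, hco b hab.symm] at h
      simp only [map_mul, map_sub, map_one, H.conj.invol] at h
      have e1 := hc g hg hgM i i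
      have e2 := hc g hg hgM i b
      simp only [nm] at e1 e2
      rw [← hx] at e1 e2
      have e3 : H.σ τ ^ 4 * H.σ (H.σ τ ^ 4) = 1 := H.circle_pow (H.circle_conj hτ) 4
      linear_combination -h + ((H.σ τ ^ 4 - 1) * (H.σ (H.σ τ ^ 4) - 1)) * e1
        + ((H.σ τ ^ 4 - 1) * (H.σ (H.σ τ ^ 4) - 1) * (H.σ (B.co x i) * B.co x i)) * e2
        + ((H.σ τ ^ 4 - 1) * (H.σ (H.σ τ ^ 4) - 1) * (H.σ (B.co x i) * B.co x i) * (B.co x b * H.σ (B.co x b))) * hτ
        + e3
    have h1 := key t ht hs1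
    have h2 := key (t * t) (H.circle_mul ht ht) (by rw [map_mul, mul_pow]; exact hs)
    have e3 : H.σ t ^ 4 * H.σ (H.σ t ^ 4) = 1 := H.circle_pow (H.circle_conj ht) 4
    simp only [map_mul, mul_pow] at h2
    have : (1 : F) = 0 := by
      linear_combination h3 - ((H.σ t ^ 4 + H.σ (H.σ t ^ 4) + 1) * h1 - 2 * e3 - h2)
    exact one_ne_zero this
  obtain ⟨n, l, a, hl, hla, hn2⟩ := exists_prime_power_order (H.σ t ^ 4) (Nat.succ_pos H.q)
    (by rw [← pow_mul, mul_comm, pow_mul, H.circle_pow_card (H.circle_conj ht), one_pow]) hs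
  have e : H.σ (t ^ n) ^ 4 = (H.σ t ^ 4) ^ n := by rw [map_pow, ← pow_mul, ← pow_mul, mul_comm]
  exact B.false_of_plane hM hn hNF hg' (hfull hg' hgM' i) hA ht hs1 (H.circle_pow ht n)
    (by rw [e]; exact hn2) hl (by rw [e]; exact hla)

end UFrame

end Cfsg.Lib.Classical
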