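import Mathlib
import Cfsg.Agent.Classical.Unitary.FrameFour

set_option autoImplicit false
set_option linter.unusedVariables false
set_option linter.unusedSimpArgs false
set_option linter.unusedSectionVars false
set_option linter.style.haveILetI false

/-! The case `q = 7`, where the homologies are involutions, and some line is mapped to a line for every `q ≥ 4`. -/

namespace Cfsg.Lib.Classical

universe u v w

namespace HermSpace

variable {F : Type u} [Field F] {V : Type v} [AddCommGroup V] [Module F V] (H : HermSpace F V) [Finite F]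

theorem seven_facts (hq : H.q = 7) :
    (7 : F) = 0 ∧ (∀ n : ℕ, n < 7 → (n : F) = 0 → n = 0) ∧ ∀ A : F, H.σ A = A → ∃ n : ℕ, n < 7 ∧ A = (n : F) := by
  haveI : Finite (fixedField H.σ) := Finite.of_injective _ Subtype.val_injective
  haveI := Fintype.ofFinite (fixedField H.σ)
  have hcard : Fintype.card (fixedField H.σ) = 7 := by rw [← Nat.card_eq_fintype_card]; exact hq
  have h7 : (7 : F) = 0 := by
    have h := FiniteField.cast_card_eq_zero (fixedField H.σ)
    rw [hcard] at h
    have h' := congrArg (Subfield.subtype (fixedField H.σ)) h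
    rw [map_natCast, map_zero] at h'
    exact_mod_cast h'
  obtain ⟨p, hp⟩ := CharP.exists F
  have hp7 : p = 7 := by
    have hd : p ∣ 7 := (CharP.cast_eq_zero_iff F p 7).mp (by exact_mod_cast h7)
    rcases (Nat.dvd_prime (by norm_num)).mp hd with h | h
    · exact absurd h (CharP.char_is_prime F p).ne_one
    · exact h
  subst hp7
  have hcast : ∀ n : ℕ, n < 7 → (n : F) = 0 → n = 0 := fun n hn h =>
    Nat.eq_zero_of_dvd_of_lt ((CharP.cast_eq_zero_iff F 7 n).mp h) hn
  refine ⟨h7, hcast, fun A hA => ?_⟩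
  let φ : Fin 7 → fixedField H.σ := fun n => (n.1 : fixedField H.σ)
  have hφ : Function.Injective φ := fun a b h => by
    have h' : (a.1 : F) = (b.1 : F) := by simpa [φ] using congrArg Subtype.val h
    have := CharP.natCast_eq_natCast F 7 |>.mp h'
    exact Fin.ext (by unfold Nat.ModEq at this; rwa [Nat.mod_eq_of_lt a.2, Nat.mod_eq_of_lt b.2] at this)
  obtain ⟨n, hn⟩ := ((Fintype.bijective_iff_injective_and_card φ).mpr ⟨hφ, by rw [hcard, Fintype.card_fin]⟩).2 ⟨A, hA⟩
  exact ⟨n.1, n.2, by have := congrArg Subtype.val hn; simpa [φ] using this.symm⟩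

end HermSpace

namespace UFrame

variable {F : Type u} [Field F] [Fintype F] [DecidableEq F] {V : Type v} [AddCommGroup V] [Module F V]
  [FiniteDimensional F V] {H : HermSpace F V}
  {ι : Type w} [DecidableEq ι] [Fintype ι] (B : UFrame H ι)
variable {K : Subgroup H.SIsom} (hM : ∀ g : H.SIsom, B.Mono1 g.1 → g ∈ K)

theorem perm_pow_six_fin : ∀ (σ : Equiv.Perm (Fin 4)) (j : Fin 4), σ j = j → σ ^ 6 = 1 := by
  decide +kernel

theorem perm_pow_six (hn : Fintype.card ι = 4) (π : Equiv.Perm ι) {i : ι} (hi : π i = i) : π ^ 6 = 1 := by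
  let e := Fintype.equivFinOfCardEq hn
  have h := perm_pow_six_fin (e.permCongrHom π) (e i) (by simp [Equiv.permCongrHom, hi])
  rw [← map_pow] at h
  exact e.permCongrHom.injective (h.trans (map_one _).symm)

include hM in
/-- For involutory homologies, columns still have full support. -/
theorem full_seven (hn : Fintype.card ι = 4) (hNF : B.NoLine K) (h20 : (2 : F) ≠ 0) {t : F} (ht : t * H.σ t = 1)
    (hs : H.σ t ^ 4 = -1) (h4 : t ^ 4 ≠ 1) {g : H.SIsom} (hg : g ∈ K) (hgM : ¬ B.Mono1 g.1) (i e : ι) :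
    B.co (g.1.1 (B.b i)) e ≠ 0 := by
  intro he
  have hs1 : H.σ t ^ 4 ≠ 1 := fun h => h20 (by rw [hs] at h; linear_combination -h)
  obtain ⟨hc, -⟩ := B.col_zero_facts hM hn hNF hg hgM he ht hs1
  set x := g.1.1 (B.b i) with hx
  obtain ⟨a, b, hab, habc⟩ := Finset.card_eq_two.mp (by rw [Finset.card_compl, hc, hn] : (B.supp x)ᶜ.card = 2)
  have hout : ∀ l, l = a ∨ l = b ↔ B.co x l = 0 := fun l => by
    rw [← B.notMem_supp, ← Finset.mem_compl, habc, Finset.mem_insert, Finset.mem_singleton]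
  set d := B.ph a b ht with hd
  have hdx : d.1.1 x = x := B.ext_co fun l => by
    rw [hd, B.co_ph hab]
    split_ifs with h1 h2
    · subst h1; rw [(hout l).mp (Or.inl rfl), mul_zero]
    · subst h2; rw [(hout l).mp (Or.inr rfl), mul_zero]
    · rfl
  set k := g⁻¹ * d * g with hk
  have hkK : k ∈ K := K.mul_mem (K.mul_mem (K.inv_mem hg) (hM _ (B.mono1_ph hab ht))) hg
  have hki : k.1.1 (B.b i) = B.b i := by
    rw [hk, H.sisom_mul_apply, H.sisom_mul_apply, ← hx, hdx, hx, H.sisom_inv_apply]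
  obtain ⟨π, c, hπ⟩ := B.mono1_iff.mp (hNF k hkK i i (by rw [hki, supp_b]))
  have hπi : π i = i := by
    have h := congrArg (fun y => B.co y (π i)) ((hπ i).1.symm.trans hki)
    simp only [co_smul, co_b, if_pos, mul_one] at h
    by_contra hne
    rw [if_neg (Ne.symm hne)] at h
    exact (hπ i).2 h
  have hpow : ∀ n j, ∃ cn : F, (k ^ n).1.1 (B.b j) = cn • B.b ((π ^ n) j) := by
    intro n
    induction n with
    | zero => exact fun j => ⟨1, by simp⟩
    | succ n ih =>
      intro j
      obtain ⟨cn, hcn⟩ := ih (π j)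
      refine ⟨c j * cn, ?_⟩
      rw [pow_succ, H.sisom_mul_apply, (hπ j).1, map_smul, hcn, smul_smul, pow_succ, Equiv.Perm.mul_apply]
  have hdpow : ∀ (n : ℕ) (z : V) (l : ι), B.co ((d ^ n).1.1 z) l =
      if l = a then t ^ n * B.co z a else if l = b then H.σ t ^ n * B.co z b else B.co z l := by
    intro n
    induction n with
    | zero => intro z l; simp only [pow_zero, one_mul]; split_ifs <;> simp_all
    | succ n ih =>
      intro z l
      rw [pow_succ, H.sisom_mul_apply, ih, hd, B.co_ph hab, B.co_ph hab, B.co_ph hab]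
      simp only [if_pos, if_neg hab.symm]
      split_ifs <;> first | ring | rfl
  obtain ⟨j, hj⟩ : ∃ j, B.co (g.1.1 (B.b j)) a ≠ 0 := by
    by_contra hc
    push Not at hc
    have h0 : (g⁻¹).1.1 (B.b a) = 0 := B.ext_co fun l => by
      have := hc l
      rw [B.co_row, map_eq_zero] at this
      rw [this, co_zero]
    exact B.b.ne_zero a (by simpa using h0)
  obtain ⟨cn, hcn⟩ := hpow 6 j
  rw [perm_pow_six hn π hπi, Equiv.Perm.one_apply] at hcn
  have hkd : k ^ 6 = g⁻¹ * d ^ 6 * g := by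
    rw [hk]
    simpa using conj_pow (a := g⁻¹) (b := d) (i := 6)
  set y := g.1.1 (B.b j) with hy
  have hdy : (d ^ 6).1.1 y = cn • y := by
    rw [hkd, H.sisom_mul_apply, H.sisom_mul_apply] at hcn
    have := congrArg g.1.1 hcn
    rwa [H.sisom_apply_inv, map_smul, ← hy] at this
  have hval := fun l => congrArg (fun z => B.co z l) hdy
  simp only [hdpow, co_smul] at hval
  have hcn6 : cn = t ^ 6 := by
    have := hval a
    rw [if_pos rfl] at this
    exact (mul_right_cancel₀ hj this).symm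
  have ht0 := H.circle_ne_zero ht
  have ht8 : t ^ 8 = 1 := by
    have h' := congrArg H.σ hs
    rw [map_pow, H.conj.invol, map_neg, map_one] at h'
    rw [show (8 : ℕ) = 4 + 4 from rfl, pow_add, h']; ring
  refine hgM (hNF g hg j a fun l hl => ?_)
  rw [Finset.mem_singleton]
  by_contra hla
  rw [← hy, mem_supp] at hl
  have h := hval l
  rw [if_neg hla, hcn6] at h
  by_cases hlb : l = b
  · rw [if_pos hlb, ← hlb] at h
    have h6 := mul_right_cancel₀ hl h
    rw [H.circle_inv ht, inv_pow] at h6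
    field_simp at h6
    refine h4 ?_
    linear_combination -h6 - t ^ 4 * ht8
  · rw [if_neg hlb] at h
    have h6 : t ^ 6 = 1 := (mul_right_cancel₀ hl (by rw [one_mul]; exact h : (1 : F) * _ = t ^ 6 * _)).symm
    exact h4 (by linear_combination (t ^ 2 + 1) * ht8 - (t ^ 2 + 1) * t ^ 2 * h6)

include hM in
/-- No product of the two reflections is minus the identity on their plane. -/
theorem false_of_minus (hn : Fintype.card ι = 4) (hNF : B.NoLine K) (h20 : (2 : F) ≠ 0) {p : ι} {x : V}
    (hfull : ∀ l, B.co x l ≠ 0) (hxx : H.h x x = 1) (hA : B.nm x p ≠ 1) {k : H.SIsom} (hk : k ∈ K) {c : F}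
    (hc : c ≠ 0) (hu : k.1.1 (B.b p) = -c • B.b p) (hx : k.1.1 x = -c • x)
    (hout : ∀ z, H.h z (B.b p) = 0 → H.h z x = 0 → k.1.1 z = c • z) : False := by
  set w := x - B.co x p • B.b p with hw
  have hwp : H.h w (B.b p) = 0 := by rw [hw, H.sub_left, H.smul_left, B.b_self, mul_one]; exact sub_self _
  have hpx : H.h (B.b p) x = H.σ (B.co x p) := H.symm _ _
  have hxp : H.h x (B.b p) = B.co x p := rfl
  have hww : H.h w w = 1 - B.nm x p := by
    simp only [hw, H.sub_left, H.sub_right, H.smul_left, H.smul_right, hxx, B.b_self, hxp, hpx, nm]; ring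
  have hww0 : H.h w w ≠ 0 := by rw [hww]; exact sub_ne_zero.mpr (Ne.symm hA)
  have hkw : k.1.1 w = -c • w := by
    rw [hw, map_sub, map_smul, hx, hu]; module
  have hform : ∀ z, k.1.1 z = c • z - (2 * c * H.h z (B.b p)) • B.b p - (2 * c * (H.h z w / H.h w w)) • w := by
    intro z
    obtain ⟨h1, h2⟩ := plane_parts (z := z) (B.b_self p) hwp hww0
    have h3 : H.h (z - H.h z (B.b p) • B.b p - (H.h z w / H.h w w) • w) x = 0 := by
      rw [show x = w + B.co x p • B.b p by rw [hw]; abel, H.add_right, H.smul_right, h1, h2]; ring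
    have e : z = (z - H.h z (B.b p) • B.b p - (H.h z w / H.h w w) • w) + H.h z (B.b p) • B.b p +
        (H.h z w / H.h w w) • w := by abel
    conv_lhs => rw [e, map_add, map_add, map_smul, map_smul, hout _ h1 h3, hu, hkw]
    module
  have hmono : B.Mono1 k.1 := hNF k hk p p (by rw [hu]; exact (B.supp_smul_subset _ _).trans (by rw [supp_b]))
  obtain ⟨q, r, r', hpq, hpr, hpr', hqr, hqr', hrr', -⟩ := exists_four_names hn p
  have hwl : ∀ l, l ≠ p → B.co w l = B.co x l := fun l hl => by
    rw [hw, co_sub, co_smul, co_b, if_neg (Ne.symm hl), mul_zero, sub_zero]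
  have hin : ∀ l, l ≠ p → l ≠ q → l ∈ B.supp (k.1.1 (B.b q)) := fun l hlp hlq => by
    rw [mem_supp, hform, co_sub, co_sub, co_smul, co_smul, co_smul, co_b, co_b, if_neg (Ne.symm hlq),
      if_neg (Ne.symm hlp), mul_zero, mul_zero, zero_sub, neg_zero, zero_sub,
      show H.h (B.b q) w = H.σ (B.co w q) from H.symm _ _]
    rw [hwl q hpq.symm, hwl l hlp]
    exact neg_ne_zero.mpr (mul_ne_zero (mul_ne_zero (mul_ne_zero h20 hc)
      (div_ne_zero ((map_ne_zero _).mpr (hfull q)) hww0)) (hfull l))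
  exact hrr' (Finset.card_le_one.mp (hmono q) r (hin r hpr.symm hqr.symm) r' (hin r' hpr'.symm hqr'.symm))

set_option maxHeartbeats 1000000 in
include hM in
/-- All entries have norm one or two. -/
theorem nm_seven (hn : Fintype.card ι = 4) (hNF : B.NoLine K) (hq : H.q = 7) {t : F} (ht : t * H.σ t = 1)
    (hs : H.σ t ^ 4 = -1) (h4 : t ^ 4 ≠ 1) {g : H.SIsom} (hg : g ∈ K) (hgM : ¬ B.Mono1 g.1) (i p : ι) :
    B.nm (g.1.1 (B.b i)) p = 1 ∨ B.nm (g.1.1 (B.b i)) p = 2 := by
  obtain ⟨h7, hcast, hnum⟩ := H.seven_facts hq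
  have h20 : (2 : F) ≠ 0 := fun h => by simpa using hcast 2 (by norm_num) (by exact_mod_cast h)
  have hfull := B.full_seven hM hn hNF h20 ht hs h4 hg hgM i
  set x := g.1.1 (B.b i) with hxdef
  have hxx : H.h x x = 1 := by rw [hxdef, H.map_form, b_self]
  by_contra hA
  rw [not_or] at hA
  obtain ⟨n, hn7, hAn⟩ := hnum _ (B.nm_fixed x p)
  set A := B.nm x p with hAdef
  set S := H.hom (B.finrank_four hn) (B.b_self p) ht * H.hom (B.finrank_four hn) hxx ht with hS
  have hSK : S ∈ K := K.mul_mem (B.hom_image_mem hM hn (g := 1) K.one_mem p ht (B.b_self p))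
    (B.hom_image_mem hM hn hg i ht hxx)
  set a := H.σ (B.co x p) with ha
  have hpx : H.h (B.b p) x = a := H.symm _ _
  have hxp : H.h x (B.b p) = H.σ a := by rw [ha, H.conj.invol]; rfl
  have hAa : A = H.σ a * a := by rw [ha, H.conj.invol]; rfl
  have hSu : S.1.1 (B.b p) = (t * t * (4 * A - 1)) • B.b p + (-(t * t * (2 * a))) • x := by
    rw [hS, H.sisom_mul_apply, H.hom_apply, H.hom_apply, H.add_left, H.smul_left, H.smul_left, B.b_self, hpx, hxp,
      hs, hAa]
    module
  have hSx : S.1.1 x = (t * t * (2 * H.σ a)) • B.b p + (-(t * t)) • x := by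
    rw [hS, H.sisom_mul_apply, H.hom_apply, H.hom_apply, H.add_left, H.smul_left, H.smul_left, hxx, hxp, hs]
    module
  have hout : ∀ (m : ℕ) z, H.h z (B.b p) = 0 → H.h z x = 0 → (S ^ m).1.1 z = (t * t) ^ m • z := by
    intro m
    induction m with
    | zero => intro z _ _; simp
    | succ m ih =>
      intro z h1 h2
      have hSz : S.1.1 z = (t * t) • z := by
        rw [hS, H.sisom_mul_apply, H.hom_apply (v := x), h2, mul_zero, zero_smul, add_zero, map_smul, H.hom_apply,
          h1, mul_zero, zero_smul, add_zero, smul_smul]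
      rw [pow_succ, H.sisom_mul_apply, hSz, map_smul, ih z h1 h2, smul_smul, ← pow_succ']
  set τ := 4 * A - 2 with hτ
  have rec2 : ∀ z, z = B.b p ∨ z = x → S.1.1 (S.1.1 z) = (t * t * τ) • S.1.1 z + (-(t * t * (t * t))) • z := by
    rintro z (rfl | rfl)
    · rw [hSu, map_add, map_smul, map_smul, hSu, hSx, hτ, hAa]; module
    · rw [hSx, map_add, map_smul, map_smul, hSu, hSx, hτ, hAa]; module
  have finish : ∀ m, (∀ z, z = B.b p ∨ z = x → (S ^ m).1.1 z = -(t * t) ^ m • z) → False := fun m hm =>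
    B.false_of_minus hM hn hNF h20 hfull hxx hA.1 (K.pow_mem hSK m)
      (pow_ne_zero _ (mul_ne_zero (H.circle_ne_zero ht) (H.circle_ne_zero ht))) (hm _ (Or.inl rfl))
      (hm _ (Or.inr rfl)) (hout m)
  have hn0 : n ≠ 0 := fun h => hfull p (B.nm_eq_zero.mp (by rw [← hAdef, hAn, h, Nat.cast_zero]))
  have hn1 : n ≠ 1 := fun h => hA.1 (by rw [hAn, h, Nat.cast_one])
  have hn2 : n ≠ 2 := fun h => hA.2 (by rw [hAn, h, Nat.cast_ofNat])
  rcases (by omega : n = 4 ∨ n = 6 ∨ n = 3 ∨ n = 5) with rfl | rfl | hn35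
  · refine finish 2 fun z hz => ?_
    rw [pow_two S, H.sisom_mul_apply, rec2 z hz, show τ = 0 by rw [hτ, hAn]; push_cast; linear_combination 2 * h7]
    module
  · have hτ1 : τ = 1 := by rw [hτ, hAn]; push_cast; linear_combination 3 * h7
    refine finish 3 fun z hz => ?_
    have h2 := rec2 z hz
    rw [pow_succ, pow_two S, H.sisom_mul_apply, H.sisom_mul_apply, h2, map_add, map_smul, map_smul, h2, hτ1]
    module
  · have hτ2 : τ * τ = 2 := by
      rcases hn35 with rfl | rfl <;> rw [hτ, hAn] <;> push_cast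
      · linear_combination 14 * h7
      · linear_combination 46 * h7
    refine finish 4 fun z hz => ?_
    have h2 := rec2 z hz
    rw [pow_succ, pow_succ, pow_two S, H.sisom_mul_apply, H.sisom_mul_apply, H.sisom_mul_apply, h2, map_add,
      map_smul, map_smul, h2, map_add, map_smul, map_smul, map_add, map_smul, map_smul, h2]
    match_scalars
    · linear_combination (t ^ 6 * τ) * hτ2
    · linear_combination (-t ^ 8) * hτ2

set_option maxHeartbeats 1000000 in
include hM in
theorem false_seven (hn : Fintype.card ι = 4) (hNF : B.NoLine K) (hq : H.q = 7) {t : F} (ht : t * H.σ t = 1)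
    (hs : H.σ t ^ 4 = -1) (h4 : t ^ 4 ≠ 1) (h8 : t ^ 8 = 1) {g : H.SIsom} (hg : g ∈ K) (hgM : ¬ B.Mono1 g.1) :
    False := by
  obtain ⟨h7, hcast, hnum⟩ := H.seven_facts hq
  have h20 : (2 : F) ≠ 0 := fun h => by simpa using hcast 2 (by norm_num) (by exact_mod_cast h)
  obtain ⟨a⟩ : Nonempty ι := Fintype.card_pos_iff.mp (by omega)
  obtain ⟨b, c, d, hab, hac, had, hbc, hbd, hcd, hall⟩ := exists_four_names hn a
  set x := g.1.1 (B.b a) with hx
  have hxx : H.h x x = 1 := by rw [hx, H.map_form, b_self]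
  have hfull := fun {g : H.SIsom} (hg : g ∈ K) (hgM : ¬ B.Mono1 g.1) i e =>
    B.full_seven hM hn hNF h20 ht hs h4 hg hgM i e
  have hnm : ∀ p, B.nm x p = 2 := by
    intro p
    set T := Finset.univ.filter fun l => B.nm x l = 1 with hT
    have hsum : (1 : F) = ∑ l, (if B.nm x l = 1 then (1 : F) else 2) := by
      refine (hxx.symm.trans (B.h_self_nm x)).trans (Finset.sum_congr rfl fun l _ => ?_)
      split_ifs with h
      · exact h
      · exact (B.nm_seven hM hn hNF hq ht hs h4 hg hgM a l).resolve_left h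
    rw [Finset.sum_ite, Finset.sum_const, Finset.sum_const, nsmul_eq_mul, nsmul_eq_mul, mul_one] at hsum
    have hc' := Finset.card_filter_add_card_filter_not (s := (Finset.univ : Finset ι)) (fun l => B.nm x l = 1)
    rw [Finset.card_univ, hn, ← hT] at hc'
    rw [← hT] at hsum
    have hc'' := congrArg (Nat.cast : ℕ → F) hc'
    push_cast at hc''
    have hT0 : T.card = 0 := hcast _ (by omega) (by linear_combination hsum + 2 * hc'' + h7)
    have := Finset.card_eq_zero.mp hT0
    refine (B.nm_seven hM hn hNF hq ht hs h4 hg hgM a p).resolve_left fun h => ?_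
    have hp : p ∈ T := by rw [hT, Finset.mem_filter]; exact ⟨Finset.mem_univ p, h⟩
    rw [this] at hp
    exact Finset.notMem_empty p hp
  -- orthogonal translates go to the other vectors of the frame
  have hmove : ∀ D : H.SIsom, B.Mono1 D.1 → ∀ (o : ι → F), (∀ l, B.co (D.1.1 x) l = o l * B.co x l) →
      o a + o b + o c + o d = 0 → ∃ (j : ι) (l : F), j ≠ a ∧ l ≠ 0 ∧ D.1.1 x = l • g.1.1 (B.b j) := by
    intro D hD o ho hsum
    set k := g⁻¹ * D * g with hk
    have hkK : k ∈ K := K.mul_mem (K.mul_mem (K.inv_mem hg) (hM _ hD)) hg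
    have huniv : (Finset.univ : Finset ι) = {a, b, c, d} :=
      (Finset.eq_univ_of_forall fun l => by simp [hall l]).symm
    have hzero : B.co (k.1.1 (B.b a)) a = 0 := by
      have e : H.h (D.1.1 x) x = B.co (k.1.1 (B.b a)) a := by
        rw [hk, H.sisom_mul_apply, H.sisom_mul_apply, co, ← H.map_form g.1 _ (B.b a), H.sisom_apply_inv]
      rw [← e, B.h_co, huniv, Finset.sum_insert (by simp [hab, hac, had]), Finset.sum_insert (by simp [hbc, hbd]),
        Finset.sum_pair hcd]
      simp only [ho]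
      have hA : ∀ l, o l * B.co x l * H.σ (B.co x l) = 2 * o l := fun l => by
        rw [mul_assoc, ← nm, hnm l, mul_comm]
      rw [hA, hA, hA, hA]
      linear_combination 2 * hsum
    have hkM : B.Mono1 k.1 := by_contra fun h => hfull hkK h a a hzero
    obtain ⟨π, l, hπ⟩ := B.mono1_iff.mp hkM
    refine ⟨π a, l a, fun h => ?_, (hπ a).2, ?_⟩
    · rw [(hπ a).1, co_smul, co_b, h, if_pos rfl, mul_one] at hzero
      exact (hπ a).2 hzero
    · have := congrArg g.1.1 (hπ a).1
      rwa [hk, H.sisom_mul_apply, H.sisom_mul_apply, H.sisom_apply_inv, map_smul] at this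
  have hneg : (-1 : F) * H.σ (-1) = 1 := H.circle_neg_one
  have hσt : H.σ t = t ^ 7 := by
    rw [H.circle_inv ht]
    exact inv_eq_of_mul_eq_one_right (by rw [← pow_succ', h8])
  have ht3 : (t * t * t) * H.σ (t * t * t) = 1 := H.circle_mul (H.circle_mul ht ht) ht
  set D₁ := B.ph c d hneg
  set D₂ := B.ph b d hneg
  set D₃ := B.ph b c hneg
  set D₄ := B.ph a d ht * (B.ph b d (H.circle_neg ht) * B.ph c d ht3)
  have hu : ∀ (f : ι → F) (w₀ w₁ w₂ w₃ : F), f a = w₀ → f b = w₁ → f c = w₂ → f d = w₃ →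
      f = fun l => if l = a then w₀ else if l = b then w₁ else if l = c then w₂ else w₃ := by
    intro f w₀ w₁ w₂ w₃ h0 h1 h2 h3
    funext l
    rcases hall l with rfl | rfl | rfl | rfl <;>
      simp [h0, h1, h2, h3, hab.symm, hac.symm, had.symm, hbc.symm, hbd.symm, hcd.symm]
  have e₁ : ∀ l, B.co (D₁.1.1 x) l = (if l = a then 1 else if l = b then 1 else if l = c then -1 else -1) * B.co x l := by
    intro l
    rw [B.co_ph hcd]
    rcases hall l with rfl | rfl | rfl | rfl <;>
      simp [hab, hac, had, hbc, hbd, hcd, hab.symm, hac.symm, had.symm, hbc.symm, hbd.symm, hcd.symm]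
  have e₂ : ∀ l, B.co (D₂.1.1 x) l = (if l = a then 1 else if l = b then -1 else if l = c then 1 else -1) * B.co x l := by
    intro l
    rw [B.co_ph hbd]
    rcases hall l with rfl | rfl | rfl | rfl <;>
      simp [hab, hac, had, hbc, hbd, hcd, hab.symm, hac.symm, had.symm, hbc.symm, hbd.symm, hcd.symm]
  have e₃ : ∀ l, B.co (D₃.1.1 x) l = (if l = a then 1 else if l = b then -1 else if l = c then -1 else 1) * B.co x l := by
    intro l
    rw [B.co_ph hbc]
    rcases hall l with rfl | rfl | rfl | rfl <;>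
      simp [hab, hac, had, hbc, hbd, hcd, hab.symm, hac.symm, had.symm, hbc.symm, hbd.symm, hcd.symm]
  have e₄ : ∀ l, B.co (D₄.1.1 x) l =
      (if l = a then t else if l = b then -t else if l = c then t * t * t else -(t * t * t)) * B.co x l := by
    intro l
    rw [H.sisom_mul_apply, H.sisom_mul_apply]
    simp only [B.co_ph had, B.co_ph hbd, B.co_ph hcd]
    rcases hall l with rfl | rfl | rfl | rfl <;>
      simp [hab, hac, had, hbc, hbd, hcd, hab.symm, hac.symm, had.symm, hbc.symm, hbd.symm, hcd.symm]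
    rw [hσt]
    linear_combination ((t ^ 3 * B.co x l) * (t ^ 24 + t ^ 16 + t ^ 8 + 1)) * h8
  have m₁ := hmove D₁ (B.mono1_ph hcd hneg) _ e₁ (by simp [hab.symm, hac.symm, had.symm, hbc.symm, hbd.symm, hcd.symm])
  have m₂ := hmove D₂ (B.mono1_ph hbd hneg) _ e₂ (by simp [hab.symm, hac.symm, had.symm, hbc.symm, hbd.symm, hcd.symm])
  have m₃ := hmove D₃ (B.mono1_ph hbc hneg) _ e₃ (by simp [hab.symm, hac.symm, had.symm, hbc.symm, hbd.symm, hcd.symm])
  have m₄ := hmove D₄ (B.mono1_mul (B.mono1_ph had ht) (B.mono1_mul (B.mono1_ph hbd (H.circle_neg ht))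
    (B.mono1_ph hcd ht3))) _ e₄ (by simp [hab.symm, hac.symm, had.symm, hbc.symm, hbd.symm, hcd.symm])
  obtain ⟨j₁, l₁, hj₁, hl₁, x₁⟩ := m₁
  obtain ⟨j₂, l₂, hj₂, hl₂, x₂⟩ := m₂
  obtain ⟨j₃, l₃, hj₃, hl₃, x₃⟩ := m₃
  obtain ⟨j₄, l₄, hj₄, hl₄, x₄⟩ := m₄
  have clash : ∀ (D D' : H.SIsom) (o o' : ι → F) (l l' : F) (j j' : ι), (∀ p, B.co (D.1.1 x) p = o p * B.co x p) →
      (∀ p, B.co (D'.1.1 x) p = o' p * B.co x p) → l ≠ 0 → D.1.1 x = l • g.1.1 (B.b j) →
      D'.1.1 x = l' • g.1.1 (B.b j') → j = j' → ∀ p, o' a * o p = o a * o' p := by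
    intro D D' o o' l l' j j' ho ho' hl hD hD' hj p
    subst hj
    have hx0 : ∀ q, B.co x q ≠ 0 := fun q => hfull hg hgM a q
    have key : ∀ q, l' * o q = l * o' q := fun q => mul_right_cancel₀ (hx0 q) (by
      rw [mul_assoc, mul_assoc, ← ho, ← ho', hD, hD', co_smul, co_smul]; ring)
    exact mul_left_cancel₀ hl (by linear_combination (o a) * key p - (o p) * key a)
  have n12 : j₁ ≠ j₂ := fun h => h20 (by
    have := clash _ _ _ _ _ _ _ _ e₁ e₂ hl₁ x₁ x₂ h b
    simp [hab.symm] at this; linear_combination this)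
  have n13 : j₁ ≠ j₃ := fun h => h20 (by
    have := clash _ _ _ _ _ _ _ _ e₁ e₃ hl₁ x₁ x₃ h b
    simp [hab.symm] at this; linear_combination this)
  have n14 : j₁ ≠ j₄ := fun h => mul_ne_zero h20 (H.circle_ne_zero ht) (by
    have := clash _ _ _ _ _ _ _ _ e₁ e₄ hl₁ x₁ x₄ h b
    simp [hab.symm] at this; linear_combination this)
  have n23 : j₂ ≠ j₃ := fun h => h20 (by
    have := clash _ _ _ _ _ _ _ _ e₂ e₃ hl₂ x₂ x₃ h c
    simp [hac.symm, hbc.symm] at this; linear_combination this)
  have n24 : j₂ ≠ j₄ := fun h => h4 (by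
    have := clash _ _ _ _ _ _ _ _ e₂ e₄ hl₂ x₂ x₄ h c
    simp [hac.symm, hbc.symm] at this
    refine mul_left_cancel₀ (H.circle_ne_zero ht) ?_
    linear_combination (-(t * t) - 1) * this)
  have n34 : j₃ ≠ j₄ := fun h => h4 (by
    have := clash _ _ _ _ _ _ _ _ e₃ e₄ hl₃ x₃ x₄ h c
    simp [hac.symm, hbc.symm] at this
    refine mul_left_cancel₀ (H.circle_ne_zero ht) ?_
    linear_combination (1 - t * t) * this)
  have h4card : ({j₁, j₂, j₃, j₄} : Finset ι).card = 4 := by simp [n12, n13, n14, n23, n24, n34]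
  have hsub : ({j₁, j₂, j₃, j₄} : Finset ι) ⊆ Finset.univ.erase a := by
    intro j hj
    simp only [Finset.mem_insert, Finset.mem_singleton] at hj
    rcases hj with rfl | rfl | rfl | rfl <;> simp [hj₁, hj₂, hj₃, hj₄]
  have := Finset.card_le_card hsub
  rw [h4card, Finset.card_erase_of_mem (Finset.mem_univ a), Finset.card_univ, hn] at this
  omega

include hM in
/-- Some element outside the monomial group maps a frame line to a frame line. -/
theorem not_noLine_four (hn : Fintype.card ι = 4) (hq : 4 ≤ H.q) {g : H.SIsom} (hg : g ∈ K)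
    (hgM : ¬ B.Mono1 g.1) : ¬ B.NoLine K := by
  intro hNF
  obtain ⟨a, ha, hgen⟩ := H.exists_circle_gen
  have hcard := H.circle_pow_card ha
  have ha0 := H.circle_ne_zero ha
  by_cases hq7 : H.q = 7
  · rw [hq7] at hcard hgen
    have h4 : a ^ 4 ≠ 1 := hgen 4 (by norm_num) (by norm_num)
    have hneg : a ^ 4 = -1 := (mul_self_eq_one_iff.mp (by rw [← pow_add]; exact hcard)).resolve_left h4
    refine B.false_seven hM hn hNF hq7 ha ?_ h4 hcard hg hgM
    rw [← map_pow, hneg, map_neg, map_one]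
  · refine B.false_of_order hM hn hNF ha ?_ hg hgM
    rw [← pow_add, H.circle_inv ha, inv_pow, ne_eq, inv_eq_one]
    intro h8
    obtain h | h | h : H.q = 4 ∨ H.q = 5 ∨ 8 ≤ H.q := by have := H.q_ne_six; omega
    · rw [h] at hcard
      exact hgen 3 (by norm_num) (by omega) (by linear_combination h8 - a ^ 3 * hcard)
    · rw [h] at hcard
      exact hgen 2 (by norm_num) (by omega) (by linear_combination h8 - a ^ 2 * hcard)
    · exact hgen 8 (by norm_num) h h8

end UFrame

end Cfsg.Lib.Classical
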