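import Mathlib
import Cfsg.Agent.Classical.Unitary.FrameFourSeven
import Cfsg.Agent.Classical.Unitary.FrameMain

set_option autoImplicit false
set_option linter.unusedVariables false
set_option linter.unusedSimpArgs false
set_option linter.unusedSectionVars false
set_option linter.style.haveILetI false

/-! Stabilisers of orthonormal frames are maximal in four-dimensional special unitary groups, `q ≠ 3`. -/

namespace Cfsg.Lib.Classical

universe u v w

namespace UFrame

variable {F : Type u} [Field F] [Fintype F] [DecidableEq F] {V : Type v} [AddCommGroup V] [Module F V]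
  [FiniteDimensional F V] {H : HermSpace F V}
  {ι : Type w} [DecidableEq ι] [Fintype ι] (B : UFrame H ι) {K : Subgroup H.SIsom}

/-- For `q = 2` one centre without zero coordinates gives all of them. -/
theorem all_centres_four_two (hM : ∀ g : H.SIsom, B.Mono (id : ι → ι) g.1 → g ∈ K) (hq : H.q = 2)
    (hn : Fintype.card ι = 4) {x : V} (hx : x ∈ H.uCentres K) (hx4 : 4 ≤ (B.supp x).card) :
    ∀ y, H.h y y = 0 → y ∈ H.uCentres K := by
  have hfull : ∀ z, 4 ≤ (B.supp z).card → ∀ l, B.co z l ≠ 0 := fun z hz l => B.mem_supp.mp (by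
    rw [Finset.eq_univ_of_card (B.supp z) (by have := Finset.card_le_univ (B.supp z); omega)]
    exact Finset.mem_univ l)
  intro y hy
  obtain ⟨k, hk⟩ := B.two_dvd_supp hq hy
  have hle := Finset.card_le_univ (B.supp y)
  rcases (by omega : k = 0 ∨ k = 1 ∨ k = 2) with rfl | rfl | rfl
  · rw [B.supp_eq_empty.mp (Finset.card_eq_zero.mp hk)]; exact H.uCentres_zero K
  · obtain ⟨i, j, hij, hs⟩ := Finset.card_eq_two.mp hk
    exact B.pairs_mono_two hM hq (by omega) hij y hy hs.le
  have hx0 := hfull x hx4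
  have hy0 := hfull y (by omega)
  obtain ⟨a⟩ : Nonempty ι := Fintype.card_pos_iff.mp (by omega)
  obtain ⟨b, c, d, hab, hac, had, hbc, hbd, hcd, hall⟩ := exists_four_names hn a
  set δ : ι → F := fun l => B.co y l / B.co x l with hδ
  have hδ1 : ∀ l, δ l * H.σ (δ l) = 1 := fun l => by
    rw [hδ]
    change B.co y l / B.co x l * H.σ (B.co y l / B.co x l) = 1
    rw [map_div₀, div_mul_div_comm, show B.co y l * H.σ (B.co y l) = 1 from B.nm_one hq (hy0 l),
      show B.co x l * H.σ (B.co x l) = 1 from B.nm_one hq (hx0 l), div_one]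
  set e := H.σ (δ a * δ b * δ c * δ d) with he
  have he1 : e * H.σ e = 1 :=
    H.circle_conj (H.circle_mul (H.circle_mul (H.circle_mul (hδ1 a) (hδ1 b)) (hδ1 c)) (hδ1 d))
  have he3 : e ^ 3 = 1 := by have := H.circle_pow_card he1; rwa [hq] at this
  set g := B.ph b a (H.circle_mul he1 (hδ1 b)) *
    (B.ph c a (H.circle_mul he1 (hδ1 c)) * B.ph d a (H.circle_mul he1 (hδ1 d))) with hg
  have hgK : g ∈ K := K.mul_mem (hM _ (B.mono_ph id hab.symm _))
    (K.mul_mem (hM _ (B.mono_ph id hac.symm _)) (hM _ (B.mono_ph id had.symm _)))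
  have hgx : g.1.1 x = e • y := B.ext_co fun l => by
    rw [hg, H.sisom_mul_apply, H.sisom_mul_apply, co_smul]
    simp only [B.co_ph hab.symm, B.co_ph hac.symm, B.co_ph had.symm]
    have hdiv : ∀ l, δ l * B.co x l = B.co y l := fun l => div_mul_cancel₀ _ (hx0 l)
    rcases hall l with rfl | rfl | rfl | rfl <;>
      simp only [if_pos, if_neg hab, if_neg hac, if_neg had, if_neg hbc, if_neg hbd, if_neg hcd,
        if_neg hab.symm, if_neg hac.symm, if_neg had.symm, if_neg hbc.symm, if_neg hbd.symm, if_neg hcd.symm,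
        mul_assoc, hdiv]
    rw [← hdiv]
    have hl : H.σ (δ b * δ c * δ d) = e * δ l := by
      rw [he]
      simp only [map_mul]
      linear_combination (-(H.σ (δ b) * H.σ (δ c) * H.σ (δ d))) * hδ1 l
    simp only [map_mul] at hl ⊢
    have hσe : H.σ e ^ 3 = 1 := by rw [← map_pow, he3, map_one]
    linear_combination (B.co x l * H.σ (δ b) * H.σ (δ c) * H.σ (δ d)) * hσe + B.co x l * hl
  have hc := HermSpace.uCentres_map hx hgK
  rw [hgx] at hc
  have := HermSpace.uCentres_smul hc (H.σ e)
  rwa [smul_smul, mul_comm, he1, one_smul] at this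

/-- Frame stabilisers in dimension four. -/
theorem frame_four_eq_top (hM : ∀ g : H.SIsom, B.Mono1 g.1 → g ∈ K) (hn : Fintype.card ι = 4) (hq3 : H.q ≠ 3)
    {g : H.SIsom} (hg : g ∈ K) (hgM : ¬ B.Mono1 g.1) : K = ⊤ := by
  have hMid : ∀ g : H.SIsom, B.Mono (id : ι → ι) g.1 → g ∈ K := fun g hg =>
    hM g (B.mono1_of_mono Function.injective_id hg)
  refine HermSpace.eq_top_of_uCentres (Or.inl (by rw [B.finrank_four hn])) ?_
  have hq2 : 2 ≤ H.q := H.two_le_q
  by_cases hq : H.q = 2
  · obtain ⟨x, hx, hx4⟩ := B.four_mono_two hMid hq (by omega) hg hgM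
    exact B.all_centres_four_two hMid hq hn hx hx4
  have hline := B.not_noLine_four hM hn (by omega) hg hgM
  unfold NoLine at hline
  push Not at hline
  obtain ⟨g', hg', i₀, j₀, hij₀, hgM'⟩ := hline
  obtain ⟨x, hx, hx0, e, he⟩ := B.exists_centre hM (by omega) (by omega) ⟨g', hg', hgM', i₀, j₀, hij₀⟩
  have hs : 1 < (B.supp x).card := by
    by_contra hlt
    rcases Finset.eq_empty_or_nonempty (B.supp x) with h | ⟨a, ha⟩
    · exact hx0 (B.supp_eq_empty.mp h)
    have h := hx.1
    rw [B.h_self_nm, Finset.sum_eq_single a (fun t _ hta => ?_) (fun h => absurd (Finset.mem_univ a) h)] at h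
    · exact B.mem_supp.mp ha (B.nm_eq_zero.mp h)
    · exact B.nm_eq_zero.mpr (B.notMem_supp.mp fun ht => hta (Finset.card_le_one.mp (by omega) t ht a ha))
  obtain ⟨a, ha, c, hc, hac⟩ := Finset.one_lt_card.mp hs
  have hp := B.pair_spare id hMid (by omega) hac hx (B.mem_supp.mp ha) (B.mem_supp.mp hc) he
  refine B.all_centres (by omega) (by omega) (B.pairs_all id hMid (by omega) (fun i j i' j' (hij : i ≠ j) (hij' : i' ≠ j') => ?_) hac hp)
  refine ⟨Equiv.swap (Equiv.swap i i' j) j' * Equiv.swap i i', fun a d h => by rw [show a = d from h], ?_, ?_⟩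
  · rw [Equiv.Perm.mul_apply, Equiv.swap_apply_left, Equiv.swap_apply_of_ne_of_ne ?_ hij']
    intro h
    exact hij ((Equiv.swap i i').injective ((Equiv.swap_apply_left i i').trans h))
  · rw [Equiv.Perm.mul_apply, Equiv.swap_apply_left]

end UFrame

end Cfsg.Lib.Classical
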