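import Mathlib
import Cfsg.Agent.Classical.Unitary.GeomLists
import Cfsg.Agent.Classical.Unitary.FrameFourMain

/-! Geometric maximal subgroups of special unitary groups of dimension four. -/

set_option autoImplicit false
set_option linter.unusedVariables false
set_option linter.style.longLine false

open Cfsg

namespace Cfsg.Lib.Classical.SUList

open Cfsg.Lib.Classical in
theorem decomposition_planes {F : Type*} [Field F] [Fintype F] (n q : ℕ) (hF : Fintype.card F = q ^ 2) (hn : 4 ≤ n) (hq3 : 3 ≤ q) {t : ℕ} (k : ℕ) (D : Fin t → Submodule F (Fin n → F)) (hD : Cfsg.Geo.IsNondegenerateMDecomposition (Cfsg.hermForm n F q) k D) (hk2 : 2 ≤ k) : Cfsg.Geo.IsMaximalIn (Cfsg.GU n F q ⊓ Cfsg.Geo.specialLinear (Fin n) F) (Cfsg.Geo.decompositionStabilizer D ⊓ (Cfsg.GU n F q ⊓ Cfsg.Geo.specialLinear (Fin n) F)) := by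
  classical
  set H := stdHerm n hF with hH
  have hWD : ∀ i, H.NondegOn (D i) := fun i => stdHerm_nondegOn hF (hD.nondegenerate i)
  have hbas : ∀ i, ∃ b : Module.Basis (Fin k) F (D i),
      ∀ x y, H.h (b x : Fin n → F) (b y) = if x = y then 1 else 0 := fun i => by
    obtain ⟨b, hb⟩ := (H.restrict _ (hWD i)).exists_orthonormal
    refine ⟨b.reindex (finCongr (hD.decomp.finrank_eq i)), fun x y => ?_⟩
    simp only [Module.Basis.reindex_apply]
    refine (hb _ _).trans ?_
    simp only [EmbeddingLike.apply_eq_iff_eq]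
  choose bl hbl using hbas
  have hint : DirectSum.IsInternal D :=
    DirectSum.isInternal_submodule_iff_iSupIndep_and_iSup_eq_top D |>.mpr ⟨hD.decomp.indep, hD.decomp.iSup_eq_top⟩
  let bs := (hint.collectedBasis bl).reindex (Equiv.sigmaEquivProd (Fin t) (Fin k))
  have hbs : ∀ p : Fin t × Fin k, bs p = (bl p.1 p.2 : Fin n → F) := fun p => by
    simp [bs, DirectSum.IsInternal.collectedBasis_coe, Module.Basis.reindex_apply]
  have horth : ∀ p r, H.h (bs p) (bs r) = if p = r then 1 else 0 := fun p r => by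
    rw [hbs, hbs]
    rcases eq_or_ne p.1 r.1 with h | h
    · obtain ⟨i, x⟩ := p
      obtain ⟨j, y⟩ := r
      obtain rfl : i = j := h
      rw [hbl]
      simp
    · rw [if_neg (fun e => h (congrArg Prod.fst e)), stdHerm_h]
      exact hD.orthogonal _ _ h _ (bl p.1 p.2).2 _ (bl r.1 r.2).2
  let B : UFrame H (Fin t × Fin k) := ⟨bs, horth⟩
  have hcard : Fintype.card (Fin t × Fin k) = n := by
    rw [← Module.finrank_eq_card_basis bs, Module.finrank_fin_fun]
  have hbD : ∀ p : Fin t × Fin k, B.b p ∈ D p.1 := fun p => by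
    show bs p ∈ _
    rw [hbs]; exact (bl p.1 p.2).2
  have hcoD : ∀ i, ∀ x ∈ D i, ∀ p : Fin t × Fin k, p.1 ≠ i → B.co x p = 0 := fun i x hx p hp => by
    show H.h x (B.b p) = 0
    rw [stdHerm_h]
    exact hD.orthogonal _ _ (Ne.symm hp) x hx _ (hbD p)
  have hblock : ∀ i, B.blockSub Prod.fst i = D i := fun i => by
    refine le_antisymm (Submodule.span_le.mpr ?_) fun x hx => (B.mem_blockSub Prod.fst).mpr fun p hp => hcoD i x hx p hp
    rintro _ ⟨p, hp, rfl⟩
    rw [Finset.mem_coe, Finset.mem_filter] at hp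
    rw [← hp.2]; exact hbD p
  have ht := hD.decomp.two_le
  have hk := hD.decomp.pos
  have hmem : ∀ g : H.SIsom, g ∈ (Cfsg.Geo.decompositionStabilizer D).comap (sunitToGL hF) ↔
      ∃ σ : Equiv.Perm (Fin t), ∀ i, (D i).map g.1.1.toLinearMap = D (σ i) :=
    fun g => mem_decompositionStabilizer_iff D g.1.1
  set M := (Cfsg.Geo.decompositionStabilizer D).comap (sunitToGL hF) with hMdef
  have hiff : ∀ g : H.SIsom, g ∈ M ↔ B.Mono Prod.fst g.1 := by
    intro g
    rw [hmem]
    constructor
    · rintro ⟨σ, hσ⟩ i j a c hij ha hc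
      have key : ∀ i a, B.co (g.1.1 (B.b i)) a ≠ 0 → a.1 = σ i.1 := fun i a h => by
        by_contra hne
        refine h (hcoD (σ i.1) _ ?_ a hne)
        rw [← hσ]
        exact Submodule.mem_map_of_mem (hbD i)
      rw [key i a ha, key j c hc, hij]
    · intro h
      have hex' : ∀ i, ∃ o, (D i).map g.1.1.toLinearMap = D o := fun i => by
        obtain ⟨a, ha⟩ : (B.supp (g.1.1 (B.b (i, ⟨0, hk⟩)))).Nonempty := by
          rw [Finset.nonempty_iff_ne_empty, ne_eq, UFrame.supp_eq_empty, LinearEquiv.map_eq_zero_iff]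
          exact B.b.ne_zero _
        refine ⟨a.1, Submodule.eq_of_le_of_finrank_le ?_ ?_⟩
        · rw [← hblock, UFrame.blockSub, Submodule.map_span, Submodule.span_le]
          rintro _ ⟨_, ⟨p, hp, rfl⟩, rfl⟩
          rw [Finset.mem_coe, Finset.mem_filter] at hp
          rw [SetLike.mem_coe, ← hblock, UFrame.mem_blockSub]
          intro r hr
          by_contra hne
          exact hr (h p (i, ⟨0, hk⟩) r a hp.2 hne (B.mem_supp.mp ha))
        · rw [LinearEquiv.finrank_map_eq, hD.decomp.finrank_eq, hD.decomp.finrank_eq]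
      choose o ho using hex'
      have hinj : Function.Injective o := fun i j hij => by
        by_contra hne
        have he : D i = D j := Submodule.map_injective_of_injective g.1.1.injective ((ho i).trans (hij ▸ (ho j).symm))
        have hdis := hD.decomp.indep.pairwiseDisjoint hne
        change Disjoint (D i) (D j) at hdis
        rw [← he, disjoint_self] at hdis
        have hr := hD.decomp.finrank_eq i
        rw [hdis, finrank_bot] at hr
        omega
      exact ⟨Equiv.ofBijective o (Finite.injective_iff_bijective.mp hinj), ho⟩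
  refine isMaximalIn_of_isCoatom_comap (sunitToGL hF) (range_sunitToGL hF) ?_
  refine isCoatom_of_forall ?_ fun K hK g hg hgM => ?_
  · intro htop
    obtain ⟨g, hg⟩ := B.exists_not_mono Prod.fst (by omega)
      (i := (⟨0, by omega⟩, ⟨0, hk⟩)) (j := (⟨1, by omega⟩, ⟨0, hk⟩)) (by simp)
    exact hg ((hiff g).mp (by rw [hMdef, htop]; exact Subgroup.mem_top g))
  have hq : H.q = q := stdHerm_q hF
  haveI : Nontrivial (Fin k) := Fin.nontrivial_iff_two_le.mpr hk2
  have hkb : ∀ p : Fin t × Fin k, ∃ r, r ≠ p ∧ r.1 = p.1 := fun p => by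
    obtain ⟨y, hy⟩ := exists_ne p.2
    exact ⟨(p.1, y), fun e => hy (congrArg Prod.snd e), rfl⟩
  have hM : ∀ g : H.SIsom, B.Mono Prod.fst g.1 → g ∈ K := fun g hg => hK ((hiff g).mpr hg)
  obtain ⟨i, j, hij, hp⟩ := B.cross_pair Prod.fst hM hkb (by omega) hg (fun h => hgM ((hiff g).mpr h))
  refine HermSpace.eq_top_of_uCentres (Or.inl (by rw [Module.finrank_fin_fun]; omega))
    (B.all_centres (by omega) (by omega) (B.pairs_all Prod.fst hM (by omega) ?_ hij hp))
  rintro ⟨i, x⟩ ⟨j, y⟩ ⟨i', x'⟩ ⟨j', y'⟩ hij hij'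
  let e₁ : Equiv.Perm (Fin t) := Equiv.swap i i'
  let e₂ : Equiv.Perm (Fin t) := Equiv.swap (e₁ j) j' * e₁
  have hi : e₂ i = i' := by
    have h1 : e₁ i = i' := Equiv.swap_apply_left _ _
    have h2 : e₁ j ≠ i' := fun h => hij (e₁.injective (h1.trans h.symm))
    rw [Equiv.Perm.mul_apply, h1, Equiv.swap_apply_of_ne_of_ne h2.symm hij']
  have hj : e₂ j = j' := by rw [Equiv.Perm.mul_apply]; exact Equiv.swap_apply_left _ _
  let f : Fin t → Equiv.Perm (Fin k) := fun l =>
    if l = i then Equiv.swap x x' else if l = j then Equiv.swap y y' else 1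
  refine ⟨(Equiv.prodCongrRight f).trans (e₂.prodCongr (Equiv.refl _)), fun a d h => ?_, ?_, ?_⟩
  · show e₂ a.1 = e₂ d.1
    rw [h]
  · show (e₂ i, f i x) = (i', x')
    simp [f, hi]
  · show (e₂ j, f j y) = (j', y')
    simp [f, hj, Ne.symm hij]

open Cfsg.Lib.Classical in
theorem decomposition_frame {F : Type*} [Field F] [Fintype F] (n q : ℕ) (hF : Fintype.card F = q ^ 2) (hn4 : n = 4) (hq3 : q ≠ 3) {t : ℕ} (k : ℕ) (D : Fin t → Submodule F (Fin n → F)) (hD : Cfsg.Geo.IsNondegenerateMDecomposition (Cfsg.hermForm n F q) k D) (hk1 : k = 1) : Cfsg.Geo.IsMaximalIn (Cfsg.GU n F q ⊓ Cfsg.Geo.specialLinear (Fin n) F) (Cfsg.Geo.decompositionStabilizer D ⊓ (Cfsg.GU n F q ⊓ Cfsg.Geo.specialLinear (Fin n) F)) := by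
  classical
  set H := stdHerm n hF with hH
  have hWD : ∀ i, H.NondegOn (D i) := fun i => stdHerm_nondegOn hF (hD.nondegenerate i)
  have hbas : ∀ i, ∃ b : Module.Basis (Fin k) F (D i),
      ∀ x y, H.h (b x : Fin n → F) (b y) = if x = y then 1 else 0 := fun i => by
    obtain ⟨b, hb⟩ := (H.restrict _ (hWD i)).exists_orthonormal
    refine ⟨b.reindex (finCongr (hD.decomp.finrank_eq i)), fun x y => ?_⟩
    simp only [Module.Basis.reindex_apply]
    refine (hb _ _).trans ?_
    simp only [EmbeddingLike.apply_eq_iff_eq]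
  choose bl hbl using hbas
  have hint : DirectSum.IsInternal D :=
    DirectSum.isInternal_submodule_iff_iSupIndep_and_iSup_eq_top D |>.mpr ⟨hD.decomp.indep, hD.decomp.iSup_eq_top⟩
  let bs := (hint.collectedBasis bl).reindex (Equiv.sigmaEquivProd (Fin t) (Fin k))
  have hbs : ∀ p : Fin t × Fin k, bs p = (bl p.1 p.2 : Fin n → F) := fun p => by
    simp [bs, DirectSum.IsInternal.collectedBasis_coe, Module.Basis.reindex_apply]
  have horth : ∀ p r, H.h (bs p) (bs r) = if p = r then 1 else 0 := fun p r => by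
    rw [hbs, hbs]
    rcases eq_or_ne p.1 r.1 with h | h
    · obtain ⟨i, x⟩ := p
      obtain ⟨j, y⟩ := r
      obtain rfl : i = j := h
      rw [hbl]
      simp
    · rw [if_neg (fun e => h (congrArg Prod.fst e)), stdHerm_h]
      exact hD.orthogonal _ _ h _ (bl p.1 p.2).2 _ (bl r.1 r.2).2
  let B : UFrame H (Fin t × Fin k) := ⟨bs, horth⟩
  have hcard : Fintype.card (Fin t × Fin k) = n := by
    rw [← Module.finrank_eq_card_basis bs, Module.finrank_fin_fun]
  have hbD : ∀ p : Fin t × Fin k, B.b p ∈ D p.1 := fun p => by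
    show bs p ∈ _
    rw [hbs]; exact (bl p.1 p.2).2
  have hcoD : ∀ i, ∀ x ∈ D i, ∀ p : Fin t × Fin k, p.1 ≠ i → B.co x p = 0 := fun i x hx p hp => by
    show H.h x (B.b p) = 0
    rw [stdHerm_h]
    exact hD.orthogonal _ _ (Ne.symm hp) x hx _ (hbD p)
  have hblock : ∀ i, B.blockSub Prod.fst i = D i := fun i => by
    refine le_antisymm (Submodule.span_le.mpr ?_) fun x hx => (B.mem_blockSub Prod.fst).mpr fun p hp => hcoD i x hx p hp
    rintro _ ⟨p, hp, rfl⟩
    rw [Finset.mem_coe, Finset.mem_filter] at hp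
    rw [← hp.2]; exact hbD p
  have ht := hD.decomp.two_le
  have hk := hD.decomp.pos
  have hmem : ∀ g : H.SIsom, g ∈ (Cfsg.Geo.decompositionStabilizer D).comap (sunitToGL hF) ↔
      ∃ σ : Equiv.Perm (Fin t), ∀ i, (D i).map g.1.1.toLinearMap = D (σ i) :=
    fun g => mem_decompositionStabilizer_iff D g.1.1
  set M := (Cfsg.Geo.decompositionStabilizer D).comap (sunitToGL hF) with hMdef
  have hiff : ∀ g : H.SIsom, g ∈ M ↔ B.Mono Prod.fst g.1 := by
    intro g
    rw [hmem]
    constructor
    · rintro ⟨σ, hσ⟩ i j a c hij ha hc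
      have key : ∀ i a, B.co (g.1.1 (B.b i)) a ≠ 0 → a.1 = σ i.1 := fun i a h => by
        by_contra hne
        refine h (hcoD (σ i.1) _ ?_ a hne)
        rw [← hσ]
        exact Submodule.mem_map_of_mem (hbD i)
      rw [key i a ha, key j c hc, hij]
    · intro h
      have hex' : ∀ i, ∃ o, (D i).map g.1.1.toLinearMap = D o := fun i => by
        obtain ⟨a, ha⟩ : (B.supp (g.1.1 (B.b (i, ⟨0, hk⟩)))).Nonempty := by
          rw [Finset.nonempty_iff_ne_empty, ne_eq, UFrame.supp_eq_empty, LinearEquiv.map_eq_zero_iff]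
          exact B.b.ne_zero _
        refine ⟨a.1, Submodule.eq_of_le_of_finrank_le ?_ ?_⟩
        · rw [← hblock, UFrame.blockSub, Submodule.map_span, Submodule.span_le]
          rintro _ ⟨_, ⟨p, hp, rfl⟩, rfl⟩
          rw [Finset.mem_coe, Finset.mem_filter] at hp
          rw [SetLike.mem_coe, ← hblock, UFrame.mem_blockSub]
          intro r hr
          by_contra hne
          exact hr (h p (i, ⟨0, hk⟩) r a hp.2 hne (B.mem_supp.mp ha))
        · rw [LinearEquiv.finrank_map_eq, hD.decomp.finrank_eq, hD.decomp.finrank_eq]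
      choose o ho using hex'
      have hinj : Function.Injective o := fun i j hij => by
        by_contra hne
        have he : D i = D j := Submodule.map_injective_of_injective g.1.1.injective ((ho i).trans (hij ▸ (ho j).symm))
        have hdis := hD.decomp.indep.pairwiseDisjoint hne
        change Disjoint (D i) (D j) at hdis
        rw [← he, disjoint_self] at hdis
        have hr := hD.decomp.finrank_eq i
        rw [hdis, finrank_bot] at hr
        omega
      exact ⟨Equiv.ofBijective o (Finite.injective_iff_bijective.mp hinj), ho⟩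
  refine isMaximalIn_of_isCoatom_comap (sunitToGL hF) (range_sunitToGL hF) ?_
  refine isCoatom_of_forall ?_ fun K hK g hg hgM => ?_
  · intro htop
    obtain ⟨g, hg⟩ := B.exists_not_mono Prod.fst (by omega)
      (i := (⟨0, by omega⟩, ⟨0, hk⟩)) (j := (⟨1, by omega⟩, ⟨0, hk⟩)) (by simp)
    exact hg ((hiff g).mp (by rw [hMdef, htop]; exact Subgroup.mem_top g))
  have hq : H.q = q := stdHerm_q hF
  subst hk1
  have hinj : Function.Injective (Prod.fst : Fin t × Fin 1 → Fin t) := fun a c h => Prod.ext h (Subsingleton.elim _ _)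
  exact B.frame_four_eq_top (fun g hg => hK ((hiff g).mpr (B.mono_of_mono1 hinj hg))) (hcard.trans hn4)
    (by rw [hq]; exact hq3) hg (fun h => hgM ((hiff g).mpr (B.mono_of_mono1 hinj h)))

end Cfsg.Lib.Classical.SUList
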