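import Mathlib
import Cfsg.Prelude.Def_ClassicalGeometry
import Cfsg.Agent.Classical.Unitary.IsoLines
import Cfsg.Agent.Classical.Unitary.Decomp
import Cfsg.Agent.Classical.Symp.IsotropicFrames

/-! Parabolic subgroups of the unitary group by counting isotropic frames. -/

set_option autoImplicit false
set_option linter.unusedSimpArgs false
set_option linter.unusedSectionVars false
set_option linter.unusedVariables false
set_option linter.style.haveILetI false
set_option linter.flexible false

namespace Cfsg.Lib.Classical.UIso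

open Submodule

universe u v

variable {F : Type u} [Field F] [Fintype F] {V : Type v} [AddCommGroup V] [Module F V] [FiniteDimensional F V]
  (H : HermSpace F V)

/-- Isotropic frames. -/
def IsFrame {k : ℕ} (e : Fin k → V) : Prop := LinearIndependent F e ∧ ∀ i j, H.h (e i) (e j) = 0

/-- Hyperbolic partners of a frame. -/
theorem exists_dual {k : ℕ} {e : Fin k → V} (he : IsFrame H e) :
    ∃ f : Fin k → V, (∀ i j, H.h (e i) (f j) = if i = j then 1 else 0) ∧ ∀ i j, H.h (f i) (f j) = 0 := by
  classical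
  let bs := Module.Basis.span he.1
  choose φ hφ using fun j => LinearMap.exists_extend (bs.coord j)
  choose u hu using fun j => H.exists_lin (φ j)
  have heu : ∀ i j, H.h (e i) (u j) = if i = j then 1 else 0 := fun i j => by
    rw [hu]
    have hi : (bs i : V) = e i := congrArg Subtype.val (Module.Basis.span_apply he.1 i)
    have h := LinearMap.congr_fun (hφ j) (bs i)
    rw [LinearMap.comp_apply, Submodule.subtype_apply, hi, Module.Basis.coord_apply, Module.Basis.repr_self,
      Finsupp.single_apply] at h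
    exact h
  have hue : ∀ i j, H.h (u j) (e i) = if i = j then 1 else 0 := fun i j => by
    rw [H.symm, heu]; split_ifs <;> simp
  obtain ⟨θ, hθ⟩ := H.conj.exists_trace_one
  let f : Fin k → V := fun j => u j - ∑ i, (θ * H.h (u j) (u i)) • e i
  have hef : ∀ i j, H.h (e i) (f j) = if i = j then 1 else 0 := fun i j => by
    simp only [f, H.sub_right, H.sum_right, H.smul_right, he.2, mul_zero, Finset.sum_const_zero, sub_zero, heu]
  refine ⟨f, hef, fun j l => ?_⟩
  have h1 : ∀ i, H.h (e i) (f l) = if i = l then 1 else 0 := fun i => hef i l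
  rw [show f j = u j - ∑ i, (θ * H.h (u j) (u i)) • e i from rfl, H.sub_left, H.sum_left]
  simp only [H.smul_left, h1, mul_ite, mul_one, mul_zero, Finset.sum_ite_eq', Finset.mem_univ, if_true]
  simp only [f, H.sub_right, H.sum_right, H.smul_right, hue, mul_ite, mul_one, mul_zero, Finset.sum_ite_eq',
    Finset.mem_univ, if_true, map_mul]
  rw [← H.symm (u j) (u l)]
  linear_combination (-(H.h (u j) (u l))) * hθ

theorem repr_pair {k : ℕ} {e f : Fin k → V} (he : ∀ i j, H.h (e i) (e j) = 0)
    (hef : ∀ i j, H.h (e i) (f j) = if i = j then 1 else 0) (hff : ∀ i j, H.h (f i) (f j) = 0) (a b : Fin k → F)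
    (j : Fin k) :
    H.h ((∑ i, a i • e i) + ∑ i, b i • f i) (f j) = a j ∧ H.h ((∑ i, a i • e i) + ∑ i, b i • f i) (e j) = b j := by
  have hfe : ∀ i j, H.h (f i) (e j) = if j = i then 1 else 0 := fun i j => by
    rw [H.symm, hef]; split_ifs <;> simp
  constructor
  · simp [H.add_left, H.sum_left, H.smul_left, hef, hff, Finset.sum_ite_eq']
  · simp [H.add_left, H.sum_left, H.smul_left, he, hfe, Finset.sum_ite_eq]

theorem dual_li {k : ℕ} {e f : Fin k → V} (he : ∀ i j, H.h (e i) (e j) = 0)
    (hef : ∀ i j, H.h (e i) (f j) = if i = j then 1 else 0) (hff : ∀ i j, H.h (f i) (f j) = 0) :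
    LinearIndependent F (Sum.elim e f) ∧ H.NondegOn (span F (Set.range (Sum.elim e f))) := by
  have hspan : ∀ x ∈ span F (Set.range (Sum.elim e f)), ∃ a b : Fin k → F, x = (∑ i, a i • e i) + ∑ i, b i • f i := by
    intro x hx
    obtain ⟨c, rfl⟩ := Submodule.mem_span_range_iff_exists_fun F |>.mp hx
    exact ⟨fun i => c (Sum.inl i), fun i => c (Sum.inr i), by rw [Fintype.sum_sum_type]; rfl⟩
  refine ⟨Fintype.linearIndependent_iff.mpr fun c hc i => ?_, fun x hx hxo => ?_⟩
  · rw [Fintype.sum_sum_type] at hc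
    have h := repr_pair H he hef hff (fun i => c (Sum.inl i)) (fun i => c (Sum.inr i))
    simp only [Sum.elim_inl, Sum.elim_inr] at hc
    rcases i with i | i
    · rw [← (h i).1, hc, H.zero_left]
    · rw [← (h i).2, hc, H.zero_left]
  · obtain ⟨a, b, rfl⟩ := hspan x hx
    have h := repr_pair H he hef hff a b
    have ha : a = 0 := funext fun j => by
      rw [← (h j).1]; exact H.eq_zero_symm (hxo _ (subset_span ⟨Sum.inr j, rfl⟩))
    have hb : b = 0 := funext fun j => by
      rw [← (h j).2]; exact H.eq_zero_symm (hxo _ (subset_span ⟨Sum.inl j, rfl⟩))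
    simp [ha, hb]

/-- The action on a frame. -/
def act {k : ℕ} (g : H.Isom) (e : Fin k → V) : Fin k → V := fun i => g.1 (e i)

theorem act_frame {k : ℕ} (g : H.Isom) {e : Fin k → V} (he : IsFrame H e) : IsFrame H (act H g e) :=
  ⟨he.1.map' g.1.toLinearMap (LinearEquiv.ker _), fun i j => by
    show H.h (g.1 (e i)) (g.1 (e j)) = 0
    rw [H.map_form, he.2]⟩

theorem transitive {k : ℕ} {e e' : Fin k → V} (he : IsFrame H e) (he' : IsFrame H e') :
    ∃ g : H.Isom, act H g e = e' := by
  classical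
  obtain ⟨f, hef, hff⟩ := exists_dual H he
  obtain ⟨f', hef', hff'⟩ := exists_dual H he'
  obtain ⟨hli, hnd⟩ := dual_li H he.2 hef hff
  obtain ⟨hli', hnd'⟩ := dual_li H he'.2 hef' hff'
  let b := Module.Basis.span hli
  let b' := Module.Basis.span hli'
  have hb : ∀ i, (b i : V) = Sum.elim e f i := fun i => congrArg Subtype.val (Module.Basis.span_apply hli i)
  have hb' : ∀ i, (b' i : V) = Sum.elim e' f' i := fun i => congrArg Subtype.val (Module.Basis.span_apply hli' i)
  let φ := b.equiv b' (Equiv.refl _)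
  have hφ : ∀ i, φ (b i) = b' i := fun i => b.equiv_apply i b' _
  have hgram : ∀ i j, H.h (Sum.elim e' f' i) (Sum.elim e' f' j) = H.h (Sum.elim e f i) (Sum.elim e f j) := by
    rintro (i | i) (j | j) <;> simp only [Sum.elim_inl, Sum.elim_inr, he.2, he'.2, hef, hef', hff, hff']
    rw [H.symm, hef', H.symm (f i), hef]
  obtain ⟨g, hg⟩ := H.exists_extend_nondeg hnd hnd' φ (fun x y => by
    rw [← b.sum_repr x, ← b.sum_repr y]
    simp only [map_sum, map_smul, hφ, Submodule.coe_sum, Submodule.coe_smul, H.sum_left, H.sum_right, H.smul_left,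
      H.smul_right, hb, hb', hgram])
  refine ⟨g, funext fun i => ?_⟩
  show g.1 (e i) = e' i
  have := hg (b (Sum.inl i))
  rwa [hφ, hb, hb'] at this

/-- Counting a preimage of a set of frames. -/
theorem card_pre {k : ℕ} {e₀ : Fin k → V} (he₀ : IsFrame H e₀) (Φ : (Fin k → V) → Prop) :
    Nat.card {g : H.Isom // Φ (act H g e₀)} =
      Nat.card {e : Fin k → V // IsFrame H e ∧ Φ e} * Nat.card {g : H.Isom // act H g e₀ = e₀} := by
  rw [← Nat.card_prod]
  choose s hs using fun e : {e : Fin k → V // IsFrame H e ∧ Φ e} => transitive H he₀ e.2.1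
  have hmul : ∀ a b : H.Isom, act H (a * b) e₀ = act H a (act H b e₀) := fun a b => funext fun i => by
    simp [act, HermSpace.mul_apply']
  have hinv : ∀ a : H.Isom, ∀ e : Fin k → V, act H a⁻¹ (act H a e) = e := fun a e => funext fun i => by
    simp [act, HermSpace.inv_apply_self]
  refine (Nat.card_eq_of_bijective
    (fun x : {e : Fin k → V // IsFrame H e ∧ Φ e} × {g : H.Isom // act H g e₀ = e₀} =>
      (⟨s x.1 * x.2.1, by rw [hmul, x.2.2, hs]; exact x.1.2.2⟩ : {g : H.Isom // Φ (act H g e₀)})) ⟨?_, ?_⟩).symm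
  · rintro ⟨e, a⟩ ⟨e', a'⟩ h
    have e1 : s e * a.1 = s e' * a'.1 := congrArg Subtype.val h
    have h1 : act H (s e * a.1) e₀ = e.1 := by rw [hmul, a.2, hs]
    have h2 : act H (s e' * a'.1) e₀ = e'.1 := by rw [hmul, a'.2, hs]
    have hee : e = e' := Subtype.ext (by rw [← h1, ← h2, e1])
    subst hee
    exact Prod.ext rfl (Subtype.ext (mul_left_cancel e1))
  · rintro ⟨g, hg⟩
    let e : {e : Fin k → V // IsFrame H e ∧ Φ e} := ⟨act H g e₀, act_frame H g he₀, hg⟩
    refine ⟨⟨e, ⟨(s e)⁻¹ * g, ?_⟩⟩, Subtype.ext (mul_inv_cancel_left _ _)⟩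
    rw [hmul, show act H g e₀ = act H (s e) e₀ from (hs e).symm, hinv]

theorem frame_succ {k : ℕ} (g : Fin (k + 1) → V) :
    IsFrame H g ↔ IsFrame H (Fin.init g) ∧
      (g (Fin.last k) ∈ H.orth (span F (Set.range (Fin.init g))) ∧ H.h (g (Fin.last k)) (g (Fin.last k)) = 0 ∧
        g (Fin.last k) ∉ span F (Set.range (Fin.init g))) := by
  have hli : LinearIndependent F g ↔ LinearIndependent F (Fin.init g) ∧
      g (Fin.last k) ∉ span F (Set.range (Fin.init g)) := by
    conv_lhs => rw [← Fin.snoc_init_self g]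
    exact linearIndependent_finSnoc
  rw [HermSpace.mem_orth_span]
  constructor
  · rintro ⟨h1, h2⟩
    exact ⟨⟨(hli.mp h1).1, fun i j => h2 _ _⟩, by rintro _ ⟨i, rfl⟩; exact h2 _ _, h2 _ _, (hli.mp h1).2⟩
  · rintro ⟨⟨h1, h2⟩, h3, h4, h5⟩
    refine ⟨hli.mpr ⟨h1, h5⟩, fun i j => ?_⟩
    have h6 : ∀ i : Fin k, H.h (g (Fin.last k)) (g i.castSucc) = 0 := fun i => h3 _ ⟨i, rfl⟩
    refine Fin.lastCases ?_ (fun i => ?_) i <;> refine Fin.lastCases ?_ (fun j => ?_) j
    · exact h4
    · exact h6 j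
    · exact H.eq_zero_symm (h6 i)
    · exact h2 i j

/-- The number of isotropic vectors as a formula. -/
def isoCount (q n : ℕ) : ℕ :=
  if Even n then (q ^ n - 1) * (q ^ (n - 1) + 1) else (q ^ n + 1) * (q ^ (n - 1) - 1)

theorem card_iso {q : ℕ} (hF : Fintype.card F = q ^ 2) (hσ : H.σ = powConj hF) :
    Nat.card {x : V // H.h x x = 0 ∧ x ≠ 0} = isoCount q (Module.finrank F V) := by
  obtain ⟨e, he⟩ := H.exists_isometry (stdHerm (Module.finrank F V) hF) hσ.symm (by rw [Module.finrank_fin_fun])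
  rw [isoCount, ← card_iso_nonzero hF]
  refine Nat.card_congr (e.toEquiv.subtypeEquiv fun x => ?_)
  show H.h x x = 0 ∧ x ≠ 0 ↔ Cfsg.hermForm _ F q (e x) (e x) = 0 ∧ e x ≠ 0
  rw [← stdHerm_h hF, he, ne_eq, ne_eq, EmbeddingLike.map_eq_zero_iff]

theorem card_frames {q : ℕ} (hF : Fintype.card F = q ^ 2) (hσ : H.σ = powConj hF) {n : ℕ}
    (hn : Module.finrank F V = n) :
    ∀ k, Nat.card {e : Fin k → V // IsFrame H e} = ∏ i ∈ Finset.range k, (q ^ (2 * i) * isoCount q (n - 2 * i)) := by
  classical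
  haveI : Finite V := Module.finite_of_finite F
  intro k
  induction k with
  | zero =>
    haveI : Unique {e : Fin 0 → V // IsFrame H e} :=
      { default := ⟨Fin.elim0, linearIndependent_empty_type, fun i => i.elim0⟩
        uniq := fun f => Subtype.ext (funext fun i => i.elim0) }
    simp
  | succ k ih =>
    rw [Finset.prod_range_succ, ← ih, Nat.card_congr (Equiv.subtypeEquivRight (frame_succ H))]
    refine IsoFrames.card_step (IsFrame H) (fun e v => v ∈ H.orth (span F (Set.range e)) ∧ H.h v v = 0 ∧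
      v ∉ span F (Set.range e)) _ fun e he => ?_
    obtain ⟨f, hef, hff⟩ := exists_dual H he
    obtain ⟨hli, hnd⟩ := dual_li H he.2 hef hff
    set W := span F (Set.range e)
    set P := span F (Set.range (Sum.elim e f)) with hP
    have hWP : W ≤ P := span_mono (by rintro _ ⟨i, rfl⟩; exact ⟨Sum.inl i, rfl⟩)
    have hPdim : Module.finrank F P = 2 * k := by
      rw [hP, finrank_span_eq_card hli, Fintype.card_sum, Fintype.card_fin, two_mul]
    have hNdim : Module.finrank F (H.orth P) = n - 2 * k := by rw [H.finrank_orth, hPdim, hn]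
    have hWcard : Nat.card W = q ^ (2 * k) := by
      rw [Module.natCard_eq_pow_finrank (K := F), finrank_span_eq_card he.1, Fintype.card_fin,
        Nat.card_eq_fintype_card, hF, ← pow_mul]
    have hwW : ∀ w ∈ W, w ∈ H.orth W := fun w hw => by
      rw [HermSpace.mem_orth_span]
      rintro _ ⟨j, rfl⟩
      obtain ⟨c, rfl⟩ := (Submodule.mem_span_range_iff_exists_fun F).mp hw
      simp [H.sum_left, H.smul_left, he.2]
    have hxW : ∀ x ∈ H.orth P, x ∈ H.orth W := fun x hx w hw => hx w (hWP hw)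
    have hval : ∀ w ∈ W, ∀ x ∈ H.orth P, H.h (w + x) (w + x) = H.h x x := fun w hw x hx => by
      rw [H.add_left, H.add_right, H.add_right, hwW w hw w hw, hxW x hx w hw, H.eq_zero_symm (hxW x hx w hw), zero_add,
        zero_add, zero_add]
    rw [← hWcard, ← hNdim, ← card_iso (H.restrict (H.orth P) (H.nondegOn_orth hnd)) hF hσ, ← Nat.card_prod]
    refine (Nat.card_eq_of_bijective
      (fun a : W × {x : H.orth P // H.h (x : V) x = 0 ∧ x ≠ 0} => (⟨(a.1 : V) + (a.2.1 : V),
        add_mem (hwW _ a.1.2) (hxW _ a.2.1.2), (hval _ a.1.2 _ a.2.1.2).trans a.2.2.1, fun h => a.2.2.2 (Subtype.ext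
          (disjoint_def.mp ((H.nondegOn_iff_disjoint P).mp hnd) _
            (hWP ((add_mem_cancel_left a.1.2).mp h)) a.2.1.2))⟩ :
        {v : V // v ∈ H.orth W ∧ H.h v v = 0 ∧ v ∉ W})) ⟨?_, ?_⟩).symm
    · rintro ⟨⟨w, hw⟩, ⟨⟨x, hx⟩, hx'⟩⟩ ⟨⟨w', hw'⟩, ⟨⟨x', hx''⟩, hx'''⟩⟩ h
      have e1 : w + x = w' + x' := congrArg Subtype.val h
      have e2 : w - w' = x' - x := by linear_combination (norm := module) e1
      have e3 : w - w' = 0 := disjoint_def.mp ((H.nondegOn_iff_disjoint P).mp hnd) _ (hWP (sub_mem hw hw'))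
        (e2 ▸ sub_mem hx'' hx)
      obtain rfl : w = w' := sub_eq_zero.mp e3
      obtain rfl : x = x' := add_left_cancel e1
      rfl
    · rintro ⟨v, hv, hvv, hvW⟩
      obtain ⟨p, hp, x, hx, rfl⟩ := Submodule.mem_sup.mp ((H.isCompl_orth hnd).sup_eq_top ▸ mem_top : v ∈ P ⊔ H.orth P)
      obtain ⟨c, rfl⟩ := (Submodule.mem_span_range_iff_exists_fun F).mp hp
      have hb : ∀ j, c (Sum.inr j) = 0 := fun j => by
        have h1 := hv (e j) (subset_span ⟨j, rfl⟩)
        rw [Fintype.sum_sum_type] at h1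
        rw [H.add_left, hx (e j) (hWP (subset_span ⟨j, rfl⟩)), add_zero] at h1
        exact (repr_pair H he.2 hef hff _ _ j).2.symm.trans h1
      have hpW : (∑ i, c i • Sum.elim e f i) ∈ W := by
        rw [Fintype.sum_sum_type]
        simp only [Sum.elim_inl, Sum.elim_inr, hb, zero_smul, Finset.sum_const_zero, add_zero]
        exact sum_mem fun i _ => smul_mem _ _ (subset_span ⟨i, rfl⟩)
      refine ⟨⟨⟨_, hpW⟩, ⟨⟨x, hx⟩, (hval _ hpW x hx).symm.trans hvv, fun h => hvW ?_⟩⟩, rfl⟩
      rw [show x = 0 from congrArg Subtype.val h, add_zero]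
      exact hpW

theorem cardGU_step (q j : ℕ) :
    cardGUFormula q (j + 2) = isoCount q (j + 2) * (q ^ (2 * j + 1) * cardGUFormula q j) := by
  have e : (j + 2) * (j + 2 - 1) / 2 = j * (j - 1) / 2 + (2 * j + 1) := by
    rw [show (j + 2) * (j + 2 - 1) = j * (j - 1) + (2 * j + 1) * 2 by
      rcases j with _ | i
      · rfl
      · simp only [Nat.add_sub_cancel, show i + 1 + 2 - 1 = i + 2 from rfl]; ring]
    omega
  rw [cardGUFormula, cardGUFormula, Finset.prod_range_succ, Finset.prod_range_succ, e, pow_add, isoCount]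
  simp only [Nat.add_sub_cancel, show j + 2 - 1 = j + 1 from rfl]
  by_cases h : Even j
  · have h1 : ¬ Even (j + 1) := by simpa [Nat.even_add_one] using h
    have h2 : Even (j + 2) := h.add even_two
    rw [if_pos h, if_neg h1, if_pos h2]; ring
  · have h1 : Even (j + 1) := Nat.even_add_one.mpr h
    have h2 : ¬ Even (j + 2) := by simpa [Nat.even_add] using h
    rw [if_neg h, if_pos h1, if_neg h2]; ring

theorem prod_identity (q : ℕ) : ∀ k j : ℕ,
    (∏ i ∈ Finset.range k, (q ^ (2 * i) * isoCount q (j + 2 * k - 2 * i))) *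
        (q ^ (k * (2 * j + k)) * cardGUFormula q j) = cardGUFormula q (j + 2 * k) := by
  intro k
  induction k with
  | zero => intro j; simp
  | succ k ih =>
    intro j
    have h := ih (j + 2)
    rw [cardGU_step, show j + 2 + 2 * k = j + 2 * (k + 1) by ring] at h
    rw [Finset.prod_range_succ, ← h, show j + 2 * (k + 1) - 2 * k = j + 2 by omega]
    have e : q ^ (2 * k) * q ^ ((k + 1) * (2 * j + (k + 1))) = q ^ (k * (2 * (j + 2) + k)) * q ^ (2 * j + 1) := by
      rw [← pow_add, ← pow_add]; congr 1; ring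
    linear_combination (norm := ring_nf) (∏ i ∈ Finset.range k, (q ^ (2 * i) * isoCount q (j + 2 * (k + 1) - 2 * i))) *
      isoCount q (j + 2) * cardGUFormula q j * e

/-- Maximal parabolics of the general unitary group. -/
theorem card_subStab {q : ℕ} (hF : Fintype.card F = q ^ 2) (hσ : H.σ = powConj hF) (hq : H.q = q) {k j : ℕ}
    (hn : Module.finrank F V = j + 2 * k) (W : Submodule F V) (hWk : Module.finrank F W = k)
    (hW : ∀ u ∈ W, ∀ v ∈ W, H.h u v = 0) :
    Nat.card (H.subStab W) =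
      q ^ (k * (2 * j + k)) * (∏ i : Fin k, ((q ^ 2) ^ k - (q ^ 2) ^ (i : ℕ))) * cardGUFormula q j := by
  classical
  haveI : Finite V := Module.finite_of_finite F
  let bW := Module.finBasisOfFinrankEq F W hWk
  let e₀ : Fin k → V := fun i => (bW i : V)
  have he₀ : IsFrame H e₀ := ⟨bW.linearIndependent.map' W.subtype W.ker_subtype, fun i l => hW _ (bW i).2 _ (bW l).2⟩
  have hspan : span F (Set.range e₀) = W := by
    rw [show Set.range e₀ = W.subtype '' Set.range bW from Set.range_comp W.subtype bW, ← map_span, bW.span_eq,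
      Submodule.map_top, range_subtype]
  have h1 := card_pre H he₀ (fun _ => True)
  simp only [and_true] at h1
  rw [Nat.card_congr (Equiv.subtypeUnivEquiv fun _ => trivial), card_frames H hF hσ hn, H.card_isom, hq, hn] at h1
  have h2 := card_pre H he₀ (fun e => ∀ i, e i ∈ W)
  have e1 : Nat.card (H.subStab W) = Nat.card {g : H.Isom // ∀ i, act H g e₀ i ∈ W} := by
    refine Nat.card_congr (Equiv.subtypeEquivRight fun g => ⟨fun hg i => (hg _).mp (bW i).2, fun hg => ?_⟩)
    refine H.mem_subStab_of_map_le fun x hx => ?_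
    have : span F (Set.range e₀) ≤ W.comap g.1.toLinearMap := span_le.mpr (by rintro _ ⟨i, rfl⟩; exact hg i)
    rw [hspan] at this
    exact this hx
  have e2 : Nat.card {e : Fin k → V // IsFrame H e ∧ ∀ i, e i ∈ W} = ∏ i : Fin k, ((q ^ 2) ^ k - (q ^ 2) ^ (i : ℕ)) := by
    rw [← hF, ← hWk, ← card_linearIndependent (K := F) (V := W) (le_refl _), hWk]
    refine Nat.card_congr
      { toFun := fun f => ⟨fun i => ⟨f.1 i, f.2.2 i⟩, LinearIndependent.of_comp W.subtype f.2.1.1⟩
        invFun := fun s => ⟨fun i => (s.1 i : V), ⟨s.2.map' W.subtype W.ker_subtype,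
          fun i j => hW _ (s.1 i).2 _ (s.1 j).2⟩, fun i => (s.1 i).2⟩
        left_inv := fun f => rfl
        right_inv := fun s => rfl }
  rw [e1, h2, e2]
  have hpos : 0 < ∏ i ∈ Finset.range k, (q ^ (2 * i) * isoCount q (j + 2 * k - 2 * i)) := by
    rw [← card_frames H hF hσ hn]
    exact Nat.card_pos_iff.mpr ⟨⟨⟨e₀, he₀⟩⟩, inferInstance⟩
  have h3 : Nat.card {g : H.Isom // act H g e₀ = e₀} = q ^ (k * (2 * j + k)) * cardGUFormula q j :=
    Nat.eq_of_mul_eq_mul_left hpos (h1.symm.trans (prod_identity q k j).symm)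
  rw [h3]
  ring

/-- Every norm-one scalar is a determinant on the stabiliser. -/
theorem det_subStab_surj {k : ℕ} (hn1 : 1 ≤ Module.finrank F V) (W : Submodule F V) (hWk : Module.finrank F W = k)
    (hW : ∀ u ∈ W, ∀ v ∈ W, H.h u v = 0) (z : (normUnits H.σ).ker) :
    ∃ g ∈ H.subStab W, H.detHom g = z.1 := by
  classical
  let bW := Module.finBasisOfFinrankEq F W hWk
  let e : Fin k → V := fun i => (bW i : V)
  have he : IsFrame H e := ⟨bW.linearIndependent.map' W.subtype W.ker_subtype, fun i l => hW _ (bW i).2 _ (bW l).2⟩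
  have hspan : span F (Set.range e) = W := by
    rw [show Set.range e = W.subtype '' Set.range bW from Set.range_comp W.subtype bW, ← map_span, bW.span_eq,
      Submodule.map_top, range_subtype]
  obtain ⟨f, hef, hff⟩ := exists_dual H he
  obtain ⟨hli, hnd⟩ := dual_li H he.2 hef hff
  set P := span F (Set.range (Sum.elim e f)) with hP
  have hWP : W ≤ P := hspan ▸ span_mono (by rintro _ ⟨i, rfl⟩; exact ⟨Sum.inl i, rfl⟩)
  by_cases hN : H.orth P = ⊥
  · have hPtop : P = ⊤ := by
      have := (H.isCompl_orth hnd).sup_eq_top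
      rwa [hN, sup_bot_eq] at this
    let b : Module.Basis (Fin k ⊕ Fin k) F V := Module.Basis.mk hli (by rw [← hPtop])
    have hb : ∀ i, b i = Sum.elim e f i := fun i => Module.Basis.mk_apply _ _ _
    have hk : 0 < k := by
      have := Module.finrank_eq_card_basis b
      rw [Fintype.card_sum, Fintype.card_fin] at this
      omega
    have hz : ((z.1 : Fˣ) : F) * H.σ (z.1 : F) = 1 := congrArg Units.val (MonoidHom.mem_ker.mp z.2)
    obtain ⟨x, hx0, hx⟩ := H.conj.exists_div_eq hz
    have hσx : H.σ x ≠ 0 := (_root_.map_ne_zero H.σ).mpr hx0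
    let d : Fin k ⊕ Fin k → F :=
      Sum.elim (Function.update 1 ⟨0, hk⟩ x) (Function.update 1 ⟨0, hk⟩ (H.σ x)⁻¹)
    have hd : ∀ i, d i ≠ 0 := by
      rintro (i | i) <;> by_cases hi : i = ⟨0, hk⟩ <;> simp [d, hi, hx0, hσx]
    let L : V →ₗ[F] V := b.constr F fun i => d i • b i
    have hL : ∀ i, L (b i) = d i • b i := fun i => b.constr_basis F _ i
    have hdet : LinearMap.det L = (z.1 : F) := by
      rw [← LinearMap.det_toMatrix b, show LinearMap.toMatrix b b L = Matrix.diagonal d by
        ext a c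
        rw [LinearMap.toMatrix_apply, hL, map_smul, b.repr_self, Finsupp.smul_apply, Matrix.diagonal_apply,
          Finsupp.single_apply]
        by_cases hac : c = a
        · subst hac; simp
        · simp [hac, Ne.symm hac], Matrix.det_diagonal, Fintype.prod_sum_type]
      simp [d, Finset.prod_update_of_mem]
      rw [← div_eq_mul_inv, div_eq_iff hσx]
      exact hx
    have hLi : Function.Bijective L := by
      have hu : IsUnit L := (LinearMap.isUnit_iff_isUnit_det L).mpr (by rw [hdet]; exact z.1.isUnit)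
      exact (Module.End.isUnit_iff L).mp hu
    have hform : ∀ u v, H.h (L u) (L v) = H.h u v := by
      have hbb : ∀ i l, d i * (H.σ (d l) * H.h (Sum.elim e f i) (Sum.elim e f l)) =
          H.h (Sum.elim e f i) (Sum.elim e f l) := by
        rintro (i | i) (l | l)
        · rw [Sum.elim_inl, Sum.elim_inl, he.2, mul_zero, mul_zero]
        · rw [Sum.elim_inl, Sum.elim_inr, hef]
          split_ifs with h
          · subst h
            by_cases hi : i = ⟨0, hk⟩ <;> simp [d, hi, hx0, hσx, H.conj.invol, map_inv₀]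
          · simp
        · rw [Sum.elim_inr, Sum.elim_inl, H.symm, hef]
          split_ifs with h
          · subst h
            by_cases hi : l = ⟨0, hk⟩ <;> simp [d, hi, hx0, hσx, H.conj.invol, map_inv₀]
          · simp
        · rw [Sum.elim_inr, Sum.elim_inr, hff, mul_zero, mul_zero]
      intro u v
      rw [← b.sum_repr u, ← b.sum_repr v]
      have hL' : ∀ i, L (Sum.elim e f i) = d i • Sum.elim e f i := fun i => by rw [← hb, hL]
      simp only [map_sum, map_smul, hb, hL', H.sum_left, H.sum_right, H.smul_left, H.smul_right]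
      refine Finset.sum_congr rfl fun a _ => Finset.sum_congr rfl fun c _ => ?_
      linear_combination (b.repr u a * H.σ (b.repr v c)) * hbb a c
    let g : H.Isom := ⟨LinearEquiv.ofBijective L hLi, hform⟩
    refine ⟨g, H.mem_subStab_of_map_le fun v hv => ?_, Units.ext ?_⟩
    · have : span F (Set.range e) ≤ W.comap L := span_le.mpr (by
        rintro _ ⟨i, rfl⟩
        show L (e i) ∈ W
        rw [show e i = b (Sum.inl i) from (hb (Sum.inl i)).symm, hL, hb]
        exact smul_mem _ _ (bW i).2)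
      rw [hspan] at this
      exact this hv
    · show ((LinearEquiv.det g.1 : Fˣ) : F) = _
      rw [LinearEquiv.coe_det]
      exact hdet
  · haveI : Nontrivial (H.orth P) := Submodule.nontrivial_iff_ne_bot.mpr hN
    obtain ⟨⟨v, hvP⟩, hv⟩ := (H.restrict (H.orth P) (H.nondegOn_orth hnd)).exists_norm_one
    refine ⟨H.qrefl (v := v) hv z, H.mem_subStab_of_map_le fun x hx => ?_, H.det_qrefl (v := v) hv z⟩
    rwa [H.qrefl_orth (v := v) hv z (H.eq_zero_symm (hvP x (hWP hx)))]

end Cfsg.Lib.Classical.UIso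

namespace Cfsg.Lib.Classical.UIso

open Submodule

universe u

variable {F : Type u} [Field F] [Fintype F] {q n : ℕ}

/-- Maximal parabolics of `SU_n(q)`. -/
theorem parabolic (hF : Fintype.card F = q ^ 2) (k : ℕ) (hn : 1 ≤ n) (hk : 2 * k ≤ n)
    (W : Submodule F (Fin n → F)) (hWk : Module.finrank F W = k)
    (hW : ∀ u ∈ W, ∀ v ∈ W, Cfsg.hermForm n F q u v = 0) :
    (q + 1) * Nat.card ↥((Cfsg.stabilizing (Cfsg.slToMat n F) (W : Set (Fin n → F))).subgroupOf (Cfsg.SU n F q)) =
      q ^ (k * (2 * n - 3 * k)) * (∏ i : Fin k, ((q ^ 2) ^ k - (q ^ 2) ^ (i : ℕ))) * cardGUFormula q (n - 2 * k) := by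
  classical
  set H := stdHerm n hF
  have hq : H.q = q := stdHerm_q hF
  have hW' : ∀ u ∈ W, ∀ v ∈ W, H.h u v = 0 := fun u hu v hv => by rw [stdHerm_h]; exact hW u hu v hv
  let δ : H.subStab W →* Fˣ := H.detHom.comp (H.subStab W).subtype
  have hrange : δ.range = (normUnits H.σ).ker := by
    refine le_antisymm ?_ fun z hz => ?_
    · rintro _ ⟨g, rfl⟩; exact H.det_mem_norm_ker g.1
    · obtain ⟨g, hg, hgd⟩ := det_subStab_surj H (by rw [Module.finrank_fin_fun]; exact hn) W hWk hW' ⟨z, hz⟩
      exact ⟨⟨g, hg⟩, hgd⟩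
  have e1 : Nat.card ↥((Cfsg.stabilizing (Cfsg.slToMat n F) (W : Set (Fin n → F))).subgroupOf (Cfsg.SU n F q)) =
      Nat.card δ.ker := by
    symm
    refine Nat.card_congr
      { toFun := fun g => ⟨suEquiv n hF ⟨g.1.1, g.2⟩, fun v => ?_⟩
        invFun := fun A => ⟨⟨((suEquiv n hF).symm A.1).1, fun v => ?_⟩, ((suEquiv n hF).symm A.1).2⟩
        left_inv := fun g => by
          apply Subtype.ext
          apply Subtype.ext
          show ((suEquiv n hF).symm ((suEquiv n hF) ⟨g.1.1, g.2⟩)).1 = g.1.1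
          rw [(suEquiv n hF).symm_apply_apply]
        right_inv := fun A => Subtype.ext ((suEquiv n hF).apply_symm_apply A.1) }
    · show v ∈ W ↔ (((suEquiv n hF ⟨g.1.1, g.2⟩ : Cfsg.SU n F q) : Matrix.SpecialLinearGroup (Fin n) F) :
        Matrix (Fin n) (Fin n) F).mulVec v ∈ W
      rw [suEquiv_coe, unitToGL_mulVec]
      exact g.1.2 v
    · have h := A.2 v
      have h' : v ∈ W ↔ (((A.1 : Cfsg.SU n F q) : Matrix.SpecialLinearGroup (Fin n) F) :
        Matrix (Fin n) (Fin n) F).mulVec v ∈ W := h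
      rw [← (suEquiv n hF).apply_symm_apply A.1, suEquiv_coe, unitToGL_mulVec] at h'
      exact h'
  have h := δ.ker.card_mul_index
  rw [Subgroup.index_ker, hrange, H.conj.card_norm_ker,
    card_subStab H hF rfl hq (k := k) (j := n - 2 * k) (by rw [Module.finrank_fin_fun]; omega) W hWk hW'] at h
  rw [e1, mul_comm (q + 1), show q + 1 = Nat.card (fixedField H.σ) + 1 by rw [← hq]; rfl, h]
  congr 3
  obtain ⟨j, rfl⟩ : ∃ j, n = j + 2 * k := ⟨n - 2 * k, by omega⟩
  rw [Nat.add_sub_cancel]
  congr 1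
  omega

end Cfsg.Lib.Classical.UIso
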