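import Mathlib
import Cfsg.Agent.Classical.Unitary.IsoFrames
import Cfsg.Agent.Classical.Unitary.Matrix
import Cfsg.Agent.Classical.Misc.ExtraThreeMain

/-! Pairs of complementary totally singular subspaces in Hermitian spaces. -/

set_option autoImplicit false
set_option linter.unusedSimpArgs false
set_option linter.unusedSectionVars false
set_option linter.unusedVariables false
set_option linter.style.haveILetI false
set_option linter.flexible false

namespace Cfsg.Lib.Classical.UPair

open Submodule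

universe u v

variable {F : Type u} [Field F] [Fintype F] {V : Type v} [AddCommGroup V] [Module F V] [FiniteDimensional F V]
  (H : HermSpace F V)

/-- A subspace on which the form vanishes. -/
def Sing (W : Submodule F V) : Prop := ∀ u ∈ W, ∀ w ∈ W, H.h u w = 0

theorem Sing.le_orth {W : Submodule F V} (h : Sing H W) : W ≤ H.orth W := h

theorem Sing.dim {W : Submodule F V} (h : Sing H W) : 2 * Module.finrank F W ≤ Module.finrank F V := by
  have h1 := Submodule.finrank_mono (Sing.le_orth H h)
  rw [H.finrank_orth] at h1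
  omega

/-- Two singular subspaces spanning everything. -/
structure Pair (m : ℕ) (L M : Submodule F V) : Prop where
  dim : Module.finrank F V = 2 * m
  sl : Sing H L
  sm : Sing H M
  top : L ⊔ M = ⊤

variable {H} {m : ℕ} {L M : Submodule F V}

theorem Pair.symm (P : Pair H m L M) : Pair H m M L := ⟨P.dim, P.sm, P.sl, by rw [sup_comm]; exact P.top⟩

theorem Pair.facts (P : Pair H m L M) :
    Module.finrank F L = m ∧ Module.finrank F M = m ∧ L ⊓ M = ⊥ := by
  have h1 := Submodule.finrank_sup_add_finrank_inf_eq L M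
  rw [P.top, finrank_top, P.dim] at h1
  have h2 := P.sl.dim
  have h3 := P.sm.dim
  rw [P.dim] at h2 h3
  exact ⟨by omega, by omega, Submodule.finrank_eq_zero.mp (by omega)⟩

theorem Pair.compl (P : Pair H m L M) : IsCompl L M :=
  ⟨disjoint_iff.mpr P.facts.2.2, codisjoint_iff.mpr P.top⟩

theorem Pair.split (P : Pair H m L M) (x : V) : ∃ a ∈ L, ∃ b ∈ M, x = a + b := by
  have : x ∈ L ⊔ M := by rw [P.top]; trivial
  obtain ⟨a, ha, b, hb, e⟩ := Submodule.mem_sup.mp this
  exact ⟨a, ha, b, hb, e.symm⟩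

/-- Orthogonal of `W ≤ L` meets `M` in the expected dimension. -/
theorem Pair.dim_meet (P : Pair H m L M) {W : Submodule F V} (hW : W ≤ L) :
    Module.finrank F (M ⊓ H.orth W : Submodule F V) + Module.finrank F W = m := by
  obtain ⟨hL, hM, hLM⟩ := P.facts
  have hLo : L ≤ H.orth W := fun x hx w hw => P.sl x hx w (hW hw)
  have hsup : L ⊔ M ⊓ H.orth W = H.orth W := by
    rw [← sup_inf_assoc_of_le _ hLo, P.top, top_inf_eq]
  have h1 := Submodule.finrank_sup_add_finrank_inf_eq L (M ⊓ H.orth W)
  have h0 : L ⊓ (M ⊓ H.orth W) = ⊥ := by rw [← inf_assoc, hLM, bot_inf_eq]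
  rw [hsup, h0, H.finrank_orth, finrank_bot, P.dim, hL] at h1
  have := Submodule.finrank_mono hW
  omega

theorem Pair.dual (P : Pair H m L M) {e : Fin m → V} (he : ∀ i, e i ∈ L) (hli : LinearIndependent F e) :
    ∃ f : Fin m → V, (∀ i, f i ∈ M) ∧ ∀ i j, H.h (e i) (f j) = if i = j then 1 else 0 := by
  obtain ⟨f', hef, -⟩ := UIso.exists_dual H (e := e) ⟨hli, fun i j => P.sl _ (he i) _ (he j)⟩
  choose a ha b hb hab using fun j => P.split (f' j)
  refine ⟨b, hb, fun i j => ?_⟩
  rw [← hef i j, hab j, H.add_right, P.sl _ (he i) _ (ha j), zero_add]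

/-- A hyperbolic basis along a pair. -/
structure HypBasis (H : HermSpace F V) (m : ℕ) (b : Module.Basis (Fin m ⊕ Fin m) F V) : Prop where
  ee : ∀ i j, H.h (b (.inl i)) (b (.inl j)) = 0
  ff : ∀ i j, H.h (b (.inr i)) (b (.inr j)) = 0
  ef : ∀ i j, H.h (b (.inl i)) (b (.inr j)) = if i = j then 1 else 0

theorem HypBasis.fe {b : Module.Basis (Fin m ⊕ Fin m) F V} (hb : HypBasis H m b) (i j : Fin m) :
    H.h (b (.inr i)) (b (.inl j)) = if i = j then 1 else 0 := by
  rw [H.symm, hb.ef]
  by_cases h : i = j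
  · subst h; simp
  · simp [h, Ne.symm h]

theorem Pair.basis (P : Pair H m L M) (eL : Module.Basis (Fin m) F L) :
    ∃ b : Module.Basis (Fin m ⊕ Fin m) F V, HypBasis H m b ∧ (∀ i, b (.inl i) = eL i) ∧
      span F (Set.range fun i => b (.inl i)) = L ∧ span F (Set.range fun i => b (.inr i)) = M := by
  obtain ⟨hL, hM, -⟩ := P.facts
  let e : Fin m → V := fun i => eL i
  have hli : LinearIndependent F e := eL.linearIndependent.map' L.subtype L.ker_subtype
  obtain ⟨f, hf, hef⟩ := P.dual (fun i => (eL i).2) hli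
  have hff : ∀ i j, H.h (f i) (f j) = 0 := fun i j => P.sm _ (hf i) _ (hf j)
  have hee : ∀ i j, H.h (e i) (e j) = 0 := fun i j => P.sl _ (eL i).2 _ (eL j).2
  obtain ⟨hsum, -⟩ := UIso.dual_li H hee hef hff
  let b := basisOfLinearIndependentOfCardEqFinrank' _ hsum (by simp [P.dim, two_mul])
  have hb : ∀ i, b i = Sum.elim e f i := fun i => by simp [b]
  have hlif : LinearIndependent F f := hsum.comp Sum.inr Sum.inr_injective
  refine ⟨b, ⟨fun i j => by rw [hb, hb]; exact hee i j, fun i j => by rw [hb, hb]; exact hff i j,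
    fun i j => by rw [hb, hb]; exact hef i j⟩, fun i => hb _, ?_, ?_⟩
  · refine Submodule.eq_of_le_of_finrank_eq (span_le.mpr ?_) ?_
    · rintro _ ⟨i, rfl⟩
      show b (.inl i) ∈ L
      rw [hb]; exact (eL i).2
    · rw [show (fun i => b (.inl i)) = e from funext fun i => hb _, finrank_span_eq_card hli, Fintype.card_fin, hL]
  · refine Submodule.eq_of_le_of_finrank_eq (span_le.mpr ?_) ?_
    · rintro _ ⟨i, rfl⟩
      show b (.inr i) ∈ M
      rw [hb]; exact hf i
    · rw [show (fun i => b (.inr i)) = f from funext fun i => hb _, finrank_span_eq_card hlif, Fintype.card_fin, hM]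

theorem exists_iso_of_bases {b b' : Module.Basis (Fin m ⊕ Fin m) F V} (hb : HypBasis H m b) (hb' : HypBasis H m b') :
    ∃ g : H.Isom, ∀ i, g.1 (b i) = b' i := by
  let φ := b.equiv b' (Equiv.refl _)
  have hφ : ∀ i, φ (b i) = b' i := fun i => b.equiv_apply i b' _
  have hgram : ∀ i j, H.h (b' i) (b' j) = H.h (b i) (b j) := by
    rintro (i | i) (j | j) <;> simp only [hb.ee, hb.ff, hb.ef, hb.fe, hb'.ee, hb'.ff, hb'.ef, hb'.fe]
  refine ⟨⟨φ, fun x y => ?_⟩, hφ⟩
  rw [← b.sum_repr x, ← b.sum_repr y]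
  simp only [map_sum, map_smul, hφ, H.sum_left, H.sum_right, H.smul_left, H.smul_right, hgram]

theorem HypBasis.twist {b : Module.Basis (Fin m ⊕ Fin m) F V} (hb : HypBasis H m b) (i₀ : Fin m) {c : F} (hc : c ≠ 0) :
    ∃ g : H.Isom, LinearMap.det g.1.toLinearMap = c / H.σ c ∧ ∃ d : Fin m ⊕ Fin m → F, ∀ i, g.1 (b i) = d i • b i := by
  classical
  let d : Fin m ⊕ Fin m → F := Sum.elim (Function.update 1 i₀ c) (Function.update 1 i₀ (H.σ c)⁻¹)
  have hσc : H.σ c ≠ 0 := fun h => hc (H.conj.eq_zero.mp h)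
  have hd : ∀ i, IsUnit (d i) := by
    rintro (i | i) <;> by_cases h : i = i₀ <;> simp [d, Function.update_apply, h, hc, hσc]
  let b' := b.isUnitSMul hd
  have hb'a : ∀ i, b' i = d i • b i := fun i => Module.Basis.isUnitSMul_apply hd i
  have hb' : HypBasis H m b' := by
    refine ⟨fun i j => ?_, fun i j => ?_, fun i j => ?_⟩ <;> rw [hb'a, hb'a, H.smul_left, H.smul_right]
    · rw [hb.ee, mul_zero, mul_zero]
    · rw [hb.ff, mul_zero, mul_zero]
    · rw [hb.ef]
      by_cases h : i = j
      · subst h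
        by_cases h0 : i = i₀ <;> simp [d, Function.update_apply, h0, map_inv₀, H.conj.invol, hc]
      · simp [h]
  obtain ⟨g, hg⟩ := exists_iso_of_bases hb hb'
  refine ⟨g, ?_, d, fun i => by rw [hg, hb'a]⟩
  rw [← LinearMap.det_toMatrix b, show LinearMap.toMatrix b b g.1.toLinearMap = Matrix.diagonal d by
    ext i j
    rw [LinearMap.toMatrix_apply, LinearEquiv.coe_coe, hg, hb'a, map_smul, Module.Basis.repr_self]
    by_cases h : i = j
    · subst h; simp
    · simp [h, Ne.symm h], Matrix.det_diagonal, Fintype.prod_sum_type]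
  simp only [d, Sum.elim_inl, Sum.elim_inr]
  rw [Finset.prod_update_of_mem (Finset.mem_univ i₀), Finset.prod_update_of_mem (Finset.mem_univ i₀)]
  simp [div_eq_mul_inv]

theorem norm_det (g : H.Isom) : LinearMap.det g.1.toLinearMap * H.σ (LinearMap.det g.1.toLinearMap) = 1 := by
  have h := congrArg Units.val (MonoidHom.mem_ker.mp (H.det_mem_norm_ker g))
  rw [coe_normUnits, Units.val_one] at h
  rw [← LinearEquiv.coe_det]
  exact h

/-- Transitivity of the special isometries on pairs. -/
theorem transitive {L' M' : Submodule F V} (P : Pair H m L M) (P' : Pair H m L' M') (hm : 0 < m) :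
    ∃ g : H.Isom, g ∈ H.SIsom ∧ L.map g.1.toLinearMap = L' ∧ M.map g.1.toLinearMap = M' := by
  classical
  obtain ⟨b, hb, -, hbL, hbM⟩ := P.basis (Module.finBasisOfFinrankEq F L P.facts.1)
  obtain ⟨b', hb', -, hbL', hbM'⟩ := P'.basis (Module.finBasisOfFinrankEq F L' P'.facts.1)
  obtain ⟨g, hg⟩ := exists_iso_of_bases hb hb'
  obtain ⟨c, hc0, hc⟩ := H.conj.exists_div_eq (c := (LinearMap.det g.1.toLinearMap)⁻¹) (by
    rw [map_inv₀, ← mul_inv, norm_det, inv_one])
  obtain ⟨k, hk, d, hkd⟩ := hb'.twist ⟨0, hm⟩ hc0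
  have hσc : H.σ c ≠ 0 := fun h => hc0 (H.conj.eq_zero.mp h)
  have hkg : ∀ i, (k * g).1 (b i) = d i • b' i := fun i => by rw [HermSpace.mul_apply', hg, hkd]
  have hmap : ∀ (X X' : Submodule F V) (ι : Fin m → Fin m ⊕ Fin m), span F (Set.range fun i => b (ι i)) = X →
      span F (Set.range fun i => b' (ι i)) = X' → Module.finrank F X = Module.finrank F X' →
      X.map (k * g).1.toLinearMap = X' := by
    intro X X' ι h h' hd
    refine Submodule.eq_of_le_of_finrank_eq ?_ (by rw [LinearEquiv.finrank_map_eq, hd])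
    rw [← h, Submodule.map_span, span_le]
    rintro _ ⟨_, ⟨i, rfl⟩, rfl⟩
    show (k * g).1 (b (ι i)) ∈ X'
    rw [hkg, ← h']
    exact smul_mem _ _ (subset_span ⟨i, rfl⟩)
  refine ⟨k * g, ?_, hmap _ _ Sum.inl hbL hbL' (P.facts.1.trans P'.facts.1.symm),
    hmap _ _ Sum.inr hbM hbM' (P.facts.2.1.trans P'.facts.2.1.symm)⟩
  rw [HermSpace.mem_SIsom]
  apply Units.ext
  rw [LinearEquiv.coe_det, Units.val_one,
    show (k * g).1.toLinearMap = k.1.toLinearMap * g.1.toLinearMap from rfl, map_mul, hk]
  have hD : LinearMap.det g.1.toLinearMap ≠ 0 := left_ne_zero_of_mul (norm_det g ▸ one_ne_zero)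
  field_simp at hc ⊢
  linear_combination hc

/-- The eigenspace. -/
def eig (T : Module.End F V) (c : F) : Submodule F V := LinearMap.ker (T - c • 1)

theorem mem_eig {T : Module.End F V} {c : F} {x : V} : x ∈ eig T c ↔ T x = c • x := by
  rw [eig, LinearMap.mem_ker, LinearMap.sub_apply, sub_eq_zero]
  rfl

/-- An isometry fixing both members has eigenspaces of even dimension. -/
theorem Pair.even_eig (P : Pair H m L M) (g : H.Isom) (hL : L.map g.1.toLinearMap = L) (hM : M.map g.1.toLinearMap = M)
    {c : F} (hc : c * H.σ c = 1) : Even (Module.finrank F (eig g.1.toLinearMap c)) := by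
  classical
  set T : Module.End F V := g.1.toLinearMap with hT
  have hLm : ∀ x ∈ L, T x ∈ L := fun x hx => hL ▸ Submodule.mem_map_of_mem hx
  have hMm : ∀ x ∈ M, T x ∈ M := fun x hx => hM ▸ Submodule.mem_map_of_mem hx
  set K := eig T c with hK
  have hTh : ∀ x y, H.h (T x) (T y) = H.h x y := g.2
  -- the splitting
  have hsplit : K = K ⊓ L ⊔ K ⊓ M := by
    refine le_antisymm (fun x hx => ?_) (sup_le inf_le_left inf_le_left)
    obtain ⟨a, ha, b, hb, rfl⟩ := P.split x
    rw [hK, mem_eig, map_add, smul_add] at hx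
    have e : T a - c • a = c • b - T b := by rw [sub_eq_sub_iff_add_eq_add, hx]; abel
    have h0 : T a - c • a ∈ L ⊓ M := ⟨sub_mem (hLm a ha) (smul_mem _ _ ha), e ▸ sub_mem (smul_mem _ _ hb) (hMm b hb)⟩
    rw [P.facts.2.2, Submodule.mem_bot] at h0
    rw [h0] at e
    exact Submodule.add_mem_sup ⟨mem_eig.mpr (sub_eq_zero.mp h0), ha⟩ ⟨mem_eig.mpr (sub_eq_zero.mp e.symm).symm, hb⟩
  have hdisj : K ⊓ L ⊓ (K ⊓ M) = ⊥ := le_bot_iff.mp (le_trans (inf_le_inf inf_le_right inf_le_right) P.facts.2.2.le)
  set W := L.map (T - c • 1) with hW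
  have hWL : W ≤ L := by
    rintro _ ⟨x, hx, rfl⟩
    exact sub_mem (hLm x hx) (smul_mem _ _ hx)
  have hrk : Module.finrank F W + Module.finrank F (K ⊓ L : Submodule F V) = m := by
    have h := LinearMap.finrank_range_add_finrank_ker ((T - c • 1).comp L.subtype)
    rw [LinearMap.range_comp, Submodule.range_subtype, LinearMap.ker_comp, P.facts.1] at h
    rw [← h]
    congr 1
    rw [← Submodule.finrank_map_subtype_eq L, Submodule.map_comap_subtype, inf_comm]
    rfl
  have hcv : H.σ c * c = 1 := by rw [mul_comm, hc]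
  have hKM : K ⊓ M = M ⊓ H.orth W := by
    apply le_antisymm
    · rintro v ⟨hv, hvM⟩
      refine ⟨hvM, ?_⟩
      rintro _ ⟨u, hu, rfl⟩
      have hv' : T v = c • v := mem_eig.mp hv
      show H.h v (T u - c • u) = 0
      have h := hTh v u
      rw [hv', H.smul_left] at h
      rw [H.sub_right, H.smul_right]
      linear_combination H.σ c * h - H.h v (T u) * hcv
    · rintro v ⟨hvM, hv⟩
      refine ⟨mem_eig.mpr ?_, hvM⟩
      have hd : ∀ y, H.h y (v - H.σ c • T v) = 0 := fun y => by
        obtain ⟨a, ha, b, hb, rfl⟩ := P.split y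
        rw [H.add_left, P.sm b hb _ (sub_mem hvM (smul_mem _ _ (hMm v hvM))), add_zero]
        obtain ⟨u, hu, rfl⟩ : a ∈ L.map T := hL.symm ▸ ha
        have h := hv _ ⟨u, hu, rfl⟩
        have h' : H.h v (T u) - H.σ c * H.h v u = 0 := by
          rw [← h, LinearMap.sub_apply, LinearMap.smul_apply, Module.End.one_apply, H.sub_right, H.smul_right]
        rw [H.sub_right, H.smul_right, H.conj.invol, H.symm (T u) v, H.symm (T u) (T v), hTh]
        have h'' := congrArg H.σ h'
        simp only [map_sub, map_mul, map_zero, H.conj.invol] at h''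
        linear_combination h''
      have hh := sub_eq_zero.mp (H.nondeg _ hd)
      conv_rhs => rw [hh, smul_smul, hc, one_smul]
  have hM' := P.dim_meet hWL
  rw [← hKM] at hM'
  have hK' := Submodule.finrank_sup_add_finrank_inf_eq (K ⊓ L) (K ⊓ M)
  rw [← hsplit, hdisj, finrank_bot] at hK'
  exact ⟨Module.finrank F (K ⊓ L : Submodule F V), by omega⟩

/-- An isometry exchanging the members has eigenspaces of dimension at most half. -/
theorem Pair.swap_eig (P : Pair H m L M) (g : H.Isom) (hL : L.map g.1.toLinearMap = M) (c : F) :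
    Module.finrank F (eig g.1.toLinearMap c) ≤ m := by
  have h0 : eig g.1.toLinearMap c ⊓ L = ⊥ := by
    rw [eq_bot_iff]
    rintro x ⟨hx, hxL⟩
    rw [SetLike.mem_coe, mem_eig] at hx
    by_cases hc : c = 0
    · rw [hc, zero_smul] at hx
      simpa using hx
    have h1 : x ∈ M := by
      have h2 : g.1.toLinearMap x ∈ M := hL ▸ Submodule.mem_map_of_mem hxL
      rw [hx] at h2
      have h3 := M.smul_mem c⁻¹ h2
      rwa [smul_smul, inv_mul_cancel₀ hc, one_smul] at h3
    rw [← P.facts.2.2]
    exact ⟨hxL, h1⟩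
  have h1 := Submodule.finrank_sup_add_finrank_inf_eq (eig g.1.toLinearMap c) L
  have h2 := Submodule.finrank_le (eig g.1.toLinearMap c ⊔ L)
  rw [h0, finrank_bot, P.facts.1] at h1
  rw [P.dim] at h2
  omega

/-- The isometry preserves the pair. -/
def Preserves (g : H.Isom) (L M : Submodule F V) : Prop :=
  (L.map g.1.toLinearMap = L ∧ M.map g.1.toLinearMap = M) ∨ (L.map g.1.toLinearMap = M ∧ M.map g.1.toLinearMap = L)

theorem no_pair_of_odd (g : H.Isom) {c : F} (hc : c * H.σ c = 1) (hodd : Odd (Module.finrank F (eig g.1.toLinearMap c)))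
    (hswap : ∀ L M, Pair H m L M → L.map g.1.toLinearMap = M → M.map g.1.toLinearMap = L → False) :
    ∀ L M, Pair H m L M → ¬ Preserves g L M := by
  rintro L M P (⟨h1, h2⟩ | ⟨h1, h2⟩)
  · exact (Nat.not_even_iff_odd.mpr hodd) (P.even_eig g h1 h2 hc)
  · exact hswap L M P h1 h2

theorem swap_false_of_order (g : H.Isom) {r : ℕ} (hr : Odd r) {z : F} (hz : z ≠ 0)
    (hg : ∀ v, (g ^ r).1 v = z • v) {L M : Submodule F V} (P : Pair H m L M) (hm : 0 < m)
    (h1 : L.map g.1.toLinearMap = M) (h2 : M.map g.1.toLinearMap = L) : False := by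
  have hp : ∀ k : ℕ, L.map (g ^ k).1.toLinearMap = if Even k then L else M := fun k => by
    induction k with
    | zero => simp only [pow_zero, Even.zero, if_true]; exact Submodule.map_id L
    | succ k ih =>
      rw [show (g ^ (k + 1)).1.toLinearMap = g.1.toLinearMap.comp (g ^ k).1.toLinearMap by rw [pow_succ']; rfl,
        Submodule.map_comp, ih]
      by_cases hk : Even k
      · rw [if_pos hk, if_neg (by rw [Nat.even_add_one]; exact not_not_intro hk), h1]
      · rw [if_neg hk, if_pos (Nat.even_add_one.mpr hk), h2]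
  have h := hp r
  rw [if_neg (Nat.not_even_iff_odd.mpr hr)] at h
  have hLM : M ≤ L := by
    rw [← h]
    rintro _ ⟨x, hx, rfl⟩
    show (g ^ r).1 x ∈ L
    rw [hg]
    exact L.smul_mem z hx
  have h3 := P.facts.2.2
  rw [inf_eq_right.mpr hLM] at h3
  have h4 := P.facts.2.1
  rw [h3, finrank_bot] at h4
  omega

set_option maxHeartbeats 1000000 in
/-- Involutions modulo scalars without an odd eigenspace preserve a pair. -/
theorem exists_pair_of_square (hm : 0 < m) (hd : Module.finrank F V = 2 * m) (h2 : (2 : F) ≠ 0) (g : H.Isom) (hdet : g ∈ H.SIsom) {l : F}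
    (hl : l ≠ 0) (hg : ∀ v, g.1 (g.1 v) = (l * l) • v)
    (hodd : ∀ c : F, c * H.σ c = 1 → c ^ (2 * m) ≠ -1) :
    ∃ L M, Pair H m L M ∧ Preserves g L M := by
  classical
  set T : Module.End F V := g.1.toLinearMap with hT
  have hsplit : ∀ v : V, v = (2 * l)⁻¹ • (l • v + T v) + (2 * l)⁻¹ • (l • v - T v) := fun v => by
    rw [← smul_add, show l • v + T v + (l • v - T v) = (2 * l) • v by module, smul_smul,
      inv_mul_cancel₀ (mul_ne_zero h2 hl), one_smul]
  have hplus : ∀ v, (2 * l)⁻¹ • (l • v + T v) ∈ eig T l := fun v => smul_mem _ _ (mem_eig.mpr (by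
    rw [map_add, map_smul, show T (T v) = (l * l) • v from hg v]; module))
  have hminus : ∀ v, (2 * l)⁻¹ • (l • v - T v) ∈ eig T (-l) := fun v => smul_mem _ _ (mem_eig.mpr (by
    rw [map_sub, map_smul, show T (T v) = (l * l) • v from hg v]; module))
  have hTh : ∀ x y, H.h (T x) (T y) = H.h x y := g.2
  have hpres : ∀ c : F, c ≠ 0 → ∀ X : Submodule F V, X ≤ eig T c → X.map T = X := fun c hc X hX => by
    refine le_antisymm ?_ fun x hx => ?_
    · rintro _ ⟨x, hx, rfl⟩
      rw [mem_eig.mp (hX hx)]; exact X.smul_mem c hx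
    · refine ⟨c⁻¹ • x, X.smul_mem _ hx, ?_⟩
      rw [map_smul, mem_eig.mp (hX hx), smul_smul, inv_mul_cancel₀ hc, one_smul]
  have hn : (l * H.σ l) * (l * H.σ l) = 1 := by
    haveI : Nontrivial V := Module.nontrivial_of_finrank_pos (R := F) (by omega)
    obtain ⟨v, hv⟩ := H.exists_anisotropic
    have h : H.h (T (T v)) (T (T v)) = H.h v v := (hTh _ _).trans (hTh v v)
    rw [show T (T v) = (l * l) • v from hg v, H.smul_left, H.smul_right, map_mul] at h
    exact mul_right_cancel₀ hv (by linear_combination h)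
  rcases mul_self_eq_one_iff.mp hn with he | he
  swap
  · -- singular eigenspaces
    have hs : ∀ c : F, c * H.σ c = -1 → Sing H (eig T c) := fun c hc u hu w hw => by
      have h := hTh u w
      rw [mem_eig.mp hu, mem_eig.mp hw, H.smul_left, H.smul_right] at h
      exact (mul_eq_zero.mp (show 2 * H.h u w = 0 by linear_combination H.h u w * hc - h)).resolve_left h2
    refine ⟨eig T l, eig T (-l), ⟨hd, hs l he, hs _ (by rw [map_neg]; linear_combination he), ?_⟩,
      Or.inl ⟨hpres l hl _ le_rfl, hpres _ (neg_ne_zero.mpr hl) _ le_rfl⟩⟩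
    exact eq_top_iff.mpr fun v _ => hsplit v ▸ Submodule.add_mem_sup (hplus v) (hminus v)
  · -- nondegenerate eigenspaces
    obtain ⟨b, hb, hbT⟩ := ExtraThree.orth_eigen ({l, -l} : Set F) (2 * m) H T
      (by rintro ν (rfl | rfl)
          · exact he
          · rw [map_neg]; linear_combination he)
      hTh (fun w => by
        rw [hsplit w]
        exact add_mem (subset_span ⟨l, Set.mem_insert _ _, mem_eig.mp (hplus w)⟩)
          (subset_span ⟨-l, Set.mem_insert_of_mem _ rfl, mem_eig.mp (hminus w)⟩)) hd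
    choose d hd' hbd using hbT
    set A : Finset (Fin (2 * m)) := Finset.univ.filter fun i => d i = -l with hA
    have hdl : ∀ i, i ∉ A → d i = l := fun i hi => by
      rcases hd' i with h | h
      · exact h
      · exact absurd (show i ∈ A from Finset.mem_filter.mpr ⟨Finset.mem_univ i, h⟩) hi
    have hprod : ∏ i, d i = 1 := by
      rw [← Matrix.det_diagonal, show Matrix.diagonal d = LinearMap.toMatrix b b T by
        ext i j
        rw [LinearMap.toMatrix_apply, hbd, map_smul, Module.Basis.repr_self]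
        by_cases h : i = j
        · subst h; simp
        · simp [h, Ne.symm h], LinearMap.det_toMatrix]
      have h := congrArg Units.val ((HermSpace.mem_SIsom H).mp hdet)
      rwa [LinearEquiv.coe_det] at h
    have hAeven : Even A.card := by
      by_contra hno
      rw [Nat.not_even_iff_odd] at hno
      refine hodd l he ?_
      have h1 : ∀ i, d i = l * (if i ∈ A then -1 else 1) := fun i => by
        by_cases h : i ∈ A
        · rw [if_pos h, (Finset.mem_filter.mp h).2]; ring
        · rw [if_neg h, hdl i h]; ring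
      rw [Finset.prod_congr rfl fun i _ => h1 i, Finset.prod_mul_distrib, Finset.prod_const, Finset.card_univ,
        Fintype.card_fin, Finset.prod_ite_mem, Finset.univ_inter, Finset.prod_const, hno.neg_one_pow] at hprod
      linear_combination -hprod
    obtain ⟨a, ha⟩ := hAeven
    have hAc : Aᶜ.card = (m - a) + (m - a) := by
      rw [Finset.card_compl, Fintype.card_fin, ha]; omega
    let φA : Fin a ⊕ Fin a ≃ A := finSumFinEquiv.trans ((finCongr ha.symm).trans A.equivFin.symm)
    let φB : Fin (m - a) ⊕ Fin (m - a) ≃ {i // i ∈ Aᶜ} := finSumFinEquiv.trans ((finCongr hAc.symm).trans Aᶜ.equivFin.symm)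
    let p : Fin a ⊕ Fin (m - a) → Fin (2 * m) := Sum.elim (fun i => (φA (.inl i)).1) fun i => (φB (.inl i)).1
    let p' : Fin a ⊕ Fin (m - a) → Fin (2 * m) := Sum.elim (fun i => (φA (.inr i)).1) fun i => (φB (.inr i)).1
    have hpA : ∀ s : Fin a ⊕ Fin a, (φA s).1 ∈ A := fun s => (φA s).2
    have hpB : ∀ s : Fin (m - a) ⊕ Fin (m - a), (φB s).1 ∉ A := fun s => Finset.mem_compl.mp (φB s).2
    have hinj : Function.Injective (Sum.elim p p') := by
      rintro ((i | i) | (i | i)) ((j | j) | (j | j)) h <;> simp only [p, p', Sum.elim_inl, Sum.elim_inr] at h <;>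
        first
        | exact absurd (h ▸ hpA _) (hpB _)
        | exact absurd (h.symm ▸ hpA _) (hpB _)
        | simpa using φA.injective (Subtype.ext h)
        | simpa using φB.injective (Subtype.ext h)
    have hsurj : Function.Surjective (Sum.elim p p') := by
      have hc : Fintype.card ((Fin a ⊕ Fin (m - a)) ⊕ (Fin a ⊕ Fin (m - a))) = Fintype.card (Fin (2 * m)) := by
        simp only [Fintype.card_sum, Fintype.card_fin]
        have := A.card_le_univ
        rw [Fintype.card_fin, ha] at this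
        omega
      exact ((Fintype.bijective_iff_injective_and_card _).mpr ⟨hinj, hc⟩).2
    have hpd : ∀ s, d (p s) = d (p' s) := by
      rintro (i | i)
      · exact ((Finset.mem_filter.mp (hpA _)).2).trans ((Finset.mem_filter.mp (hpA _)).2).symm
      · exact (hdl _ (hpB _)).trans (hdl _ (hpB _)).symm
    obtain ⟨c, hc⟩ := H.conj.norm_surjective (a := (-1 : F)) (by rw [map_neg, map_one])
    have hc0 : c ≠ 0 := fun h => by rw [h, zero_mul] at hc; exact neg_ne_zero.mpr one_ne_zero hc.symm
    let mk : F → Submodule F V := fun c => span F (Set.range fun s => b (p s) + c • b (p' s))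
    have hsing : ∀ c : F, c * H.σ c = -1 → Sing H (mk c) := fun c hc => by
      have h0 : ∀ s s', H.h (b (p s) + c • b (p' s)) (b (p s') + c • b (p' s')) = 0 := fun s s' => by
        rw [H.add_left, H.add_right, H.add_right, H.smul_left, H.smul_left, H.smul_right, H.smul_right, hb, hb, hb, hb]
        have i1 : p s = p s' ↔ s = s' := ⟨fun h => Sum.inl_injective (hinj (a₁ := .inl s) (a₂ := .inl s') h), congrArg p⟩
        have i2 : p' s = p' s' ↔ s = s' :=
          ⟨fun h => Sum.inr_injective (hinj (a₁ := .inr s) (a₂ := .inr s') h), congrArg p'⟩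
        have i3 : ∀ t t', p t ≠ p' t' := fun t t' h => Sum.inl_ne_inr (hinj (a₁ := .inl t) (a₂ := .inr t') h)
        simp only [i1, i2, i3, (fun t t' => (i3 t' t).symm : ∀ t t', p' t ≠ p t'), if_false]
        split_ifs
        · linear_combination hc
        · ring
      intro u hu w hw
      induction hu using Submodule.span_induction with
      | mem u hu =>
        obtain ⟨s, rfl⟩ := hu
        induction hw using Submodule.span_induction with
        | mem w hw => obtain ⟨s', rfl⟩ := hw; exact h0 s s'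
        | zero => exact H.zero_right _
        | add w w' _ _ h h' => rw [H.add_right, h, h', add_zero]
        | smul e w _ h => rw [H.smul_right, h, mul_zero]
      | zero => exact H.zero_left _
      | add u u' _ _ h h' => rw [H.add_left, h, h', add_zero]
      | smul e u _ h => rw [H.smul_left, h, mul_zero]
    have hinv : ∀ c : F, (mk c).map T = mk c := fun c => by
      refine Submodule.eq_of_le_of_finrank_eq ?_ (LinearEquiv.finrank_map_eq g.1 _)
      rw [Submodule.map_span, span_le]
      rintro _ ⟨_, ⟨s, rfl⟩, rfl⟩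
      show T (b (p s) + c • b (p' s)) ∈ mk c
      rw [map_add, map_smul, hbd, hbd, hpd s, smul_comm c, ← smul_add]
      exact smul_mem _ _ (subset_span ⟨s, rfl⟩)
    refine ⟨mk c, mk (-c), ⟨hd, hsing c hc, hsing _ (by rw [map_neg]; linear_combination hc), ?_⟩, Or.inl ⟨hinv c, hinv _⟩⟩
    rw [eq_top_iff, ← b.span_eq, span_le]
    rintro _ ⟨i, rfl⟩
    have hs : ∀ s, b (p s) ∈ mk c ⊔ mk (-c) ∧ b (p' s) ∈ mk c ⊔ mk (-c) := fun s => by
      have hu : b (p s) + c • b (p' s) ∈ mk c ⊔ mk (-c) := Submodule.mem_sup_left (subset_span ⟨s, rfl⟩)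
      have hv : b (p s) + (-c) • b (p' s) ∈ mk c ⊔ mk (-c) := Submodule.mem_sup_right (subset_span ⟨s, rfl⟩)
      refine ⟨?_, ?_⟩
      · have := smul_mem _ (2 : F)⁻¹ (add_mem hu hv)
        rwa [show b (p s) + c • b (p' s) + (b (p s) + -c • b (p' s)) = (2 : F) • b (p s) by module, smul_smul,
          inv_mul_cancel₀ h2, one_smul] at this
      · have := smul_mem _ (2 * c)⁻¹ (sub_mem hu hv)
        rwa [show b (p s) + c • b (p' s) - (b (p s) + -c • b (p' s)) = (2 * c) • b (p' s) by module, smul_smul,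
          inv_mul_cancel₀ (mul_ne_zero h2 hc0), one_smul] at this
    obtain ⟨s | s, rfl⟩ := hsurj i
    exacts [(hs s).1, (hs s).2]

end Cfsg.Lib.Classical.UPair
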