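import Mathlib
import Cfsg.Agent.Classical.Unitary.PolarPair
import Cfsg.Agent.Classical.Unitary.Decomp
import Cfsg.Agent.Classical.Misc.FormJordan

/-! Invariant nondegenerate subspaces of Hermitian isometries: blocks, unipotent types. -/

set_option autoImplicit false
set_option linter.unusedSimpArgs false
set_option linter.unusedSectionVars false
set_option linter.unusedVariables false
set_option linter.style.haveILetI false
set_option linter.flexible false

namespace Cfsg.Lib.Classical.UNondeg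

open Cfsg.Lib.Classical Cfsg.Lib.Classical.FormJordan Cfsg.Lib.Classical.Jordan

universe u v

variable {F : Type u} [Field F] [Finite F] {V : Type v} [AddCommGroup V] [Module F V] [FiniteDimensional F V]
  {H : HermSpace F V}

/-- An invariant nondegenerate subspace of dimension `m`. -/
def Stab (H : HermSpace F V) (m : ℕ) (T : Module.End F V) : Prop :=
  ∃ W : Submodule F V, Module.finrank F W = m ∧ H.NondegOn W ∧ ∀ w ∈ W, T w ∈ W

theorem stab_smul {m : ℕ} {T : Module.End F V} {c : F} (hc : c ≠ 0) : Stab H m (c • T) ↔ Stab H m T := by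
  constructor
  · rintro ⟨W, h1, h2, h3⟩
    refine ⟨W, h1, h2, fun w hw => ?_⟩
    have := W.smul_mem c⁻¹ (h3 w hw)
    rwa [LinearMap.smul_apply, smul_smul, inv_mul_cancel₀ hc, one_smul] at this
  · rintro ⟨W, h1, h2, h3⟩
    exact ⟨W, h1, h2, fun w hw => W.smul_mem c (h3 w hw)⟩

variable {T : Module.End F V}

theorem iso_injective (hT : ∀ u v, H.h (T u) (T v) = H.h u v) : Function.Injective T :=
  (injective_iff_map_eq_zero T).2 fun u hu => H.nondeg u fun x => by rw [← hT, hu, H.zero_right]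

theorem orth_inv (hT : ∀ u v, H.h (T u) (T v) = H.h u v) {W : Submodule F V} (hW : ∀ w ∈ W, T w ∈ W) :
    ∀ s ∈ H.orth W, T s ∈ H.orth W := by
  intro s hs w hw
  obtain ⟨w', hw'⟩ := LinearMap.surjective_of_injective
    (show Function.Injective (T.restrict hW) from
      fun a b e => Subtype.ext (iso_injective hT (congrArg Subtype.val e))) ⟨w, hw⟩
  rw [show w = T w'.1 from (congrArg Subtype.val hw').symm, hT]
  exact hs w'.1 w'.2

/-- The rest of a nondegenerate subspace. -/
theorem split {S U : Submodule F V} (hS : H.NondegOn S) (hU : H.NondegOn U) (hUS : U ≤ S) :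
    U ⊔ S ⊓ H.orth U = S ∧ Disjoint U (S ⊓ H.orth U) ∧ H.NondegOn (S ⊓ H.orth U) ∧
      Module.finrank F (S ⊓ H.orth U : Submodule F V) + Module.finrank F U = Module.finrank F S := by
  have hc := H.isCompl_orth hU
  have h1 : U ⊔ S ⊓ H.orth U = S := by
    refine le_antisymm (sup_le hUS inf_le_left) fun s hs => ?_
    obtain ⟨a, ha, b, hb, rfl⟩ := Submodule.mem_sup.mp (hc.sup_eq_top ▸ Submodule.mem_top (x := s))
    exact Submodule.add_mem_sup ha ⟨by simpa using S.sub_mem hs (hUS ha), hb⟩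
  have h2 : Disjoint U (S ⊓ H.orth U) := hc.disjoint.mono_right inf_le_right
  refine ⟨h1, h2, fun v hv h => hS v hv.1 fun x hx => ?_, ?_⟩
  · rw [← h1] at hx
    obtain ⟨a, ha, b, hb, rfl⟩ := Submodule.mem_sup.mp hx
    rw [H.add_left, h b hb, add_zero]
    exact H.eq_zero_symm (hv.2 a ha)
  · have h := Submodule.finrank_sup_add_finrank_inf_eq U (S ⊓ H.orth U)
    rw [h1, h2.eq_bot, finrank_bot] at h
    omega

theorem nondeg_top : H.NondegOn ⊤ := fun v _ h => H.nondeg v fun x => h x Submodule.mem_top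

theorem nondeg_sup {U W : Submodule F V} (hU : H.NondegOn U) (hW : H.NondegOn W) (horth : W ≤ H.orth U) :
    H.NondegOn (U ⊔ W) := by
  intro v hv h
  obtain ⟨a, ha, b, hb, rfl⟩ := Submodule.mem_sup.mp hv
  have ha0 : a = 0 := hU a ha fun x hx => by
    have := h x (Submodule.mem_sup_left hx)
    rwa [H.add_right, H.eq_zero_symm (horth hb x hx), add_zero] at this
  have hb0 : b = 0 := hW b hb fun x hx => by
    have := h x (Submodule.mem_sup_right hx)
    rwa [H.add_right, horth hx a ha, zero_add] at this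
  rw [ha0, hb0, add_zero]

/-- Invariant subspaces made of blocks of one dimension. -/
theorem stab_of_blocks (hT : ∀ u v, H.h (T u) (T v) = H.h u v) {d : ℕ}
    (hblock : ∀ S : Submodule F V, (∀ w ∈ S, T w ∈ S) → H.NondegOn S → 0 < Module.finrank F S →
      ∃ U ≤ S, Module.finrank F U = d ∧ H.NondegOn U ∧ ∀ w ∈ U, T w ∈ U) :
    ∀ (k : ℕ) (S : Submodule F V), (∀ w ∈ S, T w ∈ S) → H.NondegOn S → k * d ≤ Module.finrank F S →
      ∃ W ≤ S, Module.finrank F W = k * d ∧ H.NondegOn W ∧ ∀ w ∈ W, T w ∈ W := by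
  intro k
  induction k with
  | zero =>
    intro S _ _ _
    exact ⟨⊥, bot_le, by rw [finrank_bot, zero_mul], fun v hv _ => (Submodule.mem_bot F).mp hv,
      fun w hw => by rw [(Submodule.mem_bot F).mp hw, map_zero]; exact zero_mem _⟩
  | succ k ih =>
    intro S hSi hS hk
    rcases Nat.eq_zero_or_pos d with rfl | hd
    · exact ⟨⊥, bot_le, by rw [finrank_bot, mul_zero], fun v hv _ => (Submodule.mem_bot F).mp hv,
        fun w hw => by rw [(Submodule.mem_bot F).mp hw, map_zero]; exact zero_mem _⟩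
    rw [Nat.succ_mul] at hk ⊢
    obtain ⟨U, hUS, hUd, hU, hUi⟩ := hblock S hSi hS (by omega)
    obtain ⟨h1, h2, h3, h4⟩ := split hS hU hUS
    obtain ⟨W, hW, hWd, hWn, hWi⟩ := ih (S ⊓ H.orth U)
      (fun w hw => ⟨hSi w hw.1, orth_inv hT hUi w hw.2⟩) h3 (by omega)
    refine ⟨U ⊔ W, sup_le hUS (hW.trans inf_le_left), ?_, nondeg_sup hU hWn (hW.trans inf_le_right), ?_⟩
    · have h := Submodule.finrank_sup_add_finrank_inf_eq U W
      rw [(h2.mono_right hW).eq_bot, finrank_bot] at h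
      omega
    · intro w hw
      obtain ⟨a, ha, b, hb, rfl⟩ := Submodule.mem_sup.mp hw
      rw [map_add]
      exact Submodule.add_mem_sup (hUi a ha) (hWi b hb)

theorem exists_aniso {S : Submodule F V} (hS : H.NondegOn S) (hpos : 0 < Module.finrank F S) :
    ∃ v ∈ S, H.h v v ≠ 0 := by
  haveI : Nontrivial S := Module.nontrivial_of_finrank_pos (R := F) hpos
  obtain ⟨v, hv⟩ := (H.restrict S hS).exists_anisotropic
  exact ⟨v.1, v.2, hv⟩

theorem pow_mem {S : Submodule F V} (hS : ∀ w ∈ S, T w ∈ S) : ∀ (j : ℕ), ∀ w ∈ S, (T ^ j) w ∈ S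
  | 0, w, hw => by simpa using hw
  | j + 1, w, hw => by rw [pow_succ', Module.End.mul_apply]; exact hS _ (pow_mem hS j w hw)

/-- The determinant of a restriction. -/
theorem det_restrict_pow {r : ℕ} {z : F} (hz : T ^ r = z • 1) {W : Submodule F V} (hW : ∀ w ∈ W, T w ∈ W) :
    LinearMap.det (T.restrict hW) ^ r = z ^ Module.finrank F W := by
  have e : T.restrict hW ^ r = z • (1 : Module.End F W) := by
    rw [Module.End.pow_restrict _ hW]
    refine LinearMap.ext fun w => Subtype.ext ?_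
    rw [LinearMap.coe_restrict_apply, hz]
    rfl
  rw [← map_pow, e, LinearMap.det_smul, map_one, mul_one]

theorem det_norm (hT : ∀ u v, H.h (T u) (T v) = H.h u v) {W : Submodule F V} (hn : H.NondegOn W)
    (hW : ∀ w ∈ W, T w ∈ W) : LinearMap.det (T.restrict hW) * H.σ (LinearMap.det (T.restrict hW)) = 1 :=
  haveI := Fintype.ofFinite F
  UPair.norm_det (H := H.restrict W hn) ⟨LinearEquiv.ofInjectiveEndo (T.restrict hW)
    (fun a b e => Subtype.ext (iso_injective hT (congrArg Subtype.val e))), fun x y => hT x y⟩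

/-- A block for a power of the scalar. -/
theorem eigen_block (hT : ∀ u v, H.h (T u) (T v) = H.h u v) {r : ℕ} (hr : (r : F) ≠ 0) {ζ : F} (hζ : IsPrimitiveRoot ζ r)
    (hζn : ζ * H.σ ζ = 1) (hTr : T ^ r = 1) (S : Submodule F V) (hSi : ∀ w ∈ S, T w ∈ S) (hS : H.NondegOn S)
    (hpos : 0 < Module.finrank F S) : ∃ U ≤ S, Module.finrank F U = 1 ∧ H.NondegOn U ∧ ∀ w ∈ U, T w ∈ U := by
  classical
  have hr0 : r ≠ 0 := fun e => hr (by rw [e, Nat.cast_zero])
  have hζ0 : ζ ≠ 0 := hζ.ne_zero hr0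
  obtain ⟨v, hv, hvv⟩ := exists_aniso hS hpos
  let P : ℕ → V := fun a => (r : F)⁻¹ • ∑ j ∈ Finset.range r, (ζ⁻¹ ^ a) ^ j • (T ^ j) v
  have hPS : ∀ a, P a ∈ S := fun a => S.smul_mem _ (sum_mem fun j _ => S.smul_mem _ (pow_mem hSi j v hv))
  have hζr : ∀ a : ℕ, (ζ⁻¹ ^ a) ^ r = 1 := fun a => by
    rw [← pow_mul, mul_comm, pow_mul, inv_pow, hζ.pow_eq_one, inv_one, one_pow]
  have hTP : ∀ a, T (P a) = ζ ^ a • P a := fun a => by
    have hshift : T (∑ j ∈ Finset.range r, (ζ⁻¹ ^ a) ^ j • (T ^ j) v) =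
        ζ ^ a • ∑ j ∈ Finset.range r, (ζ⁻¹ ^ a) ^ j • (T ^ j) v := by
      have h1 : T (∑ j ∈ Finset.range r, (ζ⁻¹ ^ a) ^ j • (T ^ j) v) =
          ζ ^ a • ∑ j ∈ Finset.range r, (ζ⁻¹ ^ a) ^ (j + 1) • (T ^ (j + 1)) v := by
        rw [map_sum, Finset.smul_sum]
        refine Finset.sum_congr rfl fun j _ => ?_
        rw [map_smul, smul_smul, pow_succ' T, Module.End.mul_apply, pow_succ, mul_comm ((ζ⁻¹ ^ a) ^ j), ← mul_assoc,
          ← mul_pow, mul_inv_cancel₀ hζ0, one_pow, one_mul]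
      rw [h1]
      congr 1
      have h2 := Finset.sum_range_succ' (fun j => (ζ⁻¹ ^ a) ^ j • (T ^ j) v) r
      rw [Finset.sum_range_succ, hζr, hTr, pow_zero, pow_zero, add_left_inj] at h2
      exact h2.symm
    show T ((r : F)⁻¹ • _) = _
    rw [map_smul, hshift, smul_comm]
  have hsum : ∑ a ∈ Finset.range r, P a = v := by
    rw [← Finset.smul_sum, Finset.sum_comm]
    have hrs : ∀ j ∈ Finset.range r, ∑ a ∈ Finset.range r, (ζ⁻¹ ^ a) ^ j • (T ^ j) v =
        if j = 0 then (r : F) • v else 0 := by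
      intro j hj
      rw [← Finset.sum_smul]
      split_ifs with h
      · subst h; simp
      · rw [Finset.mem_range] at hj
        have hne : ζ⁻¹ ^ j ≠ 1 := hζ.inv.pow_ne_one_of_pos_of_lt h hj
        have h3 := geom_sum_mul (ζ⁻¹ ^ j) r
        rw [hζr, sub_self, mul_eq_zero] at h3
        rw [Finset.sum_congr rfl fun a _ => show (ζ⁻¹ ^ a) ^ j = (ζ⁻¹ ^ j) ^ a by rw [← pow_mul, ← pow_mul, mul_comm],
          h3.resolve_right (sub_ne_zero.mpr hne), zero_smul]
    rw [Finset.sum_congr rfl hrs, Finset.sum_ite_eq', if_pos (Finset.mem_range.mpr (Nat.pos_of_ne_zero hr0)),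
      smul_smul, inv_mul_cancel₀ hr, one_smul]
  obtain ⟨a, -, haa⟩ : ∃ a ∈ Finset.range r, H.h (P a) (P a) ≠ 0 := by
    by_contra hall
    push Not at hall
    refine hvv ?_
    rw [← hsum, H.sum_left]
    refine Finset.sum_eq_zero fun a ha => ?_
    rw [H.sum_right]
    refine Finset.sum_eq_zero fun b hb => ?_
    by_cases hab : a = b
    · subst hab; exact hall a ha
    have e := hT (P a) (P b)
    rw [hTP, hTP, H.smul_left, H.smul_right, map_pow] at e
    have hne : ζ ^ a * H.σ ζ ^ b ≠ 1 := by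
      intro h1
      have h2 : ζ ^ a = ζ ^ b := by
        calc ζ ^ a = ζ ^ a * (H.σ ζ ^ b * ζ ^ b) := by rw [← mul_pow, mul_comm (H.σ ζ), hζn, one_pow, mul_one]
          _ = ζ ^ b := by rw [← mul_assoc, h1, one_mul]
      exact hab (hζ.pow_inj (Finset.mem_range.mp ha) (Finset.mem_range.mp hb) h2)
    have e2 : (ζ ^ a * H.σ ζ ^ b - 1) * H.h (P a) (P b) = 0 := by linear_combination e
    exact (mul_eq_zero.mp e2).resolve_left (sub_ne_zero.mpr hne)
  refine ⟨Submodule.span F {P a}, (Submodule.span_singleton_le_iff_mem _ _).mpr (hPS a),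
    finrank_span_singleton (fun e => haa (by rw [e, H.zero_left])), H.nondegOn_span_singleton haa, fun w hw => ?_⟩
  obtain ⟨t, rfl⟩ := Submodule.mem_span_singleton.mp hw
  rw [map_smul, hTP]
  exact Submodule.smul_mem _ _ (Submodule.smul_mem _ _ (Submodule.mem_span_singleton_self _))

/-- A block when the square of the element is not a norm one square. -/
theorem two_block (hT : ∀ u v, H.h (T u) (T v) = H.h u v) (h2 : (2 : F) ≠ 0) {l : F} (hl0 : l ≠ 0)
    (hl : l * H.σ l = -1) (hTT : ∀ v, T (T v) = (l * l) • v) (S : Submodule F V) (hSi : ∀ w ∈ S, T w ∈ S)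
    (hS : H.NondegOn S) (hpos : 0 < Module.finrank F S) :
    ∃ U ≤ S, Module.finrank F U = 2 ∧ H.NondegOn U ∧ ∀ w ∈ U, T w ∈ U := by
  haveI : Nontrivial S := Module.nontrivial_of_finrank_pos (R := F) hpos
  have key : ∀ e : V, T e = l • e → ∀ g : V, T g = l • g → H.h e g = 0 := fun e he g hg => by
    have h := hT e g
    rw [he, hg, H.smul_left, H.smul_right, ← mul_assoc, hl] at h
    exact (mul_eq_zero.mp (show (2 : F) * H.h e g = 0 by linear_combination -h)).resolve_left h2
  have key' : ∀ e : V, T e = (-l) • e → ∀ g : V, T g = (-l) • g → H.h e g = 0 := fun e he g hg => by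
    have h := hT e g
    rw [he, hg, H.smul_left, H.smul_right, map_neg] at h
    exact (mul_eq_zero.mp (show (2 : F) * H.h e g = 0 by linear_combination -h + H.h e g * hl)).resolve_left h2
  have comp : ∀ v ∈ S, ∃ a ∈ S, ∃ b ∈ S, v = a + b ∧ T a = l • a ∧ T b = (-l) • b := fun v hv => by
    refine ⟨(2 : F)⁻¹ • (v + l⁻¹ • T v), S.smul_mem _ (S.add_mem hv (S.smul_mem _ (hSi v hv))),
      (2 : F)⁻¹ • (v - l⁻¹ • T v), S.smul_mem _ (S.sub_mem hv (S.smul_mem _ (hSi v hv))), ?_, ?_, ?_⟩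
    · rw [← smul_add, show v + l⁻¹ • T v + (v - l⁻¹ • T v) = (2 : F) • v by module, smul_smul, inv_mul_cancel₀ h2,
        one_smul]
    · rw [map_smul, map_add, map_smul, hTT]
      match_scalars <;> field_simp
    · rw [map_smul, map_sub, map_smul, hTT]
      match_scalars <;> field_simp
  obtain ⟨v, hv, hvv⟩ := exists_aniso hS hpos
  obtain ⟨a, ha, b, hb, rfl, hTa, hTb⟩ := comp v hv
  have hab : H.h a b ≠ 0 := fun e => hvv (by
    rw [H.add_left, H.add_right, H.add_right, key a hTa a hTa, key' b hTb b hTb, e, H.eq_zero_symm e]; simp)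
  set f := (H.σ (H.h a b))⁻¹ • b with hf
  have haf : H.h a f = 1 := by
    rw [hf, H.smul_right, map_inv₀, H.conj.invol, inv_mul_cancel₀ hab]
  refine ⟨Submodule.span F {a, f}, Submodule.span_le.mpr ?_, H.finrank_hyperbolic (key a hTa a hTa) haf,
    H.nondegOn_hyperbolic (key a hTa a hTa) haf, ?_⟩
  · rintro _ (rfl | rfl)
    · exact ha
    · exact S.smul_mem _ hb
  · intro w hw
    obtain ⟨s, t, rfl⟩ := Submodule.mem_span_pair.mp hw
    rw [map_add, map_smul, map_smul, hTa, hf, map_smul, hTb]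
    exact Submodule.mem_span_pair.mpr ⟨s * l, t * -l, by module⟩

/-- A block when the scalar is not a power. -/
theorem cyclic_block (hT : ∀ u v, H.h (T u) (T v) = H.h u v) {r : ℕ} (hr : r.Prime) {z : F} (hTr : T ^ r = z • 1)
    (hz : ∀ δ : F, δ ≠ 0 → ∀ k : ℕ, ¬ r ∣ k → δ ^ r ≠ z ^ k) (S : Submodule F V) (hSi : ∀ w ∈ S, T w ∈ S)
    (hS : H.NondegOn S) (hpos : 0 < Module.finrank F S) :
    ∃ U ≤ S, Module.finrank F U = r ∧ H.NondegOn U ∧ ∀ w ∈ U, T w ∈ U := by
  classical
  have hdiv : ∀ (W : Submodule F V), (∀ w ∈ W, T w ∈ W) → r ∣ Module.finrank F W := fun W hW => by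
    by_contra hne
    refine hz (LinearMap.det (T.restrict hW)) ?_ _ hne (det_restrict_pow hTr hW)
    exact ((LinearEquiv.ofInjectiveEndo (T.restrict hW)
      fun a b e => Subtype.ext (iso_injective hT (congrArg Subtype.val e))).isUnit_det').ne_zero
  obtain ⟨v, hv, hvv⟩ := exists_aniso hS hpos
  set U := Submodule.span F (Set.range fun j : Fin r => (T ^ (j : ℕ)) v) with hUdef
  have hvU : v ∈ U := Submodule.subset_span ⟨⟨0, hr.pos⟩, rfl⟩
  have hUi : ∀ w ∈ U, T w ∈ U := by
    intro w hw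
    have : U ≤ U.comap T := Submodule.span_le.mpr (by
      rintro _ ⟨j, rfl⟩
      show T ((T ^ (j : ℕ)) v) ∈ U
      rw [← Module.End.mul_apply, ← pow_succ']
      by_cases h : (j : ℕ) + 1 < r
      · exact Submodule.subset_span ⟨⟨j + 1, h⟩, rfl⟩
      · rw [show (j : ℕ) + 1 = r by omega, hTr]
        exact U.smul_mem z hvU)
    exact this hw
  have hle : Module.finrank F U ≤ r := (finrank_range_le_card _).trans_eq (Fintype.card_fin r)
  have hv0 : v ≠ 0 := fun e => hvv (by rw [e, H.zero_left])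
  have hUr : Module.finrank F U = r := by
    obtain ⟨k, hk⟩ := hdiv U hUi
    have h1 : 0 < Module.finrank F U := Nat.pos_of_ne_zero fun e => hv0 (by
      rw [Submodule.finrank_eq_zero.mp e] at hvU
      exact (Submodule.mem_bot F).mp hvU)
    rcases k with _ | _ | k
    · omega
    · omega
    · have : r * 2 ≤ r * (k + 1 + 1) := Nat.mul_le_mul_left r (by omega)
      have := hr.pos
      omega
  refine ⟨U, Submodule.span_le.mpr (by rintro _ ⟨j, rfl⟩; exact pow_mem hSi j v hv), hUr, ?_, hUi⟩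
  rw [H.nondegOn_iff_disjoint, disjoint_iff]
  by_contra hne
  have h1 : U ⊓ H.orth U < U := lt_of_le_of_ne inf_le_left fun e => hvv ((e.symm ▸ hvU : v ∈ U ⊓ H.orth U).2 v hvU)
  have h2 := Submodule.finrank_lt_finrank_of_lt h1
  have h3 := Nat.le_of_dvd (Nat.pos_of_ne_zero fun e => hne (Submodule.finrank_eq_zero.mp e))
    (hdiv _ fun w hw => ⟨hUi w hw.1, orth_inv hT hUi w hw.2⟩)
  omega

section Unipotent

variable (H)

/-- The form as a sesquilinear map. -/
def formMap : V →ₗ[F] V →ₛₗ[H.σ] F :=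
  LinearMap.mk₂'ₛₗ (RingHom.id F) H.σ H.h H.add_left (fun c x y => H.smul_left c x y) H.add_right
    (fun c x y => H.smul_right c x y)

variable {H}

theorem formMap_apply (x y : V) : formMap H x y = H.h x y := rfl

theorem nd_iff (W : Submodule F V) : Nd (formMap H) W ↔ H.NondegOn W :=
  ⟨fun h v hv h' => h v hv fun x hx => H.eq_zero_symm (h' x hx),
    fun h v hv h' => h v hv fun x hx => H.eq_zero_symm (h' x hx)⟩

/-- The type of a unipotent isometry. -/
theorem exists_type {p : ℕ} (hT : ∀ u v, H.h (T u) (T v) = H.h u v) (hp : (T - 1) ^ p = 0) (S : Submodule F V)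
    (hS : ∀ w ∈ S, T w ∈ S) (hnd : H.NondegOn S) :
    ∃ μ : Multiset ℕ, (∀ a ∈ μ, 0 < a ∧ a ≤ p) ∧
      (∀ j, Module.finrank F (S.map ((T - 1) ^ j)) = rk μ j) ∧
      ∀ ν ≤ μ, ∃ W ≤ S, (∀ w ∈ W, T w ∈ W) ∧ H.NondegOn W ∧ Module.finrank F W = ν.sum := by
  classical
  have hU : UForm (formMap H) T p := ⟨hT, hp, fun u v h => H.eq_zero_symm h⟩
  obtain ⟨Q, hQ, hQr, hQs⟩ := exists_blocks hU (fun _ b => b = 1) (fun S' _ a _ _ => ⟨fun _ => rfl,
      fun hzero ⟨u, hu, v, hv, hne⟩ => by
        exfalso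
        set N := (T - 1) ^ (a - 1)
        simp only [formMap_apply] at hzero hne
        obtain ⟨c, hc⟩ := H.conj.ne_id
        have hpol : ∀ t : F, H.σ t * H.h u (N v) + t * H.h v (N u) = 0 := fun t => by
          have h := hzero (u + t • v) (add_mem hu (S'.smul_mem t hv))
          simp only [map_add, map_smul, H.add_left, H.add_right, H.smul_left, H.smul_right, hzero u hu, hzero v hv,
            mul_zero, add_zero, zero_add] at h
          linear_combination h
        have h1 := hpol 1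
        rw [map_one, one_mul, one_mul] at h1
        have h2 := hpol c
        have h3 : (H.σ c - c) * H.h u (N v) = 0 := by linear_combination h2 - c * h1
        exact hne ((mul_eq_zero.mp h3).resolve_left (sub_ne_zero.mpr hc))⟩)
    (Module.finrank F S) S le_rfl (fun w hw => by rw [LinearMap.sub_apply, Module.End.one_apply]; exact sub_mem (hS w hw) hw)
    ((nd_iff S).mpr hnd)
  have hpQ : parts Q = Q.map Prod.fst := by
    rw [parts, Multiset.bind_congr (g := fun x : ℕ × ℕ => {x.1}) fun x hx => by rw [(hQ x hx).2.2.2]; rfl]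
    exact Multiset.bind_singleton _ _
  refine ⟨parts Q, fun a ha => ?_, hQr, fun ν hν => ?_⟩
  · obtain ⟨x, hx, rfl⟩ := Multiset.mem_map.mp (hpQ ▸ ha)
    exact ⟨(hQ x hx).1, (hQ x hx).2.1⟩
  · have hle : ν.map (fun a => (a, 1)) ≤ Q := by
      refine (Multiset.map_le_map (hν.trans hpQ.le)).trans (le_of_eq ?_)
      rw [Multiset.map_map]
      conv_rhs => rw [← Multiset.map_id' Q]
      exact Multiset.map_congr rfl fun x hx => Prod.ext rfl (hQ x hx).2.2.2.symm
    obtain ⟨W, hWS, hWi, hWn, hWr⟩ := hQs _ hle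
    have hp' : parts (ν.map fun a => (a, 1)) = ν := by
      rw [parts, Multiset.bind_map]
      exact (Multiset.bind_congr (g := fun a : ℕ => ({a} : Multiset ℕ)) fun a _ => rfl).trans
        ((Multiset.bind_singleton _ _).trans (Multiset.map_id' _))
    refine ⟨W, hWS, fun w hw => T_mem hWi hw, (nd_iff W).mp hWn, ?_⟩
    rw [← rk_zero, ← hp', ← hWr 0, pow_zero, Module.End.one_eq_id, Submodule.map_id]

end Unipotent

end Cfsg.Lib.Classical.UNondeg
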