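import Mathlib
import Cfsg.Agent.Classical.Unitary.NondegBlocks
import Cfsg.Agent.Classical.Symp.DecompDerangement
import Cfsg.Agent.Classical.Symp.IsotropicDerangement
import Cfsg.Agent.Known.UnitarySemisimple
import Cfsg.Agent.Known.UnitaryGU
import Cfsg.Agent.Known.DualCount

/-! Elements of odd prime order of unitary groups and their invariant nondegenerate subspaces. -/

set_option autoImplicit false
set_option linter.unusedSimpArgs false
set_option linter.unusedSectionVars false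
set_option linter.unusedVariables false
set_option linter.style.haveILetI false
set_option linter.flexible false

namespace Cfsg.Lib.Classical.UNondeg

open Cfsg.Lib.Classical Cfsg.Lib.PrimeOrderPoly Cfsg.Lib.DualPoly
open Cfsg.Lib.UnitaryConj Cfsg.Lib.UnitarySemisimple
open Polynomial Matrix

universe u

variable {F : Type u} [Field F] [Fintype F] {p r q n m : ℕ} [Fact p.Prime] [CharP F p] [Fact r.Prime]

/-- The block degree. -/
def cval (i : ℕ) : ℕ := if i % 4 = 0 then i else if i % 4 = 2 then i / 2 else 2 * i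

theorem exists_exp (hF : Fintype.card F = q ^ 2) : ∃ k : ℕ, q = p ^ k := by
  obtain ⟨e, hp, he⟩ := FiniteField.card F p
  have : q ∣ p ^ (e : ℕ) := by rw [← he, hF]; exact dvd_pow_self _ two_ne_zero
  obtain ⟨k, -, hk⟩ := (Nat.dvd_prime_pow hp).mp this
  exact ⟨k, hk⟩

theorem not_dvd_q (hF : Fintype.card F = q ^ 2) (hrp : r ≠ p) : ¬ r ∣ q := fun h => by
  obtain ⟨k, rfl⟩ := exists_exp (p := p) hF
  exact hrp ((Nat.prime_dvd_prime_iff_eq Fact.out Fact.out).mp ((Fact.out : r.Prime).dvd_of_dvd_pow h))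

theorem order_pos (hF : Fintype.card F = q ^ 2) (hrp : r ≠ p) {i : ℕ} (hi : i = orderOf (q : ZMod r)) : 0 < i :=
  hi ▸ orderOf_pos_iff.mpr (isOfFinOrder_iff_pow_eq_one.mpr
    ⟨r - 1, Nat.sub_pos_of_lt (Fact.out : r.Prime).one_lt,
      ZMod.pow_card_sub_one_eq_one fun e => not_dvd_q (p := p) hF hrp ((ZMod.natCast_eq_zero_iff _ _).mp e)⟩)

theorem neg_one_ne (hr2 : r ≠ 2) : (-1 : ZMod r) ≠ 1 := by
  haveI : Fact (2 < r) := ⟨lt_of_le_of_ne (Fact.out : r.Prime).two_le (Ne.symm hr2)⟩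
  exact ZMod.neg_one_ne_one

theorem half_pow (hr2 : r ≠ 2) {i : ℕ} (hi : i = orderOf (q : ZMod r)) (hi0 : 0 < i) (he : Even i) :
    (q : ZMod r) ^ (i / 2) = -1 := by
  obtain ⟨u, hu⟩ := he
  have h1 : ((q : ZMod r) ^ (i / 2)) * (q : ZMod r) ^ (i / 2) = 1 := by
    rw [← pow_add, show i / 2 + i / 2 = i by omega, hi, pow_orderOf_eq_one]
  refine (mul_self_eq_one_iff.mp h1).resolve_left fun h => ?_
  have := Nat.le_of_dvd (by omega) (hi ▸ orderOf_dvd_of_pow_eq_one h)
  omega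

theorem cval_dvd (hr2 : r ≠ 2) {i : ℕ} (hi : i = orderOf (q : ZMod r)) (hi0 : 0 < i) {l : ℕ}
    (hl : (-(q : ZMod r)) ^ l = 1) : cval i ∣ l := by
  have h2 : i ∣ 2 * l := hi ▸ orderOf_dvd_of_pow_eq_one (by
    rw [pow_mul, ← neg_sq, ← pow_mul, mul_comm, pow_mul, hl, one_pow])
  unfold cval
  split_ifs with h4 h4'
  · obtain ⟨u, hu⟩ : 4 ∣ i := Nat.dvd_of_mod_eq_zero h4
    obtain ⟨t, ht⟩ : i / 2 ∣ l := Nat.dvd_of_mul_dvd_mul_left two_pos (by rwa [show 2 * (i / 2) = i by omega])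
    have hle : Even l := ⟨u * t, by rw [ht, show i / 2 = 2 * u by omega]; ring⟩
    rw [neg_pow, hle.neg_one_pow, one_mul] at hl
    exact hi ▸ orderOf_dvd_of_pow_eq_one hl
  · exact Nat.dvd_of_mul_dvd_mul_left two_pos (by rwa [show 2 * (i / 2) = i by omega])
  · have hodd : Odd i := Nat.odd_iff.mpr (by omega)
    have h3 : i ∣ l := (Nat.coprime_two_left.mpr hodd).symm.dvd_of_dvd_mul_left h2
    have hq : (q : ZMod r) ^ l = 1 := by
      obtain ⟨t, rfl⟩ := h3
      rw [pow_mul, hi, pow_orderOf_eq_one, one_pow]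
    rw [neg_pow, hq, mul_one] at hl
    have he : Even l := by
      by_contra ho
      rw [(Nat.not_even_iff_odd.mp ho).neg_one_pow] at hl
      exact neg_one_ne hr2 hl
    exact Nat.Coprime.mul_dvd_of_dvd_of_dvd (Nat.coprime_two_left.mpr hodd) he.two_dvd h3

theorem self_dual (hF : Fintype.card F = q ^ 2) (hr2 : r ≠ 2) (hrp : r ≠ p) {i : ℕ} (hi : i = orderOf (q : ZMod r))
    {g : F[X]} (hg : g ∈ factorSet F r) : dual (powConj hF) g = g ↔ i % 4 = 2 := by
  have hi0 := order_pos hF hrp hi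
  obtain ⟨k, hk⟩ := exists_exp (p := p) hF
  rw [dual_fixed_iff (invol hF) (k := k) (fun x => by rw [powConj_apply hF, hk]) hrp hg, hF, ← hk]
  have hiff : ∀ j : ℕ, r ∣ (q ^ 2) ^ j + q ↔ ((q : ZMod r) ^ 2) ^ j = -(q : ZMod r) := fun j => by
    rw [← ZMod.natCast_eq_zero_iff]
    push_cast
    exact add_eq_zero_iff_eq_neg
  simp only [hiff]
  have hord : (q : ZMod r) ^ i = 1 := hi ▸ pow_orderOf_eq_one _
  constructor
  · rintro ⟨j, hj⟩
    by_contra h4
    rcases Nat.even_or_odd i with he | ho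
    · have h1 := congrArg (· ^ (i / 2)) hj
      rw [← pow_mul, ← pow_mul, show 2 * (j * (i / 2)) = i * j by
          rw [show 2 * (j * (i / 2)) = (2 * (i / 2)) * j by ring, Nat.two_mul_div_two_of_even he],
        pow_mul, hord, one_pow, neg_pow, half_pow hr2 hi hi0 he] at h1
      have hev : Even (i / 2) := by rw [Nat.even_iff] at he ⊢; omega
      rw [hev.neg_one_pow, one_mul] at h1
      exact neg_one_ne hr2 h1.symm
    · have h1 := congrArg (· ^ i) hj
      rw [← pow_mul, ← pow_mul, show 2 * (j * i) = i * (2 * j) by ring, pow_mul, hord, one_pow, neg_pow, hord, mul_one,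
        ho.neg_one_pow] at h1
      exact neg_one_ne hr2 h1.symm
  · intro h4
    refine ⟨(i / 2 + 1) / 2, ?_⟩
    rw [← pow_mul, show 2 * ((i / 2 + 1) / 2) = i / 2 + 1 by omega, pow_succ,
      half_pow hr2 hi hi0 (Nat.even_iff.mpr (by omega)), neg_one_mul]

theorem factor_degree (hF : Fintype.card F = q ^ 2) (hrp : r ≠ p) {i : ℕ} (hi : i = orderOf (q : ZMod r))
    {g : F[X]} (hg : g ∈ factorSet F r) : g.natDegree = if Even i then i / 2 else i := by
  rw [natDegree_factorSet hrp g hg, hF, Nat.cast_pow, orderOf_pow' _ two_ne_zero, ← hi]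
  split_ifs with he
  · rw [Nat.gcd_eq_right he.two_dvd]
  · rw [(Nat.coprime_two_left.mpr (Nat.not_even_iff_odd.mp he)).symm.gcd_eq_one, Nat.div_one]

/-- Blocks fixed by the twisted duality. -/
def Atom (σ : F →+* F) (r c : ℕ) (u : F[X]) : Prop :=
  u.Monic ∧ u.natDegree = c ∧ dual σ u = u ∧ u ∣ (X ^ r - 1) ^ 2 ∧ u.eval 1 ≠ 0

theorem atom_of_factor (hF : Fintype.card F = q ^ 2) (hr2 : r ≠ 2) (hrp : r ≠ p) {i : ℕ} (hi : i = orderOf (q : ZMod r))
    {g : F[X]} (hg : g ∈ factorSet F r) :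
    ∃ u, Atom (powConj hF) r (cval i) u ∧ g ∣ u ∧ ∀ f : F[X], dual (powConj hF) f = f → g ∣ f → u ∣ f := by
  obtain ⟨hm, hir, hd⟩ := mem_factorSet g hg
  have hdX : g ∣ X ^ r - 1 := hd.trans (cyclotomic.dvd_X_pow_sub_one r F)
  have hdeg := factor_degree hF hrp hi hg
  have hfix := self_dual hF hr2 hrp hi hg
  have hi0 := order_pos hF hrp hi
  by_cases h4 : i % 4 = 2
  · refine ⟨g, ⟨hm, ?_, hfix.mpr h4, hdX.trans (dvd_pow_self _ two_ne_zero), SpDecomp.eval_one_ne hrp hg⟩, dvd_rfl,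
      fun f _ h => h⟩
    rw [hdeg, if_pos (Nat.even_iff.mpr (by omega)), cval, if_neg (by omega), if_pos h4]
  · have h0 := coeff_zero_factor hg
    set g' := dual (powConj hF) g with hg'
    have hg'S : g' ∈ factorSet F r := dual_mem (invol hF) hrp hg
    obtain ⟨hm', hir', hd'⟩ := mem_factorSet g' hg'S
    have hne : g' ≠ g := fun e => h4 (hfix.mp e)
    refine ⟨g * g', ⟨hm.mul hm', ?_, ?_, ?_, ?_⟩, dvd_mul_right _ _, fun f hf hgf => ?_⟩
    · rw [hm.natDegree_mul hm', hdeg, factor_degree hF hrp hi hg'S]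
      unfold cval
      simp only [Nat.even_iff]
      split_ifs <;> omega
    · rw [dual_mul, hg', dual_dual (invol hF) hm h0, mul_comm]
    · rw [sq]; exact mul_dvd_mul hdX (hd'.trans (cyclotomic.dvd_X_pow_sub_one r F))
    · rw [eval_mul]; exact mul_ne_zero (SpDecomp.eval_one_ne hrp hg) (SpDecomp.eval_one_ne hrp hg'S)
    · have hcop : IsCoprime g g' := hir.coprime_iff_not_dvd.mpr fun hdv =>
        hne (eq_of_monic_of_associated hm' hm (hir.associated_of_dvd hir' hdv).symm)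
      refine hcop.mul_dvd hgf ?_
      obtain ⟨k, hk⟩ := hgf
      exact ⟨dual (powConj hF) k, by rw [hg', ← dual_mul, ← hk, hf]⟩

/-- Splitting into blocks. -/
theorem exists_atoms (hF : Fintype.card F = q ^ 2) (hr2 : r ≠ 2) (hrp : r ≠ p) {i : ℕ} (hi : i = orderOf (q : ZMod r)) :
    ∀ (k : ℕ) (f : F[X]), f.Monic → f.natDegree = k →
    (∀ g, g.Monic → Irreducible g → g ∣ f → g ∣ X ^ r - 1) → dual (powConj hF) f = f →
    ∃ (e : ℕ) (L : Multiset F[X]), (∀ u ∈ L, Atom (powConj hF) r (cval i) u) ∧ f = (X - C 1) ^ e * L.prod := by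
  classical
  have hi0 := order_pos hF hrp hi
  intro k
  induction k using Nat.strong_induction_on with
  | _ k ih =>
  intro f hf hk hfac hfd
  rcases Nat.eq_zero_or_pos k with h0 | h0
  · refine ⟨0, 0, by simp, ?_⟩
    rw [hf.natDegree_eq_zero.1 (hk.trans h0)]; simp
  obtain ⟨g₀, hg₀, hg₀f⟩ := WfDvdMonoid.exists_irreducible_factor
    (fun h => by have := natDegree_eq_zero_of_isUnit h; omega) hf.ne_zero
  set g := normalize g₀ with hgdef
  have hgm : g.Monic := Polynomial.monic_normalize hg₀.ne_zero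
  have hgi : Irreducible g := (normalize_associated g₀).symm.irreducible hg₀
  have hgf : g ∣ f := (normalize_associated g₀).dvd_iff_dvd_left.mpr hg₀f
  have step : ∀ u f' : F[X], u.Monic → 0 < u.natDegree → dual (powConj hF) u = u → f = u * f' →
      ∃ (e : ℕ) (L : Multiset F[X]), (∀ v ∈ L, Atom (powConj hF) r (cval i) v) ∧ f' = (X - C 1) ^ e * L.prod := by
    intro u f' hu hpos hud he
    have hf' : f'.Monic := hu.of_mul_monic_left (he ▸ hf)
    refine ih f'.natDegree ?_ f' hf' rfl (fun g hg hgi hd => hfac g hg hgi (hd.trans ⟨u, by rw [he, mul_comm]⟩)) ?_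
    · rw [← hk, he, hu.natDegree_mul hf']; omega
    · have h1 := hfd
      rw [he, dual_mul, hud] at h1
      exact mul_left_cancel₀ hu.ne_zero h1
  rcases (irreducible_dvd g hgm hgi).mp (hfac g hgm hgi hgf) with hg1 | hgS
  · obtain ⟨f', he⟩ := hgf
    rw [hg1] at he
    obtain ⟨e, L, hL, hf'⟩ := step _ f' (monic_X_sub_C 1) (by rw [natDegree_X_sub_C]; omega) dual_X_sub_one he
    exact ⟨e + 1, L, hL, by rw [he, hf', pow_succ]; ring⟩
  · obtain ⟨u, hu, -, hdiv⟩ := atom_of_factor hF hr2 hrp hi hgS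
    obtain ⟨f', he⟩ := hdiv f hfd hgf
    obtain ⟨e, L, hL, hf'⟩ := step u f' hu.1 (by rw [hu.2.1, cval]; split_ifs <;> omega) hu.2.2.1 he
    refine ⟨e, u ::ₘ L, fun v hv => ?_, by rw [he, hf', Multiset.prod_cons]; ring⟩
    rcases Multiset.mem_cons.mp hv with rfl | hv
    · exact hu
    · exact hL v hv

theorem dual_pow (σ : F →+* F) (f : F[X]) : ∀ k : ℕ, dual σ (f ^ k) = dual σ f ^ k
  | 0 => by rw [pow_zero, pow_zero, dual_C_one]
  | k + 1 => by rw [pow_succ, pow_succ, dual_mul, dual_pow σ f k]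

theorem atoms_facts {σ : F →+* F} {c : ℕ} {L : Multiset F[X]} (hL : ∀ u ∈ L, Atom σ r c u) :
    L.prod.Monic ∧ L.prod.natDegree = c * L.card ∧ dual σ L.prod = L.prod ∧
      L.prod ∣ (X ^ r - 1) ^ (2 * L.card) ∧ L.prod.eval 1 ≠ 0 := by
  induction L using Multiset.induction with
  | empty => simp [dual_C_one]
  | cons u L ih =>
    obtain ⟨h1, h2, h3, h4, h5⟩ := hL u (Multiset.mem_cons_self _ _)
    obtain ⟨i1, i2, i3, i4, i5⟩ := ih fun v hv => hL v (Multiset.mem_cons_of_mem hv)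
    rw [Multiset.prod_cons, Multiset.card_cons, Nat.mul_succ, Nat.mul_succ, Nat.add_comm, Nat.add_comm (2 * L.card)]
    exact ⟨h1.mul i1, by rw [h1.natDegree_mul i1, h2, i2], by rw [dual_mul, h3, i3],
      by rw [pow_add]; exact mul_dvd_mul h4 i4, by rw [eval_mul]; exact mul_ne_zero h5 i5⟩

theorem charpoly_dual_eq (hF : Fintype.card F = q ^ 2) {k : ℕ} (A : Matrix (Fin k) (Fin k) F) (hA : IsUnit A) :
    dual (powConj hF) A.charpoly = ((cst (powConj hF) A)⁻¹).charpoly := by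
  rw [DualCount.dual_charpoly _ _ hA, cst, ← Matrix.transpose_nonsing_inv, Matrix.charpoly_transpose]

theorem unitary_dual (hF : Fintype.card F = q ^ 2) {k : ℕ} (A : Matrix (Fin k) (Fin k) F)
    (hA : cst (powConj hF) A * A = 1) : dual (powConj hF) A.charpoly = A.charpoly := by
  rw [charpoly_dual_eq hF A (IsUnit.of_mul_eq_one _ (mul_eq_one_comm.mp hA)), Matrix.inv_eq_right_inv hA]

/-- A model with prescribed blocks. -/
theorem exists_elt (hF : Fintype.card F = q ^ 2) (hrp : r ≠ p) {c : ℕ} {L : Multiset F[X]}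
    (hL : ∀ u ∈ L, Atom (powConj hF) r c u) {k e : ℕ} (hk : e + c * L.card = k) :
    ∃ A : Matrix (Fin k) (Fin k) F, cst (powConj hF) A * A = 1 ∧ A ^ r = 1 ∧ A.charpoly = (X - C 1) ^ e * L.prod := by
  obtain ⟨h1, h2, h3, h4, h5⟩ := atoms_facts hL
  rcases Nat.eq_zero_or_pos k with rfl | hk0
  · refine ⟨1, Subsingleton.elim _ _, one_pow r, ?_⟩
    obtain ⟨rfl, hz⟩ : e = 0 ∧ c * L.card = 0 := by omega
    rw [hz] at h2
    rw [pow_zero, one_mul, h1.natDegree_eq_zero.mp h2, Matrix.charpoly_one]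
    simp
  set f := (X - C (1 : F)) ^ e * L.prod with hf
  have hfm : f.Monic := ((monic_X_sub_C 1).pow e).mul h1
  have hdeg : f.natDegree = k := by
    rw [hf, ((monic_X_sub_C 1).pow e).natDegree_mul h1, (monic_X_sub_C 1).natDegree_pow, natDegree_X_sub_C, mul_one, h2, hk]
  have hd : dual (powConj hF) f = f := by
    rw [hf, dual_mul, UNondeg.dual_pow, dual_X_sub_one, h3]
  have hdvd : f ∣ (X ^ r - 1) ^ (e + 2 * L.card) := by
    rw [pow_add]
    refine mul_dvd_mul (pow_dvd_pow_of_dvd ?_ e) h4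
    rw [dvd_iff_isRoot]; simp
  have h0 : f.coeff 0 ≠ 0 := fun e0 => by
    obtain ⟨t, ht⟩ := hdvd
    have := congrArg (fun P => P.coeff 0) ht
    simp only [mul_coeff_zero, e0, zero_mul, coeff_zero_eq_eval_zero, eval_pow, eval_sub, eval_X, eval_one,
      zero_pow (Fact.out : r.Prime).ne_zero, zero_sub] at this
    rw [eval_mul, ← coeff_zero_eq_eval_zero, e0, zero_mul] at this
    exact pow_ne_zero _ (neg_ne_zero.mpr one_ne_zero) this
  obtain ⟨A, hA, hAc⟩ := exists_ss (p := p) f hfm hdeg h0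
  have hAu : IsUnit A := (Matrix.isUnit_iff_isUnit_det A).2 hA.isUnit_det
  obtain ⟨x, hx, hU⟩ := exists_unitary (invol hF) (exists_moved hF) hk0 hA (by
    rw [← charpoly_dual_eq hF A hAu, hAc, hd])
  obtain ⟨N, hN, hAN⟩ := hA
  have hxu : IsUnit x.det := isUnit_iff_ne_zero.2 hx
  obtain ⟨X', hX'⟩ := (Matrix.isUnit_iff_isUnit_det x).2 hxu
  have hinv : x⁻¹ = ((X'⁻¹ : (Matrix (Fin k) (Fin k) F)ˣ) : Matrix (Fin k) (Fin k) F) := by
    rw [← hX', Matrix.coe_units_inv]
  have hch : (x * A * x⁻¹).charpoly = f := by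
    rw [← hX', Matrix.charpoly_units_conj X' A, hAc]
  refine ⟨x * A * x⁻¹, hU, DualCount.pow_eq_one _ hN ?_ (hch ▸ hdvd), hch⟩
  rw [hinv, ← hX', Units.conj_pow, hAN, mul_one, Units.mul_inv]

/-! ### Invariant subspaces of matrices -/

theorem toLin_iso (hF : Fintype.card F = q ^ 2) {A : Matrix (Fin n) (Fin n) F} (hA : cst (powConj hF) A * A = 1)
    (u v : Fin n → F) :
    (stdHerm n hF).h (Matrix.toLin' A u) (Matrix.toLin' A v) = (stdHerm n hF).h u v := by
  rw [Matrix.toLin'_apply, Matrix.toLin'_apply, stdHerm_h, stdHerm_h]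
  exact (preserves_iff hF A).mpr hA u v

theorem stab_conj (hF : Fintype.card F = q ^ 2) {A B T : Matrix (Fin n) (Fin n) F} (hT : cst (powConj hF) T * T = 1)
    (hTA : T * A = B * T) (h : Stab (stdHerm n hF) m (Matrix.toLin' A)) : Stab (stdHerm n hF) m (Matrix.toLin' B) := by
  obtain ⟨W, h1, h2, h3⟩ := h
  have hiso := toLin_iso hF hT
  refine ⟨W.map (Matrix.toLin' T), ?_, ?_, ?_⟩
  · exact (Submodule.equivMapOfInjective _ (iso_injective hiso) W).finrank_eq.symm.trans h1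
  · rintro _ ⟨u, hu, rfl⟩ h
    rw [h2 u hu fun x hx => by rw [← hiso]; exact h _ ⟨x, hx, rfl⟩, map_zero]
  · rintro _ ⟨u, hu, rfl⟩
    refine ⟨Matrix.toLin' A u, h3 u hu, ?_⟩
    rw [← LinearMap.comp_apply, ← Matrix.toLin'_mul, hTA, Matrix.toLin'_mul, LinearMap.comp_apply]

theorem bd_mulVec {a b : ℕ} (A : Matrix (Fin a) (Fin a) F) (D : Matrix (Fin b) (Fin b) F) (u : Fin a → F) :
    bd A D *ᵥ Fin.append u 0 = Fin.append (A *ᵥ u) 0 := by
  funext i
  simp only [bd, Matrix.reindexAlgEquiv_apply, Matrix.reindex_apply, Matrix.mulVec, dotProduct, Fin.sum_univ_add,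
    Matrix.submatrix_apply]
  refine Fin.addCases (fun i => ?_) (fun i => ?_) i <;> simp [Matrix.mulVec, dotProduct]

/-- A model with an invariant block. -/
theorem stable_two (hF : Fintype.card F = q ^ 2) (hrp : r ≠ p) {m' : ℕ} {A₁ : Matrix (Fin m) (Fin m) F}
    {A₂ : Matrix (Fin m') (Fin m') F} (h1 : cst (powConj hF) A₁ * A₁ = 1) (h2 : cst (powConj hF) A₂ * A₂ = 1)
    (hr1 : A₁ ^ r = 1) (hr2' : A₂ ^ r = 1) {X : Matrix (Fin (m + m')) (Fin (m + m')) F}
    (hX : cst (powConj hF) X * X = 1) (hXr : X ^ r = 1) (hf : X.charpoly = A₁.charpoly * A₂.charpoly) :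
    Stab (stdHerm (m + m') hF) m (Matrix.toLin' X) := by
  set M := bd A₁ A₂ with hM
  have hMu : cst (powConj hF) M * M = 1 := by rw [hM, cst_bd, bd_mul, h1, h2, bd_one]
  have hMr : M ^ r = 1 := by rw [hM, bd_pow, hr1, hr2', bd_one]
  have hcop : r.Coprime p := (Nat.coprime_primes Fact.out Fact.out).2 hrp
  obtain ⟨T, hT, hTM⟩ := similar (p := p) ⟨r, hcop, hMr⟩ ⟨r, hcop, hXr⟩ (by rw [hM, charpoly_bd, hf])
  obtain ⟨T', hT', hTA⟩ := exists_conj (invol hF) (exists_moved hF) M X T hMu hX hT hTM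
  refine stab_conj hF hT' hTA ?_
  let ι : (Fin m → F) →ₗ[F] (Fin (m + m') → F) :=
    { toFun := fun u => Fin.append u 0
      map_add' := fun u v => funext fun i => by refine Fin.addCases (fun i => ?_) (fun i => ?_) i <;> simp
      map_smul' := fun t u => funext fun i => by refine Fin.addCases (fun i => ?_) (fun i => ?_) i <;> simp }
  have hι : Function.Injective ι := fun u v e => funext fun i => by
    have := congrFun e (Fin.castAdd m' i)
    simpa [ι] using this
  refine ⟨LinearMap.range ι, ?_, ?_, ?_⟩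
  · rw [LinearMap.finrank_range_of_inj hι, Module.finrank_fin_fun]
  · rintro _ ⟨u, rfl⟩ h
    rw [(stdHerm m hF).nondeg u fun x => ?_, map_zero]
    have := h (ι x) ⟨x, rfl⟩
    rw [stdHerm_h, Cfsg.hermForm, Fin.sum_univ_add] at this
    rw [stdHerm_h, Cfsg.hermForm]
    simpa [ι] using this
  · rintro _ ⟨u, rfl⟩
    exact ⟨A₁ *ᵥ u, by rw [Matrix.toLin'_apply, hM]; exact (bd_mulVec A₁ A₂ u).symm⟩

/-- The fixed part of an invariant nondegenerate subspace. -/
theorem restrict_bound (hF : Fintype.card F = q ^ 2) (hr2 : r ≠ 2) (hrp : r ≠ p) {i : ℕ} (hi : i = orderOf (q : ZMod r))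
    {e : ℕ} {P : F[X]} (hP : P.eval 1 ≠ 0) {Y : Matrix (Fin n) (Fin n) F} (hY : cst (powConj hF) Y * Y = 1)
    (hYr : Y ^ r = 1) (hf : Y.charpoly = (X - C 1) ^ e * P) (hW : Stab (stdHerm n hF) m (Matrix.toLin' Y)) :
    m % cval i ≤ e := by
  classical
  obtain ⟨W, hWd, hWn, hWi⟩ := hW
  set x := Matrix.toLin' Y with hxdef
  set H := stdHerm n hF
  obtain ⟨E, hE⟩ := (H.restrict W hWn).exists_isometry (stdHerm m hF) rfl (by rw [hWd, Module.finrank_fin_fun])
  let φ : Module.End F (Fin m → F) := E.conj (x.restrict hWi)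
  have hφ : ∀ u, φ (E u) = E (x.restrict hWi u) := fun u => by simp [φ, LinearEquiv.conj_apply_apply]
  set A := LinearMap.toMatrix' φ with hAdef
  have hA : cst (powConj hF) A * A = 1 := (preserves_iff hF A).mp fun a b => by
    obtain ⟨a, rfl⟩ := E.surjective a
    obtain ⟨b, rfl⟩ := E.surjective b
    rw [hAdef, LinearMap.toMatrix'_mulVec, LinearMap.toMatrix'_mulVec, hφ, hφ, ← stdHerm_h hF, ← stdHerm_h hF, hE, hE]
    exact toLin_iso hF hY a.1 b.1
  have hxr : x ^ r = 1 := by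
    rw [hxdef, ← Matrix.toLin'_pow, hYr, Matrix.toLin'_one]; rfl
  have hAl : Matrix.toLin' A = φ := Matrix.toLin'_toMatrix' φ
  have hAr : A ^ r = 1 := Matrix.toLin'.injective (by
    rw [Matrix.toLin'_pow, hAl, Matrix.toLin'_one]
    show E.conjAlgEquiv F (x.restrict hWi) ^ r = _
    rw [← map_pow, Module.End.pow_restrict _ hWi, show ((x ^ r).restrict _ : Module.End F W) = 1 from
      LinearMap.ext fun w => Subtype.ext (by rw [LinearMap.coe_restrict_apply, hxr]; rfl)]
    exact map_one (E.conjAlgEquiv F))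
  obtain ⟨e₁, L₁, hL₁, hf₁⟩ := exists_atoms hF hr2 hrp hi _ _ (Matrix.charpoly_monic _) rfl
    (DualCount.factors_of_pow_eq_one _ hAr) (unitary_dual hF A hA)
  obtain ⟨h1, h2, -, -, -⟩ := atoms_facts hL₁
  have hdeg : e₁ + cval i * L₁.card = m := by
    have := congrArg natDegree hf₁
    rw [Matrix.charpoly_natDegree_eq_dim, ((monic_X_sub_C 1).pow e₁).natDegree_mul h1,
      (monic_X_sub_C 1).natDegree_pow, natDegree_X_sub_C, mul_one, h2, Fintype.card_fin] at this
    omega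
  have hle : e₁ ≤ e := by
    obtain ⟨C', hC', hcompl⟩ := PrimeOrd.exists_compl
      (PrimeOrd.semisimple (c := (1 : F)) (cast_prime_ne_zero (Fact.out : r.Prime) hrp) one_ne_zero
        (by rw [hxr, one_smul])) (show PrimeOrd.Inv x W from hWi)
    have hdvd : (Polynomial.X - C (1 : F)) ^ e₁ ∣ x.charpoly := by
      rw [SemisimpleSimilar.charpoly_eq_of_isCompl x hWi hC' hcompl]
      refine dvd_mul_of_dvd_left ?_ _
      rw [show (PrimeOrd.res x (show PrimeOrd.Inv x W from hWi)).charpoly = φ.charpoly from (E.charpoly_conj _).symm,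
        ← hAl, Matrix.charpoly_toLin', hf₁]
      exact dvd_mul_right _ _
    rw [hxdef, Matrix.charpoly_toLin', hf] at hdvd
    have hne : (Polynomial.X - C (1 : F)) ^ e * P ≠ 0 :=
      mul_ne_zero (pow_ne_zero _ (monic_X_sub_C 1).ne_zero) (fun e0 => hP (by rw [e0, eval_zero]))
    have := (le_rootMultiplicity_iff hne).mpr hdvd
    rwa [rootMultiplicity_mul hne, rootMultiplicity_X_sub_C_pow, rootMultiplicity_eq_zero hP, add_zero] at this
  rw [← hdeg, Nat.add_mul_mod_self_left]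
  exact (Nat.mod_le _ _).trans hle

end Cfsg.Lib.Classical.UNondeg
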