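import Mathlib
import Cfsg.Prelude.Def_Classical
import Cfsg.Agent.Classical.Unitary.NondegAtoms
import Cfsg.Agent.Known.UnipotentDet

/-! Elements of prime order of the unitary group and invariant nondegenerate subspaces. -/

set_option autoImplicit false
set_option linter.unusedSimpArgs false
set_option linter.unusedSectionVars false
set_option linter.unusedVariables false
set_option linter.style.haveILetI false
set_option linter.flexible false

namespace Cfsg.Lib.Classical.UNondeg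

open Cfsg.Lib.Classical Cfsg.Lib.PrimeOrderPoly Cfsg.Lib.DualPoly
open Cfsg.Lib.UnitaryConj Cfsg.Lib.UnitarySemisimple
open Polynomial Matrix

universe u

variable {F : Type u} [Field F] [Fintype F] {p r q n m : ℕ} [Fact p.Prime] [CharP F p] [Fact r.Prime]
variable (hF : Fintype.card F = q ^ 2)
include hF

theorem mul_conj (z : F) : z * (powConj hF) z = z ^ (q + 1) := by rw [powConj_apply hF, pow_succ']

theorem dvd_card_sub : q + 1 ∣ Fintype.card F - 1 := ⟨q - 1, by rw [hF, ← Nat.sq_sub_sq, one_pow]⟩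

theorem exists_zeta {t : ℕ} (ht : t ∣ q + 1) : ∃ ζ : F, IsPrimitiveRoot ζ t ∧ ζ ^ (q + 1) = 1 := by
  obtain ⟨ζ, -, hζ⟩ := ExtraThree.exists_order (F := F) (n := t) (ht.trans (dvd_card_sub hF))
  refine ⟨ζ, hζ ▸ IsPrimitiveRoot.orderOf ζ, ?_⟩
  obtain ⟨s, hs⟩ := ht
  rw [hs, pow_mul, ← hζ, pow_orderOf_eq_one, one_pow]

omit hF in
theorem root_of_coprime {z : F} {N : ℕ} (hN : 0 < N) (hcop : r.Coprime N) (hz : z ^ N = 1) :
    ∃ w : F, w ^ N = 1 ∧ w ^ r = z := by
  obtain ⟨k, hk⟩ := exists_pow_eq_self_of_coprime (x := z)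
    (Nat.Coprime.coprime_dvd_right (orderOf_dvd_of_pow_eq_one hz) hcop)
  exact ⟨z ^ k, by rw [← pow_mul, mul_comm, pow_mul, hz, one_pow], by rw [← pow_mul, mul_comm, pow_mul, hk]⟩

theorem root_of_power {z : F} (hd : r ∣ q + 1) (hz : z ^ (q + 1) = 1) (hp : z ^ ((q + 1) / r) = 1) :
    ∃ w : F, w ^ (q + 1) = 1 ∧ w ^ r = z := by
  obtain ⟨ζ, hζ, -⟩ := exists_zeta hF (dvd_refl (q + 1))
  obtain ⟨j, -, rfl⟩ := hζ.eq_pow_of_pow_eq_one hz
  rw [← pow_mul, hζ.pow_eq_one_iff_dvd] at hp
  obtain ⟨t, ht⟩ := hd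
  rw [ht, Nat.mul_div_cancel_left _ (Fact.out : r.Prime).pos] at hp
  have ht0 : 0 < t := Nat.pos_of_ne_zero fun e => by rw [e, mul_zero] at ht; omega
  obtain ⟨s, hs⟩ := Nat.dvd_of_mul_dvd_mul_right ht0 hp
  exact ⟨ζ ^ s, by rw [← pow_mul, mul_comm, pow_mul, hζ.pow_eq_one, one_pow],
    by rw [← pow_mul, mul_comm, ← hs]⟩

/-- The statement about one element. -/
theorem stab_iff (X : Matrix (Fin n) (Fin n) F) :
    (∃ W : Submodule F (Fin n → F), Module.finrank F ↥W = m ∧ (∀ u ∈ W, u ≠ 0 → ∃ v ∈ W, Cfsg.hermForm n F q u v ≠ 0) ∧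
      W.map (Matrix.toLin' X) ≤ W) ↔ Stab (stdHerm n hF) m (Matrix.toLin' X) := by
  refine exists_congr fun W => and_congr Iff.rfl (and_congr ⟨fun h u hu h' => ?_, fun h u hu hne => ?_⟩
    ⟨fun h w hw => h ⟨w, hw, rfl⟩, fun h => ?_⟩)
  · by_contra hne
    obtain ⟨v, hv, hv'⟩ := h u hu hne
    exact hv' (by rw [← stdHerm_h hF]; exact (stdHerm n hF).eq_zero_symm (h' v hv))
  · by_contra hall
    push Not at hall
    exact hne (h u hu fun v hv => (stdHerm n hF).eq_zero_symm (by rw [stdHerm_h]; exact hall v hv))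
  · rintro _ ⟨w, hw, rfl⟩
    exact h w hw

omit hF in
/-- All elements of order `r` have invariant subspaces. -/
def AllStab (hF : Fintype.card F = q ^ 2) (r n m : ℕ) : Prop :=
  ∀ (X : Matrix (Fin n) (Fin n) F), cst (powConj hF) X * X = 1 → X.det = 1 → ∀ z : F, X ^ r = z • 1 →
    (∀ w : F, X ≠ w • 1) → Stab (stdHerm n hF) m (Matrix.toLin' X)

theorem scalar_facts (hn : 0 < n) {X : Matrix (Fin n) (Fin n) F} (hX : cst (powConj hF) X * X = 1) (hd : X.det = 1)
    {z : F} (hz : X ^ r = z • 1) : z ^ (q + 1) = 1 ∧ z ^ n = 1 := by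
  haveI : Nonempty (Fin n) := ⟨⟨0, hn⟩⟩
  constructor
  · have hp : ∀ k : ℕ, cst (powConj hF) (X ^ k) * X ^ k = 1 := fun k => by
      induction k with
      | zero => rw [pow_zero, cst_one, mul_one]
      | succ k ih => rw [pow_succ', cst_mul, mul_assoc, ← mul_assoc (cst _ X), hX, one_mul, ih]
    have h := hp r
    rw [hz, cst_smul, cst_one, smul_mul_assoc, one_mul, smul_smul, mul_comm, mul_conj hF] at h
    have h2 := congrFun (congrFun h ⟨0, hn⟩) ⟨0, hn⟩
    simpa using h2
  · have h := congrArg Matrix.det hz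
    rwa [Matrix.det_pow, hd, one_pow, Matrix.det_smul, Matrix.det_one, mul_one, Fintype.card_fin, eq_comm] at h

omit [Fact r.Prime] in
/-- Removing the scalar. -/
theorem normalise {X : Matrix (Fin n) (Fin n) F} (hX : cst (powConj hF) X * X = 1) {z w : F} (hz : X ^ r = z • 1)
    (hw : w ^ (q + 1) = 1) (hwr : w ^ r = z) :
    cst (powConj hF) (w⁻¹ • X) * (w⁻¹ • X) = 1 ∧ (w⁻¹ • X) ^ r = 1 ∧
      (Stab (stdHerm n hF) m (Matrix.toLin' (w⁻¹ • X)) → Stab (stdHerm n hF) m (Matrix.toLin' X)) := by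
  have hw0 : w ≠ 0 := fun e => by rw [e, zero_pow q.succ_ne_zero] at hw; exact zero_ne_one hw
  refine ⟨?_, ?_, fun h => ?_⟩
  · rw [cst_smul, smul_mul_assoc, mul_smul_comm, smul_smul, hX, mul_comm, mul_conj hF, inv_pow, hw, inv_one, one_smul]
  · rw [_root_.smul_pow, hz, smul_smul, inv_pow, hwr, inv_mul_cancel₀ (hwr ▸ pow_ne_zero r hw0), one_smul]
  · rw [map_smul] at h
    exact (stab_smul (inv_ne_zero hw0)).mp h

/-! ### The order of the group -/

theorem count_order (hrp : r ≠ p) (hmn : m ≤ n)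
    (hΩ : r ∣ Nat.card {W : Submodule F (Fin n → F) // Module.finrank F ↥W = m ∧
      (∀ u ∈ W, u ≠ 0 → ∃ v ∈ W, Cfsg.hermForm n F q u v ≠ 0)}) :
    ∃ l, n - m < l ∧ l ≤ n ∧ (-(q : ZMod r)) ^ l = 1 := by
  classical
  obtain ⟨k, rfl⟩ := Nat.exists_eq_add_of_le hmn
  set H := stdHerm (m + k) hF
  set Ω := {W : Submodule F (Fin (m + k) → F) // Module.finrank F ↥W = m ∧
      (∀ u ∈ W, u ≠ 0 → ∃ v ∈ W, Cfsg.hermForm (m + k) F q u v ≠ 0)}
  have hnd : ∀ W : Ω, H.NondegOn W.1 := fun W u hu h' => by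
    by_contra hne
    obtain ⟨v, hv, hv'⟩ := W.2.2 u hu hne
    exact hv' (by rw [← stdHerm_h hF]; exact H.eq_zero_symm (h' v hv))
  obtain ⟨W₀⟩ : Nonempty Ω := by
    obtain ⟨W, hW1, hW2, -⟩ := (stab_iff hF (m := m) (1 : Matrix (Fin (m + k)) (Fin (m + k)) F)).mpr
      (stable_two (p := p) (r := r) hF hrp (A₁ := 1) (A₂ := 1) (by rw [cst_one, mul_one]) (by rw [cst_one, mul_one])
        (one_pow r) (one_pow r) (by rw [cst_one, mul_one]) (one_pow r)
        (by simp only [Matrix.charpoly_one, Fintype.card_fin, pow_add]))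
    exact ⟨⟨W, hW1, hW2⟩⟩
  haveI : Finite Ω := inferInstance
  letI : MulAction H.Isom Ω :=
    { smul := fun g W => ⟨W.1.map g.1.toLinearMap, (LinearEquiv.finrank_map_eq g.1 W.1).trans W.2.1, by
        rintro _ ⟨u, hu, rfl⟩ hne
        obtain ⟨v, hv, hv'⟩ := W.2.2 u hu (fun e => hne (by rw [e]; exact map_zero _))
        refine ⟨_, ⟨v, hv, rfl⟩, ?_⟩
        rw [← stdHerm_h hF] at hv' ⊢
        exact fun e => hv' (by rw [← H.map_form g]; exact e)⟩
      one_smul := fun W => Subtype.ext (Submodule.map_id _)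
      mul_smul := fun g g' W => Subtype.ext (Submodule.map_comp _ _ _) }
  haveI : Finite H.Isom := Finite.of_injective _ (guEquiv (m + k) hF).injective
  haveI : MulAction.IsPretransitive H.Isom Ω := ⟨fun W W' => by
    obtain ⟨e₁, he₁⟩ := (H.restrict W.1 (hnd W)).exists_isometry (H.restrict W'.1 (hnd W')) rfl (W.2.1.trans W'.2.1.symm)
    obtain ⟨e₂, he₂⟩ := (H.restrict _ (H.nondegOn_orth (hnd W))).exists_isometry
      (H.restrict _ (H.nondegOn_orth (hnd W'))) rfl (by rw [H.finrank_orth, H.finrank_orth, W.2.1, W'.2.1])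
    obtain ⟨g, hg, -⟩ := H.exists_glue (hnd W) (hnd W') e₁.toLinearMap e₂.toLinearMap he₁ he₂
    refine ⟨g, Subtype.ext (Submodule.eq_of_le_of_finrank_eq ?_
      ((LinearEquiv.finrank_map_eq g.1 W.1).trans (W.2.1.trans W'.2.1.symm)))⟩
    rintro _ ⟨u, hu, rfl⟩
    show g.1 u ∈ W'.1
    rw [hg ⟨u, hu⟩]
    exact Subtype.coe_prop _⟩
  have hstab : MulAction.stabilizer H.Isom W₀ = H.subStab W₀.1 := by
    ext g
    rw [MulAction.mem_stabilizer_iff]
    constructor
    · intro e
      refine H.mem_subStab_of_map_le fun x hx => ?_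
      have e' : W₀.1.map g.1.toLinearMap = W₀.1 := congrArg Subtype.val e
      rw [← e']; exact ⟨x, hx, rfl⟩
    · intro hg
      refine Subtype.ext (Submodule.eq_of_le_of_finrank_eq ?_ (LinearEquiv.finrank_map_eq g.1 W₀.1))
      rintro _ ⟨u, hu, rfl⟩
      exact (hg u).mp hu
  have hidx := Subgroup.index_mul_card (MulAction.stabilizer H.Isom W₀)
  have hq1 : (H.restrict W₀.1 (hnd W₀)).q = q := stdHerm_q (n := m + k) hF
  have hq2 : (H.restrict _ (H.nondegOn_orth (hnd W₀))).q = q := stdHerm_q (n := m + k) hF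
  rw [MulAction.index_stabilizer_of_transitive, hstab, Nat.card_congr (H.subStabEquiv W₀.1 (hnd W₀)).toEquiv,
    Nat.card_prod, HermSpace.card_isom, HermSpace.card_isom, HermSpace.card_isom, hq1, hq2, stdHerm_q hF,
    H.finrank_orth, W₀.2.1, Module.finrank_fin_fun, Nat.add_sub_cancel_left] at hidx
  set t : ℕ → ℕ := fun j => if Even j then q ^ (j + 1) + 1 else q ^ (j + 1) - 1 with ht
  have hq0 : 1 < q := by
    have := H.two_le_q
    rw [stdHerm_q hF] at this
    exact this
  have hpos : 0 < ∏ i ∈ Finset.range k, t i := Finset.prod_pos fun i _ => by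
    have : 1 < q ^ (i + 1) := Nat.one_lt_pow (by omega) hq0
    simp only [ht]
    split_ifs <;> omega
  have hsplit : ∏ i ∈ Finset.range (m + k), t i =
      (∏ i ∈ Finset.range k, t i) * ∏ j ∈ Finset.range m, t (k + j) := by
    rw [add_comm m k, Finset.prod_range_add]
  simp only [cardGUFormula] at hidx
  have hdvd : r ∣ q ^ ((m + k) * (m + k - 1) / 2) * ∏ j ∈ Finset.range m, t (k + j) := by
    refine hΩ.trans (Nat.dvd_of_mul_dvd_mul_right hpos ?_)
    refine Dvd.intro (q ^ (m * (m - 1) / 2) * (∏ i ∈ Finset.range m, t i) * q ^ (k * (k - 1) / 2)) ?_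
    simp only [ht] at hsplit ⊢
    rw [hsplit] at hidx
    linear_combination hidx
  have hr : r.Prime := Fact.out
  obtain ⟨j, hj, hdj⟩ := (Prime.dvd_finsetProd_iff hr.prime _).mp
    ((hr.dvd_mul.mp hdvd).resolve_left fun e => not_dvd_q hF hrp (hr.dvd_of_dvd_pow e))
  rw [Finset.mem_range] at hj
  refine ⟨k + j + 1, by omega, by omega, ?_⟩
  rw [neg_pow]
  simp only [ht] at hdj
  split_ifs at hdj with he
  · rw [← ZMod.natCast_eq_zero_iff, Nat.cast_add, Nat.cast_one, Nat.cast_pow] at hdj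
    rw [he.add_one.neg_one_pow]
    linear_combination -hdj
  · rw [← ZMod.natCast_eq_zero_iff, Nat.cast_sub (Nat.one_le_pow _ _ (by omega)), Nat.cast_one, Nat.cast_pow] at hdj
    rw [(Nat.even_add_one.mpr he).neg_one_pow]
    linear_combination hdj

/-! ### Odd order not dividing `q + 1` -/

theorem odd_case (hn : 0 < n) (hr2 : r ≠ 2) (hrp : r ≠ p) (hrq1 : ¬ r ∣ q + 1) (hmn : 2 * m < n) {i : ℕ}
    (hi : i = orderOf (q : ZMod r)) {l : ℕ} (hl1 : n - m < l) (hl2 : l ≤ n) (hl : (-(q : ZMod r)) ^ l = 1) :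
    AllStab hF r n m ↔ (cval i ≤ m ∧ m % cval i ≤ n % cval i) := by
  classical
  have hr : r.Prime := Fact.out
  have hi0 := order_pos hF hrp hi
  have hc0 : 0 < cval i := by unfold cval; split_ifs <;> omega
  have hcop : r.Coprime (q + 1) := hr.coprime_iff_not_dvd.mpr hrq1
  obtain ⟨t, ht⟩ := cval_dvd hr2 hi hi0 hl
  set c := cval i with hcdef
  have hcn : c ≤ n := (Nat.le_of_dvd (by omega) (Dvd.intro t ht.symm)).trans hl2
  have hemod : n % c < m := by
    rw [show n = c * t + (n - l) by omega, Nat.mul_add_mod]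
    exact (Nat.mod_le _ _).trans_lt (by omega)
  have hdm := Nat.div_add_mod n c
  have hmm := Nat.div_add_mod m c
  constructor
  · intro H
    obtain ⟨g, hg⟩ : (factorSet F r).Nonempty := by
      rw [Finset.nonempty_iff_ne_empty]
      intro e
      have := card_factorSet (F := F) (p := p) (r := r) hrp
      rw [e, Finset.card_empty, zero_mul] at this
      have := hr.two_le
      omega
    obtain ⟨u, hu, -, -⟩ := atom_of_factor hF hr2 hrp hi hg
    have hL : ∀ v ∈ Multiset.replicate (n / c) u, Atom (powConj hF) r c v := fun v hv =>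
      Multiset.eq_of_mem_replicate hv ▸ hu
    obtain ⟨-, -, -, -, heval⟩ := atoms_facts hL
    obtain ⟨Y, hY, hYr, hYc⟩ := exists_elt (p := p) hF hrp hL (k := n) (e := n % c)
      (by rw [Multiset.card_replicate]; omega)
    have hnorm : Y.det ^ (q + 1) = 1 := by
      have h := congrArg Matrix.det hY
      rw [Matrix.det_mul, det_cst, Matrix.det_one, mul_comm, mul_conj hF] at h
      exact h
    have hdr : Y.det ^ r = 1 := by rw [← Matrix.det_pow, hYr, Matrix.det_one]
    have hdet : Y.det = 1 := by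
      have := (pow_gcd_eq_one (a := Y.det) (m := r) (n := q + 1)).mpr ⟨hdr, hnorm⟩
      rwa [hcop.gcd_eq_one, pow_one] at this
    have hns : ∀ w : F, Y ≠ w • 1 := by
      intro w hw
      have h1 : w ^ r = 1 := by
        have h := congrFun (congrFun hYr ⟨0, hn⟩) ⟨0, hn⟩
        rw [hw, _root_.smul_pow, one_pow] at h
        simpa using h
      have h2 : w ^ (q + 1) = 1 := by
        have h := congrFun (congrFun hY ⟨0, hn⟩) ⟨0, hn⟩
        rw [hw, cst_smul, cst_one, smul_mul_assoc, one_mul, smul_smul, mul_comm, mul_conj hF] at h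
        simpa using h
      have hw1 : w = 1 := by
        have := (pow_gcd_eq_one (a := w) (m := r) (n := q + 1)).mpr ⟨h1, h2⟩
        rwa [hcop.gcd_eq_one, pow_one] at this
      rw [hw, hw1, one_smul, Matrix.charpoly_one, Fintype.card_fin, ← map_one (C : F →+* F[X]),
        show (Polynomial.X - C (1 : F)) ^ n = (Polynomial.X - C (1 : F)) ^ (n % c) * (Polynomial.X - C (1 : F)) ^ (c * (n / c)) by
          rw [← pow_add, Nat.mod_add_div]] at hYc
      have hK : 0 < c * (n / c) := Nat.mul_pos hc0 (Nat.div_pos hcn hc0)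
      refine heval ?_
      rw [← mul_left_cancel₀ (pow_ne_zero _ (monic_X_sub_C (1 : F)).ne_zero) hYc, eval_pow, eval_sub, eval_X, eval_C,
        sub_self, zero_pow hK.ne']
    have hk := restrict_bound hF hr2 hrp hi heval hY hYr hYc (H Y hY hdet 1 (by rw [hYr, one_smul]) hns)
    refine ⟨?_, hk⟩
    by_contra hlt
    rw [Nat.mod_eq_of_lt (not_le.mp hlt)] at hk
    omega
  · rintro ⟨hcm, hcond⟩ X hX hd z hz -
    obtain ⟨hzq, -⟩ := scalar_facts hF hn hX hd hz
    obtain ⟨w, hw, hwr⟩ := root_of_coprime (by omega : 0 < q + 1) hcop hzq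
    obtain ⟨hY, hYr, himp⟩ := normalise (m := m) hF hX hz hw hwr
    apply himp
    set Y := w⁻¹ • X
    obtain ⟨e, L, hL, hf⟩ := exists_atoms hF hr2 hrp hi _ _ (Matrix.charpoly_monic _) rfl
      (DualCount.factors_of_pow_eq_one _ hYr) (unitary_dual hF Y hY)
    rw [← hcdef] at hL
    obtain ⟨h1, h2, -, -, -⟩ := atoms_facts hL
    have hdeg : e + c * L.card = n := by
      have := congrArg natDegree hf
      rw [Matrix.charpoly_natDegree_eq_dim, ((monic_X_sub_C 1).pow e).natDegree_mul h1, (monic_X_sub_C 1).natDegree_pow,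
        natDegree_X_sub_C, mul_one, h2, Fintype.card_fin] at this
      omega
    have hemin : n % c ≤ e := by
      rw [← hdeg, Nat.add_mul_mod_self_left]; exact Nat.mod_le _ _
    obtain ⟨A, B, hAB, hAc⟩ := SpIso.exists_split L (j := min (m / c) L.card) (min_le_right _ _)
    have hcA : c * A.card ≤ m ∧ m - c * A.card ≤ e := by
      rw [hAc]
      rcases le_total (m / c) L.card with hle | hle
      · rw [min_eq_left hle]; omega
      · rw [min_eq_right hle]
        have := Nat.mul_le_mul_left c hle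
        omega
    have hLc : c * L.card = c * A.card + c * B.card := by rw [← hAB, Multiset.card_add, mul_add]
    obtain ⟨k, hk⟩ := Nat.exists_eq_add_of_le (show m ≤ n by omega)
    subst hk
    obtain ⟨A₁, hA₁, hA₁r, hA₁c⟩ := exists_elt (p := p) hF hrp
      (fun v hv => hL v (by rw [← hAB]; exact Multiset.mem_add.mpr (Or.inl hv)))
      (k := m) (e := m - c * A.card) (by omega)
    obtain ⟨A₂, hA₂, hA₂r, hA₂c⟩ := exists_elt (p := p) hF hrp
      (fun v hv => hL v (by rw [← hAB]; exact Multiset.mem_add.mpr (Or.inr hv)))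
      (k := k) (e := e - (m - c * A.card)) (by omega)
    refine stable_two (p := p) hF hrp hA₁ hA₂ hA₁r hA₂r hY hYr ?_
    rw [hA₁c, hA₂c, hf, ← hAB, Multiset.prod_add]
    conv_lhs => rw [show e = (m - c * A.card) + (e - (m - c * A.card)) by omega, pow_add]
    ring

/-! ### Order dividing `q + 1` -/

omit hF in
/-- The scalar of an element with a bad block. -/
def BadScalar (F : Type u) [Field F] (q r n : ℕ) : Prop :=
  ∃ z : F, z ^ (q + 1) = 1 ∧ z ^ ((q + 1) / r) ≠ 1 ∧ r ∣ n ∧ ((-1) ^ (r - 1) * z) ^ (n / r) = 1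

theorem dvd_of_root (hd : r ∣ q + 1) {z δ : F} (hzq : z ^ (q + 1) = 1) (hz : z ^ ((q + 1) / r) ≠ 1)
    (hδ : δ ^ (q + 1) = 1) {k : ℕ} (h : δ ^ r = z ^ k) : r ∣ k := by
  by_contra hk
  obtain ⟨t, ht⟩ := hd
  rw [ht, Nat.mul_div_cancel_left _ (Fact.out : r.Prime).pos] at hz
  have h1 : (z ^ t) ^ k = 1 := by rw [← pow_mul, mul_comm, pow_mul, ← h, ← pow_mul, ← ht, hδ]
  have h2 : (z ^ t) ^ r = 1 := by rw [← pow_mul, mul_comm, ← ht, hzq]
  have := (pow_gcd_eq_one (a := z ^ t) (m := r) (n := k)).mpr ⟨h2, h1⟩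
  rw [((Fact.out : r.Prime).coprime_iff_not_dvd.mpr hk).gcd_eq_one, pow_one] at this
  exact hz this

theorem no_root (hr2 : r ≠ 2) (hd : r ∣ q + 1) {z : F} (hzq : z ^ (q + 1) = 1) (hz : z ^ ((q + 1) / r) ≠ 1) :
    ∀ δ : F, δ ≠ 0 → ∀ k : ℕ, ¬ r ∣ k → δ ^ r ≠ z ^ k := by
  intro δ hδ k hk h
  have hr : r.Prime := Fact.out
  have hcop : r.Coprime (k * (q - 1)) := by
    refine Nat.Coprime.mul_right (hr.coprime_iff_not_dvd.mpr hk) (hr.coprime_iff_not_dvd.mpr fun h1 => hr2 ?_)
    have hq : 1 ≤ q := Nat.pos_of_ne_zero fun e => by rw [e] at hd; simp at hd; exact hr.ne_one hd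
    have h3 := Nat.dvd_sub hd h1
    rw [show q + 1 - (q - 1) = 2 by omega] at h3
    exact (Nat.prime_dvd_prime_iff_eq hr Nat.prime_two).mp h3
  obtain ⟨t, ht⟩ := hd
  rw [ht, Nat.mul_div_cancel_left _ hr.pos] at hz
  have h1 : (z ^ t) ^ r = 1 := by rw [← pow_mul, mul_comm, ← ht, hzq]
  have h2 : (z ^ t) ^ (k * (q - 1)) = 1 := by
    rw [← pow_mul, show t * (k * (q - 1)) = k * (t * (q - 1)) by ring, pow_mul, ← h, ← pow_mul, ← mul_assoc, ← ht,
      show (q + 1) * (q - 1) = Fintype.card F - 1 by rw [hF, ← Nat.sq_sub_sq, one_pow],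
      FiniteField.pow_card_sub_one_eq_one δ hδ]
  have := (pow_gcd_eq_one (a := z ^ t) (m := r) (n := k * (q - 1))).mpr ⟨h1, h2⟩
  rw [hcop.gcd_eq_one, pow_one] at this
  exact hz this

theorem exists_sqrt (h2 : (2 : F) ≠ 0) {z : F} (hzq : z ^ (q + 1) = 1) (hz : z ^ ((q + 1) / 2) ≠ 1) (hd : 2 ∣ q + 1) :
    ∃ l : F, l ≠ 0 ∧ l * l = z ∧ l * (powConj hF) l = -1 := by
  have hz0 : z ≠ 0 := fun e => by rw [e, zero_pow q.succ_ne_zero] at hzq; exact zero_ne_one hzq
  obtain ⟨t, ht⟩ := hd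
  obtain ⟨l, hl⟩ : IsSquare z := by
    rw [FiniteField.isSquare_iff (fun e => h2 (by
      haveI := ringChar.of_eq e; exact_mod_cast CharP.cast_eq_zero F 2)) hz0, hF]
    have e : q ^ 2 / 2 = (q + 1) * (t - 1) := by
      have : q ^ 2 = 2 * ((q + 1) * (t - 1)) + 1 := by
        obtain ⟨s, rfl⟩ : ∃ s, t = s + 1 := ⟨t - 1, by omega⟩
        have : q = 2 * s + 1 := by omega
        subst this
        rw [Nat.add_sub_cancel]; ring
      omega
    rw [e, pow_mul, hzq, one_pow]
  have hl0 : l ≠ 0 := fun e => hz0 (by rw [hl, e, mul_zero])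
  refine ⟨l, hl0, hl.symm, ?_⟩
  rw [mul_conj hF]
  have h1 : l ^ (q + 1) * l ^ (q + 1) = 1 := by rw [← mul_pow, ← hl, hzq]
  refine (mul_self_eq_one_iff.mp h1).resolve_left fun h => hz ?_
  rw [ht, Nat.mul_div_cancel_left _ two_pos, hl, ← pow_two, ← pow_mul, ← ht, h]

theorem det_two (h2 : (2 : F) ≠ 0) {X : Matrix (Fin n) (Fin n) F} (hX : cst (powConj hF) X * X = 1) {l : F}
    (hl0 : l ≠ 0) (hl : l * (powConj hF) l = -1) (hz : X ^ 2 = (l * l) • 1) :
    2 ∣ n ∧ X.det = (-(l * l)) ^ (n / 2) := by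
  classical
  set H := stdHerm n hF
  set T := Matrix.toLin' X
  have hT : ∀ u v, H.h (T u) (T v) = H.h u v := toLin_iso hF hX
  have hTT : ∀ v, T (T v) = (l * l) • v := fun v => by
    rw [← LinearMap.comp_apply, ← Matrix.toLin'_mul, ← pow_two, hz, Matrix.toLin'_apply, Matrix.smul_mulVec,
      Matrix.one_mulVec]
  set P := LinearMap.ker (T - l • (1 : Module.End F (Fin n → F))) with hP
  set Q := LinearMap.ker (T - (-l) • (1 : Module.End F (Fin n → F))) with hQ
  have hmP : ∀ v, v ∈ P ↔ T v = l • v := fun v => by simp [hP, sub_eq_zero]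
  have hmQ : ∀ v, v ∈ Q ↔ T v = (-l) • v := fun v => by
    rw [hQ, LinearMap.mem_ker, LinearMap.sub_apply, sub_eq_zero]; rfl
  have hc : IsCompl P Q := by
    refine ⟨Submodule.disjoint_def.mpr fun v hv hv' => ?_, codisjoint_iff.mpr (eq_top_iff.mpr fun v _ => ?_)⟩
    · have e : (l + l) • v = 0 := by
        rw [add_smul]
        nth_rw 1 [← (hmP v).mp hv]
        rw [(hmQ v).mp hv', neg_smul, neg_add_cancel]
      refine (smul_eq_zero.mp e).resolve_left fun e' => hl0 ?_
      exact (mul_eq_zero.mp (show (2 : F) * l = 0 by rw [two_mul]; exact e')).resolve_left h2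
    · refine Submodule.mem_sup.mpr ⟨(2 : F)⁻¹ • (v + l⁻¹ • T v), (hmP _).mpr ?_, (2 : F)⁻¹ • (v - l⁻¹ • T v),
        (hmQ _).mpr ?_, ?_⟩
      · rw [map_smul, map_add, map_smul, hTT]; match_scalars <;> field_simp
      · rw [map_smul, map_sub, map_smul, hTT]; match_scalars <;> field_simp
      · rw [← smul_add, show v + l⁻¹ • T v + (v - l⁻¹ • T v) = (2 : F) • v by module, smul_smul, inv_mul_cancel₀ h2,
          one_smul]
  have hiso : ∀ (c : F) (S : Submodule F (Fin n → F)), c * (powConj hF) c = -1 → (∀ v ∈ S, T v = c • v) →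
      2 * Module.finrank F S ≤ n := fun c S hc' hS => by
    have hle : S ≤ H.orth S := fun u hu v hv => by
      have h := hT u v
      rw [hS u hu, hS v hv, H.smul_left, H.smul_right, ← mul_assoc, show H.σ = powConj hF from rfl, hc'] at h
      exact (mul_eq_zero.mp (show (2 : F) * H.h u v = 0 by linear_combination -h)).resolve_left h2
    have h1 := Submodule.finrank_mono hle
    rw [H.finrank_orth, Module.finrank_fin_fun] at h1
    have := Submodule.finrank_le S
    rw [Module.finrank_fin_fun] at this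
    omega
  have hPle := hiso l P hl fun v hv => (hmP v).mp hv
  have hQle := hiso (-l) Q (by rw [map_neg, neg_mul_neg, hl]) fun v hv => (hmQ v).mp hv
  have hsum := Submodule.finrank_add_eq_of_isCompl hc
  rw [Module.finrank_fin_fun] at hsum
  refine ⟨⟨Module.finrank F P, by omega⟩, ?_⟩
  let e := Submodule.prodEquivOfIsCompl P Q hc
  have hconj : T = e.conj ((l • (1 : Module.End F P)).prodMap ((-l) • (1 : Module.End F Q))) := by
    refine LinearMap.ext fun v => ?_
    obtain ⟨⟨a, b⟩, rfl⟩ := e.surjective v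
    rw [LinearEquiv.conj_apply_apply, e.symm_apply_apply]
    simp [e, (hmP a.1).mp a.2, (hmQ b.1).mp b.2]
  rw [← LinearMap.det_toLin', show Matrix.toLin' X = T from rfl, hconj, LinearEquiv.conj_apply, LinearMap.comp_assoc,
    LinearMap.det_conj, LinearMap.det_prodMap,
    LinearMap.det_smul, LinearMap.det_smul, map_one, map_one, mul_one, mul_one,
    show Module.finrank F P = n / 2 by omega, show Module.finrank F Q = n / 2 by omega, ← mul_pow]
  congr 1
  ring

theorem det_odd (hr2 : r ≠ 2) (hd : r ∣ q + 1) {X : Matrix (Fin n) (Fin n) F} {z : F} (hzq : z ^ (q + 1) = 1)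
    (hz : z ^ ((q + 1) / r) ≠ 1) (hX : X ^ r = z • 1) : r ∣ n ∧ X.det = z ^ (n / r) := by
  have hr : r.Prime := Fact.out
  have hz0 : z ≠ 0 := fun e => by rw [e, zero_pow q.succ_ne_zero] at hzq; exact zero_ne_one hzq
  have hirr : Irreducible (Polynomial.X ^ r - C z : F[X]) := by
    refine X_pow_sub_C_irreducible_of_prime hr fun b hb => ?_
    have hb0 : b ≠ 0 := fun e => hz0 (by rw [← hb, e, zero_pow hr.ne_zero])
    exact no_root hF hr2 hd hzq hz b hb0 1 hr.not_dvd_one (by rw [hb, pow_one])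
  have hT : aeval (Matrix.toLin' X) (Polynomial.X ^ r - C z : F[X]) = 0 := by
    rw [map_sub, map_pow, aeval_X, aeval_C, ← Matrix.toLin'_pow, hX, map_smul, Matrix.toLin'_one,
      Algebra.algebraMap_eq_smul_one]
    exact sub_self _
  obtain ⟨k, hk, hdim⟩ := SpIso.chi_pow (Matrix.toLin' X) (monic_X_pow_sub_C z hr.ne_zero) hirr hT
  rw [natDegree_X_pow_sub_C, Module.finrank_fin_fun] at hdim
  rw [Matrix.charpoly_toLin'] at hk
  refine ⟨Dvd.intro k hdim.symm, ?_⟩
  rw [Matrix.det_eq_sign_charpoly_coeff, hk, coeff_zero_eq_eval_zero, eval_pow, eval_sub, eval_pow, eval_X, eval_C,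
    zero_pow hr.ne_zero, zero_sub, Fintype.card_fin, hdim, Nat.mul_div_cancel_left _ hr.pos, pow_mul, ← mul_pow,
    (hr.odd_of_ne_two hr2).neg_one_pow, neg_one_mul, neg_neg]

/-- A monomial element with given scalar power. -/
theorem rot_elt {z : F} (hzq : z ^ (q + 1) = 1) (hrn : r ∣ n) :
    ∃ X : Matrix (Fin n) (Fin n) F, cst (powConj hF) X * X = 1 ∧ X.det = ((-1) ^ (r - 1) * z) ^ (n / r) ∧
      X ^ r = z • 1 := by
  classical
  obtain ⟨k, rfl⟩ := hrn
  rw [Nat.mul_div_cancel_left _ (Fact.out : r.Prime).pos]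
  obtain ⟨r', rfl⟩ : ∃ r', r = r' + 1 := ⟨r - 1, by have := (Fact.out : r.Prime).pos; omega⟩
  rw [Nat.add_sub_cancel]
  let d : Fin (r' + 1) → F := fun b => if b = Fin.last r' then z else 1
  let ρ := finRotate (r' + 1)
  let C₀ : Matrix (Fin (r' + 1)) (Fin (r' + 1)) F := (1 : Matrix _ _ F).submatrix id ρ * Matrix.diagonal d
  have hd : ∀ b, d b * (powConj hF) (d b) = 1 := fun b => by
    simp only [d]; split_ifs
    · rw [mul_conj hF, hzq]
    · rw [map_one, mul_one]
  have hentry : ∀ x a, C₀ x a = if x = ρ a then d a else 0 := fun x a => by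
    simp [C₀, Matrix.mul_diagonal, Matrix.one_apply]
  have hC : cst (powConj hF) C₀ * C₀ = 1 := by
    ext a b
    simp only [hentry, cst, Matrix.mul_apply, Matrix.transpose_apply, Matrix.map_apply, Matrix.one_apply]
    rw [Finset.sum_eq_single (ρ a)]
    · by_cases h : a = b
      · subst h; simp [mul_comm _ (d a), hd]
      · simp [h, ρ.injective.ne h]
    · intro x _ hx; simp [hx]
    · simp
  have hCdet : C₀.det = (-1) ^ r' * z := by
    rw [Matrix.det_mul, Matrix.det_permute', Matrix.det_one, mul_one, Matrix.det_diagonal, sign_finRotate]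
    simp [d]
  have hstep : ∀ b, C₀ *ᵥ Pi.single b 1 = d b • Pi.single (ρ b) 1 := fun b => by
    funext a
    simp [C₀, Matrix.mulVec_single_one, Matrix.col_apply, Matrix.mul_diagonal, Matrix.one_apply, Pi.single_apply,
      mul_comm]
  have horb : ∀ (j : ℕ) (hj : j < r' + 1), (C₀ ^ j) *ᵥ Pi.single (0 : Fin (r' + 1)) 1 = Pi.single ⟨j, hj⟩ 1 := by
    intro j
    induction j with
    | zero => intro hj; rw [pow_zero, Matrix.one_mulVec]; rfl
    | succ j ih =>
      intro hj
      rw [pow_succ', ← Matrix.mulVec_mulVec, ih (by omega), hstep]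
      have hne : (⟨j, by omega⟩ : Fin (r' + 1)) ≠ Fin.last r' := fun e => by
        have := congrArg Fin.val e; simp at this; omega
      simp only [d, if_neg hne, one_smul, ρ, finRotate_succ_apply]
      congr 1
      refine Fin.ext ?_
      rw [Fin.val_add_one_of_lt (Fin.lt_last_iff_ne_last.mpr hne)]
  have hpow : C₀ ^ (r' + 1) = z • 1 := by
    refine Matrix.ext_of_mulVec_single fun i => ?_
    have h0 : (C₀ ^ (r' + 1)) *ᵥ Pi.single (0 : Fin (r' + 1)) 1 = z • Pi.single 0 1 := by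
      rw [pow_succ', ← Matrix.mulVec_mulVec, horb r' (by omega), hstep,
        show (⟨r', by omega⟩ : Fin (r' + 1)) = Fin.last r' from rfl]
      simp [d, ρ]
    rw [← horb i.1 i.2, Matrix.mulVec_mulVec, ((Commute.refl C₀).pow_pow (r' + 1) i.1).eq, ← Matrix.mulVec_mulVec, h0,
      Matrix.mulVec_smul, Matrix.smul_mulVec, Matrix.one_mulVec]
  let Φ := Matrix.reindexAlgEquiv F F (finProdFinEquiv (m := r' + 1) (n := k))
  let M := Matrix.blockDiagonal fun _ : Fin k => C₀
  refine ⟨Φ M, ?_, ?_, ?_⟩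
  · rw [show cst (powConj hF) (Φ M) = Φ (cst (powConj hF) M) from rfl, ← map_mul,
      show cst (powConj hF) M = Matrix.blockDiagonal fun _ : Fin k => cst (powConj hF) C₀ by
        simp only [M, cst, Matrix.blockDiagonal_map _ _ (map_zero (powConj hF)), Matrix.blockDiagonal_transpose],
      ← Matrix.blockDiagonal_mul, hC, show (fun _ : Fin k => (1 : Matrix (Fin (r' + 1)) (Fin (r' + 1)) F)) = 1 from rfl,
      Matrix.blockDiagonal_one, map_one]
  · rw [Matrix.reindexAlgEquiv_apply, Matrix.det_reindex_self, Matrix.det_blockDiagonal, Finset.prod_const,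
      Finset.card_univ, Fintype.card_fin, hCdet]
  · rw [← map_pow, ← Matrix.blockDiagonal_pow, show (fun _ : Fin k => C₀) ^ (r' + 1) =
      z • (1 : Fin k → Matrix (Fin (r' + 1)) (Fin (r' + 1)) F) from funext fun _ => hpow,
      Matrix.blockDiagonal_smul, Matrix.blockDiagonal_one, map_smul, map_one]

/-- The counterexample. -/
theorem bad_elt (hn : 0 < n) {z : F} (hzq : z ^ (q + 1) = 1) (hrn : r ∣ n)
    (hdet : ((-1) ^ (r - 1) * z) ^ (n / r) = 1) :
    ∃ X : Matrix (Fin n) (Fin n) F, cst (powConj hF) X * X = 1 ∧ X.det = 1 ∧ X ^ r = z • 1 := by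
  obtain ⟨X, h1, h2, h3⟩ := rot_elt hF hzq hrn
  exact ⟨X, h1, h2.trans hdet, h3⟩

theorem torus_case (hn : 0 < n) (hmn : m ≤ n) (hrp : r ≠ p) (hd : r ∣ q + 1) :
    AllStab hF r n m ↔ (r ∣ m ∨ ¬ BadScalar F q r n) := by
  classical
  have hr : r.Prime := Fact.out
  constructor
  · intro H
    by_contra hcon
    rw [not_or, not_not] at hcon
    obtain ⟨hrm, z, hzq, hz, hrn, hdet⟩ := hcon
    obtain ⟨X, hX, hXd, hXz⟩ := bad_elt hF hn hzq hrn hdet
    have hns : ∀ w : F, X ≠ w • 1 := by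
      intro w hw
      have h1 : w ^ (q + 1) = 1 := by
        have h := congrFun (congrFun hX ⟨0, hn⟩) ⟨0, hn⟩
        rw [hw, cst_smul, cst_one, smul_mul_assoc, one_mul, smul_smul, mul_comm, mul_conj hF] at h
        simpa using h
      have h2 : w ^ r = z ^ 1 := by
        have h := congrFun (congrFun hXz ⟨0, hn⟩) ⟨0, hn⟩
        rw [hw, _root_.smul_pow, one_pow] at h
        simpa using h
      exact hr.not_dvd_one (dvd_of_root hF hd hzq hz h1 h2)
    obtain ⟨W, hWd, hWn, hWi⟩ := H X hX hXd z hXz hns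
    have hTr : Matrix.toLin' X ^ r = z • 1 := by
      rw [← Matrix.toLin'_pow, hXz, map_smul, Matrix.toLin'_one]; rfl
    have h1 := det_restrict_pow hTr hWi
    have h2 := det_norm (toLin_iso hF hX) hWn hWi
    rw [show (stdHerm n hF).σ = powConj hF from rfl, mul_conj hF] at h2
    rw [hWd] at h1
    exact hrm (dvd_of_root hF hd hzq hz h2 h1)
  · intro hcond X hX hXd z hXz _
    obtain ⟨hzq, -⟩ := scalar_facts hF hn hX hXd hXz
    by_cases hz : z ^ ((q + 1) / r) = 1
    · obtain ⟨w, hw, hwr⟩ := root_of_power hF hd hzq hz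
      obtain ⟨hY, hYr, himp⟩ := normalise (m := m) hF hX hXz hw hwr
      apply himp
      obtain ⟨ζ, hζ, hζq⟩ := exists_zeta hF hd
      have hrc : (r : F) ≠ 0 := cast_prime_ne_zero hr hrp
      obtain ⟨W, -, hWd, hWn, hWi⟩ := stab_of_blocks (toLin_iso hF hY) (d := 1)
        (eigen_block (toLin_iso hF hY) hrc hζ (by rw [show (stdHerm n hF).σ = powConj hF from rfl, mul_conj hF, hζq])
          (by rw [← Matrix.toLin'_pow, hYr, Matrix.toLin'_one]; rfl))
        m ⊤ (fun _ _ => Submodule.mem_top) nondeg_top (by rw [finrank_top, Module.finrank_fin_fun]; omega)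
      exact ⟨W, hWd.trans (mul_one m), hWn, hWi⟩
    have hTr : Matrix.toLin' X ^ r = z • 1 := by
      rw [← Matrix.toLin'_pow, hXz, map_smul, Matrix.toLin'_one]; rfl
    obtain ⟨k, hk⟩ : r ∣ m := by
      refine hcond.resolve_right fun hnb => hnb ?_
      by_cases hr2 : r = 2
      · subst hr2
        have h2 : (2 : F) ≠ 0 := by exact_mod_cast cast_prime_ne_zero (F := F) hr hrp
        obtain ⟨l, hl0, hll, hl⟩ := exists_sqrt hF h2 hzq hz hd
        obtain ⟨hn2, hdet⟩ := det_two hF h2 hX hl0 hl (by rw [hll, hXz])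
        exact ⟨z, hzq, hz, hn2, by rw [pow_one, neg_one_mul, ← hll, ← hdet, hXd]⟩
      · obtain ⟨hrn, hdet⟩ := det_odd hF hr2 hd hzq hz hXz
        exact ⟨z, hzq, hz, hrn, by
          rw [(hr.even_sub_one hr2).neg_one_pow, one_mul, ← hdet, hXd]⟩
    obtain ⟨W, -, hWd, hWn, hWi⟩ := stab_of_blocks (toLin_iso hF hX) (d := r) (fun S hSi hS hpos => by
        by_cases hr2 : r = 2
        · subst hr2
          have h2 : (2 : F) ≠ 0 := by exact_mod_cast cast_prime_ne_zero (F := F) hr hrp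
          obtain ⟨l, hl0, hll, hl⟩ := exists_sqrt hF h2 hzq hz hd
          refine two_block (toLin_iso hF hX) h2 hl0 hl (fun v => ?_) S hSi hS hpos
          rw [hll, ← Module.End.mul_apply, ← pow_two, hTr]; rfl
        · exact cyclic_block (toLin_iso hF hX) hr hTr (no_root hF hr2 hd hzq hz) S hSi hS hpos)
      k ⊤ (fun _ _ => Submodule.mem_top) nondeg_top (by rw [finrank_top, Module.finrank_fin_fun, mul_comm, ← hk]; omega)
    exact ⟨W, by rw [hWd, hk, mul_comm], hWn, hWi⟩

/-! ### Unipotent elements -/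

theorem unip_case [CharP F r] (hn : 0 < n) (hmn : m ≤ n) :
    AllStab hF r n m ↔
      ∀ μ : Multiset ℕ, (∀ a ∈ μ, 0 < a ∧ a ≤ r) → μ.sum = n → ∃ ν : Multiset ℕ, ν ≤ μ ∧ ν.sum = m := by
  classical
  have hr : r.Prime := Fact.out
  set H := stdHerm n hF
  haveI : Nonempty (Fin n) := ⟨⟨0, hn⟩⟩
  haveI : CharP (Module.End F (Fin n → F)) r :=
    charP_of_injective_algebraMap (algebraMap F (Module.End F (Fin n → F))).injective r
  haveI : CharP (Matrix (Fin n) (Fin n) F) r :=
    charP_of_injective_algebraMap (algebraMap F (Matrix (Fin n) (Fin n) F)).injective r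
  constructor
  · intro Hall μ hμ hμs
    by_cases hall : ∀ a ∈ μ, a = 1
    · rw [Multiset.eq_replicate_card.mpr hall, Multiset.sum_replicate, smul_eq_mul, mul_one] at hμs
      refine ⟨Multiset.replicate m 1, ?_, by simp⟩
      rw [Multiset.eq_replicate_card.mpr hall, hμs]
      exact Multiset.replicate_mono 1 hmn
    let π : Nat.Partition n := ⟨μ, fun {a} ha => (hμ a ha).1, hμs⟩
    obtain ⟨U, hU, hUt, -⟩ := UnitaryConj.exists_model (powConj hF) (invol hF) (exists_moved hF) π
    set T := Matrix.toLin' U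
    have hT : ∀ u v, H.h (T u) (T v) = H.h u v := toLin_iso hF hU
    have hrk : ∀ j, Module.finrank F ((⊤ : Submodule F (Fin n → F)).map ((T - 1) ^ j)) = Jordan.rk μ j := by
      intro j
      have e : (T - 1) ^ j = Matrix.toLin' ((U - 1) ^ j) := by
        rw [Matrix.toLin'_pow, map_sub, Matrix.toLin'_one]; rfl
      have hker : Module.finrank F (LinearMap.ker ((T - 1) ^ j)) = ∑ i, min j (UnipClasses.lens π i) := by
        refine Nat.pow_right_injective (Fintype.one_lt_card (α := F) : 2 ≤ Fintype.card F) ?_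
        show Fintype.card F ^ _ = Fintype.card F ^ _
        have h := hUt j
        rw [Nat.card_eq_fintype_card (α := F)] at h
        rw [← h, ← Nat.card_eq_fintype_card, ← Module.natCard_eq_pow_finrank (K := F)]
        refine Nat.card_congr (Equiv.subtypeEquivRight fun v => ?_)
        rw [LinearMap.mem_ker, e, Matrix.toLin'_apply]
      have h := LinearMap.finrank_range_add_finrank_ker ((T - 1) ^ j)
      rw [hker, Module.finrank_fin_fun] at h
      have hn' : n = ∑ i, UnipClasses.lens π i := by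
        have := congrArg Multiset.sum (UnipClasses.map_lens π)
        rw [π.parts_sum] at this
        exact this.symm
      have hadd : ∑ i, (UnipClasses.lens π i - j) + ∑ i, min j (UnipClasses.lens π i) = n := by
        rw [← Finset.sum_add_distrib]
        conv_rhs => rw [hn']
        exact Finset.sum_congr rfl fun i _ => by omega
      have hrk' : Jordan.rk μ j = ∑ i, (UnipClasses.lens π i - j) := by
        show Jordan.rk π.parts j = _
        conv_lhs => rw [← UnipClasses.map_lens π]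
        rw [Jordan.rk, Multiset.map_map]; rfl
      rw [Submodule.map_top, hrk']
      omega
    have hnil : (U - 1) ^ r = 0 := Matrix.toLin'.injective (by
      rw [map_zero, Matrix.toLin'_pow, map_sub, Matrix.toLin'_one]
      refine LinearMap.range_eq_bot.mp (Submodule.finrank_eq_zero.mp ?_)
      rw [← Submodule.map_top]
      refine (hrk r).trans ?_
      rw [Jordan.rk, Multiset.sum_eq_zero]
      intro x hx
      obtain ⟨a, ha, rfl⟩ := Multiset.mem_map.mp hx
      exact Nat.sub_eq_zero_of_le (hμ a ha).2)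
    have hUr : U ^ r = 1 := by
      rwa [sub_pow_char_of_commute _ (Commute.one_right _), one_pow, sub_eq_zero] at hnil
    have hdet : U.det = 1 := by
      have h := congrArg Matrix.det hUr
      rw [Matrix.det_pow, Matrix.det_one] at h
      have h2 : (U.det - 1) ^ r = 0 := by rw [sub_pow_char, h, one_pow, sub_self]
      exact sub_eq_zero.mp (eq_zero_of_pow_eq_zero h2)
    have hns : ∀ w : F, U ≠ w • 1 := by
      intro w hw
      have h1 := congrFun (congrFun hUr ⟨0, hn⟩) ⟨0, hn⟩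
      rw [hw, _root_.smul_pow, one_pow] at h1
      simp at h1
      have hw1 : w = 1 := sub_eq_zero.mp (eq_zero_of_pow_eq_zero (n := r) (by rw [sub_pow_char, h1, one_pow, sub_self]))
      obtain ⟨a, ha, ha1⟩ := not_forall₂.mp hall
      have h0 := hrk 1
      rw [show T = Matrix.toLin' U from rfl, hw, hw1, one_smul, Matrix.toLin'_one,
        show ((LinearMap.id : Module.End F (Fin n → F)) - 1) = 0 from sub_self _, pow_one, Submodule.map_zero,
        finrank_bot, eq_comm, Jordan.rk, Multiset.sum_eq_zero_iff] at h0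
      have := h0 _ (Multiset.mem_map.mpr ⟨a, ha, rfl⟩)
      have := (hμ a ha).1
      omega
    obtain ⟨W, hWd, hWn, hWi⟩ := Hall U hU hdet 1 (by rw [hUr, one_smul]) hns
    have hnil' : (T - 1) ^ r = 0 := by
      have := congrArg Matrix.toLin' hnil
      rw [map_zero, Matrix.toLin'_pow, map_sub, Matrix.toLin'_one] at this
      exact this
    have hni : ∀ {S : Submodule F (Fin n → F)}, (∀ w ∈ S, T w ∈ S) → Jordan.NInv (T - 1) S := fun {S} hS w hw => by
      rw [LinearMap.sub_apply, Module.End.one_apply]; exact sub_mem (hS w hw) hw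
    have hWi' := orth_inv hT hWi
    obtain ⟨ν₁, hν₁, hν₁r, -⟩ := exists_type hT hnil' W hWi hWn
    obtain ⟨ν₂, hν₂, hν₂r, -⟩ := exists_type hT hnil' _ hWi' (H.nondegOn_orth hWn)
    have hc := H.isCompl_orth hWn
    have hsum : μ = ν₁ + ν₂ := by
      refine Jordan.eq_of_rk (fun a ha => (hμ a ha).1) (fun a ha => ?_) fun j => ?_
      · rcases Multiset.mem_add.mp ha with ha | ha
        · exact (hν₁ a ha).1
        · exact (hν₂ a ha).1
      · rw [Jordan.rk_add, ← hν₁r, ← hν₂r, ← Jordan.rank_sup (hni hWi) (hni hWi') hc.disjoint, hc.sup_eq_top, hrk]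
    refine ⟨ν₁, hsum ▸ Multiset.le_add_right _ _, ?_⟩
    rw [← hWd, ← Jordan.rk_zero, ← hν₁r 0, pow_zero, Module.End.one_eq_id, Submodule.map_id]
  · intro hcond X hX hXd z hXz _
    obtain ⟨hzq, -⟩ := scalar_facts hF hn hX hXd hXz
    have hrq : r ∣ q := by
      obtain ⟨k, rfl⟩ := exists_exp (p := r) hF
      refine dvd_pow_self r fun e => ?_
      rw [e] at hF
      simp at hF
      exact absurd hF (Fintype.one_lt_card (α := F)).ne'
    have hcop : r.Coprime (q + 1) := hr.coprime_iff_not_dvd.mpr fun h => hr.not_dvd_one ((Nat.dvd_add_right hrq).mp h)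
    obtain ⟨w, hw, hwr⟩ := root_of_coprime (by omega : 0 < q + 1) hcop hzq
    obtain ⟨hY, hYr, himp⟩ := normalise (m := m) hF hX hXz hw hwr
    apply himp
    set T := Matrix.toLin' (w⁻¹ • X) with hTdef
    have hnil : (T - 1) ^ r = 0 := by
      rw [sub_pow_char_of_commute _ (Commute.one_right _), hTdef, ← Matrix.toLin'_pow, hYr, Matrix.toLin'_one, one_pow]
      exact sub_self _
    obtain ⟨μ, hμ, hμr, hμs⟩ := exists_type (toLin_iso hF hY) hnil ⊤ (fun _ _ => Submodule.mem_top) nondeg_top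
    obtain ⟨ν, hν, hνs⟩ := hcond μ hμ (by
      rw [← Jordan.rk_zero, ← hμr 0, pow_zero, Module.End.one_eq_id, Submodule.map_id, finrank_top, Module.finrank_fin_fun])
    obtain ⟨W, -, hWi, hWn, hWd⟩ := hμs ν hν
    exact ⟨W, hWd.trans hνs, hWn, hWi⟩

/-! ### Numerical forms -/

omit hF [Fintype F] [CharP F p] in
theorem two_parts {n m : ℕ} (hmn : 2 * m < n) :
    (∀ μ : Multiset ℕ, (∀ a ∈ μ, 0 < a ∧ a ≤ 2) → μ.sum = n → ∃ ν : Multiset ℕ, ν ≤ μ ∧ ν.sum = m) ↔
      (Odd n ∨ Even m) := by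
  constructor
  · intro h
    by_contra hcon
    rw [not_or, Nat.not_odd_iff_even, Nat.not_even_iff_odd] at hcon
    obtain ⟨⟨k, rfl⟩, hm⟩ := hcon
    obtain ⟨ν, hν, hνs⟩ := h (Multiset.replicate k 2)
      (fun a ha => by rw [Multiset.eq_of_mem_replicate ha]; omega) (by rw [Multiset.sum_replicate, smul_eq_mul]; omega)
    obtain ⟨j, -, rfl⟩ := Multiset.le_replicate_iff.mp hν
    rw [Multiset.sum_replicate, smul_eq_mul] at hνs
    rw [Nat.odd_iff] at hm
    omega
  · intro hcond μ hμ hμs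
    have hμe : μ = Multiset.replicate (μ.count 1) 1 + Multiset.replicate (μ.count 2) 2 := by
      refine Multiset.ext.mpr fun a => ?_
      rw [Multiset.count_add, Multiset.count_replicate, Multiset.count_replicate]
      by_cases ha : a ∈ μ
      · obtain ⟨h1, h2⟩ := hμ a ha
        rcases show a = 1 ∨ a = 2 by omega with rfl | rfl <;> simp
      · rw [Multiset.count_eq_zero.mpr ha]
        split_ifs with h1 h2 h2 <;> subst_vars <;> simp_all [Multiset.count_eq_zero.mpr ha]
    have hn : μ.count 1 + 2 * μ.count 2 = n := by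
      rw [← hμs]
      conv_rhs => rw [hμe]
      rw [Multiset.sum_add, Multiset.sum_replicate, Multiset.sum_replicate, smul_eq_mul, smul_eq_mul]
      ring
    rw [Nat.odd_iff, Nat.even_iff] at hcond
    refine ⟨Multiset.replicate (m - 2 * min (μ.count 2) (m / 2)) 1 + Multiset.replicate (min (μ.count 2) (m / 2)) 2, ?_, ?_⟩
    · conv_rhs => rw [hμe]
      refine add_le_add (Multiset.replicate_mono 1 ?_) (Multiset.replicate_mono 2 (min_le_left _ _))
      rcases le_total (μ.count 2) (m / 2) with e | e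
      · rw [min_eq_left e]; omega
      · rw [min_eq_right e]; omega
    · rw [Multiset.sum_add, Multiset.sum_replicate, Multiset.sum_replicate, smul_eq_mul, smul_eq_mul]
      have := min_le_right (μ.count 2) (m / 2)
      omega

theorem nonpower_iff (hd : r ∣ q + 1) (hn : 0 < n) :
    (∃ w : F, w ^ (q + 1) = 1 ∧ w ^ ((q + 1) / r) ≠ 1 ∧ r ∣ n ∧ w ^ (n / r) = 1) ↔
      padicValNat r (q + 1) < padicValNat r n := by
  have hr : r.Prime := Fact.out
  set s := padicValNat r (q + 1) with hs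
  have hN : q + 1 ≠ 0 := by omega
  obtain ⟨N', hN'⟩ : r ^ s ∣ q + 1 := pow_padicValNat_dvd
  have hs1 : 1 ≤ s := one_le_padicValNat_of_dvd hN hd
  have hnd : ¬ r ^ (s + 1) ∣ q + 1 := pow_succ_padicValNat_not_dvd hN
  have hdiv : (q + 1) / r = r ^ (s - 1) * N' := by
    rw [hN', show r ^ s = r * r ^ (s - 1) by rw [← pow_succ']; congr 1; omega, mul_assoc,
      Nat.mul_div_cancel_left _ hr.pos]
  constructor
  · rintro ⟨w, hw, hwn, hrn, hwk⟩
    have ho1 : orderOf w ∣ r ^ s * N' := hN' ▸ orderOf_dvd_of_pow_eq_one hw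
    obtain ⟨a₁, a₂, ha₁, ha₂, hao⟩ := Nat.dvd_mul.mp ho1
    obtain ⟨t, hts, rfl⟩ := (Nat.dvd_prime_pow hr).mp ha₁
    have hts' : t = s := by
      by_contra hne
      refine hwn (orderOf_dvd_iff_pow_eq_one.mp ?_)
      rw [hdiv, ← hao]
      exact mul_dvd_mul (pow_dvd_pow r (by omega)) ha₂
    rw [hts'] at hao
    have h1 : r ^ (s + 1) ∣ n := by
      rw [pow_succ', ← Nat.mul_div_cancel' hrn]
      refine mul_dvd_mul_left r (dvd_trans ?_ (orderOf_dvd_of_pow_eq_one hwk))
      exact Dvd.intro a₂ hao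
    have := (padicValNat_dvd_iff_le hn.ne').mp h1
    omega
  · intro hlt
    have h1 : r ^ (s + 1) ∣ n := (padicValNat_dvd_iff_le hn.ne').mpr hlt
    obtain ⟨w, hw, hwq⟩ := exists_zeta hF (t := r ^ s) (Dvd.intro N' hN'.symm)
    have hrn : r ∣ n := (dvd_pow_self r s.succ_ne_zero).trans h1
    refine ⟨w, hwq, fun e => hnd ?_, hrn, (hw.pow_eq_one_iff_dvd _).mpr ?_⟩
    · rw [pow_succ', ← Nat.mul_div_cancel' hd]
      exact mul_dvd_mul_left r ((hw.pow_eq_one_iff_dvd _).mp e)
    · rw [← Nat.mul_div_cancel' hrn, pow_succ'] at h1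
      exact Nat.dvd_of_mul_dvd_mul_left hr.pos h1

theorem bad_odd (hr2 : r ≠ 2) (hd : r ∣ q + 1) (hn : 0 < n) :
    BadScalar F q r n ↔ padicValNat r (q + 1) < padicValNat r n := by
  rw [← nonpower_iff hF hd hn, BadScalar]
  simp only [((Fact.out : r.Prime).even_sub_one hr2).neg_one_pow, one_mul]

theorem bad_two [Fact (Nat.Prime 2)] (h2 : (2 : F) ≠ 0) (hd : 2 ∣ q + 1) (hn : 0 < n) :
    BadScalar F q 2 n ↔ (2 ∣ n ∧ (q % 4 = 1 ∨ padicValNat 2 (q + 1) < padicValNat 2 n)) := by
  have hne : (-1 : F) ≠ 1 := fun e => h2 (by linear_combination -e)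
  constructor
  · rintro ⟨z, hzq, hz, hn2, hk⟩
    refine ⟨hn2, or_iff_not_imp_left.mpr fun h4 => (nonpower_iff (r := 2) hF hd hn).mp
      ⟨-z, ?_, ?_, hn2, by rwa [pow_one, neg_one_mul] at hk⟩⟩
    · rw [neg_pow, Even.neg_one_pow (even_iff_two_dvd.mpr hd), one_mul, hzq]
    · rw [neg_pow, Even.neg_one_pow (by rw [Nat.even_iff]; omega), one_mul]
      exact hz
  · rintro ⟨hn2, h⟩
    by_cases h4 : q % 4 = 1
    · refine ⟨-1, (even_iff_two_dvd.mpr hd).neg_one_pow, ?_, hn2, by rw [pow_one, neg_one_mul, neg_neg, one_pow]⟩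
      rw [Odd.neg_one_pow (by rw [Nat.odd_iff]; omega)]
      exact hne
    · obtain ⟨w, hw, hwn, -, hwk⟩ := (nonpower_iff (r := 2) hF hd hn).mpr (h.resolve_left h4)
      refine ⟨-w, ?_, ?_, hn2, by rw [pow_one, neg_one_mul, neg_neg, hwk]⟩
      · rw [neg_pow, Even.neg_one_pow (even_iff_two_dvd.mpr hd), one_mul, hw]
      · rw [neg_pow, Even.neg_one_pow (by rw [Nat.even_iff]; omega), one_mul]
        exact hwn

theorem order_two_iff (hr2 : r ≠ 2) (hrp : r ≠ p) {i : ℕ} (hi : i = orderOf (q : ZMod r)) : i = 2 ↔ r ∣ q + 1 := by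
  rw [← ZMod.natCast_eq_zero_iff, Nat.cast_add, Nat.cast_one, add_eq_zero_iff_eq_neg]
  constructor
  · intro e
    have := half_pow hr2 hi (order_pos hF hrp hi) (e ▸ even_two)
    rwa [e, Nat.div_self two_pos, pow_one] at this
  · intro e
    rw [hi, e]
    exact orderOf_eq_prime (by ring) (neg_one_ne hr2)

/-- Elements of prime order and nondegenerate subspaces. -/
theorem main (hn : 3 ≤ n) (hm : 1 ≤ m) (hmn : 2 * m < n)
    (hΩ : r ∣ Nat.card {W : Submodule F (Fin n → F) // Module.finrank F ↥W = m ∧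
      (∀ u ∈ W, u ≠ 0 → ∃ v ∈ W, Cfsg.hermForm n F q u v ≠ 0)})
    (i : ℕ) (hi : i = orderOf (q : ZMod r)) :
    AllStab hF r n m ↔
    ((r = p ∧ 2 < p ∧ (∀ μ : Multiset ℕ, (∀ a ∈ μ, 0 < a ∧ a ≤ p) → μ.sum = n → ∃ ν : Multiset ℕ, ν ≤ μ ∧ ν.sum = m)) ∨
     (r = p ∧ p = 2 ∧ (Odd n ∨ Even m)) ∨
     (r = 2 ∧ p ≠ 2 ∧ (Odd n ∨ Even m ∨ (padicValNat 2 n ≤ padicValNat 2 (q + 1) ∧ q % 4 = 3))) ∨
     (r ≠ p ∧ 2 < r ∧ ((i ≠ 2 ∧ cval i ≤ m ∧ m % cval i ≤ n % cval i) ∨
      (i = 2 ∧ (r ∣ m ∨ padicValNat r n ≤ padicValNat r (q + 1)))))) := by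
  have hr : r.Prime := Fact.out
  by_cases hrp : r = p
  · subst hrp
    rw [unip_case hF (by omega) (by omega)]
    by_cases hp2 : r = 2
    · subst hp2
      rw [two_parts hmn]
      simp
    · have : 2 < r := lt_of_le_of_ne hr.two_le (Ne.symm hp2)
      simp [hp2, this]
  have hqodd : r = 2 → q % 2 = 1 := fun e => by
    subst e
    have := not_dvd_q (p := p) hF hrp
    omega
  by_cases hr2 : r = 2
  · subst hr2
    have hd : 2 ∣ q + 1 := by have := hqodd rfl; omega
    have h2 : (2 : F) ≠ 0 := by exact_mod_cast cast_prime_ne_zero (F := F) hr hrp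
    rw [torus_case hF (by omega) (by omega) hrp hd, bad_two hF h2 hd (by omega)]
    have hp2 : p ≠ 2 := Ne.symm hrp
    have := hqodd rfl
    have hrp' : ¬ (2 = p) := hrp
    simp only [hrp', hp2, false_and, false_or, or_false, true_and, not_true, ne_eq, not_false_iff,
      lt_irrefl, and_false, Nat.odd_iff, Nat.even_iff]
    constructor
    · intro h
      by_contra hcon
      rcases h with h | h
      · omega
      · refine h ⟨by omega, ?_⟩
        omega
    · intro h
      by_contra hcon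
      rw [not_or, not_not] at hcon
      omega
  have hr2' : 2 < r := lt_of_le_of_ne hr.two_le (Ne.symm hr2)
  simp only [hrp, hr2, false_and, false_or, ne_eq, not_false_iff, hr2', true_and]
  by_cases hi2 : i = 2
  · have hd := (order_two_iff hF hr2 hrp hi).mp hi2
    rw [torus_case hF (by omega) (by omega) hrp hd, bad_odd hF hr2 hd (by omega)]
    simp [hi2]
  · obtain ⟨l, hl1, hl2, hl⟩ := count_order (p := p) hF hrp (by omega) hΩ
    rw [odd_case hF (by omega) hr2 hrp (fun h => hi2 ((order_two_iff hF hr2 hrp hi).mpr h)) hmn hi hl1 hl2 hl]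
    simp [hi2]

end Cfsg.Lib.Classical.UNondeg
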