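import Mathlib
import Cfsg.Agent.Classical.Unitary.NondegElusive
import Cfsg.Agent.Classical.Unitary.IsoFrames

/-! Models of unitary elements with invariant totally isotropic subspaces. -/

set_option autoImplicit false
set_option linter.unusedSimpArgs false
set_option linter.unusedSectionVars false
set_option linter.unusedVariables false
set_option linter.style.haveILetI false
set_option linter.flexible false

namespace Cfsg.Lib.Classical.UIsoEl

open Cfsg.Lib.Classical Cfsg.Lib.PrimeOrderPoly Cfsg.Lib.DualPoly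
open Cfsg.Lib.UnitaryConj Cfsg.Lib.UnitarySemisimple
open Polynomial Matrix
open Cfsg.Lib.Classical.UNondeg (Atom toLin_iso)

universe u v

variable {F : Type u} [Field F]

/-- An invariant totally isotropic subspace of dimension `m`. -/
def TI {V : Type v} [AddCommGroup V] [Module F V] (H : HermSpace F V) (m : ℕ) (T : Module.End F V) : Prop :=
  ∃ W : Submodule F V, Module.finrank F W = m ∧ (∀ u ∈ W, ∀ v ∈ W, H.h u v = 0) ∧ ∀ w ∈ W, T w ∈ W

theorem ti_smul {V : Type v} [AddCommGroup V] [Module F V] {H : HermSpace F V} {m : ℕ} {T : Module.End F V} {c : F}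
    (hc : c ≠ 0) : TI H m (c • T) ↔ TI H m T := by
  constructor
  · rintro ⟨W, h1, h2, h3⟩
    refine ⟨W, h1, h2, fun w hw => ?_⟩
    have := W.smul_mem c⁻¹ (h3 w hw)
    rwa [LinearMap.smul_apply, smul_smul, inv_mul_cancel₀ hc, one_smul] at this
  · rintro ⟨W, h1, h2, h3⟩
    exact ⟨W, h1, h2, fun w hw => W.smul_mem c (h3 w hw)⟩

/-- Vectors of a sum of two coordinate spaces. -/
def appendLin (F : Type u) [Field F] (a b : ℕ) : (Fin a → F) × (Fin b → F) →ₗ[F] (Fin (a + b) → F) where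
  toFun u := Fin.append u.1 u.2
  map_add' u v := funext fun i => by refine Fin.addCases (fun i => ?_) (fun i => ?_) i <;> simp
  map_smul' c u := funext fun i => by refine Fin.addCases (fun i => ?_) (fun i => ?_) i <;> simp

theorem appendLin_injective (a b : ℕ) : Function.Injective (appendLin F a b) := fun u v e =>
  Prod.ext (funext fun i => by simpa [appendLin] using congrFun e (Fin.castAdd b i))
    (funext fun i => by simpa [appendLin] using congrFun e (Fin.natAdd a i))

theorem bd_append {a b : ℕ} (A : Matrix (Fin a) (Fin a) F) (D : Matrix (Fin b) (Fin b) F) (u : Fin a → F)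
    (w : Fin b → F) : bd A D *ᵥ Fin.append u w = Fin.append (A *ᵥ u) (D *ᵥ w) := by
  funext i
  simp only [bd, Matrix.reindexAlgEquiv_apply, Matrix.reindex_apply, Matrix.mulVec, dotProduct, Fin.sum_univ_add,
    Matrix.submatrix_apply]
  refine Fin.addCases (fun i => ?_) (fun i => ?_) i <;> simp [Matrix.mulVec, dotProduct]

variable [Fintype F] {q p r n m : ℕ} (hF : Fintype.card F = q ^ 2)

include hF in
theorem ti_iff (X : Matrix (Fin n) (Fin n) F) :
    (∃ W : Submodule F (Fin n → F), Module.finrank F ↥W = m ∧ (∀ u ∈ W, ∀ v ∈ W, Cfsg.hermForm n F q u v = 0) ∧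
      W.map (Matrix.toLin' X) ≤ W) ↔ TI (stdHerm n hF) m (Matrix.toLin' X) := by
  refine exists_congr fun W => and_congr Iff.rfl (and_congr (by simp only [stdHerm_h hF]) ?_)
  exact ⟨fun h w hw => h ⟨w, hw, rfl⟩, fun h => by rintro _ ⟨w, hw, rfl⟩; exact h w hw⟩

/-- A unitary matrix with given power and characteristic polynomial and an invariant isotropic subspace. -/
def Model (hF : Fintype.card F = q ^ 2) (z : F) (r n a : ℕ) (f : F[X]) : Prop :=
  ∃ X : Matrix (Fin n) (Fin n) F, cst (powConj hF) X * X = 1 ∧ X ^ r = z • 1 ∧ X.charpoly = f ∧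
    TI (stdHerm n hF) a (Matrix.toLin' X)

theorem model_of_elt {z : F} (A : Matrix (Fin n) (Fin n) F) (hA : cst (powConj hF) A * A = 1) (hAr : A ^ r = z • 1) :
    Model hF z r n 0 A.charpoly :=
  ⟨A, hA, hAr, rfl, ⊥, finrank_bot F _, fun u hu v _ => by rw [(Submodule.mem_bot F).mp hu, HermSpace.zero_left],
    fun w hw => by rw [(Submodule.mem_bot F).mp hw, map_zero]; exact zero_mem _⟩

theorem model_add {z : F} {n' a a' : ℕ} {f f' : F[X]} (h : Model hF z r n a f) (h' : Model hF z r n' a' f') :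
    Model hF z r (n + n') (a + a') (f * f') := by
  obtain ⟨X, hX, hXr, hf, W, hWd, hW, hWi⟩ := h
  obtain ⟨X', hX', hXr', hf', W', hWd', hW', hWi'⟩ := h'
  refine ⟨bd X X', by rw [cst_bd, bd_mul, hX, hX', bd_one], ?_, by rw [charpoly_bd, hf, hf'],
    LinearMap.range (appendLin F n n' ∘ₗ W.subtype.prodMap W'.subtype), ?_, ?_, ?_⟩
  · rw [bd_pow, hXr, hXr']
    refine Matrix.ext_of_mulVec_single fun i => ?_
    have hb : ∀ v : Fin (n + n') → F, bd (z • 1 : Matrix (Fin n) (Fin n) F) (z • 1 : Matrix (Fin n') (Fin n') F) *ᵥ v =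
        z • v := fun v => by
      conv_lhs => rw [← Fin.append_castAdd_natAdd (f := v)]
      rw [bd_append, Matrix.smul_mulVec, Matrix.smul_mulVec, Matrix.one_mulVec, Matrix.one_mulVec]
      funext i
      refine Fin.addCases (fun i => ?_) (fun i => ?_) i <;> simp
    rw [hb, Matrix.smul_mulVec, Matrix.one_mulVec]
  · have hinj : Function.Injective (appendLin F n n' ∘ₗ W.subtype.prodMap W'.subtype) := fun u v e => by
      have e' := appendLin_injective n n' e
      exact Prod.ext (Subtype.ext (congrArg Prod.fst e')) (Subtype.ext (congrArg Prod.snd e'))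
    rw [LinearMap.finrank_range_of_inj hinj, Module.finrank_prod, hWd, hWd']
  · rintro _ ⟨u, rfl⟩ _ ⟨v, rfl⟩
    have e1 := hW _ u.1.2 _ v.1.2
    have e2 := hW' _ u.2.2 _ v.2.2
    rw [stdHerm_h] at e1 e2
    simp only [Cfsg.hermForm] at e1 e2
    rw [stdHerm_h, Cfsg.hermForm, Fin.sum_univ_add]
    simp [appendLin, e1, e2]
  · rintro _ ⟨u, rfl⟩
    refine ⟨(⟨_, hWi _ u.1.2⟩, ⟨_, hWi' _ u.2.2⟩), ?_⟩
    simp [appendLin, bd_append]

/-- Transport of an abstract model. -/
theorem model_of_space {z : F} {a : ℕ} {V : Type v} [AddCommGroup V] [Module F V] [FiniteDimensional F V]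
    (H : HermSpace F V) (hσ : H.σ = powConj hF) (hd : Module.finrank F V = n) (T : Module.End F V)
    (hT : ∀ u v, H.h (T u) (T v) = H.h u v) (hTr : ∀ v, (T ^ r) v = z • v) (hW : TI H a T) :
    Model hF z r n a T.charpoly := by
  obtain ⟨E, hE⟩ := H.exists_isometry (stdHerm n hF) hσ.symm (by rw [hd, Module.finrank_fin_fun])
  obtain ⟨W, hWd, hW, hWi⟩ := hW
  have hc : ∀ u, E.conj T (E u) = E (T u) := fun u => by simp [LinearEquiv.conj_apply_apply]
  have hp : ∀ (k : ℕ) u, (E.conj T ^ k) (E u) = E ((T ^ k) u) := fun k => by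
    induction k with
    | zero => intro u; simp
    | succ k ih => intro u; rw [pow_succ, pow_succ, Module.End.mul_apply, Module.End.mul_apply, hc, ih]
  set A := LinearMap.toMatrix' (E.conj T) with hA
  have hAl : Matrix.toLin' A = E.conj T := Matrix.toLin'_toMatrix' _
  refine ⟨A, (preserves_iff hF A).mp fun u v => ?_, Matrix.toLin'.injective ?_, ?_, W.map E.toLinearMap,
    (LinearEquiv.finrank_map_eq E W).trans hWd, ?_, ?_⟩
  · rw [← Matrix.toLin'_apply, ← Matrix.toLin'_apply, hAl, ← stdHerm_h hF, ← stdHerm_h hF]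
    obtain ⟨u, rfl⟩ := E.surjective u
    obtain ⟨v, rfl⟩ := E.surjective v
    rw [hc, hc, hE, hE, hT]
  · rw [Matrix.toLin'_pow, hAl, map_smul, Matrix.toLin'_one]
    refine LinearMap.ext fun u => ?_
    obtain ⟨u, rfl⟩ := E.surjective u
    rw [hp, hTr, map_smul]; rfl
  · rw [← Matrix.charpoly_toLin', hAl]; exact E.charpoly_conj T
  · rintro _ ⟨u, hu, rfl⟩ _ ⟨v, hv, rfl⟩
    exact (hE u v).trans (hW u hu v hv)
  · rintro _ ⟨u, hu, rfl⟩
    exact ⟨T u, hWi u hu, by rw [hAl]; exact (hc u).symm⟩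

theorem cst_pow (σ : F →+* F) (A : Matrix (Fin n) (Fin n) F) : ∀ k : ℕ, cst σ (A ^ k) = cst σ A ^ k
  | 0 => by rw [pow_zero, pow_zero, cst_one]
  | k + 1 => by rw [pow_succ, cst_mul, cst_pow σ A k, ← pow_succ']

/-- A pair of dual blocks. -/
theorem model_diag {z : F} {a : ℕ} (A B : Matrix (Fin a) (Fin a) F) (hAB : cst (powConj hF) B * A = 1)
    (hAr : A ^ r = z • 1) (hBr : B ^ r = z • 1) : Model hF z r (a + a) a (A.charpoly * B.charpoly) := by
  set σ := powConj hF with hσ
  set H₀ := stdHerm a hF with hH₀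
  have hpair : ∀ u v, H₀.h (A *ᵥ u) (B *ᵥ v) = H₀.h u v := fun u v => by
    show (A *ᵥ u) ⬝ᵥ (fun i => σ ((B *ᵥ v) i)) = u ⬝ᵥ fun i => σ (v i)
    have e : (fun i => σ ((B *ᵥ v) i)) = B.map σ *ᵥ fun i => σ (v i) := funext fun i => RingHom.map_mulVec σ B v i
    rw [e, Matrix.dotProduct_mulVec, ← Matrix.mulVec_transpose, Matrix.mulVec_mulVec,
      show (B.map σ)ᵀ = cst σ B from rfl, hAB, Matrix.one_mulVec]
  let H : HermSpace F ((Fin a → F) × (Fin a → F)) :=
    { σ := σ
      h := fun u v => H₀.h u.1 v.2 + H₀.h u.2 v.1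
      conj := powConj_isConj hF
      add_left := fun x y w => by simp only [Prod.fst_add, Prod.snd_add, H₀.add_left]; ring
      smul_left := fun c x w => by simp only [Prod.smul_fst, Prod.smul_snd, H₀.smul_left]; ring
      symm := fun x y => by
        rw [map_add, show σ = H₀.σ from rfl, ← H₀.symm, ← H₀.symm, add_comm]
      nondeg := fun v hv => Prod.ext
        (H₀.nondeg v.1 fun x => by simpa [H₀.zero_left] using hv (0, x))
        (H₀.nondeg v.2 fun x => by simpa [H₀.zero_left] using hv (x, 0)) }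
  have hp : ∀ (k : ℕ) u, ((Matrix.toLin' A).prodMap (Matrix.toLin' B) ^ k) u = ((A ^ k) *ᵥ u.1, (B ^ k) *ᵥ u.2) :=
    fun k => by
      induction k with
      | zero => intro u; simp
      | succ k ih =>
        intro u
        rw [pow_succ, pow_succ, pow_succ, Module.End.mul_apply, ih]
        simp [Matrix.mulVec_mulVec]
  rw [← Matrix.charpoly_toLin', ← Matrix.charpoly_toLin' B, ← LinearMap.charpoly_prodMap]
  refine model_of_space hF H rfl (by rw [Module.finrank_prod, Module.finrank_fin_fun]) _ (fun u v => ?_) (fun u => ?_)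
    ⟨LinearMap.range (LinearMap.inl F (Fin a → F) (Fin a → F)), ?_, ?_, ?_⟩
  · show H₀.h (A *ᵥ u.1) (B *ᵥ v.2) + H₀.h (B *ᵥ u.2) (A *ᵥ v.1) = _
    rw [hpair, H₀.symm (B *ᵥ u.2), hpair, ← H₀.symm]
  · rw [hp, hAr, hBr, Matrix.smul_mulVec, Matrix.smul_mulVec, Matrix.one_mulVec, Matrix.one_mulVec]; rfl
  · rw [LinearMap.finrank_range_of_inj LinearMap.inl_injective, Module.finrank_fin_fun]
  · rintro _ ⟨u, rfl⟩ _ ⟨v, rfl⟩
    show H₀.h u 0 + H₀.h 0 v = 0
    rw [H₀.zero_left, H₀.zero_right, add_zero]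
  · rintro _ ⟨u, rfl⟩
    exact ⟨A *ᵥ u, by simp⟩

variable [Fact p.Prime] [CharP F p] [Fact r.Prime]

/-- An element with the characteristic polynomial of a model fixes an isotropic subspace. -/
theorem stable {z : F} (hzq : z ^ (q + 1) = 1) (hrp : r ≠ p) {f : F[X]} (hM : Model hF z r n m f)
    {Y : Matrix (Fin n) (Fin n) F} (hY : cst (powConj hF) Y * Y = 1) (hYr : Y ^ r = z • 1) (hf : Y.charpoly = f) :
    TI (stdHerm n hF) m (Matrix.toLin' Y) := by
  obtain ⟨M, hM, hMr, hMf, W, hWd, hW, hWi⟩ := hM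
  have hcop : (r * (q + 1)).Coprime p := by
    refine Nat.Coprime.mul_left ((Nat.coprime_primes Fact.out Fact.out).2 hrp)
      (((Fact.out : p.Prime).coprime_iff_not_dvd.mpr fun h => ?_).symm)
    have hpq : p ∣ q := by
      obtain ⟨k, rfl⟩ := UNondeg.exists_exp (p := p) hF
      refine dvd_pow_self p fun e => ?_
      rw [e] at hF
      simp at hF
      exact absurd hF (Fintype.one_lt_card (α := F)).ne'
    exact (Fact.out : p.Prime).not_dvd_one ((Nat.dvd_add_right hpq).mp h)
  have hss : ∀ A : Matrix (Fin n) (Fin n) F, A ^ r = z • 1 → SS p A := fun A hA =>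
    ⟨_, hcop, by rw [pow_mul, hA, _root_.smul_pow, hzq, one_pow, one_smul]⟩
  obtain ⟨T, hT, hTM⟩ := similar (hss M hMr) (hss Y hYr) (by rw [hMf, hf])
  obtain ⟨T', hT', hTA⟩ := exists_conj (invol hF) (exists_moved hF) M Y T hM hY hT hTM
  have hiso := toLin_iso hF hT'
  refine ⟨W.map (Matrix.toLin' T'), ?_, ?_, ?_⟩
  · exact (Submodule.equivMapOfInjective _ (UNondeg.iso_injective hiso) W).finrank_eq.symm.trans hWd
  · rintro _ ⟨u, hu, rfl⟩ _ ⟨v, hv, rfl⟩
    rw [hiso]; exact hW u hu v hv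
  · rintro _ ⟨u, hu, rfl⟩
    refine ⟨Matrix.toLin' M u, hWi u hu, ?_⟩
    rw [← LinearMap.comp_apply, ← Matrix.toLin'_mul, hTA, Matrix.toLin'_mul, LinearMap.comp_apply]

include p in
/-- Dual pairs of prescribed polynomials. -/
theorem model_pairs (hrp : r ≠ p) (H : Multiset F[X]) (hH : ∀ g ∈ H, g.Monic ∧ g ∣ X ^ r - 1) :
    Model hF (1 : F) r (H.prod.natDegree + H.prod.natDegree) H.prod.natDegree
      (H.prod * dual (powConj hF) H.prod) := by
  have hm : H.prod.Monic := SpIso.monic_mprod _ fun g hg => (hH g hg).1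
  have hd : H.prod ∣ (X ^ r - 1) ^ H.card := by
    clear hm
    induction H using Multiset.induction with
    | empty => simp
    | cons g H ih =>
      rw [Multiset.prod_cons, Multiset.card_cons, pow_succ']
      exact mul_dvd_mul (hH g (Multiset.mem_cons_self _ _)).2 (ih fun k hk => hH k (Multiset.mem_cons_of_mem hk))
  have h0 : H.prod.coeff 0 ≠ 0 := fun e => by
    obtain ⟨t, ht⟩ := hd
    have := congrArg (fun P => P.coeff 0) ht
    simp only [mul_coeff_zero, e, zero_mul, coeff_zero_eq_eval_zero, eval_pow, eval_sub, eval_X, eval_one,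
      zero_pow (Fact.out : r.Prime).ne_zero, zero_sub] at this
    rw [eval_mul, ← coeff_zero_eq_eval_zero, e, zero_mul] at this
    exact pow_ne_zero _ (neg_ne_zero.mpr one_ne_zero) this
  obtain ⟨A, hA, hAc⟩ := exists_ss (p := p) H.prod hm rfl h0
  have hAu : IsUnit A := (Matrix.isUnit_iff_isUnit_det A).2 hA.isUnit_det
  have hAr : A ^ r = 1 := by
    obtain ⟨N, hN, hAN⟩ := hA
    exact DualCount.pow_eq_one A hN hAN (hAc ▸ hd)
  have hCu : IsUnit (cst (powConj hF) A).det := by rw [det_cst]; exact hA.isUnit_det.map (powConj hF)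
  have h := model_diag hF (r := r) (z := (1 : F)) A (cst (powConj hF) A)⁻¹ ?_ (by rw [hAr, one_smul]) ?_
  · rwa [← UNondeg.charpoly_dual_eq hF A hAu, hAc] at h
  · have e := congrArg (cst (powConj hF)) (Matrix.mul_nonsing_inv _ hCu)
    rwa [cst_mul, cst_one, cst_cst _ (invol hF)] at e
  · rw [Matrix.inv_pow', ← cst_pow, hAr, cst_one, inv_one, one_smul]

include p in
/-- An element with the given blocks fixes an isotropic subspace. -/
theorem stable_blocks (hrp : r ≠ p) {c : ℕ} (hmn : 2 * m ≤ n) (H L₂ : Multiset F[X]) (e₂ : ℕ)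
    (hH : ∀ g ∈ H, g.Monic ∧ g ∣ X ^ r - 1) (hHd : H.prod.natDegree = m) (hL₂ : ∀ u ∈ L₂, Atom (powConj hF) r c u)
    (he₂ : e₂ + c * L₂.card = n - 2 * m) (Y : Matrix (Fin n) (Fin n) F) (hY : cst (powConj hF) Y * Y = 1)
    (hYr : Y ^ r = 1) (hf : Y.charpoly = H.prod * dual (powConj hF) H.prod * ((X - C 1) ^ e₂ * L₂.prod)) :
    TI (stdHerm n hF) m (Matrix.toLin' Y) := by
  obtain ⟨A, hA, hAr, hAc⟩ := UNondeg.exists_elt (p := p) hF hrp hL₂ he₂
  have h2 := model_of_elt hF (r := r) (z := (1 : F)) A hA (by rw [hAr, one_smul])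
  have h1 := model_pairs (p := p) hF hrp H hH
  rw [hHd] at h1
  have h := model_add hF h1 h2
  rw [show m + m + (n - 2 * m) = n by omega, add_zero, hAc, ← hf] at h
  exact stable (p := p) hF (one_pow _) hrp h hY (by rw [hYr, one_smul]) rfl

include p in
/-- An element whose power is a scalar without roots. -/
theorem stable_rot (hrp : r ≠ p) {z : F} (hzq : z ^ (q + 1) = 1) (hirr : Irreducible (X ^ r - C z : F[X]))
    (hmn : 2 * m ≤ n) (hrm : r ∣ m) (hrn : r ∣ n) {Y : Matrix (Fin n) (Fin n) F} (hY : cst (powConj hF) Y * Y = 1)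
    (hYr : Y ^ r = z • 1) : TI (stdHerm n hF) m (Matrix.toLin' Y) := by
  obtain ⟨A, hA, -, hAr⟩ := UNondeg.rot_elt (r := r) hF hzq hrm
  obtain ⟨R, hR, -, hRr⟩ := UNondeg.rot_elt (r := r) (n := n - 2 * m) hF hzq
    (Nat.dvd_sub hrn (Dvd.dvd.mul_left hrm 2))
  have h := model_add hF (model_diag hF A A hA hAr hAr) (model_of_elt hF R hR hRr)
  rw [show m + m + (n - 2 * m) = n by omega, add_zero] at h
  have hchi : ∀ B : Matrix (Fin n) (Fin n) F, B ^ r = z • 1 → B.charpoly = (X ^ r - C z) ^ (n / r) := fun B hB => by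
    obtain ⟨k, hk, hdim⟩ := SpIso.chi_pow (Matrix.toLin' B) (monic_X_pow_sub_C z (Fact.out : r.Prime).ne_zero) hirr (by
      rw [map_sub, map_pow, aeval_X, aeval_C, ← Matrix.toLin'_pow, hB, map_smul, Matrix.toLin'_one,
        Algebra.algebraMap_eq_smul_one]
      exact sub_self _)
    rw [natDegree_X_pow_sub_C, Module.finrank_fin_fun] at hdim
    rw [← Matrix.charpoly_toLin', hk, hdim, Nat.mul_div_cancel_left _ (Fact.out : r.Prime).pos]
  obtain ⟨M, hM, hMr, hMf, hW⟩ := h
  exact stable (p := p) hF hzq hrp ⟨M, hM, hMr, rfl, hW⟩ hY hYr ((hchi Y hYr).trans (hchi M hMr).symm)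

end Cfsg.Lib.Classical.UIsoEl
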