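import Mathlib
import Cfsg.Prelude.Def_Classical
import Cfsg.Agent.Classical.Unitary.IsoElusiveModels

/-! The number of totally isotropic subspaces of a unitary space, and bounds for invariant ones. -/

set_option autoImplicit false
set_option linter.unusedSimpArgs false
set_option linter.unusedSectionVars false
set_option linter.unusedVariables false
set_option linter.style.haveILetI false
set_option linter.flexible false

namespace Cfsg.Lib.Classical.UIsoEl

open Cfsg.Lib.Classical Cfsg.Lib.PrimeOrderPoly Cfsg.Lib.DualPoly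
open Cfsg.Lib.UnitaryConj Cfsg.Lib.UnitarySemisimple
open Polynomial
open Cfsg.Lib.Classical.UNondeg (toLin_iso)

universe u v

variable {F : Type u} [Field F]

section Linear

variable {V : Type v} [AddCommGroup V] [Module F V] [FiniteDimensional F V] {H : HermSpace F V} {x : Module.End F V}

theorem iso_pow (hx : ∀ u v, H.h (x u) (x v) = H.h u v) : ∀ (k : ℕ) (u v : V), H.h ((x ^ k) u) ((x ^ k) v) = H.h u v
  | 0, u, v => by simp
  | k + 1, u, v => by rw [pow_succ', Module.End.mul_apply, Module.End.mul_apply, hx, iso_pow hx k]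

/-- Moving a polynomial across the form. -/
theorem adjoint_reflect (hx : ∀ u v, H.h (x u) (x v) = H.h u v) {N : ℕ} (P : F[X]) (hP : P.natDegree ≤ N) (u v : V) :
    H.h (aeval x P u) v = H.h ((x ^ N) u) (aeval x (Polynomial.reflect N (P.map H.σ)) v) := by
  refine Polynomial.induction_with_natDegree_le
    (fun P => H.h (aeval x P u) v = H.h ((x ^ N) u) (aeval x (Polynomial.reflect N (P.map H.σ)) v)) N ?_ ?_ ?_ P hP
  · simp [H.zero_left, H.zero_right]
  · intro k a ha hk
    rw [Polynomial.map_mul, Polynomial.map_C, Polynomial.map_pow, Polynomial.map_X,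
      Polynomial.reflect_C_mul_X_pow, Polynomial.revAt_le hk]
    simp only [map_mul, aeval_C, aeval_X_pow, Module.End.mul_apply, Module.algebraMap_end_apply, H.smul_left, H.smul_right,
      H.conj.invol]
    congr 1
    obtain ⟨j, rfl⟩ := Nat.exists_eq_add_of_le hk
    rw [Nat.add_sub_cancel_left, add_comm k j, pow_add, Module.End.mul_apply, iso_pow hx]
  · intro P Q hlt hQ h1 h2
    rw [Polynomial.map_add, Polynomial.reflect_add, map_add, map_add, LinearMap.add_apply, LinearMap.add_apply,
      H.add_left, H.add_right, h1, h2]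

/-- Kernels of self dual factors are nondegenerate. -/
theorem ker_nondeg (hx : ∀ u v, H.h (x u) (x v) = H.h u v) {r : ℕ} (hr : (r : F) ≠ 0)
    (hxr : x ^ r = 1) {g : F[X]} (hg : g.Monic) (hgi : Irreducible g) (hgd : g ∣ X ^ r - 1)
    (hdual : dual H.σ g = g) : H.NondegOn (LinearMap.ker (aeval x g)) := by
  obtain ⟨h, hh⟩ := hgd
  have h0 : g.coeff 0 ≠ 0 := fun e => by
    have e' := congrArg (fun P => P.coeff 0) hh
    simp only [mul_coeff_zero, e, zero_mul, coeff_sub, coeff_X_pow, coeff_one] at e'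
    rcases Nat.eq_zero_or_pos r with rfl | hr0
    · simp at hr
    · rw [if_neg (by omega)] at e'; simp at e'
  have h0' : H.σ (g.coeff 0) ≠ 0 := by simpa using h0
  have hrev : (g.map H.σ).reverse = C (H.σ (g.coeff 0)) * g := by
    have hd' := hdual
    rw [dual] at hd'
    calc (g.map H.σ).reverse = C (H.σ (g.coeff 0)) * (C (H.σ (g.coeff 0))⁻¹ * (g.map H.σ).reverse) := by
          rw [← mul_assoc, ← map_mul, mul_inv_cancel₀ h0', C_1, one_mul]
      _ = _ := by rw [hd']
  have horth : ∀ u v, v ∈ LinearMap.ker (aeval x g) → H.h (aeval x g u) v = 0 := fun u v hv => by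
    rw [LinearMap.mem_ker] at hv
    rw [adjoint_reflect hx g le_rfl, show Polynomial.reflect g.natDegree (g.map H.σ) = (g.map H.σ).reverse by
      rw [Polynomial.reverse, natDegree_map], hrev, map_mul,
      Module.End.mul_apply, hv, map_zero, H.zero_right]
  have hsq : Squarefree (X ^ r - 1 : F[X]) := by
    have := (separable_X_pow_sub_C (1 : F) hr one_ne_zero).squarefree
    rwa [C_1] at this
  have hcop : IsCoprime g h := hgi.coprime_iff_not_dvd.2 fun hd => by
    refine hgi.not_isUnit (hsq g ?_)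
    rw [hh]
    exact mul_dvd_mul_left g hd
  have hdisj : Disjoint (LinearMap.ker (aeval x g)) (LinearMap.range (aeval x g)) := by
    rw [Submodule.disjoint_def]
    rintro _ hw ⟨w, rfl⟩
    rw [LinearMap.mem_ker] at hw
    obtain ⟨a, b, hab⟩ := hcop
    have e : aeval x ((a * g + b * h) * g) w = 0 := by
      rw [show (a * g + b * h) * g = a * (g * g) + b * (g * h) by ring, ← hh, map_add, LinearMap.add_apply, map_mul,
        map_mul, map_mul, Module.End.mul_apply, Module.End.mul_apply, Module.End.mul_apply, hw, map_zero, zero_add,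
        map_sub, map_pow, aeval_X, map_one, hxr, sub_self, LinearMap.zero_apply, map_zero]
    rwa [hab, one_mul] at e
  have htop : LinearMap.ker (aeval x g) ⊔ LinearMap.range (aeval x g) = ⊤ := by
    refine Submodule.eq_top_of_finrank_eq ?_
    have h1 := Submodule.finrank_sup_add_finrank_inf_eq (LinearMap.ker (aeval x g)) (LinearMap.range (aeval x g))
    rw [hdisj.eq_bot, finrank_bot] at h1
    have h2 := LinearMap.finrank_range_add_finrank_ker (aeval x g)
    omega
  intro v hv hv'
  refine H.nondeg v fun w => ?_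
  obtain ⟨a, ha, _, ⟨b, rfl⟩, rfl⟩ := Submodule.mem_sup.mp (htop ▸ Submodule.mem_top (x := w))
  rw [H.add_left, hv' a ha, horth b v hv, add_zero]

/-- An isotropic subspace of a nondegenerate subspace. -/
theorem two_mul_le [Finite F] {U W : Submodule F V} (hU : H.NondegOn U) (hWU : W ≤ U)
    (hW : ∀ u ∈ W, ∀ v ∈ W, H.h u v = 0) : 2 * Module.finrank F W ≤ Module.finrank F U := by
  have hdis : W ⊓ H.orth U = ⊥ :=
    (((H.nondegOn_iff_disjoint U).mp hU).mono_left hWU).eq_bot
  have hle : W ⊔ H.orth U ≤ H.orth W := sup_le (fun u hu v hv => hW u hu v hv) fun u hu v hv => hu v (hWU hv)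
  have h := Submodule.finrank_sup_add_finrank_inf_eq W (H.orth U)
  rw [hdis, finrank_bot, H.finrank_orth] at h
  have h2 := Submodule.finrank_mono hle
  rw [H.finrank_orth] at h2
  have := Submodule.finrank_le U
  have := Submodule.finrank_le W
  omega

end Linear

variable [Fintype F] {q p r n m : ℕ} (hF : Fintype.card F = q ^ 2)

include hF in
/-- Standard isotropic subspaces. -/
theorem exists_ti (hmn : 2 * m ≤ n) :
    ∃ W : Submodule F (Fin n → F), Module.finrank F W = m ∧ ∀ u ∈ W, ∀ v ∈ W, (stdHerm n hF).h u v = 0 := by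
  have h := model_add hF (model_diag hF (z := (1 : F)) (r := 1) (a := m) 1 1 (by rw [cst_one, mul_one])
    (by rw [one_pow, one_smul]) (by rw [one_pow, one_smul]))
    (model_of_elt hF (z := (1 : F)) (r := 1) (n := n - 2 * m) 1 (by rw [cst_one, mul_one]) (by rw [one_pow, one_smul]))
  rw [show m + m + (n - 2 * m) = n by omega, add_zero] at h
  obtain ⟨_, -, -, -, W, h1, h2, -⟩ := h
  exact ⟨W, h1, h2⟩

/-- Isotropic subspaces inside a nondegenerate subspace. -/
theorem exists_iso_in {V : Type v} [AddCommGroup V] [Module F V] [FiniteDimensional F V] {H : HermSpace F V}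
    (hσ : H.σ = powConj hF) {U : Submodule F V} (hU : H.NondegOn U) (hk : 2 * m ≤ Module.finrank F U) :
    ∃ W ≤ U, Module.finrank F W = m ∧ ∀ u ∈ W, ∀ v ∈ W, H.h u v = 0 := by
  obtain ⟨E, hE⟩ := (stdHerm (Module.finrank F U) hF).exists_isometry (H.restrict U hU) hσ (by rw [Module.finrank_fin_fun])
  obtain ⟨W, hWd, hW⟩ := exists_ti hF hk
  refine ⟨W.map (U.subtype ∘ₗ E.toLinearMap), ?_, ?_, ?_⟩
  · rintro _ ⟨w, -, rfl⟩
    exact Subtype.coe_prop _
  · exact (Submodule.equivMapOfInjective _
      (show Function.Injective (U.subtype ∘ₗ E.toLinearMap) from U.injective_subtype.comp E.injective) W).finrank_eq.symm.trans hWd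
  · rintro _ ⟨u, hu, rfl⟩ _ ⟨v, hv, rfl⟩
    exact (hE u v).trans (hW u hu v hv)

theorem frames_eq : Nat.card {f : Fin m → (Fin n → F) // UIso.IsFrame (stdHerm n hF) f} =
      ∏ i ∈ Finset.range m, (q ^ (2 * i) * UIso.isoCount q (n - 2 * i)) :=
  UIso.card_frames (stdHerm n hF) hF rfl (Module.finrank_fin_fun F) m

include hF in
/-- Bases of isotropic subspaces are isotropic frames. -/
theorem card_rel : Nat.card {W : Submodule F (Fin n → F) // Module.finrank F ↥W = m ∧
      (∀ u ∈ W, ∀ v ∈ W, Cfsg.hermForm n F q u v = 0)} * ∏ i ∈ Finset.range m, ((q ^ 2) ^ m - (q ^ 2) ^ i) =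
      ∏ i ∈ Finset.range m, (q ^ (2 * i) * UIso.isoCount q (n - 2 * i)) := by
  classical
  rw [← hF]
  haveI : Finite (Submodule F (Fin n → F)) := Finite.of_injective _ SetLike.coe_injective
  set Ω := {W : Submodule F (Fin n → F) // Module.finrank F ↥W = m ∧
      (∀ u ∈ W, ∀ v ∈ W, Cfsg.hermForm n F q u v = 0)}
  haveI : Fintype Ω := Fintype.ofFinite _
  have hone : ∀ W : Ω, Nat.card {s : Fin m → W.1 // LinearIndependent F s} =
      ∏ i ∈ Finset.range m, (Fintype.card F ^ m - Fintype.card F ^ i) := fun W => by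
    rw [card_linearIndependent (by rw [W.2.1]), W.2.1]
    exact Fin.prod_univ_eq_prod_range (fun i => Fintype.card F ^ m - Fintype.card F ^ i) m
  rw [← frames_eq hF, ← Nat.card_eq_of_bijective (fun s : Σ W : Ω, {s : Fin m → W.1 // LinearIndependent F s} =>
    (⟨fun i => (s.2.1 i : Fin n → F), s.2.2.map' s.1.1.subtype s.1.1.ker_subtype,
      fun i j => by rw [stdHerm_h]; exact s.1.2.2 _ (s.2.1 i).2 _ (s.2.1 j).2⟩ :
      {f : Fin m → (Fin n → F) // UIso.IsFrame (stdHerm n hF) f})) ⟨?_, ?_⟩, Nat.card_sigma,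
    Finset.sum_congr rfl (fun W _ => hone W), Finset.sum_const, Finset.card_univ, smul_eq_mul, Nat.card_eq_fintype_card]
  · rintro ⟨⟨W, hW⟩, ⟨s, hs⟩⟩ ⟨⟨W', hW'⟩, ⟨s', hs'⟩⟩ e
    have e' : (fun i => (s i : Fin n → F)) = fun i => (s' i : Fin n → F) := congrArg Subtype.val e
    have hspan : ∀ (U : Submodule F (Fin n → F)) (t : Fin m → U), Module.finrank F U = m → LinearIndependent F t →
        Submodule.span F (Set.range fun i => (t i : Fin n → F)) = U := fun U t hU ht => by
      refine Submodule.eq_of_le_of_finrank_le (Submodule.span_le.mpr (by rintro _ ⟨i, rfl⟩; exact (t i).2)) ?_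
      rw [finrank_span_eq_card (b := fun i => (t i : Fin n → F)) (ht.map' U.subtype U.ker_subtype),
        Fintype.card_fin, hU]
    obtain rfl : W = W' := by rw [← hspan W s hW.1 hs, e', hspan W' s' hW'.1 hs']
    obtain rfl : s = s' := funext fun i => Subtype.ext (congrFun e' i)
    rfl
  · rintro ⟨f, hf⟩
    have hspan : ∀ u ∈ Submodule.span F (Set.range f), ∀ v ∈ Submodule.span F (Set.range f),
        Cfsg.hermForm n F q u v = 0 := by
      intro u hu v hv
      rw [← stdHerm_h hF]
      refine (stdHerm n hF).eq_zero_symm ?_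
      refine (HermSpace.mem_orth_span (stdHerm n hF)).mpr ?_ u hu
      rintro _ ⟨i, rfl⟩
      refine (stdHerm n hF).eq_zero_symm ?_
      refine (HermSpace.mem_orth_span (stdHerm n hF)).mpr ?_ v hv
      rintro _ ⟨j, rfl⟩
      exact hf.2 i j
    exact ⟨⟨⟨Submodule.span F (Set.range f), (finrank_span_eq_card hf.1).trans (Fintype.card_fin m), hspan⟩,
      ⟨fun i => ⟨f i, Submodule.subset_span ⟨i, rfl⟩⟩, LinearIndependent.of_comp (Submodule.subtype _) hf.1⟩⟩, rfl⟩

variable [Fact p.Prime] [CharP F p] [Fact r.Prime]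

include hF in
/-- Numerical consequences of the counting hypothesis. -/
theorem count_facts (hm : 1 ≤ m) (hmn : 2 * m ≤ n)
    (hΩ : r ∣ Nat.card {W : Submodule F (Fin n → F) // Module.finrank F ↥W = m ∧
      (∀ u ∈ W, ∀ v ∈ W, Cfsg.hermForm n F q u v = 0)}) :
    r ≠ p ∧ ∃ l, n - 2 * m < l ∧ l ≤ n ∧ (-(q : ZMod r)) ^ l = 1 := by
  have hr : r.Prime := Fact.out
  obtain ⟨e, rfl⟩ := UNondeg.exists_exp (p := p) hF
  have hq1 : 1 < p ^ e := by
    have h := Fintype.one_lt_card (α := F)
    rw [hF] at h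
    by_contra hle
    have := Nat.pow_le_pow_left (not_lt.mp hle) 2
    omega
  set q := p ^ e with hq
  have he : e ≠ 0 := fun h => by rw [h, pow_zero] at hq; omega
  have hpq : p ∣ q := dvd_pow_self p he
  have h := card_rel (n := n) (m := m) hF
  rw [Finset.prod_congr rfl (fun i hi => show (q ^ 2) ^ m - (q ^ 2) ^ i = q ^ (2 * i) * ((q ^ 2) ^ (m - i) - 1) by
      rw [Finset.mem_range] at hi
      rw [Nat.mul_sub, mul_one, ← pow_mul q 2 i, ← pow_mul q 2 m, ← pow_mul q 2 (m - i), ← pow_add]
      congr 2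
      omega),
    Finset.prod_mul_distrib, Finset.prod_mul_distrib, mul_left_comm] at h
  have h2 := Nat.eq_of_mul_eq_mul_left (Finset.prod_pos fun i _ => pow_pos (by omega) (2 * i)) h
  have hdv : r ∣ ∏ i ∈ Finset.range m, UIso.isoCount q (n - 2 * i) := h2 ▸ hΩ.mul_right _
  obtain ⟨i, hi, hdi⟩ := (Prime.dvd_finsetProd_iff hr.prime _).mp hdv
  rw [Finset.mem_range] at hi
  set k := n - 2 * i with hk
  have hk2 : 2 ≤ k := by omega
  have key : ∃ j, k - 1 ≤ j ∧ j ≤ k ∧ (if Even j then r ∣ q ^ j - 1 else r ∣ q ^ j + 1) := by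
    unfold UIso.isoCount at hdi
    by_cases hev : Even k
    · rw [if_pos hev] at hdi
      rcases hr.dvd_mul.mp hdi with h | h
      · exact ⟨k, by omega, le_rfl, by rwa [if_pos hev]⟩
      · refine ⟨k - 1, le_rfl, by omega, ?_⟩
        rwa [if_neg (by rw [Nat.even_iff] at hev ⊢; omega)]
    · rw [if_neg hev] at hdi
      rcases hr.dvd_mul.mp hdi with h | h
      · exact ⟨k, by omega, le_rfl, by rwa [if_neg hev]⟩
      · refine ⟨k - 1, le_rfl, by omega, ?_⟩
        rwa [if_pos (by rw [Nat.even_iff] at hev ⊢; omega)]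
  obtain ⟨j, hj1, hj2, hj⟩ := key
  have hj0 : 1 ≤ q ^ j := Nat.one_le_pow _ _ (by omega)
  refine ⟨fun hrp => ?_, j, by omega, by omega, ?_⟩
  · have hpj : p ∣ q ^ j := hpq.trans (dvd_pow_self q (by omega))
    rw [hrp] at hj
    split_ifs at hj
    · have := Nat.dvd_sub hpj hj
      rw [Nat.sub_sub_self hj0] at this
      exact (Fact.out : p.Prime).not_dvd_one this
    · exact (Fact.out : p.Prime).not_dvd_one ((Nat.dvd_add_right hpj).mp hj)
  · rw [neg_pow]
    split_ifs at hj with hev
    · rw [← ZMod.natCast_eq_zero_iff, Nat.cast_sub hj0, Nat.cast_one, Nat.cast_pow] at hj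
      rw [hev.neg_one_pow]
      linear_combination hj
    · rw [← ZMod.natCast_eq_zero_iff, Nat.cast_add, Nat.cast_one, Nat.cast_pow] at hj
      rw [(Nat.not_even_iff_odd.mp hev).neg_one_pow]
      linear_combination -hj

include hF in
/-- Necessary conditions from an invariant isotropic subspace. -/
theorem necessary (hrp : r ≠ p) {i b : ℕ} (hi : i = orderOf (q : ZMod r)) (hb : b = if Even i then i / 2 else i)
    {e : ℕ} {P : F[X]} (hP : P.eval 1 ≠ 0) {Y : Matrix (Fin n) (Fin n) F} (hY : cst (powConj hF) Y * Y = 1)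
    (hYr : Y ^ r = 1) (hf : Y.charpoly = (X - C 1) ^ e * P) (hW : TI (stdHerm n hF) m (Matrix.toLin' Y)) :
    ∃ (w₀ : ℕ) (l : F[X] → ℕ), 2 * w₀ ≤ e ∧ m = w₀ + b * ∑ g ∈ factorSet F r, l g ∧
      ∀ g ∈ factorSet F r, dual (powConj hF) g = g → ∃ k, 2 * l g ≤ k ∧ g ^ k ∣ P := by
  classical
  obtain ⟨W, hWd, hWt, hWi'⟩ := hW
  have hb0 : 0 < b := by
    have := UNondeg.order_pos (p := p) hF hrp hi
    subst hb
    split_ifs with hev <;> first | omega | (rw [Nat.even_iff] at hev; omega)
  set x := Matrix.toLin' Y with hxdef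
  have hrc : (r : F) ≠ 0 := cast_prime_ne_zero (Fact.out : r.Prime) hrp
  have hx : x ^ r = 1 := by
    rw [hxdef, ← Matrix.toLin'_pow, hYr, Matrix.toLin'_one]; rfl
  have hiso := toLin_iso hF hY
  have hxc : x.charpoly = (X - C 1) ^ e * P := by rw [hxdef, Matrix.charpoly_toLin', hf]
  have hWi : PrimeOrd.Inv x W := hWi'
  have hss := PrimeOrd.semisimple (c := (1 : F)) hrc one_ne_zero (show x ^ r = 1 • 1 by rw [hx, one_smul])
  have h1d : (X - C (1 : F)) ∣ X ^ r - 1 := by rw [dvd_iff_isRoot]; simp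
  have hbound : ∀ g : F[X], g.Monic → Irreducible g → g ∣ X ^ r - 1 → dual (powConj hF) g = g →
      ∃ k, 2 * Module.finrank F (W ⊓ LinearMap.ker (aeval x g) : Submodule F (Fin n → F)) ≤ g.natDegree * k ∧
        g ^ k ∣ (X - C 1) ^ e * P := by
    intro g hg hgi hgd hdual
    obtain ⟨k, hk, hdim⟩ := SpIso.ker_pow hss hg hgi
    refine ⟨k, ?_, hxc ▸ hk⟩
    rw [← hdim]
    exact two_mul_le (ker_nondeg hiso hrc hx hg hgi hgd hdual) inf_le_right fun u hu v hv => hWt u hu.1 v hv.1
  have hdiv : ∀ g ∈ factorSet F r, b ∣ Module.finrank F (W ⊓ LinearMap.ker (aeval x g) : Submodule F (Fin n → F)) := by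
    intro g hg
    obtain ⟨hgm, hgi, -⟩ := mem_factorSet g hg
    have hinv := hWi.inf (SpIso.inv_ker_aeval x g)
    obtain ⟨k, -, hdim⟩ := SpIso.chi_pow (PrimeOrd.res x hinv) hgm hgi
      (LinearMap.ext fun w => Subtype.ext (by rw [SpIso.aeval_res]; exact w.2.2))
    rw [hdim, UNondeg.factor_degree (p := p) hF hrp hi hg, ← hb]
    exact dvd_mul_right b k
  choose l hl using hdiv
  let L : F[X] → ℕ := fun g => if hg : g ∈ factorSet F r then l g hg else 0
  have hL : ∀ g ∈ factorSet F r, Module.finrank F (W ⊓ LinearMap.ker (aeval x g) : Submodule F (Fin n → F)) = b * L g :=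
    fun g hg => by simp only [L, dif_pos hg]; exact hl g hg
  refine ⟨Module.finrank F (W ⊓ LinearMap.ker (aeval x (X - C (1 : F))) : Submodule F (Fin n → F)), L, ?_, ?_, ?_⟩
  · obtain ⟨k, hk, hkd⟩ := hbound _ (monic_X_sub_C 1) (irreducible_X_sub_C 1) h1d dual_X_sub_one
    rw [natDegree_X_sub_C, one_mul] at hk
    refine hk.trans ?_
    have hcop : IsCoprime ((X - C (1 : F)) ^ k) P := IsCoprime.pow_left ((irreducible_X_sub_C 1).coprime_iff_not_dvd.2
      fun hd => hP (dvd_iff_isRoot.mp hd))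
    have h2 := natDegree_le_of_dvd (hcop.dvd_of_dvd_mul_right hkd) (pow_ne_zero _ (monic_X_sub_C 1).ne_zero)
    rwa [natDegree_pow, natDegree_pow, natDegree_X_sub_C, mul_one, mul_one] at h2
  · have hT : ∀ g ∈ insert (X - C (1 : F)) (factorSet F r), g.Monic ∧ Irreducible g := fun g hg => by
      rcases Finset.mem_insert.mp hg with rfl | hg
      · exact ⟨monic_X_sub_C 1, irreducible_X_sub_C 1⟩
      · exact ⟨(mem_factorSet g hg).1, (mem_factorSet g hg).2.1⟩
    have hprod : ∏ g ∈ insert (X - C (1 : F)) (factorSet F r), g = X ^ r - 1 := by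
      rw [Finset.prod_insert (one_notMem hrp), ← cyclotomic_prime_mul_X_sub_one F r, mul_comm, map_one]
      congr 1
      have hsq : Squarefree (cyclotomic r F) :=
        Squarefree.squarefree_of_dvd (cyclotomic.dvd_X_pow_sub_one r F) (by
          have := (separable_X_pow_sub_C (1 : F) hrc one_ne_zero).squarefree
          rwa [C_1] at this)
      open UniqueFactorizationMonoid in
      have hnd := (squarefree_iff_nodup_normalizedFactors (cyclotomic_ne_zero r F)).mp hsq
      open UniqueFactorizationMonoid in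
      show (Multiset.map id (factorSet F r).val).prod = _
      open UniqueFactorizationMonoid in
      rw [Multiset.map_id, factorSet, Multiset.toFinset_val, Multiset.dedup_eq_self.mpr hnd,
        prod_normalizedFactors_eq (cyclotomic_ne_zero r F), (cyclotomic.monic r F).normalize_eq_self]
    have h := SpIso.split_sum hWi _ hT
    rw [hprod, map_sub, map_pow, aeval_X, map_one, hx, sub_self, LinearMap.ker_zero, inf_top_eq, hWd,
      Finset.sum_insert (one_notMem hrp), Finset.sum_congr rfl hL, ← Finset.mul_sum] at h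
    exact h
  · intro g hg hdual
    obtain ⟨hgm, hgi, hgd⟩ := mem_factorSet g hg
    obtain ⟨k, hk, hkd⟩ := hbound g hgm hgi (hgd.trans (cyclotomic.dvd_X_pow_sub_one r F)) hdual
    rw [hL g hg, UNondeg.factor_degree (p := p) hF hrp hi hg, ← hb, show 2 * (b * L g) = b * (2 * L g) by ring] at hk
    refine ⟨k, Nat.le_of_mul_le_mul_left hk hb0, ?_⟩
    refine (IsCoprime.pow (hgi.coprime_iff_not_dvd.2 fun hd => ?_)).dvd_of_dvd_mul_left hkd
    exact SpDecomp.eval_one_ne hrp hg (dvd_iff_isRoot.mp (hgi.dvd_symm (irreducible_X_sub_C 1) hd))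

end Cfsg.Lib.Classical.UIsoEl
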