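import Mathlib
import Cfsg.Agent.Classical.Unitary.IsoElusiveCount

/-! Unitary elements of odd prime order: blocks and invariant totally isotropic subspaces. -/

set_option autoImplicit false
set_option linter.unusedSimpArgs false
set_option linter.unusedSectionVars false
set_option linter.unusedVariables false
set_option linter.style.haveILetI false
set_option linter.flexible false

namespace Cfsg.Lib.Classical.UIsoEl

open Cfsg.Lib.Classical Cfsg.Lib.PrimeOrderPoly Cfsg.Lib.DualPoly
open Cfsg.Lib.UnitaryConj Cfsg.Lib.UnitarySemisimple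
open Polynomial
open Cfsg.Lib.Classical.UNondeg (Atom toLin_iso cval)

universe u

variable {F : Type u} [Field F] [Fintype F] {q p r n m : ℕ} [Fact p.Prime] [CharP F p] [Fact r.Prime]
variable (hF : Fintype.card F = q ^ 2)
include hF

/-- The three numerical invariants. -/
theorem shape (hrp : r ≠ p) {i b c : ℕ} (hi : i = orderOf (q : ZMod r)) (hb : b = if Even i then i / 2 else i)
    (hc : c = cval i) : 0 < b ∧ 0 < c ∧ (i % 4 = 2 → c = b) ∧ (i % 4 ≠ 2 → c = 2 * b) := by
  have hi0 := UNondeg.order_pos (p := p) hF hrp hi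
  subst hb hc
  unfold cval
  simp only [Nat.even_iff]
  refine ⟨?_, ?_, fun h => ?_, fun h => ?_⟩ <;> split_ifs <;> omega

/-- The number of factors. -/
theorem factor_count (hrp : r ≠ p) {i b : ℕ} (hi : i = orderOf (q : ZMod r)) (hb : b = if Even i then i / 2 else i) :
    (factorSet F r).card * b = r - 1 ∧ (factorSet F r).card = (r - 1) / b ∧ 0 < (factorSet F r).card := by
  have h := card_factorSet (F := F) (p := p) (r := r) hrp
  have h1 : 0 < r - 1 := Nat.sub_pos_of_lt (Fact.out : r.Prime).one_lt
  have hpos : 0 < (factorSet F r).card := by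
    rcases Nat.eq_zero_or_pos (factorSet F r).card with e | e
    · rw [e, zero_mul] at h; omega
    · exact e
  obtain ⟨g, hg⟩ := Finset.card_pos.mp hpos
  have hd : orderOf (Fintype.card F : ZMod r) = b := by
    rw [← natDegree_factorSet hrp g hg, UNondeg.factor_degree (p := p) hF hrp hi hg, hb]
  rw [hd] at h
  refine ⟨h, ?_, hpos⟩
  rw [← h, Nat.mul_div_cancel]
  rcases Nat.eq_zero_or_pos b with e | e
  · rw [e, mul_zero] at h; omega
  · exact e

/-- A factor of a block. -/
theorem atom_factor (hrp : r ≠ p) {c : ℕ} (hc0 : 0 < c) {u : F[X]} (hu : Atom (powConj hF) r c u) :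
    ∃ g ∈ factorSet F r, g ∣ u := by
  classical
  obtain ⟨hm, hdeg, -, hdvd, h1⟩ := hu
  obtain ⟨g₀, hg₀, hg₀u⟩ := WfDvdMonoid.exists_irreducible_factor
    (fun h => by have := natDegree_eq_zero_of_isUnit h; omega) hm.ne_zero
  have hgm : (normalize g₀).Monic := Polynomial.monic_normalize hg₀.ne_zero
  have hgi : Irreducible (normalize g₀) := (normalize_associated g₀).symm.irreducible hg₀
  have hgu : normalize g₀ ∣ u := (normalize_associated g₀).dvd_iff_dvd_left.mpr hg₀u
  refine ⟨normalize g₀, ((irreducible_dvd _ hgm hgi).mp (hgi.prime.dvd_of_dvd_pow (hgu.trans hdvd))).resolve_left ?_, hgu⟩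
  intro e
  rw [e] at hgu
  exact h1 (dvd_iff_isRoot.mp hgu)

/-- Self dual blocks. -/
theorem atom_self (hrp : r ≠ p) {i b : ℕ} (hi : i = orderOf (q : ZMod r)) (hb : b = if Even i then i / 2 else i)
    (hb0 : 0 < b) {u : F[X]} (hu : Atom (powConj hF) r b u) : u ∈ factorSet F r := by
  obtain ⟨g, hg, hgu⟩ := atom_factor (p := p) hF hrp hb0 hu
  obtain ⟨hm, hdeg, -, -, -⟩ := hu
  rwa [Polynomial.eq_of_monic_of_dvd_of_natDegree_le (mem_factorSet g hg).1 hm hgu
    (by rw [hdeg, UNondeg.factor_degree (p := p) hF hrp hi hg, hb])]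

/-- Blocks made of two dual halves. -/
theorem atom_halves (hr2 : r ≠ 2) (hrp : r ≠ p) {i b c : ℕ} (hi : i = orderOf (q : ZMod r))
    (hb : b = if Even i then i / 2 else i) (hb0 : 0 < b) (h4 : i % 4 ≠ 2) (hc : c = 2 * b) :
    ∀ L : Multiset F[X], (∀ u ∈ L, Atom (powConj hF) r c u) →
    ∃ H : Multiset F[X], (∀ g ∈ H, g ∈ factorSet F r) ∧ L = H.map fun g => g * dual (powConj hF) g := by
  intro L hL
  induction L using Multiset.induction with
  | empty => exact ⟨0, by simp, by simp⟩
  | cons u L ih =>
    obtain ⟨H, hH, hLH⟩ := ih fun v hv => hL v (Multiset.mem_cons_of_mem hv)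
    have hu := hL u (Multiset.mem_cons_self _ _)
    obtain ⟨g, hg, hgu⟩ := atom_factor (p := p) hF hrp (by omega) hu
    obtain ⟨hm, hdeg, hdual, -, -⟩ := hu
    obtain ⟨h1, h2, -⟩ := mem_factorSet g hg
    have h3 := UNondeg.factor_degree (p := p) hF hrp hi hg
    have hg' := dual_mem (σ := powConj hF) (invol hF) hrp hg
    obtain ⟨h1', h2', -⟩ := mem_factorSet _ hg'
    have h3' := UNondeg.factor_degree (p := p) hF hrp hi hg'
    rw [← hb] at h3 h3'
    have hne : dual (powConj hF) g ≠ g := fun e => h4 ((UNondeg.self_dual (p := p) hF hr2 hrp hi hg).mp e)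
    have hd : dual (powConj hF) g ∣ u := by
      obtain ⟨k, hk⟩ := hgu
      exact ⟨dual (powConj hF) k, by rw [← dual_mul, ← hk, hdual]⟩
    have hcop : IsCoprime g (dual (powConj hF) g) := h2.coprime_iff_not_dvd.mpr fun hdv =>
      hne (eq_of_monic_of_associated h1' h1 (h2.associated_of_dvd h2' hdv).symm)
    have e : g * dual (powConj hF) g = u := (Polynomial.eq_of_monic_of_dvd_of_natDegree_le (h1.mul h1') hm
      (hcop.mul_dvd hgu hd) (by rw [h1.natDegree_mul h1', hdeg, h3, h3', hc]; omega)).symm
    refine ⟨g ::ₘ H, fun k hk => ?_, by rw [Multiset.map_cons, ← hLH, e]⟩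
    rcases Multiset.mem_cons.mp hk with rfl | hk
    · exact hg
    · exact hH k hk

/-- The degree of a unitary element in terms of its blocks. -/
theorem block_degree {c e : ℕ} {L : Multiset F[X]} (hL : ∀ u ∈ L, Atom (powConj hF) r c u)
    {Y : Matrix (Fin n) (Fin n) F} (hf : Y.charpoly = (X - C 1) ^ e * L.prod) : e + c * L.card = n := by
  obtain ⟨h1, h2, -, -, -⟩ := UNondeg.atoms_facts hL
  have := congrArg natDegree hf
  rw [Matrix.charpoly_natDegree_eq_dim, ((monic_X_sub_C 1).pow e).natDegree_mul h1, (monic_X_sub_C 1).natDegree_pow,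
    natDegree_X_sub_C, mul_one, h2, Fintype.card_fin] at this
  omega

/-- Elements of order `r` with invariant isotropic subspaces. -/
theorem suff (hr2 : r ≠ 2) (hrp : r ≠ p) (hmn : 2 * m ≤ n) {i b c : ℕ} (hi : i = orderOf (q : ZMod r))
    (hb : b = if Even i then i / 2 else i) (hc : c = cval i) (hA : 2 * (m % b) ≤ n % c)
    (hB : i % 4 = 2 → (r - 1) / b + 2 * (m / b) ≤ n / b) {Y : Matrix (Fin n) (Fin n) F}
    (hY : cst (powConj hF) Y * Y = 1) (hYr : Y ^ r = 1) : TI (stdHerm n hF) m (Matrix.toLin' Y) := by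
  classical
  obtain ⟨hb0, hc0, hcb, hc2⟩ := shape (p := p) hF hrp hi hb hc
  obtain ⟨e, L, hL, hf⟩ := UNondeg.exists_atoms hF hr2 hrp hi _ _ (Matrix.charpoly_monic _) rfl
    (DualCount.factors_of_pow_eq_one _ hYr) (UNondeg.unitary_dual hF Y hY)
  rw [← hc] at hL
  have hdeg := block_degree (n := n) hF hL hf
  have hemin : n % c ≤ e := by
    rw [← hdeg, Nat.add_mul_mod_self_left]; exact Nat.mod_le _ _
  have hmdm := Nat.div_add_mod m b
  have finish : ∀ (H : Multiset F[X]) (L₂ : Multiset F[X]), (∀ g ∈ H, g ∈ factorSet F r) → b * H.card ≤ m →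
      2 * (m - b * H.card) ≤ e → (∀ u ∈ L₂, Atom (powConj hF) r c u) →
      L.prod = H.prod * dual (powConj hF) H.prod * L₂.prod →
      c * L₂.card + 2 * (b * H.card) = c * L.card → TI (stdHerm n hF) m (Matrix.toLin' Y) := by
    intro H L₂ hH hle hs hL₂ hprod hcnt
    set s := m - b * H.card with hsdef
    refine stable_blocks (p := p) hF hrp hmn (Multiset.replicate s (X - C 1) + H) L₂ (e - 2 * s) ?_ ?_ hL₂
      (by omega) Y hY hYr ?_
    · intro g hg
      rcases Multiset.mem_add.mp hg with hg | hg
      · rw [Multiset.eq_of_mem_replicate hg]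
        exact ⟨monic_X_sub_C 1, by rw [dvd_iff_isRoot]; simp⟩
      · exact ⟨(mem_factorSet g (hH g hg)).1, (mem_factorSet g (hH g hg)).2.2.trans (cyclotomic.dvd_X_pow_sub_one r F)⟩
    · rw [Multiset.prod_add, Multiset.prod_replicate,
        ((monic_X_sub_C 1).pow s).natDegree_mul (SpIso.monic_mprod _ fun g hg => (mem_factorSet g (hH g hg)).1),
        (monic_X_sub_C 1).natDegree_pow, natDegree_X_sub_C,
        natDegree_multiset_prod_of_monic _ fun g hg => (mem_factorSet g (hH g hg)).1,
        Multiset.map_congr rfl fun g hg => UNondeg.factor_degree (p := p) hF hrp hi (hH g hg), Multiset.map_const',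
        Multiset.sum_replicate, smul_eq_mul, ← hb, mul_comm H.card b]
      omega
    · rw [hf, hprod, Multiset.prod_add, Multiset.prod_replicate, dual_mul, UNondeg.dual_pow, dual_X_sub_one]
      conv_lhs => rw [show e = s + s + (e - 2 * s) by omega, pow_add, pow_add]
      ring
  by_cases h4 : i % 4 = 2
  · obtain rfl : c = b := hcb h4
    obtain ⟨P, R, hR, hLPR⟩ := SpIso.exists_pairs L
    have hLm : ∀ u ∈ L, u ∈ factorSet F r := fun u hu => atom_self (p := p) hF hrp hi hb hb0 (hL u hu)
    have hRS : R.card ≤ (r - 1) / c := by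
      rw [← (factor_count (p := p) hF hrp hi hb).2.1, ← Multiset.toFinset_card_of_nodup hR]
      exact Finset.card_le_card fun u hu => hLm u (by rw [hLPR]; exact Multiset.mem_add.mpr (Or.inr (Multiset.mem_toFinset.mp hu)))
    obtain ⟨A, B, hAB, hAc⟩ := SpIso.exists_split P (j := min (m / c) P.card) (min_le_right _ _)
    have hAm : ∀ g ∈ A, g ∈ factorSet F r := fun g hg => hLm g (by rw [hLPR, ← hAB]; simp [hg])
    have hLcard : L.card = P.card + P.card + R.card := by rw [hLPR]; simp
    have hdual : dual (powConj hF) A.prod = A.prod := by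
      rw [dual_prod, Multiset.map_congr rfl fun g hg => (UNondeg.self_dual (p := p) hF hr2 hrp hi (hAm g hg)).mpr h4,
        Multiset.map_id']
    have hle : c * A.card ≤ m := by
      rw [hAc]; exact (Nat.mul_le_mul_left c (min_le_left _ _)).trans (Nat.mul_div_le m c)
    refine finish A (B + B + R) hAm hle ?_ (fun u hu => hL u ?_) ?_ ?_
    · rw [hAc]
      rcases le_total (m / c) P.card with h | h
      · rw [min_eq_left h]; omega
      · rw [min_eq_right h]
        have hdd := Nat.div_add_mod n c
        have h1 : c * R.card + c * (2 * (m / c)) ≤ c * (n / c) := by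
          rw [← Nat.mul_add]
          refine Nat.mul_le_mul_left c ?_
          have := hB h4
          omega
        have h3 : c * L.card = c * P.card + c * P.card + c * R.card := by rw [hLcard]; ring
        have h4' : c * (2 * (m / c)) = 2 * (c * (m / c)) := by ring
        have h5 : c * P.card ≤ c * (m / c) := Nat.mul_le_mul_left c h
        omega
    · rw [hLPR, ← hAB]
      rcases Multiset.mem_add.mp hu with hu | hu
      · rcases Multiset.mem_add.mp hu with hu | hu <;> simp [hu]
      · simp [hu]
    · rw [hLPR, ← hAB, hdual]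
      simp only [Multiset.prod_add]
      ring
    · rw [hLPR, ← hAB]
      simp only [Multiset.card_add]
      ring
  · have hc' := hc2 h4
    obtain ⟨H, hH, hLH⟩ := atom_halves (p := p) hF hr2 hrp hi hb hb0 h4 hc' L hL
    obtain ⟨A, B, hAB, hAc⟩ := SpIso.exists_split H (j := min (m / b) H.card) (min_le_right _ _)
    have hAm : ∀ g ∈ A, g ∈ factorSet F r := fun g hg => hH g (by rw [← hAB]; simp [hg])
    have hLcard : L.card = H.card := by rw [hLH, Multiset.card_map]
    refine finish A (B.map fun g => g * dual (powConj hF) g) hAm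
      (by rw [hAc]; exact (Nat.mul_le_mul_left b (min_le_left _ _)).trans (Nat.mul_div_le m b)) ?_
      (fun u hu => hL u ?_) ?_ ?_
    · rw [hAc]
      rcases le_total (m / b) H.card with h | h
      · rw [min_eq_left h]; omega
      · rw [min_eq_right h]
        have h3 : c * L.card = 2 * (b * H.card) := by rw [hLcard, hc']; ring
        omega
    · rw [hLH, ← hAB, Multiset.map_add]
      exact Multiset.mem_add.mpr (Or.inr hu)
    · rw [hLH, ← hAB, Multiset.map_add, Multiset.prod_add, Multiset.prod_map_mul, Multiset.map_id', ← dual_prod]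
    · rw [hLH, ← hAB, Multiset.map_add, Multiset.card_add, Multiset.card_map, Multiset.card_map, hc']
      ring

omit hF [Fact p.Prime] [CharP F p] [Fact r.Prime] in
theorem dual_linear {σ : F →+* F} {a : F} (ha : a * σ a = 1) : dual σ (X - C a) = X - C a := by
  have hσ0 : σ a ≠ 0 := fun e => by rw [e, mul_zero] at ha; exact zero_ne_one ha
  ext k
  simp only [dual, coeff_C_mul, coeff_reverse, coeff_map, natDegree_map, natDegree_X_sub_C]
  rcases k with _ | _ | k
  · rw [revAt_le (by omega)]
    simp [coeff_X, coeff_C]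
    linear_combination ha * (-(σ a)⁻¹) + a * (mul_inv_cancel₀ hσ0)
  · rw [revAt_le le_rfl]; simp [coeff_X, coeff_C, hσ0]
  · rw [revAt_eq_self_of_lt (by omega)]; simp [coeff_X, coeff_C]

end Cfsg.Lib.Classical.UIsoEl
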