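import Mathlib
import Cfsg.Agent.Classical.Unitary.IsoElusiveCount

/-! Unitary elements of order two modulo scalars and invariant totally isotropic subspaces. -/

set_option autoImplicit false
set_option linter.unusedSimpArgs false
set_option linter.unusedSectionVars false
set_option linter.unusedVariables false
set_option linter.style.haveILetI false
set_option linter.flexible false

namespace Cfsg.Lib.Classical.UIsoEl

open Cfsg.Lib.Classical
open Cfsg.Lib.UnitaryConj Cfsg.Lib.UnitarySemisimple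
open Cfsg.Lib.Classical.UNondeg (toLin_iso)
open Matrix

universe u

variable {F : Type u} [Field F] [Fintype F] {q n m : ℕ} (hF : Fintype.card F = q ^ 2)

include hF in
/-- Decomposition by the two eigenvalues. -/
theorem eigen_split (h2 : (2 : F) ≠ 0) {T : Module.End F (Fin n → F)} {l : F} (hl0 : l ≠ 0)
    (hTT : ∀ v, T (T v) = (l * l) • v) :
    IsCompl (LinearMap.ker (T - l • (1 : Module.End F (Fin n → F))))
      (LinearMap.ker (T - (-l) • (1 : Module.End F (Fin n → F)))) := by
  refine ⟨Submodule.disjoint_def.mpr fun v hv hv' => ?_, codisjoint_iff.mpr (eq_top_iff.mpr fun v _ => ?_)⟩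
  · rw [LinearMap.mem_ker, LinearMap.sub_apply, sub_eq_zero, LinearMap.smul_apply, Module.End.one_apply] at hv hv'
    have e : (l + l) • v = 0 := by
      rw [add_smul]
      nth_rw 1 [← hv]
      rw [hv', neg_smul, neg_add_cancel]
    refine (smul_eq_zero.mp e).resolve_left fun e' => hl0 ?_
    exact (mul_eq_zero.mp (show (2 : F) * l = 0 by rw [two_mul]; exact e')).resolve_left h2
  · refine Submodule.mem_sup.mpr ⟨(2 : F)⁻¹ • (v + l⁻¹ • T v), ?_, (2 : F)⁻¹ • (v - l⁻¹ • T v), ?_, ?_⟩
    · rw [LinearMap.mem_ker, LinearMap.sub_apply, sub_eq_zero, LinearMap.smul_apply, Module.End.one_apply,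
        map_smul, map_add, map_smul, hTT]
      match_scalars <;> field_simp
    · rw [LinearMap.mem_ker, LinearMap.sub_apply, sub_eq_zero, LinearMap.smul_apply, Module.End.one_apply,
        map_smul, map_sub, map_smul, hTT]
      match_scalars <;> field_simp
    · rw [← smul_add, show v + l⁻¹ • T v + (v - l⁻¹ • T v) = (2 : F) • v by module, smul_smul, inv_mul_cancel₀ h2,
        one_smul]

include hF in
/-- Involutions. -/
theorem involution_ti (h2 : (2 : F) ≠ 0) (hmn : 2 * m ≤ n) {Y : Matrix (Fin n) (Fin n) F}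
    (hY : cst (powConj hF) Y * Y = 1) (hY2 : Y ^ 2 = 1) :
    TI (stdHerm n hF) m (Matrix.toLin' Y) ∨ (2 * m = n ∧ Y.det = -1) := by
  classical
  set H := stdHerm n hF
  set T := Matrix.toLin' Y with hTdef
  have hT : ∀ u v, H.h (T u) (T v) = H.h u v := toLin_iso hF hY
  have hTT : ∀ v, T (T v) = ((1 : F) * 1) • v := fun v => by
    rw [one_mul, one_smul, hTdef, ← LinearMap.comp_apply, ← Matrix.toLin'_mul, ← pow_two, hY2, Matrix.toLin'_one]
    rfl
  have hc := eigen_split (n := n) hF h2 one_ne_zero hTT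
  set P := LinearMap.ker (T - (1 : F) • (1 : Module.End F (Fin n → F))) with hP
  set Q := LinearMap.ker (T - (-1 : F) • (1 : Module.End F (Fin n → F))) with hQ
  have hmP : ∀ v ∈ P, T v = v := fun v hv => by simpa [hP, sub_eq_zero] using hv
  have hmQ : ∀ v ∈ Q, T v = -v := fun v hv => by
    rw [hQ, LinearMap.mem_ker, LinearMap.sub_apply, sub_eq_zero] at hv
    rw [hv, LinearMap.smul_apply, Module.End.one_apply, neg_smul, one_smul]
  have horth : ∀ u ∈ P, ∀ v ∈ Q, H.h u v = 0 := fun u hu v hv => by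
    have h := hT u v
    rw [hmP u hu, hmQ v hv, H.neg_right] at h
    exact (mul_eq_zero.mp (show (2 : F) * H.h u v = 0 by linear_combination -h)).resolve_left h2
  have nd : ∀ U U' : Submodule F (Fin n → F), U ⊔ U' = ⊤ → (∀ v ∈ U', ∀ u ∈ U, H.h v u = 0) → H.NondegOn U :=
    fun U U' hsup h v hv hv' => H.nondeg v fun w => by
      obtain ⟨a, ha, b, hb, rfl⟩ := Submodule.mem_sup.mp (hsup ▸ Submodule.mem_top (x := w))
      rw [H.add_left, hv' a ha, h b hb v hv, add_zero]
  have hPn := nd P Q hc.sup_eq_top fun v hv u hu => H.eq_zero_symm (horth u hu v hv)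
  have hQn := nd Q P (by rw [sup_comm, hc.sup_eq_top]) horth
  have hsum := Submodule.finrank_add_eq_of_isCompl hc
  rw [Module.finrank_fin_fun] at hsum
  set a := Module.finrank F P with ha
  set b := Module.finrank F Q with hb
  by_cases hbad : 2 * m = n ∧ b % 2 = 1
  · refine Or.inr ⟨hbad.1, ?_⟩
    let e := Submodule.prodEquivOfIsCompl P Q hc
    have hconj : T = e.conj ((1 : Module.End F P).prodMap ((-1 : F) • (1 : Module.End F Q))) := by
      refine LinearMap.ext fun v => ?_
      obtain ⟨⟨x, y⟩, rfl⟩ := e.surjective v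
      rw [LinearEquiv.conj_apply_apply, e.symm_apply_apply]
      simp [e, hmP x.1 x.2, hmQ y.1 y.2]
    rw [← LinearMap.det_toLin', ← hTdef, hconj, LinearEquiv.conj_apply, LinearMap.comp_assoc, LinearMap.det_conj,
      LinearMap.det_prodMap, LinearMap.det_smul, map_one, map_one, mul_one, one_mul, ← hb,
      (Nat.odd_iff.mpr hbad.2).neg_one_pow]
  refine Or.inl ?_
  obtain ⟨W₁, hW₁, hd₁, hi₁⟩ := exists_iso_in hF (m := min m (a / 2)) (H := H) rfl hPn (by omega)
  obtain ⟨W₂, hW₂, hd₂, hi₂⟩ := exists_iso_in hF (m := m - min m (a / 2)) (H := H) rfl hQn (by omega)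
  refine ⟨W₁ ⊔ W₂, ?_, ?_, ?_⟩
  · have h5 := Submodule.finrank_sup_add_finrank_inf_eq W₁ W₂
    rw [eq_bot_iff.mpr ((inf_le_inf hW₁ hW₂).trans hc.inf_eq_bot.le), finrank_bot] at h5
    omega
  · intro u hu v hv
    obtain ⟨u₁, hu₁, u₂, hu₂, rfl⟩ := Submodule.mem_sup.mp hu
    obtain ⟨v₁, hv₁, v₂, hv₂, rfl⟩ := Submodule.mem_sup.mp hv
    rw [H.add_left, H.add_right, H.add_right, hi₁ u₁ hu₁ v₁ hv₁, hi₂ u₂ hu₂ v₂ hv₂,
      horth u₁ (hW₁ hu₁) v₂ (hW₂ hv₂), H.eq_zero_symm (horth v₁ (hW₁ hv₁) u₂ (hW₂ hu₂)), add_zero, add_zero]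
  · intro w hw
    obtain ⟨u, hu, v, hv, rfl⟩ := Submodule.mem_sup.mp hw
    rw [map_add, hmP u (hW₁ hu), hmQ v (hW₂ hv)]
    exact Submodule.add_mem_sup hu (neg_mem hv)

set_option maxHeartbeats 1000000 in
include hF in
/-- Square roots of scalars that are not norms one. -/
theorem root_ti (h2 : (2 : F) ≠ 0) (hmn : 2 * m ≤ n) {X : Matrix (Fin n) (Fin n) F}
    (hX : cst (powConj hF) X * X = 1) {l : F} (hl0 : l ≠ 0) (hl : l * (powConj hF) l = -1)
    (hz : X ^ 2 = (l * l) • 1) : TI (stdHerm n hF) m (Matrix.toLin' X) := by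
  classical
  set H := stdHerm n hF
  set T := Matrix.toLin' X
  have hT : ∀ u v, H.h (T u) (T v) = H.h u v := toLin_iso hF hX
  have hTT : ∀ v, T (T v) = (l * l) • v := fun v => by
    rw [← LinearMap.comp_apply, ← Matrix.toLin'_mul, ← pow_two, hz, Matrix.toLin'_apply, Matrix.smul_mulVec,
      Matrix.one_mulVec]
  have hiso : ∀ (c : F) (S : Submodule F (Fin n → F)), c * (powConj hF) c = -1 → (∀ v ∈ S, T v = c • v) →
      (∀ u ∈ S, ∀ v ∈ S, H.h u v = 0) ∧ 2 * Module.finrank F S ≤ n := fun c S hc' hS => by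
    have hti : ∀ u ∈ S, ∀ v ∈ S, H.h u v = 0 := fun u hu v hv => by
      have h := hT u v
      rw [hS u hu, hS v hv, H.smul_left, H.smul_right, ← mul_assoc, show H.σ = powConj hF from rfl, hc'] at h
      exact (mul_eq_zero.mp (show (2 : F) * H.h u v = 0 by linear_combination -h)).resolve_left h2
    refine ⟨hti, ?_⟩
    have h1 := Submodule.finrank_mono (show S ≤ H.orth S from hti)
    rw [H.finrank_orth, Module.finrank_fin_fun] at h1
    have := Submodule.finrank_le S
    rw [Module.finrank_fin_fun] at this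
    omega
  set P := LinearMap.ker (T - l • (1 : Module.End F (Fin n → F))) with hP
  set Q := LinearMap.ker (T - (-l) • (1 : Module.End F (Fin n → F))) with hQ
  have hmP : ∀ v ∈ P, T v = l • v := fun v hv => by simpa [hP, sub_eq_zero] using hv
  have hmQ : ∀ v ∈ Q, T v = (-l) • v := fun v hv => by
    rw [hQ, LinearMap.mem_ker, LinearMap.sub_apply, sub_eq_zero] at hv
    exact hv
  obtain ⟨hPti, hPle⟩ := hiso l P hl hmP
  obtain ⟨-, hQle⟩ := hiso (-l) Q (by rw [map_neg, neg_mul_neg, hl]) hmQ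
  have hsum := Submodule.finrank_add_eq_of_isCompl (eigen_split (n := n) hF h2 hl0 hTT)
  rw [← hP, ← hQ, Module.finrank_fin_fun] at hsum
  have hm : m ≤ Module.finrank F P := by omega
  let b := Module.finBasis F P
  have hli : LinearIndependent F fun i : Fin m => (b (Fin.castLE hm i) : Fin n → F) :=
    (b.linearIndependent.comp _ (Fin.castLE_injective _)).map' _ (Submodule.ker_subtype _)
  have hle : Submodule.span F (Set.range fun i : Fin m => (b (Fin.castLE hm i) : Fin n → F)) ≤ P :=
    Submodule.span_le.mpr (by rintro _ ⟨i, rfl⟩; exact Subtype.coe_prop _)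
  exact ⟨_, by rw [finrank_span_eq_card hli, Fintype.card_fin], fun u hu v hv => hPti u (hle hu) v (hle hv),
    fun w hw => by rw [hmP w (hle hw)]; exact Submodule.smul_mem _ _ hw⟩

include hF in
/-- A reflection times a scalar fixes no maximal isotropic subspace. -/
theorem reflection_elt (h2 : (2 : F) ≠ 0) (hn : 2 ≤ n) (hmn : 2 * m = n) {w : F} (hw : w ^ (q + 1) = 1)
    (hwn : w ^ n = -1) : ∃ X : Matrix (Fin n) (Fin n) F, cst (powConj hF) X * X = 1 ∧ X.det = 1 ∧
      X ^ 2 = (w * w) • 1 ∧ (∀ c : F, X ≠ c • 1) ∧ ¬ TI (stdHerm n hF) m (Matrix.toLin' X) := by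
  classical
  have hw0 : w ≠ 0 := fun e => by rw [e, zero_pow q.succ_ne_zero] at hw; exact zero_ne_one hw
  let i₀ : Fin n := ⟨0, by omega⟩
  let s : Fin n → F := fun i => if i = i₀ then -1 else 1
  have hs : ∀ i, s i * s i = 1 := fun i => by simp only [s]; split_ifs <;> simp
  refine ⟨w • Matrix.diagonal s, ?_, ?_, ?_, ?_, ?_⟩
  · rw [cst_smul, show cst (powConj hF) (Matrix.diagonal s) = Matrix.diagonal s by
      rw [cst, Matrix.diagonal_map (map_zero _), Matrix.diagonal_transpose]
      congr 1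
      funext i
      simp only [s, Function.comp]
      split_ifs <;> simp,
      smul_mul_assoc, mul_smul_comm, smul_smul, Matrix.diagonal_mul_diagonal, mul_comm (powConj hF w),
      UNondeg.mul_conj hF, hw, one_smul]
    simp only [hs, Matrix.diagonal_one]
  · rw [Matrix.det_smul, Matrix.det_diagonal, Fintype.card_fin, hwn,
      Finset.prod_eq_single i₀ (fun b _ hb => by simp [s, hb]) (by simp)]
    simp [s]
  · rw [_root_.smul_pow, pow_two (Matrix.diagonal s), Matrix.diagonal_mul_diagonal, pow_two w]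
    simp only [hs, Matrix.diagonal_one]
  · intro c hc
    have h0 := congrFun (congrFun hc i₀) i₀
    have h1 := congrFun (congrFun hc ⟨1, by omega⟩) ⟨1, by omega⟩
    simp [s, i₀, Fin.ext_iff] at h0 h1
    exact h2 ((mul_eq_zero.mp (show w * 2 = 0 by linear_combination h1 - h0)).resolve_left hw0)
  · rintro ⟨W, hWd, hWt, hWi⟩
    set H := stdHerm n hF
    let e₀ : Fin n → F := Pi.single i₀ 1
    have hee : H.h e₀ e₀ = 1 := by
      show ∑ i, e₀ i * powConj hF (e₀ i) = 1
      rw [Finset.sum_eq_single i₀ (fun b _ hb => by simp [e₀, hb]) (by simp)]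
      simp [e₀]
    have hstep : ∀ u : Fin n → F, Matrix.toLin' (w • Matrix.diagonal s) u = w • u - (2 * w * u i₀) • e₀ := fun u => by
      funext i
      rw [Matrix.toLin'_apply, Matrix.smul_mulVec, Pi.smul_apply, Matrix.mulVec_diagonal]
      by_cases hi : i = i₀
      · subst hi; simp [s, e₀]; ring
      · simp [s, e₀, hi]
    have hzero : ∀ u ∈ W, u i₀ = 0 := fun u hu => by
      by_contra hne
      have h1 : (2 * w * u i₀) • e₀ ∈ W := by
        have := sub_mem (W.smul_mem w hu) (hWi u hu)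
        rwa [hstep, sub_sub_cancel] at this
      have he : e₀ ∈ W := by
        have := W.smul_mem (2 * w * u i₀)⁻¹ h1
        rwa [smul_smul, inv_mul_cancel₀ (mul_ne_zero (mul_ne_zero h2 hw0) hne), one_smul] at this
      exact one_ne_zero (hee.symm.trans (hWt e₀ he e₀ he))
    have horth : ∀ u ∈ W, H.h e₀ u = 0 := fun u hu => by
      show ∑ i, e₀ i * powConj hF (u i) = 0
      refine Finset.sum_eq_zero fun i _ => ?_
      by_cases hi : i = i₀
      · subst hi; rw [hzero u hu, map_zero, mul_zero]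
      · simp [e₀, hi]
    have hlt : W < H.orth W := lt_of_le_of_ne (fun u hu v hv => hWt u hu v hv) fun e =>
      one_ne_zero (hee.symm.trans (horth e₀ (e ▸ horth)))
    have := Submodule.finrank_lt_finrank_of_lt hlt
    rw [H.finrank_orth, Module.finrank_fin_fun, hWd] at this
    omega

end Cfsg.Lib.Classical.UIsoEl
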