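import Mathlib
import Cfsg.Agent.Classical.Unitary.IsoElusiveBlocks
import Cfsg.Agent.Classical.Unitary.IsoElusiveTwo

/-! Elements of prime order of the unitary group and invariant totally isotropic subspaces. -/

set_option autoImplicit false
set_option linter.unusedSimpArgs false
set_option linter.unusedSectionVars false
set_option linter.unusedVariables false
set_option linter.style.haveILetI false
set_option linter.flexible false

namespace Cfsg.Lib.Classical.UIsoEl

open Cfsg.Lib.Classical Cfsg.Lib.PrimeOrderPoly Cfsg.Lib.DualPoly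
open Cfsg.Lib.UnitaryConj Cfsg.Lib.UnitarySemisimple
open Polynomial
open Cfsg.Lib.Classical.UNondeg (Atom toLin_iso cval)

universe u

variable {F : Type u} [Field F] [Fintype F] {q p r n m : ℕ} [Fact p.Prime] [CharP F p] [Fact r.Prime]
variable (hF : Fintype.card F = q ^ 2)
include hF

omit hF in
/-- All elements of order `r` have invariant isotropic subspaces. -/
def AllTI (hF : Fintype.card F = q ^ 2) (r n m : ℕ) : Prop :=
  ∀ (X : Matrix (Fin n) (Fin n) F), cst (powConj hF) X * X = 1 → X.det = 1 → ∀ z : F, X ^ r = z • 1 →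
    (∀ w : F, X ≠ w • 1) → TI (stdHerm n hF) m (Matrix.toLin' X)

theorem sign_iff (h2 : (2 : F) ≠ 0) (hd : 2 ∣ q + 1) (hn : 0 < n) :
    (∃ w : F, w ^ (q + 1) = 1 ∧ w ^ n = -1) ↔ padicValNat 2 n < padicValNat 2 (q + 1) := by
  haveI : Fact (Nat.Prime 2) := ⟨Nat.prime_two⟩
  have hne : (-1 : F) ≠ 1 := fun e => h2 (by linear_combination -e)
  set v := padicValNat 2 n with hv
  obtain ⟨n', hn'⟩ : 2 ^ v ∣ n := pow_padicValNat_dvd
  have hodd : ¬ 2 ∣ n' := fun h => pow_succ_padicValNat_not_dvd (p := 2) hn.ne' (by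
    rw [← hv, hn', pow_succ]; exact mul_dvd_mul_left _ h)
  constructor
  · rintro ⟨w, hw, hwn⟩
    have ho : orderOf w ∣ 2 ^ (v + 1) * n' := orderOf_dvd_of_pow_eq_one (by
      rw [show 2 ^ (v + 1) * n' = n * 2 by rw [hn', pow_succ]; ring, pow_mul, hwn, neg_one_sq])
    obtain ⟨a₁, a₂, ha₁, ha₂, hao⟩ := Nat.dvd_mul.mp ho
    obtain ⟨t, hts, rfl⟩ := (Nat.dvd_prime_pow Nat.prime_two).mp ha₁
    have ht : t = v + 1 := by
      by_contra hne'
      refine hne (hwn.symm.trans (orderOf_dvd_iff_pow_eq_one.mp ?_))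
      rw [hn', ← hao]
      exact mul_dvd_mul (pow_dvd_pow 2 (by omega)) ha₂
    have h1 : 2 ^ (v + 1) ∣ q + 1 := by
      refine dvd_trans ?_ (orderOf_dvd_of_pow_eq_one hw)
      rw [← hao, ht]
      exact dvd_mul_right _ _
    have := (padicValNat_dvd_iff_le (by omega : q + 1 ≠ 0)).mp h1
    omega
  · intro hlt
    obtain ⟨w, hw, hwq⟩ := UNondeg.exists_zeta hF (t := 2 ^ (v + 1))
      ((padicValNat_dvd_iff_le (by omega : q + 1 ≠ 0)).mpr (by omega))
    refine ⟨w, hwq, ?_⟩
    have h1 : w ^ 2 ^ v = -1 := by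
      refine (mul_self_eq_one_iff.mp ?_).resolve_left fun h => ?_
      · rw [← pow_add, ← two_mul, ← pow_succ', hw.pow_eq_one]
      · have := Nat.le_of_dvd (pow_pos two_pos v) ((hw.pow_eq_one_iff_dvd _).mp h)
        have : 2 ^ v < 2 ^ (v + 1) := Nat.pow_lt_pow_right one_lt_two (by omega)
        omega
    rw [hn', pow_mul, h1, (Nat.odd_iff.mpr (by omega : n' % 2 = 1)).neg_one_pow]

theorem two_case (hn : 2 ≤ n) (hmn : 2 * m ≤ n) (hrp : r ≠ p) (hr : r = 2) :
    AllTI hF r n m ↔ (2 * m < n ∨ padicValNat 2 (q + 1) ≤ padicValNat 2 n) := by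
  subst hr
  have h2 : (2 : F) ≠ 0 := by exact_mod_cast cast_prime_ne_zero (F := F) Nat.prime_two hrp
  have hd : 2 ∣ q + 1 := by have := UNondeg.not_dvd_q (p := p) hF hrp; omega
  constructor
  · intro H
    by_contra hcon
    rw [not_or, not_lt, not_le] at hcon
    obtain ⟨w, hw, hwn⟩ := (sign_iff hF h2 hd (by omega)).mpr hcon.2
    obtain ⟨X, hX, hXd, hXz, hns, hno⟩ := reflection_elt (m := m) hF h2 hn (by omega) hw hwn
    exact hno (H X hX hXd _ hXz hns)
  · intro hcond X hX hXd z hXz _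
    obtain ⟨hzq, -⟩ := UNondeg.scalar_facts hF (by omega) hX hXd hXz
    by_cases hz : z ^ ((q + 1) / 2) = 1
    · obtain ⟨w, hw, hwr⟩ := UNondeg.root_of_power hF hd hzq hz
      have hw0 : w ≠ 0 := fun e => by rw [e, zero_pow q.succ_ne_zero] at hw; exact zero_ne_one hw
      obtain ⟨hY, hYr, -⟩ := UNondeg.normalise (m := m) hF hX hXz hw hwr
      rcases involution_ti (m := m) hF h2 hmn hY hYr with h | ⟨hmn', hdet⟩
      · rwa [map_smul, ti_smul (inv_ne_zero hw0)] at h
      · exfalso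
        rw [Matrix.det_smul, hXd, mul_one, Fintype.card_fin, inv_pow, inv_eq_iff_eq_inv, inv_neg, inv_one] at hdet
        have := (sign_iff hF h2 hd (by omega)).mp ⟨w, hw, hdet⟩
        omega
    · obtain ⟨l, hl0, hll, hl⟩ := UNondeg.exists_sqrt hF h2 hzq hz hd
      exact root_ti hF h2 hmn hX hl0 hl (by rw [hll, hXz])

/-- The counterexamples. -/
theorem derange (hrp : r ≠ p) (H : AllTI hF r n m) {i b c : ℕ} (hi : i = orderOf (q : ZMod r))
    (hb : b = if Even i then i / 2 else i) (L : Multiset F[X]) (e : ℕ) (hL : ∀ u ∈ L, Atom (powConj hF) r c u)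
    (he : e + c * L.card = n)
    (hgood : ∀ Y : Matrix (Fin n) (Fin n) F, cst (powConj hF) Y * Y = 1 → Y ^ r = 1 →
      Y.charpoly = (X - C 1) ^ e * L.prod → Y.det = 1 ∧ ∀ w : F, Y ≠ w • 1) :
    ∃ (w₀ : ℕ) (l : F[X] → ℕ), 2 * w₀ ≤ e ∧ m = w₀ + b * ∑ g ∈ factorSet F r, l g ∧
      ∀ g ∈ factorSet F r, dual (powConj hF) g = g → ∃ k, 2 * l g ≤ k ∧ g ^ k ∣ L.prod := by
  obtain ⟨Y, hY, hYr, hYc⟩ := UNondeg.exists_elt (p := p) hF hrp hL he
  obtain ⟨hdet, hns⟩ := hgood Y hY hYr hYc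
  obtain ⟨-, -, -, -, heval⟩ := UNondeg.atoms_facts hL
  exact necessary (p := p) hF hrp hi hb heval hY hYr hYc (H Y hY hdet 1 (by rw [hYr, one_smul]) hns)

theorem generic_good (hn : 0 < n) (hrq : ¬ r ∣ q + 1) {c e : ℕ} (hc : 0 < c) {L : Multiset F[X]}
    (hL : ∀ u ∈ L, Atom (powConj hF) r c u) (hL0 : L ≠ 0) (he : e + c * L.card = n)
    (Y : Matrix (Fin n) (Fin n) F) (hY : cst (powConj hF) Y * Y = 1) (hYr : Y ^ r = 1)
    (hYc : Y.charpoly = (X - C 1) ^ e * L.prod) : Y.det = 1 ∧ ∀ w : F, Y ≠ w • 1 := by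
  have hcop : r.Coprime (q + 1) := (Fact.out : r.Prime).coprime_iff_not_dvd.mpr hrq
  have key : ∀ a : F, a ^ r = 1 → a ^ (q + 1) = 1 → a = 1 := fun a h1 h2 => by
    have := (pow_gcd_eq_one (a := a) (m := r) (n := q + 1)).mpr ⟨h1, h2⟩
    rwa [hcop.gcd_eq_one, pow_one] at this
  constructor
  · refine key _ (by rw [← Matrix.det_pow, hYr, Matrix.det_one]) ?_
    have h := congrArg Matrix.det hY
    rwa [Matrix.det_mul, det_cst, Matrix.det_one, mul_comm, UNondeg.mul_conj hF] at h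
  · intro w hw
    have h1 : w ^ r = 1 := by
      have h := congrFun (congrFun hYr ⟨0, hn⟩) ⟨0, hn⟩
      rw [hw, _root_.smul_pow, one_pow] at h
      simpa using h
    have h2 : w ^ (q + 1) = 1 := by
      have h := congrFun (congrFun hY ⟨0, hn⟩) ⟨0, hn⟩
      rw [hw, cst_smul, cst_one, smul_mul_assoc, one_mul, smul_smul, mul_comm, UNondeg.mul_conj hF] at h
      simpa using h
    rw [hw, key w h1 h2, one_smul, Matrix.charpoly_one, Fintype.card_fin, ← he, pow_add, ← map_one (C : F →+* F[X])] at hYc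
    obtain ⟨-, -, -, -, heval⟩ := UNondeg.atoms_facts hL
    have hK : 0 < c * L.card := Nat.mul_pos hc (Multiset.card_pos.mpr hL0)
    refine heval ?_
    rw [← mul_left_cancel₀ (pow_ne_zero e (monic_X_sub_C (1 : F)).ne_zero) hYc, eval_pow, eval_sub, eval_X, eval_C,
      sub_self, zero_pow hK.ne']

omit hF [Fintype F] [CharP F p] [Fact r.Prime] in
theorem block_card {n m c : ℕ} (hc : 0 < c) (h : 2 * (m % c) ≤ n % c) (hmn : 2 * m ≤ n) :
    2 * (m / c) ≤ n / c := by
  rw [Nat.le_div_iff_mul_le hc]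
  have := Nat.div_mul_le_self m c
  calc 2 * (m / c) * c = 2 * (m / c * c) := by ring
    _ ≤ n := by omega

theorem generic_nec (hn : 0 < n) (hr2 : r ≠ 2) (hrp : r ≠ p) (hrq : ¬ r ∣ q + 1) (hmn : 2 * m ≤ n) {i b c : ℕ}
    (hi : i = orderOf (q : ZMod r)) (hb : b = if Even i then i / 2 else i) (hc : c = cval i) (hcn : c ≤ n)
    (hemod : n % c < 2 * m) (H : AllTI hF r n m) :
    b ≤ m ∧ 2 * (m % b) ≤ n % c ∧ (i % 4 = 2 → (r - 1) / b + 2 * (m / b) ≤ n / b) := by
  classical
  obtain ⟨hb0, hc0, hcb, hc2⟩ := shape (p := p) hF hrp hi hb hc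
  obtain ⟨hSb, hSeq, hSpos⟩ := factor_count (p := p) hF hrp hi hb
  have hdm := Nat.div_add_mod n c
  have hA : ¬ n % c < 2 * (m % b) := by
    intro hlt
    obtain ⟨g, hg⟩ := Finset.card_pos.mp hSpos
    obtain ⟨u, hu, -, -⟩ := UNondeg.atom_of_factor (p := p) hF hr2 hrp hi hg
    rw [← hc] at hu
    have hK : 0 < n / c := Nat.div_pos hcn hc0
    have hL : ∀ v ∈ Multiset.replicate (n / c) u, Atom (powConj hF) r c v := fun v hv =>
      Multiset.eq_of_mem_replicate hv ▸ hu
    have hL0 : Multiset.replicate (n / c) u ≠ 0 := fun e => by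
      have := congrArg Multiset.card e
      rw [Multiset.card_replicate, Multiset.card_zero] at this
      omega
    have he : n % c + c * (Multiset.replicate (n / c) u).card = n := by rw [Multiset.card_replicate]; omega
    obtain ⟨w₀, l, hw, hmw, -⟩ := derange (p := p) hF hrp H hi hb _ (n % c) hL he
      (generic_good hF hn hrq hc0 hL hL0 he)
    have : m % b ≤ w₀ := by
      rw [hmw, Nat.add_mul_mod_self_left]; exact Nat.mod_le _ _
    omega
  have hbm : b ≤ m := by
    by_contra h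
    exact hA (by rw [Nat.mod_eq_of_lt (not_le.mp h)]; exact hemod)
  refine ⟨hbm, not_lt.mp hA, fun h4 => ?_⟩
  obtain rfl : c = b := hcb h4
  by_contra hS
  rw [not_le, ← hSeq] at hS
  set K := n / c with hK
  set μ := m / c with hμ
  set S := (factorSet F r).card with hSdef
  have hμ1 : 1 ≤ μ := Nat.div_pos hbm hc0
  have hK2 : 2 * μ ≤ K := block_card hc0 (not_lt.mp hA) hmn
  set o := min (K + 2 - 2 * μ) S with ho
  obtain ⟨T, hTS, hTc⟩ := Finset.exists_subset_card_eq (s := factorSet F r) (n := o) (by omega)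
  obtain ⟨g₁, hg₁⟩ := Finset.card_pos.mp (show 0 < T.card by omega)
  let L : Multiset F[X] := Multiset.replicate (2 * (μ - 1)) g₁ + T.val
  have hLmem : ∀ u ∈ L, u ∈ factorSet F r := fun u hu => by
    rcases Multiset.mem_add.mp hu with hu | hu
    · rw [Multiset.eq_of_mem_replicate hu]; exact hTS hg₁
    · exact hTS hu
  have hLa : ∀ u ∈ L, Atom (powConj hF) r c u := fun u hu => by
    obtain ⟨v, hv, hdv, -⟩ := UNondeg.atom_of_factor (p := p) hF hr2 hrp hi (hLmem u hu)
    rw [← hc] at hv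
    have e : v = u := Polynomial.eq_of_monic_of_dvd_of_natDegree_le (mem_factorSet u (hLmem u hu)).1 hv.1 hdv
      (by rw [hv.2.1, UNondeg.factor_degree (p := p) hF hrp hi (hLmem u hu), ← hb])
    rwa [e] at hv
  have hLc : L.card = 2 * (μ - 1) + o := by
    rw [Multiset.card_add, Multiset.card_replicate, ← hTc]; rfl
  have hLK : K ≤ L.card + 1 ∧ L.card ≤ K := by omega
  have hlt := Nat.mod_lt n hc0
  have hmul1 : c * L.card ≤ c * K := Nat.mul_le_mul_left _ hLK.2
  have hmul2 : c * K ≤ c * L.card + c := by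
    calc c * K ≤ c * (L.card + 1) := Nat.mul_le_mul_left _ hLK.1
      _ = _ := by ring
  have hL0 : L ≠ 0 := by
    intro e
    have := congrArg Multiset.card e
    rw [hLc, Multiset.card_zero] at this
    omega
  have he : n - c * L.card + c * L.card = n := by omega
  obtain ⟨w₀, l, hw, hmw, hl⟩ := derange (p := p) hF hrp H hi hb L (n - c * L.card) hLa he
    (generic_good hF hn hrq hc0 hLa hL0 he)
  have hw0 : w₀ < c := by omega
  have hsum : μ = ∑ g ∈ factorSet F r, l g := by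
    rw [hμ, hmw, Nat.add_mul_div_left _ _ hc0, Nat.div_eq_of_lt hw0, zero_add]
  have hbd : ∀ g ∈ factorSet F r, 2 * l g ≤ L.count g := fun g hg => by
    obtain ⟨k, hk, hkd⟩ := hl g hg ((UNondeg.self_dual (p := p) hF hr2 hrp hi hg).mpr h4)
    refine hk.trans (SpIso.count_bound (fun u hu => ?_) (mem_factorSet g hg).1 (mem_factorSet g hg).2.1 hkd)
    exact ⟨(mem_factorSet u (hLmem u hu)).1, (mem_factorSet u (hLmem u hu)).2.1⟩
  have hT1 : ∀ g, T.val.count g ≤ 1 := fun g => Multiset.nodup_iff_count_le_one.mp T.nodup g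
  have hsmall : ∑ g ∈ factorSet F r, l g ≤ μ - 1 := by
    rw [Finset.sum_eq_single g₁]
    · have := hbd g₁ (hTS hg₁)
      rw [Multiset.count_add, Multiset.count_replicate_self] at this
      have := hT1 g₁
      omega
    · intro g hg hne
      have := hbd g hg
      rw [Multiset.count_add, Multiset.count_replicate, if_neg (Ne.symm hne)] at this
      have := hT1 g
      omega
    · exact fun h => absurd (hTS hg₁) h
  omega

theorem torus_nec (hn : 0 < n) (hm : 1 ≤ m) (hr2 : r ≠ 2) (hrp : r ≠ p) (hd : r ∣ q + 1) (hmn : 2 * m ≤ n) {i : ℕ}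
    (hi : i = orderOf (q : ZMod r)) (H : AllTI hF r n m) : r - 1 + 2 * m ≤ n := by
  classical
  have hr : r.Prime := Fact.out
  have hi2 : i = 2 := (UNondeg.order_two_iff (p := p) hF hr2 hrp hi).mpr hd
  have hb : (1 : ℕ) = if Even i then i / 2 else i := by rw [hi2]; simp
  obtain ⟨k₂, hk₂⟩ := hr.odd_of_ne_two hr2
  by_contra hcon
  set t := (n - 2 * m + 2) / 2 with ht
  have ht1 : 1 ≤ t := by omega
  have ht2 : 2 * t ≤ r - 1 := by omega
  obtain ⟨ζ, hζ, hζq⟩ := UNondeg.exists_zeta hF hd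
  let f : Fin t ⊕ Fin t → ℕ := Sum.elim (fun j => j + 1) fun j => r - (j + 1)
  have hflt : ∀ a, 0 < f a ∧ f a < r := by rintro (j | j) <;> simp [f] <;> omega
  have hfinj : Function.Injective f := by
    rintro (a | a) (b | b) h <;> simp [f] at h
    · exact congrArg Sum.inl (Fin.ext (by omega))
    · omega
    · omega
    · exact congrArg Sum.inr (Fin.ext (by omega))
  let g : Fin t ⊕ Fin t → F[X] := fun a => X - C (ζ ^ f a)
  have hnorm : ∀ a : ℕ, ζ ^ a * powConj hF (ζ ^ a) = 1 := fun a => by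
    rw [UNondeg.mul_conj hF, ← pow_mul, mul_comm, pow_mul, hζq, one_pow]
  have hga : ∀ a, Atom (powConj hF) r 1 (g a) := fun a => by
    refine ⟨monic_X_sub_C _, natDegree_X_sub_C _, dual_linear (hnorm _), ?_, ?_⟩
    · refine dvd_pow (dvd_iff_isRoot.mpr ?_) two_ne_zero
      rw [IsRoot, eval_sub, eval_pow, eval_X, eval_one, ← pow_mul, mul_comm, pow_mul, hζ.pow_eq_one, one_pow, sub_self]
    · rw [eval_sub, eval_X, eval_C, sub_ne_zero]
      exact (hζ.pow_ne_one_of_pos_of_lt (hflt a).1.ne' (hflt a).2).symm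
  let L : Multiset F[X] := Finset.univ.val.map g
  have hL : ∀ u ∈ L, Atom (powConj hF) r 1 u := fun u hu => by
    obtain ⟨a, -, rfl⟩ := Multiset.mem_map.mp hu
    exact hga a
  have hLc : L.card = 2 * t := by simp [L, two_mul]
  set e := n - 2 * t with he'
  have he : e + 1 * L.card = n := by rw [hLc]; omega
  have hgood : ∀ Y : Matrix (Fin n) (Fin n) F, cst (powConj hF) Y * Y = 1 → Y ^ r = 1 →
      Y.charpoly = (X - C 1) ^ e * L.prod → Y.det = 1 ∧ ∀ w : F, Y ≠ w • 1 := by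
    intro Y hY hYr hYc
    have hprod : L.prod = ∏ a, g a := rfl
    constructor
    · have h0 : L.prod.eval 0 = 1 := by
        rw [hprod, eval_prod, Fintype.prod_sum_type, ← Finset.prod_mul_distrib]
        refine Finset.prod_eq_one fun j _ => ?_
        simp only [g, f, Sum.elim_inl, Sum.elim_inr, eval_sub, eval_X, eval_C, zero_sub, neg_mul_neg]
        rw [← pow_add, Nat.add_sub_cancel' (by omega), hζ.pow_eq_one]
      rw [Matrix.det_eq_sign_charpoly_coeff, hYc, coeff_zero_eq_eval_zero, eval_mul, h0, eval_pow, eval_sub, eval_X,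
        eval_C, zero_sub, mul_one, Fintype.card_fin, ← pow_add, Even.neg_one_pow ⟨e + t, by omega⟩]
    · intro w hw
      have key : ∀ a, ζ ^ f a = w := fun a => by
        have h := congrArg (eval (ζ ^ f a)) hYc
        rw [hprod, eval_mul, eval_prod, Finset.prod_eq_zero (Finset.mem_univ a) (by simp [g]), mul_zero, hw,
          show (w • (1 : Matrix (Fin n) (Fin n) F)) = Matrix.diagonal fun _ => w from Matrix.smul_one_eq_diagonal w,
          Matrix.charpoly_diagonal, eval_prod, Finset.prod_eq_zero_iff] at h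
        obtain ⟨_, -, h⟩ := h
        simpa [sub_eq_zero] using h
      have := hζ.pow_inj (hflt _).2 (hflt _).2 ((key (Sum.inl ⟨0, ht1⟩)).trans (key (Sum.inr ⟨0, ht1⟩)).symm)
      simp [f] at this
      omega
  obtain ⟨w₀, l, hw, hmw, hl⟩ := derange (p := p) hF hrp H hi hb L e hL he hgood
  have hmem : ∀ u ∈ L, u ∈ factorSet F r := fun u hu => atom_self (p := p) hF hrp hi hb one_pos (hL u hu)
  have hnd : L.Nodup := Finset.univ.nodup.map fun a b h => hfinj (hζ.pow_inj (hflt a).2 (hflt b).2 (by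
    have h' := congrArg (fun P => P.coeff 0) h
    simpa [g, ← map_pow] using h'))
  have hzero : ∑ g ∈ factorSet F r, l g = 0 := Finset.sum_eq_zero fun u hu => by
    obtain ⟨k, hk, hkd⟩ := hl u hu ((UNondeg.self_dual (p := p) hF hr2 hrp hi hu).mpr (by rw [hi2]))
    have h1 := hk.trans (SpIso.count_bound (fun v hv => ⟨(mem_factorSet v (hmem v hv)).1, (mem_factorSet v (hmem v hv)).2.1⟩)
      (mem_factorSet u hu).1 (mem_factorSet u hu).2.1 hkd)
    have h2 := Multiset.nodup_iff_count_le_one.mp hnd u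
    omega
  rw [hzero] at hmw
  omega

theorem bad_nec (hn : 0 < n) (hr2 : r ≠ 2) (hd : r ∣ q + 1) (H : AllTI hF r n m) :
    r ∣ m ∨ padicValNat r n ≤ padicValNat r (q + 1) := by
  have hr : r.Prime := Fact.out
  by_contra hcon
  rw [not_or, not_le] at hcon
  obtain ⟨z, hzq, hz, hrn, hdet⟩ := (UNondeg.bad_odd hF hr2 hd hn).mpr hcon.2
  obtain ⟨X, hX, hXd, hXz⟩ := UNondeg.bad_elt hF hn hzq hrn hdet
  have hns : ∀ w : F, X ≠ w • 1 := by
    intro w hw
    have h1 : w ^ (q + 1) = 1 := by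
      have h := congrFun (congrFun hX ⟨0, hn⟩) ⟨0, hn⟩
      rw [hw, cst_smul, cst_one, smul_mul_assoc, one_mul, smul_smul, mul_comm, UNondeg.mul_conj hF] at h
      simpa using h
    have h2 : w ^ r = z ^ 1 := by
      have h := congrFun (congrFun hXz ⟨0, hn⟩) ⟨0, hn⟩
      rw [hw, _root_.smul_pow, one_pow] at h
      simpa using h
    exact hr.not_dvd_one (UNondeg.dvd_of_root hF hd hzq hz h1 h2)
  obtain ⟨W, hWd, hWt, hWi⟩ := H X hX hXd z hXz hns
  have hz0 : z ≠ 0 := fun e => by rw [e, zero_pow q.succ_ne_zero] at hzq; exact zero_ne_one hzq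
  have hirr : Irreducible (Polynomial.X ^ r - C z : F[X]) := X_pow_sub_C_irreducible_of_prime hr fun b hb =>
    UNondeg.no_root hF hr2 hd hzq hz b (fun e => hz0 (by rw [← hb, e, zero_pow hr.ne_zero])) 1 hr.not_dvd_one
      (by rw [hb, pow_one])
  have hTr : Matrix.toLin' X ^ r = z • 1 := by rw [← Matrix.toLin'_pow, hXz, map_smul, Matrix.toLin'_one]; rfl
  obtain ⟨k, -, hk⟩ := SpIso.chi_pow (PrimeOrd.res (Matrix.toLin' X) (show PrimeOrd.Inv _ W from hWi))
    (monic_X_pow_sub_C z hr.ne_zero) hirr (by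
      rw [map_sub, map_pow, aeval_X, aeval_C, PrimeOrd.res_scalar _ hTr, Algebra.algebraMap_eq_smul_one]
      exact sub_self _)
  rw [hWd, natDegree_X_pow_sub_C] at hk
  exact hcon.1 (Dvd.intro k hk.symm)

/-- Elements of prime order and totally isotropic subspaces. -/
theorem main (hn : 3 ≤ n) (hm : 1 ≤ m) (hmn : 2 * m ≤ n)
    (hΩ : r ∣ Nat.card {W : Submodule F (Fin n → F) // Module.finrank F ↥W = m ∧
      (∀ u ∈ W, ∀ v ∈ W, Cfsg.hermForm n F q u v = 0)})
    (i b c : ℕ) (hi : i = orderOf (q : ZMod r)) (hb : b = if Even i then i / 2 else i) (hc : c = cval i) :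
    AllTI hF r n m ↔
    ((r = 2 ∧ p ≠ 2 ∧ (2 * m < n ∨ padicValNat 2 (q + 1) ≤ padicValNat 2 n)) ∨
     (r ≠ p ∧ 2 < r ∧ b ≤ m ∧ 2 * (m % b) ≤ n % c ∧
       (i % 4 ≠ 2 ∨ (i % 4 = 2 ∧ (r - 1) / b + 2 * (m / b) ≤ n / b ∧
         (2 < i ∨ (i = 2 ∧ (r ∣ m ∨ padicValNat r n ≤ padicValNat r (q + 1)))))))) := by
  have hr : r.Prime := Fact.out
  obtain ⟨hrp, l, hl1, hl2, hl⟩ := count_facts (p := p) hF hm hmn hΩ
  by_cases hr2 : r = 2
  · rw [two_case (p := p) hF (by omega) hmn hrp hr2]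
    subst hr2
    exact ⟨fun h => Or.inl ⟨rfl, Ne.symm hrp, h⟩, fun h => h.elim (fun h => h.2.2) fun h => absurd h.2.1 (by omega)⟩
  have hr2' : 2 < r := lt_of_le_of_ne hr.two_le (Ne.symm hr2)
  have hi0 := UNondeg.order_pos (p := p) hF hrp hi
  obtain ⟨hb0, hc0, hcb, hc2⟩ := shape (p := p) hF hrp hi hb hc
  obtain ⟨t, ht⟩ := UNondeg.cval_dvd hr2 hi hi0 hl
  rw [← hc] at ht
  have hcn : c ≤ n := (Nat.le_of_dvd (by omega) (Dvd.intro t ht.symm)).trans hl2
  have hemod : n % c < 2 * m := by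
    rw [show n = c * t + (n - l) by omega, Nat.mul_add_mod]
    exact (Nat.mod_le _ _).trans_lt (by omega)
  constructor
  · intro H
    refine Or.inr ⟨hrp, hr2', ?_⟩
    by_cases hi2 : i = 2
    · obtain rfl : b = 1 := by rw [hb, hi2]; simp
      obtain rfl : c = 1 := hcb (by rw [hi2])
      have hd := (UNondeg.order_two_iff (p := p) hF hr2 hrp hi).mp hi2
      refine ⟨hm, by omega, Or.inr ⟨by rw [hi2], ?_, Or.inr ⟨hi2, bad_nec hF (by omega) hr2 hd H⟩⟩⟩
      simp only [Nat.div_one]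
      exact torus_nec (p := p) hF (by omega) hm hr2 hrp hd hmn hi H
    · obtain ⟨h1, h2, h3⟩ := generic_nec (p := p) hF (by omega) hr2 hrp
        (fun h => hi2 ((UNondeg.order_two_iff (p := p) hF hr2 hrp hi).mpr h)) hmn hi hb hc hcn hemod H
      refine ⟨h1, h2, ?_⟩
      by_cases h4 : i % 4 = 2
      · exact Or.inr ⟨h4, h3 h4, Or.inl (by omega)⟩
      · exact Or.inl h4
  · rintro (⟨h, -⟩ | ⟨-, -, -, hA, hB⟩) X hX hXd z hXz -
    · exact absurd h hr2
    have hB' : i % 4 = 2 → (r - 1) / b + 2 * (m / b) ≤ n / b := fun h4 => by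
      rcases hB with h | ⟨-, h, -⟩
      · exact absurd h4 h
      · exact h
    obtain ⟨hzq, -⟩ := UNondeg.scalar_facts hF (by omega) hX hXd hXz
    have finish : ∀ w : F, w ^ (q + 1) = 1 → w ^ r = z → TI (stdHerm n hF) m (Matrix.toLin' X) := fun w hw hwr => by
      have hw0 : w ≠ 0 := fun e => by rw [e, zero_pow q.succ_ne_zero] at hw; exact zero_ne_one hw
      obtain ⟨hY, hYr, -⟩ := UNondeg.normalise (m := m) hF hX hXz hw hwr
      have h := suff (p := p) hF hr2 hrp hmn hi hb hc hA hB' hY hYr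
      rwa [map_smul, ti_smul (inv_ne_zero hw0)] at h
    by_cases hd : r ∣ q + 1
    · by_cases hz : z ^ ((q + 1) / r) = 1
      · obtain ⟨w, hw, hwr⟩ := UNondeg.root_of_power hF hd hzq hz
        exact finish w hw hwr
      have hi2 : i = 2 := (UNondeg.order_two_iff (p := p) hF hr2 hrp hi).mpr hd
      obtain ⟨hrn, hdet⟩ := UNondeg.det_odd hF hr2 hd hzq hz hXz
      have hbad : UNondeg.BadScalar F q r n :=
        ⟨z, hzq, hz, hrn, by rw [(hr.even_sub_one hr2).neg_one_pow, one_mul, ← hdet, hXd]⟩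
      have hlt := (UNondeg.bad_odd hF hr2 hd (by omega)).mp hbad
      have hrm : r ∣ m := by
        rcases hB with h | ⟨-, -, h | ⟨-, h | h⟩⟩
        · omega
        · omega
        · exact h
        · omega
      have hz0 : z ≠ 0 := fun e => by rw [e, zero_pow q.succ_ne_zero] at hzq; exact zero_ne_one hzq
      have hirr : Irreducible (Polynomial.X ^ r - C z : F[X]) := X_pow_sub_C_irreducible_of_prime hr fun b hb =>
        UNondeg.no_root hF hr2 hd hzq hz b (fun e => hz0 (by rw [← hb, e, zero_pow hr.ne_zero])) 1 hr.not_dvd_one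
          (by rw [hb, pow_one])
      exact stable_rot (p := p) hF hrp hzq hirr hmn hrm hrn hX hXz
    · obtain ⟨w, hw, hwr⟩ := UNondeg.root_of_coprime (by omega : 0 < q + 1) (hr.coprime_iff_not_dvd.mpr hd) hzq
      exact finish w hw hwr

end Cfsg.Lib.Classical.UIsoEl
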