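import Mathlib
import Cfsg.Agent.Classical.Unitary.OrthSub

set_option autoImplicit false
set_option linter.unusedVariables false
set_option linter.unusedSimpArgs false
set_option linter.style.haveILetI false

/-! An overgroup of the symmetric rational stabiliser that moves a point contains a root group. -/

namespace Cfsg.Lib.Classical

universe u v w

variable {F : Type u} [Field F] {V : Type v} [AddCommGroup V] [Module F V]

namespace HermSpace

variable {H : HermSpace F V} {F₀ : Subfield F} {K : Subgroup H.SIsom}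

namespace OrthStructure

variable {V₀ : Type w} [AddCommGroup V₀] [Module F₀ V₀] {ι : V₀ →+ V} {τ : F}
  (S : H.OrthStructure F₀ ι τ)
  (hM : ∀ g : H.SIsom, (∃ a : F, a ≠ 0 ∧ ∀ u, ∃ r, g.1.1 (ι u) = a • ι r) → g ∈ K)

include S hM

theorem axes_transfer {x y : V} (hy : H.Axes F₀ K x y) {v w : V₀} (hv : S.form v v = 0) (hw : S.form w v = 0)
    (hww : S.form w w = 0) (hxv : H.h x (ι v) = 0) (hxw : H.h x (ι w) = 0) :
    H.Axes F₀ K x (H.h y (ι v) • ι w - H.h y (ι w) • ι v) := by
  have ha : (0 : F) + H.σ 0 = -H.h (ι w) (ι w) := by rw [S.h_eq_zero hww, map_zero, add_zero, neg_zero]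
  have hm : H.sS (S.h_eq_zero hv) (S.h_eq_zero hw) ha ∈ K :=
    hM _ ⟨1, one_ne_zero, S.sS_rational _ _ F₀.zero_mem ha⟩
  have h1 := hy.map hm
  rw [sS_apply, sS_apply, hxv, hxw, zero_smul, mul_zero, sub_zero, zero_smul, add_zero, add_zero] at h1
  have h2 := h1.sub hy
  convert h2 using 1
  module

omit hM in
theorem coef_eq_zero {A B : F₀} (h : (A : F) + τ * B = 0) : A = 0 ∧ B = 0 := by
  have h' := congrArg H.σ h
  rw [map_add, map_mul, S.fixed, S.fixed, map_zero, eq_neg_of_add_eq_zero_right S.skew] at h'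
  have h3 : (2 : F) * (A : F) = 0 := by linear_combination h + h'
  have h4 : (A : F) = 0 := (mul_eq_zero.mp h3).resolve_left S.two
  rw [h4, zero_add] at h
  exact ⟨Subtype.ext h4, Subtype.ext ((mul_eq_zero.mp h).resolve_left S.ne_zero)⟩

omit hM in
theorem exists_coef (c : F) : ∃ a b : F₀, c = a + τ * b := by
  have h2 := S.two
  have h0 := S.ne_zero
  have hσ := eq_neg_of_add_eq_zero_right S.skew
  have ha : (c + H.σ c) / 2 ∈ F₀ := S.fixed_mem _ (by
    rw [map_div₀, map_add, H.conj.invol, map_ofNat]; ring)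
  have hb : (c - H.σ c) / (2 * τ) ∈ F₀ := S.fixed_mem _ (by
    rw [map_div₀, map_sub, map_mul, H.conj.invol, map_ofNat, hσ]; field_simp; ring)
  exact ⟨⟨_, ha⟩, ⟨_, hb⟩, by field_simp; ring⟩

omit hM in
theorem parts_eq {r s r' s' : V₀} (h : ι r + τ • ι s = ι r' + τ • ι s') : r = r' ∧ s = s' := by
  have key : ∀ u, S.form (r - r') u = 0 ∧ S.form (s - s') u = 0 := fun u => S.coef_eq_zero (by
    have := congrArg (fun z => H.h z (ι u)) h
    simp only [H.add_left, H.smul_left] at this
    rw [S.coe_form, S.coe_form, map_sub, map_sub, H.sub_left, H.sub_left]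
    linear_combination this)
  exact ⟨sub_eq_zero.mp (S.form_nondegenerate.1 _ fun u => (key u).1),
    sub_eq_zero.mp (S.form_nondegenerate.1 _ fun u => (key u).2)⟩

/-- A rational Siegel element fixing `x` shifts the axes at `x`. -/
theorem axes_shift {x y : V} (hy : H.Axes F₀ K x y) {v a : V₀} (hv : S.form v v = 0) (hav : S.form a v = 0)
    (hxv : H.h x (ι v) = 0) (hxa : H.h x (ι a) = 0) :
    H.Axes F₀ K x (H.h y (ι v) • ι a + (-H.h (ι a) (ι a) / 2 * H.h y (ι v) - H.h y (ι a)) • ι v) := by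
  have ha0 : -H.h (ι a) (ι a) / 2 ∈ F₀ := by
    rw [show -H.h (ι a) (ι a) / 2 = ((-(S.form a a) / 2 : F₀) : F) by push_cast [S.coe_form]; rfl]
    exact SetLike.coe_mem _
  have ha : -H.h (ι a) (ι a) / 2 + H.σ (-H.h (ι a) (ι a) / 2) = -H.h (ι a) (ι a) := by
    rw [S.fixed ⟨_, ha0⟩]
    have := S.two
    field_simp
    ring
  have hm : H.sS (S.h_eq_zero hv) (S.h_eq_zero hav) ha ∈ K :=
    hM _ ⟨1, one_ne_zero, S.sS_rational _ _ ha0 ha⟩
  have h1 := hy.map hm
  rw [sS_apply, sS_apply, hxv, hxa, zero_smul, mul_zero, sub_zero, zero_smul, add_zero, add_zero] at h1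
  have h2 := h1.sub hy
  convert h2 using 1
  abel

/-- No image of a rational point has a non-degenerate span of parts. -/
theorem not_nondeg_image [Finite F] [FiniteDimensional F V] [FiniteDimensional F₀ V₀]
    (hd : 6 ≤ Module.finrank F₀ V₀) (hno : ∀ x ∈ H.uCentres K, x = 0) {g : H.SIsom} (hg : g ∈ K)
    {w₀ : V₀} (hw₀ : S.form w₀ w₀ = 0) (hw₀0 : w₀ ≠ 0) {r s : V₀} (hrs : g.1.1 (ι w₀) = ι r + τ • ι s)
    (hnd : ¬ (S.form r r = 0 ∧ S.form r s = 0)) : False := by
  set x := g.1.1 (ι w₀) with hx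
  have hxxz : H.h x x = 0 := by rw [hx, H.map_form, S.h_eq_zero hw₀]
  have hxp : ∀ {p : V₀}, S.form p r = 0 → S.form p s = 0 → H.h x (ι p) = 0 := fun h1 h2 => by
    apply H.eq_zero_symm
    rw [hrs, H.add_right, H.smul_right, S.h_eq_zero h1, S.h_eq_zero h2, mul_zero, add_zero]
  have hν : τ * τ ∈ F₀ := S.fixed_mem _ (by rw [map_mul, eq_neg_of_add_eq_zero_right S.skew, neg_mul_neg])
  have hQ : (S.form r r : F) = τ * τ * (S.form s s : F) := by
    have h := hxxz
    rw [hrs] at h
    simp only [H.add_left, H.add_right, H.smul_left, H.smul_right, eq_neg_of_add_eq_zero_right S.skew,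
      ← S.coe_form] at h
    rw [S.form_symm s r] at h
    linear_combination h
  -- the span of the two parts is non-degenerate
  have hrad : ∀ α β : F₀, α * S.form r r + β * S.form r s = 0 → α * S.form r s + β * S.form s s = 0 →
      α = 0 ∧ β = 0 := by
    intro α β h1 h2
    have hdet : S.form r r * S.form s s - S.form r s * S.form r s ≠ 0 := by
      intro h
      have hF := congrArg (Subtype.val : F₀ → F) h
      push_cast at hF
      have h' : ((S.form r r : F) - τ * (S.form r s : F)) * ((S.form r r : F) + τ * (S.form r s : F)) = 0 := by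
        linear_combination (τ * τ) * hF + (S.form r r : F) * hQ
      rcases mul_eq_zero.mp h' with h'' | h''
      · have := S.coef_eq_zero (A := S.form r r) (B := -S.form r s) (by push_cast; linear_combination h'')
        exact hnd ⟨this.1, neg_eq_zero.mp this.2⟩
      · exact hnd (S.coef_eq_zero h'')
    constructor
    · exact (mul_eq_zero.mp (show α * (S.form r r * S.form s s - S.form r s * S.form r s) = 0 by
        linear_combination S.form s s * h1 - S.form r s * h2)).resolve_right hdet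
    · exact (mul_eq_zero.mp (show β * (S.form r r * S.form s s - S.form r s * S.form r s) = 0 by
        linear_combination S.form r r * h2 - S.form r s * h1)).resolve_right hdet
  have hrat : ∀ (a : F) (p : V₀), x ≠ a • ι p := by
    intro a p he
    obtain ⟨a₁, a₂, ha⟩ := S.exists_coef a
    obtain ⟨hr, hs⟩ := S.parts_eq (r := r) (s := s) (r' := a₁ • p) (s' := a₂ • p) (by
      rw [← hrs, he, ha, S.smul, S.smul, add_smul, mul_smul])
    have ha0 : a ≠ 0 := fun h => H.isom_ne_zero g.1 (fun h' => hw₀0 (S.inj _ h')) (he.trans (by rw [h, zero_smul]))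
    have hpp : S.form p p = 0 := by
      have h := hxxz
      rw [he, H.smul_left, H.smul_right, ← S.coe_form, mul_eq_zero, mul_eq_zero] at h
      exact Subtype.ext ((h.resolve_left ha0).resolve_left ((map_ne_zero _).mpr ha0))
    exact hnd ⟨by simp [hr, hpp], by simp [hr, hs, hpp]⟩
  have hne : ∀ {x' : V}, x' ≠ 0 → x' ∉ H.uCentres K := fun h h' => h (hno _ h')
  -- a pair and an anisotropic vector
  obtain ⟨u, w, hu, hw, huu, hww, huw⟩ := S.exists_pair_of_rad ![r, s] (d := 0) (by
    refine le_of_eq (Submodule.finrank_eq_zero.mpr (eq_bot_iff.mpr ?_))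
    rintro y ⟨hy1, hy2⟩
    obtain ⟨c, hc⟩ := (Submodule.mem_span_range_iff_exists_fun F₀).mp hy1
    have e1 : S.form r y = 0 := hy2 r (Submodule.subset_span ⟨0, rfl⟩)
    have e2 : S.form s y = 0 := hy2 s (Submodule.subset_span ⟨1, rfl⟩)
    simp only [Fin.sum_univ_two, Matrix.cons_val] at hc
    rw [← hc] at e1 e2 ⊢
    simp only [map_add, map_smul, smul_eq_mul, S.form_symm s r] at e1 e2
    obtain ⟨h1, h2⟩ := hrad _ _ e1 e2
    rw [h1, h2, zero_smul, zero_smul, add_zero]
    exact Submodule.zero_mem _) (by omega)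
  have hur : S.form u r = 0 := hu 0
  have hus : S.form u s = 0 := hu 1
  have hwr : S.form w r = 0 := hw 0
  have hws : S.form w s = 0 := hw 1
  have hu0 : u ≠ 0 := fun h => by rw [h, LinearMap.map_zero₂] at huw; exact zero_ne_one huw
  obtain ⟨a, har, has, hau, haw, haa⟩ : ∃ a, S.form a r = 0 ∧ S.form a s = 0 ∧ S.form a u = 0 ∧
      S.form a w = 0 ∧ S.form a a ≠ 0 := by
    set U := Submodule.span F₀ (Set.range ![r, s, u, w]) with hU
    set T := LinearMap.BilinForm.orthogonal S.form U with hT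
    have hmem : ∀ a ∈ T, ∀ i, S.form a (![r, s, u, w] i) = 0 := fun a ha i =>
      S.form_isRefl _ _ (ha _ (Submodule.subset_span ⟨i, rfl⟩))
    by_contra hall
    push Not at hall
    have hzero : ∀ a ∈ T, S.form a a = 0 := fun a ha =>
      hall a (hmem a ha 0) (hmem a ha 1) (hmem a ha 2) (hmem a ha 3)
    have hTU : T ≤ U := by
      intro a ha
      rw [← LinearMap.BilinForm.orthogonal_orthogonal S.form_nondegenerate S.form_isRefl U]
      intro b hb
      have h := hzero (a + b) (T.add_mem ha hb)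
      simp only [map_add, LinearMap.add_apply, hzero a ha, hzero b hb, zero_add, add_zero] at h
      rw [S.form_symm a b, ← two_mul] at h
      exact (mul_eq_zero.mp h).resolve_left S.two_ne_zero'
    obtain ⟨t, ht, ht0⟩ := T.exists_mem_ne_zero_of_ne_bot fun h => by
      have h1 : Module.finrank F₀ T = Module.finrank F₀ V₀ - Module.finrank F₀ U :=
        LinearMap.BilinForm.finrank_orthogonal S.form_nondegenerate U
      have h2 : Module.finrank F₀ U ≤ 4 := (finrank_range_le_card _).trans_eq (Fintype.card_fin 4)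
      rw [h, finrank_bot] at h1
      omega
    obtain ⟨c, hc⟩ := (Submodule.mem_span_range_iff_exists_fun F₀).mp (hTU ht)
    simp only [Fin.sum_univ_four, Matrix.cons_val] at hc
    have e1 : S.form t r = 0 := hmem t ht 0
    have e2 : S.form t s = 0 := hmem t ht 1
    have e3 : S.form t u = 0 := hmem t ht 2
    have e4 : S.form t w = 0 := hmem t ht 3
    rw [← hc] at e1 e2 e3 e4 ht0
    simp only [map_add, map_smul, LinearMap.add_apply, LinearMap.smul_apply, smul_eq_mul, huu, hww, huw,
      S.form_symm w u, S.form_symm r u, S.form_symm s u, S.form_symm r w, S.form_symm s w, hur, hus, hwr, hws,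
      S.form_symm s r, mul_zero, mul_one, add_zero, zero_add] at e1 e2 e3 e4
    obtain ⟨h1, h2⟩ := hrad _ _ e1 e2
    exact ht0 (by rw [h1, h2, e3, e4]; simp)
  have hαF : (S.form a a : F) ≠ 0 := fun h => haa (Subtype.ext h)
  have hxu := hxp hur hus
  have hxa := hxp har has
  -- an axis with a nonzero product with `u`
  obtain ⟨y, hy, hyu0⟩ : ∃ y, H.Axes F₀ K x y ∧ H.h y (ι u) ≠ 0 := by
    by_contra hc
    push Not at hc
    obtain ⟨p₀, hp₀⟩ : ∃ p, S.form p w₀ = 1 := by
      obtain ⟨q, hq⟩ : ∃ q, S.form q w₀ ≠ 0 := by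
        by_contra hc'
        push Not at hc'
        exact hw₀0 (S.form_nondegenerate.2 w₀ hc')
      exact ⟨(S.form q w₀)⁻¹ • q, by rw [map_smul, LinearMap.smul_apply, smul_eq_mul, inv_mul_cancel₀ hq]⟩
    set z := (g⁻¹).1.1 (ι u)
    have hgz : g.1.1 z = ι u := H.apply_inv_self g.1 _
    have hz : ∀ q, S.form q w₀ = 0 → H.h (ι q) z = 0 := fun q hq => by
      rw [← H.map_form g.1, hgz]
      exact hc _ ((S.axes_rational hM hw₀ hq).map hg)
    have hzw : z = H.σ (H.h (ι p₀) z) • ι w₀ := by
      refine sub_eq_zero.mp (S.eq_zero_of_orth fun q => H.eq_zero_symm ?_)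
      have hq := hz (q - S.form q w₀ • p₀) (by
        rw [map_sub, map_smul, LinearMap.sub_apply, LinearMap.smul_apply, hp₀, smul_eq_mul, mul_one, sub_self])
      rw [map_sub, S.smul, H.sub_left, H.smul_left, sub_eq_zero, S.coe_form] at hq
      rw [H.sub_right, H.smul_right, H.conj.invol, hq, mul_comm, sub_self]
    set c := H.σ (H.h (ι p₀) z)
    have hux : ι u = c • x := by rw [← hgz, hzw, map_smul]
    have hc0 : c ≠ 0 := fun h => hu0 (S.inj u (by rw [hux, h, zero_smul]))
    exact hrat c⁻¹ u (by rw [hux, smul_smul, inv_mul_cancel₀ hc0, one_smul])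
  -- an axis proportional to `u`
  set μ := H.h y (ι u) * H.h (ι a) (ι a) with hμ
  have hμ0 : μ ≠ 0 := mul_ne_zero hyu0 (by rw [← S.coe_form]; exact hαF)
  have hau' : H.h (ι a) (ι u) = 0 := S.h_eq_zero hau
  have hμu : H.Axes F₀ K x (μ • ι u) := by
    have h1 := S.axes_shift hM hy huu hau hxu hxa
    have h2 := (S.axes_shift hM h1 huu hau hxu hxa).smul (-1)
    rw [NegMemClass.coe_neg, OneMemClass.coe_one, neg_one_smul] at h2
    convert h2 using 1
    simp only [H.add_left, H.smul_left, hau', S.h_eq_zero huu, H.eq_zero_symm hau', hμ]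
    module
  -- the second element
  obtain ⟨hxx, hy1, a', ha', hg₁⟩ := hμu 1
  set g₁ := H.sS hxx hy1 ha' with hg₁def
  have hg₁app : ∀ z, g₁.1.1 z = z + (H.h z x * μ) • ι u + (a' * H.h z x - H.σ μ * H.h z (ι u)) • x := fun z => by
    rw [hg₁def, sS_apply, OneMemClass.coe_one, one_smul, H.smul_right, smul_smul]
  set x₁ := g₁.1.1 (ι w) with hx₁
  have hwx : H.h (ι w) x = 0 := H.eq_zero_symm (hxp hwr hws)
  have hxw : H.h x (ι w) = 0 := hxp hwr hws
  have hwu : H.h (ι w) (ι u) = 1 := by rw [S.real', S.h_eq huw]; rfl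
  have hx₁e : x₁ = ι w - H.σ μ • x := by
    rw [hx₁, hg₁app, hwx, hwu]
    module
  have hg₁a : g₁.1.1 (ι a) = ι a := by
    rw [hg₁app, H.eq_zero_symm hxa, hau']
    module
  -- `w` is an axis at `x₁`
  have hA : H.Axes F₀ K x₁ (ι w) := by
    have h0 := (S.axes_rational hM hww haw).map hg₁
    rw [hg₁a, ← hx₁] at h0
    have hx₁w : H.h x₁ (ι w) = 0 := by
      rw [hx₁e, H.sub_left, H.smul_left, S.h_eq_zero hww, hxw, mul_zero, sub_zero]
    have hx₁a : H.h x₁ (ι a) = 0 := by
      rw [hx₁e, H.sub_left, H.smul_left, H.eq_zero_symm (S.h_eq_zero haw), hxa, mul_zero, sub_zero]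
    have h := (S.axes_shift hM h0 hww haw hx₁w hx₁a).smul (-(S.form a a)⁻¹)
    convert h using 1
    rw [S.h_eq_zero haw, zero_smul, zero_add, mul_zero, zero_sub, smul_smul, ← S.coe_form]
    push_cast
    rw [neg_mul_neg, inv_mul_cancel₀ hαF, one_smul]
  have hx₁0 : x₁ ≠ 0 := H.isom_ne_zero g₁.1 (fun h => by
    rw [h, H.zero_left] at hwu; exact zero_ne_one hwu)
  -- all products are real
  have hreal : ∀ p, S.form p w = 0 → μ * H.h (ι p) x ∈ F₀ := by
    intro p hp
    have hP := (S.axes_rational hM hww hp).map hg₁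
    rw [← hx₁] at hP
    have h := by_contra fun h => hne hx₁0 (hP.centre S.fixed_mem hA h)
    rw [hg₁app, H.add_left, H.add_left, H.smul_left, H.smul_left, H.eq_zero_symm hwx, mul_zero, add_zero,
      show H.h (ι u) (ι w) = 1 by rw [S.h_eq huw]; rfl, mul_one] at h
    have h2 := F₀.sub_mem h (S.real p w)
    rwa [add_sub_cancel_left, mul_comm] at h2
  obtain ⟨p', p'', hp⟩ := S.span (H.σ μ • x)
  have hall : ∀ p, H.h (ι p) (H.σ μ • x) ∈ F₀ := by
    intro p
    have h := hreal (p - S.form p w • u) (by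
      rw [map_sub, map_smul, LinearMap.sub_apply, LinearMap.smul_apply, huw, smul_eq_mul, mul_one, sub_self])
    rw [map_sub, S.smul, H.sub_left, H.smul_left, H.eq_zero_symm hxu, mul_zero, sub_zero] at h
    rw [H.smul_right, H.conj.invol]
    exact h
  have hp'' : p'' = 0 := by
    refine S.form_nondegenerate.2 p'' fun q => ?_
    have h := hall q
    rw [hp, H.add_right, H.smul_right] at h
    have h' := F₀.sub_mem h (S.real q p')
    rw [add_sub_cancel_left, eq_neg_of_add_eq_zero_right S.skew, neg_mul] at h'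
    exact (S.coef_eq_zero (A := ⟨_, h'⟩) (B := S.form q p'') (by
      change -(τ * H.h (ι q) (ι p'')) + τ * (S.form q p'' : F) = 0
      rw [S.coe_form]; ring)).2
  rw [hp'', map_zero, smul_zero, add_zero] at hp
  have hσμ : H.σ μ ≠ 0 := (map_ne_zero _).mpr hμ0
  exact hrat (H.σ μ)⁻¹ p' (by rw [← hp, smul_smul, inv_mul_cancel₀ hσμ, one_smul])

/-- Outside the stabiliser there is a centre. -/
theorem point_rational [Finite F] [FiniteDimensional F V] [FiniteDimensional F₀ V₀]
    (hd : 6 ≤ Module.finrank F₀ V₀) (hno : ∀ x ∈ H.uCentres K, x = 0) {g : H.SIsom} (hg : g ∈ K)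
    {w₀ : V₀} (hw₀ : S.form w₀ w₀ = 0) (hw₀0 : w₀ ≠ 0) :
    ∃ (a : F) (p : V₀), g.1.1 (ι w₀) = a • ι p := by
  by_contra hrat
  push Not at hrat
  set x := g.1.1 (ι w₀) with hx
  obtain ⟨r, s, hrs⟩ := S.span x
  have hxxz : H.h x x = 0 := by rw [hx, H.map_form, S.h_eq_zero hw₀]
  by_cases hnd : S.form r r = 0 ∧ S.form r s = 0
  swap
  · exact S.not_nondeg_image hM hd hno hg hw₀ hw₀0 hrs hnd
  obtain ⟨hrr, hrs0⟩ := hnd
  have hστ := eq_neg_of_add_eq_zero_right S.skew
  have hν : τ * τ ∈ F₀ := S.fixed_mem _ (by rw [map_mul, hστ, neg_mul_neg])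
  set ν : F₀ := ⟨_, hν⟩ with hνdef
  have hss : S.form s s = 0 := by
    have h := hxxz
    rw [hrs] at h
    simp only [H.add_left, H.add_right, H.smul_left, H.smul_right, hστ, ← S.coe_form] at h
    rw [S.form_symm s r, hrs0, hrr] at h
    refine Subtype.ext ((mul_eq_zero.mp (show (τ * τ) * (S.form s s : F) = 0 from ?_)).resolve_left
      (mul_ne_zero S.ne_zero S.ne_zero))
    simp only [ZeroMemClass.coe_zero] at h
    linear_combination -h
  -- the two parts are independent
  have hs0 : s ≠ 0 := fun h => hrat 1 r (by rw [hrs, h, map_zero, smul_zero, add_zero, one_smul])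
  have hind : ∀ k : F₀, r ≠ k • s := fun k h => hrat ((k : F) + τ) s (by rw [hrs, h, S.smul, add_smul])
  -- duals
  have dual : ∀ (U : Submodule F₀ V₀) (v : V₀), v ∉ U → ∃ d, (∀ z ∈ U, S.form d z = 0) ∧ S.form d v = 1 := by
    intro U v hv
    obtain ⟨d, hd', hdv⟩ : ∃ d ∈ LinearMap.BilinForm.orthogonal S.form U, S.form d v ≠ 0 := by
      by_contra hc
      push Not at hc
      refine hv ?_
      rw [← LinearMap.BilinForm.orthogonal_orthogonal S.form_nondegenerate S.form_isRefl U]
      exact hc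
    refine ⟨(S.form d v)⁻¹ • d, fun z hz => ?_,
      by rw [map_smul, LinearMap.smul_apply, smul_eq_mul, inv_mul_cancel₀ hdv]⟩
    rw [map_smul, LinearMap.smul_apply, S.form_isRefl _ _ (hd' z hz), smul_zero]
  obtain ⟨t₀, ht₀, ht₀r⟩ := dual (Submodule.span F₀ {s}) r fun h => by
    obtain ⟨k, hk⟩ := Submodule.mem_span_singleton.mp h
    exact hind k hk.symm
  have ht₀s : S.form t₀ s = 0 := ht₀ s (Submodule.mem_span_singleton_self s)
  set t := t₀ - (S.form t₀ t₀ / 2) • r with ht
  have htr : S.form t r = 1 := by simp [ht, ht₀r, hrr]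
  have hts : S.form t s = 0 := by simp [ht, ht₀s, hrs0]
  have htt : S.form t t = 0 := by
    have h2 := S.two_ne_zero'
    simp only [ht, map_sub, map_smul, LinearMap.sub_apply, LinearMap.smul_apply, ht₀r, S.form_symm r t₀, hrr,
      smul_eq_mul, mul_zero, sub_zero, mul_one]
    field_simp
    ring
  obtain ⟨t₁, ht₁, ht₁s⟩ := dual (Submodule.span F₀ {r, t}) s fun h => by
    obtain ⟨α, β, hαβ⟩ := Submodule.mem_span_pair.mp h
    have e2 := congrArg (S.form t) hαβ
    have e1 := congrArg (S.form r) hαβ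
    simp [hrr, htr, htt, hts, S.form_symm r t, hrs0] at e1 e2
    exact hs0 (by rw [← hαβ, e1, e2, zero_smul, zero_smul, add_zero])
  have ht₁r : S.form t₁ r = 0 := ht₁ r (Submodule.subset_span (by simp))
  have ht₁t : S.form t₁ t = 0 := ht₁ t (Submodule.subset_span (by simp))
  set t' := t₁ - (S.form t₁ t₁ / 2) • s with ht'
  have ht'r : S.form t' r = 0 := by simp [ht', ht₁r, S.form_symm s r, hrs0]
  have ht's : S.form t' s = 1 := by simp [ht', ht₁s, hss]
  have ht't : S.form t' t = 0 := by simp [ht', ht₁t, S.form_symm s t, hts]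
  have ht't' : S.form t' t' = 0 := by
    have h2 := S.two_ne_zero'
    simp only [ht', map_sub, map_smul, LinearMap.sub_apply, LinearMap.smul_apply, ht₁s, S.form_symm s t₁, hss,
      smul_eq_mul, mul_zero, sub_zero, mul_one]
    field_simp
    ring
  -- an isotropic axis which is no multiple of `x`
  obtain ⟨v, hvv, hvw, hv⟩ : ∃ v, S.form v v = 0 ∧ S.form v w₀ = 0 ∧ v ∉ Submodule.span F₀ {w₀} := by
    by_contra hc
    push Not at hc
    have hle : LinearMap.ker (S.form w₀) ≤ Submodule.span F₀ {w₀} := fun z hz =>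
      Submodule.span_le.mpr (fun y hy => hc y hy.1 hy.2)
        (S.orth_le_span_iso hd hw₀0 hw₀ (S.form_isRefl _ _ hz))
    have h1 := Submodule.finrank_mono hle
    rw [finrank_span_singleton hw₀0] at h1
    have h2 := (S.form w₀).finrank_range_add_finrank_ker
    have h3 := Submodule.finrank_le (LinearMap.range (S.form w₀))
    rw [Module.finrank_self] at h3
    omega
  obtain ⟨a, b, hab⟩ := S.span (g.1.1 (ι v))
  have hw2 := S.h_eq_zero hw₀
  -- the moves along the axis
  have move : ∀ l : F₀, l * l = 1 → ∀ p, S.form p p = 0 → ∀ r' s' : V₀,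
      r' = p + l • (S.form p r • a - (ν * S.form p s) • b - S.form p a • r + (ν * S.form p b) • s) →
      s' = l • (S.form p r • b - S.form p s • a - S.form p a • s + S.form p b • r) →
      p ≠ 0 → S.form r' s' = 0 := by
    intro l _ p hpp r' s' hr' hs' hp0
    have hvl : H.h (ι (l • v)) (ι w₀) = 0 := S.h_eq_zero (by simp [hvw])
    have ha : (0 : F) + H.σ 0 = -H.h (ι (l • v)) (ι (l • v)) := by
      rw [S.h_eq_zero (show S.form (l • v) (l • v) = 0 by simp [hvv]), map_zero, add_zero, neg_zero]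
    have hm : H.sS hw2 hvl ha ∈ K := hM _ ⟨1, one_ne_zero, S.sS_rational _ _ F₀.zero_mem ha⟩
    set m := g * H.sS hw2 hvl ha * g⁻¹ with hmdef
    have hmK : m ∈ K := K.mul_mem (K.mul_mem hg hm) (K.inv_mem hg)
    by_contra hne
    refine S.not_nondeg_image hM hd hno hmK hpp hp0 (r := r') (s := s') ?_ fun h => hne h.2
    have e : ∀ z, H.h ((g⁻¹).1.1 (ι p)) z = H.h (ι p) (g.1.1 z) := fun z => by
      rw [← H.map_form g.1, show g.1.1 ((g⁻¹).1.1 (ι p)) = ι p from H.apply_inv_self g.1 _]
    simp only [hmdef, smul_mul_apply, sS_apply, map_add, map_smul, e, ← hx, hrs, hab]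
    rw [show g.1.1 ((g⁻¹).1.1 (ι p)) = ι p from H.apply_inv_self g.1 _, S.smul, map_smul, hab, hr', hs']
    simp only [map_add, map_sub, S.smul, H.smul_right, H.add_right, S.fixed, hστ, ← S.coe_form, hνdef]
    push_cast
    module
  have lin : ∀ p, S.form p p = 0 → S.form p r * S.form p b = S.form p s * S.form p a := by
    intro p hpp
    by_cases hp0 : p = 0
    · simp [hp0]
    have h1 := move 1 (one_mul 1) p hpp _ _ rfl rfl hp0
    have h2 := move (-1) (by ring) p hpp _ _ rfl rfl hp0
    simp only [map_add, map_sub, map_smul, LinearMap.add_apply, LinearMap.sub_apply, LinearMap.smul_apply,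
      smul_eq_mul] at h1 h2
    have h4 : (2 : F₀) * (2 * (S.form p r * S.form p b - S.form p s * S.form p a)) = 0 := by
      linear_combination h1 - h2
    exact sub_eq_zero.mp ((mul_eq_zero.mp ((mul_eq_zero.mp h4).resolve_left S.two_ne_zero')).resolve_left
      S.two_ne_zero')
  -- isotropic vectors outside one orthogonal span the other
  have out : ∀ (c d e f : V₀), S.form e e = 0 → S.form e c = 1 → S.form e d = 0 → S.form c c = 0 →
      S.form c d = 0 → S.form d d = 0 → c ∉ Submodule.span F₀ {d} →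
      (∀ p, S.form p p = 0 → S.form p d = 0 → S.form p c ≠ 0 → S.form p f = 0) → ∃ k : F₀, f = k • d := by
    intro c d e f hee hec hed hcc hcd hdd hcnd hf
    have hef : S.form e f = 0 := hf e hee hed (by rw [hec]; exact one_ne_zero)
    set U := Submodule.span F₀ (Set.range ![c, d, e]) with hU
    have hz : ∀ z ∈ LinearMap.BilinForm.orthogonal S.form U,
        S.form z f = 0 ∧ S.form z z * S.form c f = 0 := by
      intro z hz
      have hzU : ∀ i, S.form z (![c, d, e] i) = 0 := fun i =>
        S.form_isRefl _ _ (hz _ (Submodule.subset_span ⟨i, rfl⟩))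
      have hzc : S.form z c = 0 := hzU 0
      have hzd : S.form z d = 0 := hzU 1
      have hze : S.form z e = 0 := hzU 2
      have h2 := S.two_ne_zero'
      have hp : ∀ l : F₀, l * l = 1 → S.form z f * l - S.form z z / 2 * S.form c f = 0 := by
        intro l hl
        have h := hf (e + l • z - (S.form z z / 2) • c) (by
          simp only [map_add, map_sub, map_smul, LinearMap.add_apply, LinearMap.sub_apply, LinearMap.smul_apply,
            smul_eq_mul, hee, hec, hcc, hzc, hze, S.form_symm e z, S.form_symm c z, S.form_symm c e, mul_zero,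
            mul_one, zero_add, sub_zero, add_zero]
          field_simp
          linear_combination (2 * S.form z z) * hl)
          (by simp [hed, hzd, hcd]) (by simp [hec, hzc, hcc])
        simp only [map_add, map_sub, map_smul, LinearMap.add_apply, LinearMap.sub_apply, LinearMap.smul_apply,
          smul_eq_mul, hef, zero_add] at h
        linear_combination h
      have h1 := hp 1 (one_mul 1)
      have h3 := hp (-1) (by ring)
      constructor
      · exact (mul_eq_zero.mp (show (2 : F₀) * S.form z f = 0 by linear_combination h1 - h3)).resolve_left h2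
      · field_simp at h1 h3
        exact (mul_eq_zero.mp (show (2 : F₀) * (S.form z z * S.form c f) = 0 by
          linear_combination -h1 - h3)).resolve_left h2
    have hfU : f ∈ U := by
      rw [← LinearMap.BilinForm.orthogonal_orthogonal S.form_nondegenerate S.form_isRefl U]
      exact fun z hz' => (hz z hz').1
    obtain ⟨k, hk⟩ := (Submodule.mem_span_range_iff_exists_fun F₀).mp hfU
    simp only [Fin.sum_univ_three, Matrix.cons_val] at hk
    by_cases hcf : S.form c f = 0
    · rw [← hk] at hef hcf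
      simp only [map_add, map_smul, smul_eq_mul, hee, hec, hed, hcc, hcd, S.form_symm c e, mul_one,
        mul_zero, add_zero, zero_add] at hef hcf
      exact ⟨k 1, by rw [← hk, hef, hcf, zero_smul, zero_smul, zero_add, add_zero]⟩
    exfalso
    set T := LinearMap.BilinForm.orthogonal S.form U with hT
    have hzero : ∀ z ∈ T, S.form z z = 0 := fun z hz' => (mul_eq_zero.mp (hz z hz').2).resolve_right hcf
    have hTU : T ≤ U := by
      intro z hz'
      rw [← LinearMap.BilinForm.orthogonal_orthogonal S.form_nondegenerate S.form_isRefl U]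
      intro z' hz''
      have h := hzero (z + z') (T.add_mem hz' hz'')
      simp only [map_add, LinearMap.add_apply, hzero z hz', hzero z' hz'', zero_add, add_zero] at h
      rw [S.form_symm z z', ← two_mul] at h
      exact (mul_eq_zero.mp h).resolve_left S.two_ne_zero'
    have hTd : T ≤ Submodule.span F₀ {d} := by
      intro z hz'
      obtain ⟨c', hc'⟩ := (Submodule.mem_span_range_iff_exists_fun F₀).mp (hTU hz')
      simp only [Fin.sum_univ_three, Matrix.cons_val] at hc'
      have e1 : S.form c z = 0 := hz' c (Submodule.subset_span ⟨0, rfl⟩)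
      have e2 : S.form e z = 0 := hz' e (Submodule.subset_span ⟨2, rfl⟩)
      rw [← hc'] at e1 e2 ⊢
      simp only [map_add, map_smul, smul_eq_mul, hee, hec, hed, hcc, hcd, S.form_symm c e, mul_one,
        mul_zero, add_zero, zero_add] at e1 e2
      rw [e1, e2, zero_smul, zero_smul, zero_add, add_zero]
      exact Submodule.smul_mem _ _ (Submodule.mem_span_singleton_self d)
    have h1 := Submodule.finrank_mono hTd
    have h2 : Module.finrank F₀ (Submodule.span F₀ ({d} : Set V₀)) ≤ 1 := by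
      simpa using finrank_span_le_card (R := F₀) ({d} : Set V₀)
    have h3 : Module.finrank F₀ T = Module.finrank F₀ V₀ - Module.finrank F₀ U :=
      LinearMap.BilinForm.finrank_orthogonal S.form_nondegenerate U
    have h4 : Module.finrank F₀ U ≤ 3 := (finrank_range_le_card _).trans_eq (Fintype.card_fin 3)
    omega
  obtain ⟨k, hk⟩ := out r s t b htt htr hts hrr hrs0 hss (fun h => by
      obtain ⟨k, hk⟩ := Submodule.mem_span_singleton.mp h
      exact hind k hk.symm) fun p hpp hps hpr => by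
    have := lin p hpp
    rw [hps, zero_mul] at this
    exact (mul_eq_zero.mp this).resolve_left hpr
  obtain ⟨k', hk'⟩ := out s r t' a ht't' ht's ht'r hss (by rw [S.form_symm, hrs0]) hrr (fun h => by
      obtain ⟨j, hj⟩ := Submodule.mem_span_singleton.mp h
      rcases eq_or_ne j 0 with rfl | hj0
      · exact hs0 (by rw [← hj, zero_smul])
      · exact hind j⁻¹ (by rw [← hj, smul_smul, inv_mul_cancel₀ hj0, one_smul])) fun p hpp hpr hps => by
    have := lin p hpp
    rw [hpr, zero_mul] at this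
    exact (mul_eq_zero.mp this.symm).resolve_left hps
  have hkk : k = k' := by
    have := lin (t + t') (by simp [htt, ht't', ht't, S.form_symm t t'])
    simpa [hk, hk', htr, hts, ht'r, ht's] using this
  -- so the axis was a multiple of `x`
  refine hv (Submodule.mem_span_singleton.mpr ⟨k, ?_⟩)
  refine sub_eq_zero.mp (S.inj _ (g.1.1.map_eq_zero_iff.mp ?_))
  rw [map_sub, map_sub, S.smul, map_smul, ← hx, hrs, hab, hk, hk', ← hkk, S.smul, S.smul]
  module

/-- Moving every rational isotropic point rationally means lying in the stabiliser. -/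
theorem scaled_of_points [Finite F] [FiniteDimensional F₀ V₀] (hd : 6 ≤ Module.finrank F₀ V₀) {g : H.SIsom}
    (h : ∀ w, S.form w w = 0 → ∃ (a : F) (p : V₀), g.1.1 (ι w) = a • ι p) :
    ∃ a : F, a ≠ 0 ∧ ∀ u, ∃ r, g.1.1 (ι u) = a • ι r := by
  obtain ⟨w₀, v₀, -, -, hw₀, hv₀, hwv⟩ := S.exists_pair (k := 0) ![] (by omega)
  obtain ⟨a, p₀, hp₀⟩ := h w₀ hw₀
  have hw0 : ι w₀ ≠ 0 := fun e => by
    rw [S.inj _ e, LinearMap.map_zero₂] at hwv; exact zero_ne_one hwv
  have ha : a ≠ 0 := fun e => H.isom_ne_zero g.1 hw0 (by rw [hp₀, e, zero_smul])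
  have hNa : ∀ {b b' : F} {p p' : V₀} {u u' : V₀}, g.1.1 (ι u) = b • ι p → g.1.1 (ι u') = b' • ι p' →
      S.form u u' ≠ 0 → b' ≠ 0 ∧ b / b' ∈ F₀ := by
    intro b b' p p' u u' he he' hne
    have h1 := H.map_form g.1 (ι u) (ι u')
    rw [he, he', H.smul_left, H.smul_right] at h1
    have hne' : H.h (ι u) (ι u') ≠ 0 := fun e => hne (Subtype.ext e)
    have hb' : b' ≠ 0 := fun e => hne' (by rw [← h1, e, map_zero]; ring)
    have hσb : H.σ b' ≠ 0 := (map_ne_zero _).mpr hb'
    have hpp : H.h (ι p) (ι p') ≠ 0 := fun e => hne' (by rw [← h1, e]; ring)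
    refine ⟨hb', ?_⟩
    rw [show b / b' = H.h (ι u) (ι u') / ((b' * H.σ b') * H.h (ι p) (ι p')) by
      rw [← h1]; field_simp]
    rw [div_eq_mul_inv]
    exact F₀.mul_mem (S.real u u')
      (F₀.inv_mem (F₀.mul_mem (S.fixed_mem _ (H.conj.norm_mem b')) (S.real p p')))
  have hmem : ∀ v, S.form v v = 0 → S.form v w₀ ≠ 0 → ∃ r, g.1.1 (ι v) = a • ι r := by
    intro v hv hne
    obtain ⟨b, p, hp⟩ := h v hv
    obtain ⟨-, hq⟩ := hNa hp hp₀ hne
    exact ⟨(⟨_, hq⟩ : F₀) • p, by rw [S.smul, smul_smul, mul_div_cancel₀ _ ha, ← hp]⟩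
  let A : Submodule F₀ V₀ :=
    { carrier := {u | ∃ r, g.1.1 (ι u) = a • ι r}
      add_mem' := fun {u u'} ⟨r, hr⟩ ⟨r', hr'⟩ => ⟨r + r', by rw [map_add, map_add, map_add, hr, hr', smul_add]⟩
      zero_mem' := ⟨0, by rw [map_zero, map_zero, smul_zero]⟩
      smul_mem' := fun c u ⟨r, hr⟩ => ⟨c • r, by rw [S.smul, S.smul, map_smul, hr, smul_comm]⟩ }
  have hv₀w : S.form v₀ w₀ = 1 := by rw [S.form_symm, hwv]
  have hvA : v₀ ∈ A := hmem v₀ hv₀ (by rw [hv₀w]; exact one_ne_zero)
  have hwA : w₀ ∈ A := ⟨p₀, hp₀⟩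
  refine ⟨a, ha, fun u => ?_⟩
  set z := u - S.form u v₀ • w₀ - S.form u w₀ • v₀ with hz
  have hzw : S.form z w₀ = 0 := by simp [hz, hw₀, hv₀w]
  have hzv : S.form z v₀ = 0 := by simp [hz, hv₀, hwv]
  set l := -(S.form z z / 2)
  have h2 := S.two_ne_zero'
  have hzA : z + v₀ + l • w₀ ∈ A := by
    refine hmem _ ?_ (by simp [hzw, hv₀w, hw₀])
    simp only [map_add, map_smul, LinearMap.add_apply, LinearMap.smul_apply, smul_eq_mul, hw₀, hv₀, hwv, hv₀w,
      hzw, hzv, S.form_symm w₀ z, S.form_symm v₀ z, l]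
    field_simp
    ring
  have e : u = (z + v₀ + l • w₀) + (S.form u v₀ - l) • w₀ + (S.form u w₀ - 1) • v₀ := by rw [hz]; module
  have : u ∈ A := by rw [e]; exact A.add_mem (A.add_mem hzA (A.smul_mem _ hwA)) (A.smul_mem _ hvA)
  exact this

omit hM in
theorem isCoatom [Finite F] [FiniteDimensional F V] [FiniteDimensional F₀ V₀] (hd : 4 ≤ Module.finrank F V)
    (hd₀ : 6 ≤ Module.finrank F₀ V₀) {M : Subgroup H.SIsom}
    (hM : ∀ g : H.SIsom, g ∈ M ↔ ∃ a : F, a ≠ 0 ∧ ∀ u, ∃ r, g.1.1 (ι u) = a • ι r) : IsCoatom M := by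
  refine ⟨fun htop => ?_, fun K hlt => ?_⟩
  · obtain ⟨v, w, -, -, hvv, hww, hvw⟩ := S.exists_pair (k := 0) ![] (by omega)
    obtain ⟨a, ha, hg⟩ := (hM _).mp (htop ▸ Subgroup.mem_top (H.sT (S.h_eq_zero hvv) S.skew))
    obtain ⟨r, hr⟩ := hg w
    obtain ⟨r', hr'⟩ := hg v
    rw [sT_apply, S.h_eq (by rw [S.form_symm, hvw] : S.form w v = 1), OneMemClass.coe_one, mul_one] at hr
    rw [sT_apply, S.h_eq_zero hvv, mul_zero, zero_smul, add_zero] at hr'
    have h1 := congrArg (fun x => H.h x (ι w)) hr'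
    rw [H.smul_left, S.h_eq hvw, OneMemClass.coe_one] at h1
    have hne : H.h (ι r') (ι w) ≠ 0 := fun e => one_ne_zero (h1.trans (by rw [e, mul_zero]))
    have hamem : a ∈ F₀ := by
      rw [show a = (H.h (ι r') (ι w))⁻¹ from eq_inv_of_mul_eq_one_left h1.symm]
      exact F₀.inv_mem (S.real r' w)
    have h2 := congrArg (fun x => H.h x (ι w)) hr
    rw [H.add_left, H.smul_left, H.smul_left, S.h_eq_zero hww, S.h_eq hvw, OneMemClass.coe_one, mul_one,
      zero_add] at h2
    have hτ : τ ∈ F₀ := h2 ▸ F₀.mul_mem hamem (S.real r w)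
    have h3 := S.skew
    rw [S.fixed ⟨τ, hτ⟩, ← two_mul] at h3
    exact mul_ne_zero S.two S.ne_zero h3
  have hK : ∀ g : H.SIsom, (∃ a : F, a ≠ 0 ∧ ∀ u, ∃ r, g.1.1 (ι u) = a • ι r) → g ∈ K :=
    fun g hg => hlt.le ((hM g).mpr hg)
  by_cases hno : ∀ x ∈ H.uCentres K, x = 0
  swap
  · push Not at hno
    obtain ⟨x, hx, hx0⟩ := hno
    exact S.top_of_centre hK hd (by omega) hx hx0
  exfalso
  obtain ⟨g, hg, hgM⟩ := SetLike.exists_of_lt hlt
  refine hgM ((hM g).mpr (S.scaled_of_points hK (by omega) fun w hw => ?_))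
  rcases eq_or_ne w 0 with rfl | hw0
  · exact ⟨0, 0, by rw [map_zero, map_zero, zero_smul]⟩
  exact S.point_rational hK hd₀ hno hg hw hw0

end OrthStructure

end HermSpace

end Cfsg.Lib.Classical
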