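import Mathlib
import Cfsg.Agent.Classical.Unitary.OrthSubMax
import Cfsg.Agent.Classical.Unitary.FrameBasic

set_option autoImplicit false
set_option linter.unusedVariables false
set_option linter.unusedSimpArgs false
set_option linter.unusedSectionVars false
set_option linter.style.haveILetI false

/-! Rotations and frames for a symmetric rational structure of dimension four. -/

namespace Cfsg.Lib.Classical

universe u v w

variable {F : Type u} [Field F] {V : Type v} [AddCommGroup V] [Module F V]

namespace HermSpace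

variable {H : HermSpace F V} {F₀ : Subfield F} {K : Subgroup H.SIsom}

namespace OrthStructure

variable {V₀ : Type w} [AddCommGroup V₀] [Module F₀ V₀] {ι : V₀ →+ V} {τ : F}
  (S : H.OrthStructure F₀ ι τ)

include S

theorem exists_sq_ne [Finite F] (h5 : 5 ≤ Nat.card F₀) {A B : F₀} (hA : A ≠ 0) (hB : B ≠ 0) :
    ∃ k : F₀, k ≠ 0 ∧ A + k * k * B ≠ 0 := by
  classical
  by_cases h1 : A + B = 0
  swap
  · exact ⟨1, one_ne_zero, by rwa [one_mul, one_mul]⟩
  haveI : Finite F₀ := Finite.of_injective _ Subtype.val_injective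
  haveI := Fintype.ofFinite F₀
  obtain ⟨j, -, hj⟩ := Finset.exists_mem_notMem_of_card_lt_card (s := ({0, 1, -1} : Finset F₀))
    (t := (Finset.univ : Finset F₀))
    (lt_of_le_of_lt Finset.card_le_three (by rw [Finset.card_univ, ← Nat.card_eq_fintype_card]; omega))
  simp only [Finset.mem_insert, Finset.mem_singleton, not_or] at hj
  refine ⟨j, hj.1, fun h => ?_⟩
  have : B * ((j - 1) * (j + 1)) = 0 := by linear_combination h - h1
  rcases mul_eq_zero.mp this with h' | h'
  · exact hB h'
  rcases mul_eq_zero.mp h' with h'' | h''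
  · exact hj.2.1 (sub_eq_zero.mp h'')
  · exact hj.2.2 (eq_neg_of_add_eq_zero_left h'')

/-- An anisotropic vector orthogonal to a non-degenerate plane. -/
theorem exists_aniso_perp [Finite F] [FiniteDimensional F₀ V₀] (h4 : Module.finrank F₀ V₀ = 4) {r s : V₀}
    (hdet : S.form r r * S.form s s - S.form r s * S.form r s ≠ 0) :
    ∃ p, S.form p r = 0 ∧ S.form p s = 0 ∧ S.form p p ≠ 0 := by
  set U := Submodule.span F₀ (Set.range ![r, s]) with hU
  set W := LinearMap.BilinForm.orthogonal S.form U with hW
  have hmem : ∀ p ∈ W, ∀ i, S.form p (![r, s] i) = 0 := fun p hp i =>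
    S.form_isRefl _ _ (hp _ (Submodule.subset_span ⟨i, rfl⟩))
  by_contra hall
  push Not at hall
  have hz : ∀ p ∈ W, S.form p p = 0 := fun p hp => hall p (hmem p hp 0) (hmem p hp 1)
  have hWU : W ≤ U := by
    intro a ha
    rw [← LinearMap.BilinForm.orthogonal_orthogonal S.form_nondegenerate S.form_isRefl U]
    intro b hb
    have h := hz (a + b) (W.add_mem ha hb)
    simp only [map_add, LinearMap.add_apply, hz a ha, hz b hb, zero_add, add_zero] at h
    rw [S.form_symm a b, ← two_mul] at h
    exact (mul_eq_zero.mp h).resolve_left S.two_ne_zero'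
  obtain ⟨t, ht, ht0⟩ := W.exists_mem_ne_zero_of_ne_bot fun h => by
    have h1 : Module.finrank F₀ W = Module.finrank F₀ V₀ - Module.finrank F₀ U :=
      LinearMap.BilinForm.finrank_orthogonal S.form_nondegenerate U
    have h2 : Module.finrank F₀ U ≤ 2 := (finrank_range_le_card _).trans_eq (Fintype.card_fin 2)
    rw [h, finrank_bot] at h1
    omega
  obtain ⟨c, hc⟩ := (Submodule.mem_span_range_iff_exists_fun F₀).mp (hWU ht)
  simp only [Fin.sum_univ_two, Matrix.cons_val] at hc
  have e1 : S.form t r = 0 := hmem t ht 0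
  have e2 : S.form t s = 0 := hmem t ht 1
  rw [← hc] at e1 e2 ht0
  simp only [map_add, map_smul, LinearMap.add_apply, LinearMap.smul_apply, smul_eq_mul, S.form_symm s r] at e1 e2
  have h1 : c 0 * (S.form r r * S.form s s - S.form r s * S.form r s) = 0 := by
    linear_combination S.form s s * e1 - S.form r s * e2
  have h2 : c 1 * (S.form r r * S.form s s - S.form r s * S.form r s) = 0 := by
    linear_combination S.form r r * e2 - S.form r s * e1
  exact ht0 (by rw [(mul_eq_zero.mp h1).resolve_right hdet, (mul_eq_zero.mp h2).resolve_right hdet]; simp)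

/-- Completing a non-degenerate plane and an orthogonal anisotropic vector to an orthogonal frame. -/
theorem exists_frame [Finite F] [FiniteDimensional F₀ V₀] (h4 : Module.finrank F₀ V₀ = 4) {r s p : V₀}
    (hdet : S.form r r * S.form s s - S.form r s * S.form r s ≠ 0) (hpr : S.form p r = 0) (hps : S.form p s = 0)
    (hpp : S.form p p ≠ 0) :
    ∃ q, S.form q r = 0 ∧ S.form q s = 0 ∧ S.form q p = 0 ∧ S.form q q ≠ 0 ∧
      ∀ z, S.form z r = 0 → S.form z s = 0 →
        z = (S.form z p / S.form p p) • p + (S.form z q / S.form q q) • q := by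
  set U := Submodule.span F₀ (Set.range ![r, s, p]) with hU
  set W := LinearMap.BilinForm.orthogonal S.form U with hW
  obtain ⟨q, hq, hq0⟩ := W.exists_mem_ne_zero_of_ne_bot fun h => by
    have h1 : Module.finrank F₀ W = Module.finrank F₀ V₀ - Module.finrank F₀ U :=
      LinearMap.BilinForm.finrank_orthogonal S.form_nondegenerate U
    have h2 : Module.finrank F₀ U ≤ 3 := (finrank_range_le_card _).trans_eq (Fintype.card_fin 3)
    rw [h, finrank_bot] at h1
    omega
  have hqi : ∀ i, S.form q (![r, s, p] i) = 0 := fun i =>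
    S.form_isRefl _ _ (hq _ (Submodule.subset_span ⟨i, rfl⟩))
  have hqr : S.form q r = 0 := hqi 0
  have hqs : S.form q s = 0 := hqi 1
  have hqp : S.form q p = 0 := hqi 2
  have hli : LinearIndependent F₀ ![r, s, p, q] := by
    rw [Fintype.linearIndependent_iff]
    intro c hc
    simp only [Fin.sum_univ_four, Matrix.cons_val] at hc
    have e : ∀ t, S.form (c 0 • r + c 1 • s + c 2 • p + c 3 • q) t = 0 := fun t => by
      rw [hc, LinearMap.map_zero₂]
    have e1 := e r
    have e2 := e s
    have e3 := e p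
    simp only [map_add, map_smul, LinearMap.add_apply, LinearMap.smul_apply, smul_eq_mul, hpr, hps, hqr, hqs, hqp,
      S.form_symm s r, S.form_symm r p, S.form_symm s p, mul_zero, add_zero, zero_add] at e1 e2 e3
    have h0 : c 0 = 0 := by
      refine (mul_eq_zero.mp (?_ : c 0 * (S.form r r * S.form s s - S.form r s * S.form r s) = 0)).resolve_right hdet
      linear_combination S.form s s * e1 - S.form r s * e2
    have h1 : c 1 = 0 := by
      refine (mul_eq_zero.mp (?_ : c 1 * (S.form r r * S.form s s - S.form r s * S.form r s) = 0)).resolve_right hdet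
      linear_combination S.form r r * e2 - S.form r s * e1
    have h2 : c 2 = 0 := (mul_eq_zero.mp e3).resolve_right hpp
    rw [h0, h1, h2, zero_smul, zero_smul, zero_smul, zero_add, zero_add, zero_add, smul_eq_zero] at hc
    intro i
    fin_cases i
    · exact h0
    · exact h1
    · exact h2
    · exact hc.resolve_right hq0
  have hsp := hli.span_eq_top_of_card_eq_finrank (by rw [Fintype.card_fin, h4])
  have hall : ∀ z, S.form z r = 0 → S.form z s = 0 → S.form z p = 0 → S.form z q = 0 → z = 0 := by
    intro z h1 h2 h3 h4'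
    refine S.form_nondegenerate.1 z ?_
    have : S.form z = 0 := LinearMap.ext_on_range hsp fun i => by
      fin_cases i <;> simp [h1, h2, h3, h4']
    intro y
    rw [this, LinearMap.zero_apply]
  have hqq : S.form q q ≠ 0 := fun h => hq0 (hall q hqr hqs hqp h)
  refine ⟨q, hqr, hqs, hqp, hqq, fun z h1 h2 => ?_⟩
  refine sub_eq_zero.mp (hall _ ?_ ?_ ?_ ?_) <;>
    simp only [map_sub, map_add, map_smul, LinearMap.sub_apply, LinearMap.add_apply, LinearMap.smul_apply,
      smul_eq_mul, h1, h2, hpr, hps, hqr, hqs, hqp, S.form_symm p q, mul_zero, add_zero, zero_add, sub_zero,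
      div_mul_cancel₀ _ hpp, div_mul_cancel₀ _ hqq, sub_self]

omit S in
/-- A reflection. -/
noncomputable def refl (B : LinearMap.BilinForm F₀ V₀) (u z : V₀) : V₀ := z - (2 * B z u / B u u) • u

variable (hM : ∀ g : H.SIsom, (∃ a : F, a ≠ 0 ∧ ∀ u, ∃ r, g.1.1 (ι u) = a • ι r) → g ∈ K)

include hM

/-- Products of two reflections lie in the stabiliser. -/
theorem exists_rot [Finite F] [FiniteDimensional F V] {u v : V₀} (hu : S.form u u ≠ 0) (hv : S.form v v ≠ 0) :
    ∃ g : H.SIsom, g ∈ K ∧ (∀ z, g.1.1 (ι z) = ι (refl S.form u (refl S.form v z))) ∧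
      ∀ z : V, H.h z (ι u) = 0 → H.h z (ι v) = 0 → g.1.1 z = z := by
  obtain ⟨e, he⟩ := H.conj.norm_surjective (a := ((S.form u u : F₀) : F)) (S.fixed _)
  obtain ⟨e', he'⟩ := H.conj.norm_surjective (a := ((S.form v v : F₀) : F)) (S.fixed _)
  have hu' : ((S.form u u : F₀) : F) ≠ 0 := fun h => hu (Subtype.ext h)
  have hv' : ((S.form v v : F₀) : F) ≠ 0 := fun h => hv (Subtype.ext h)
  have he0 : e ≠ 0 := fun h => hu' (by rw [← he, h, zero_mul])
  have he0' : e' ≠ 0 := fun h => hv' (by rw [← he', h, zero_mul])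
  have hun : H.h (e⁻¹ • ι u) (e⁻¹ • ι u) = 1 := by
    rw [H.smul_left, H.smul_right, map_inv₀, ← S.coe_form, ← he]
    have := (map_ne_zero H.σ).mpr he0
    field_simp
  have hvn : H.h (e'⁻¹ • ι v) (e'⁻¹ • ι v) = 1 := by
    rw [H.smul_left, H.smul_right, map_inv₀, ← S.coe_form, ← he']
    have := (map_ne_zero H.σ).mpr he0'
    field_simp
  set g : H.SIsom := ⟨H.qr hun H.circle_neg_one * H.qr hvn H.circle_neg_one, by
    rw [SIsom, MonoidHom.mem_ker, map_mul]
    apply Units.ext
    rw [Units.val_mul, det_qr, det_qr, Units.val_one]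
    ring⟩
  have one : ∀ (w : V₀) (d : F) (hd : d ≠ 0) (hd' : d * H.σ d = S.form w w) (hn : H.h (d⁻¹ • ι w) (d⁻¹ • ι w) = 1)
      (z : V), (H.qr hn H.circle_neg_one).1 z = z - (2 * H.h z (ι w) / (S.form w w : F)) • ι w := by
    intro w d hd hd' hn z
    rw [H.qr_apply, H.smul_right, map_inv₀, smul_smul, sub_eq_add_neg z, ← neg_smul, ← hd']
    congr 2
    have := (map_ne_zero H.σ).mpr hd
    field_simp
    ring
  have hg : ∀ z, g.1.1 z = (H.qr hun H.circle_neg_one).1 ((H.qr hvn H.circle_neg_one).1 z) := fun z => rfl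
  have rat : ∀ z, g.1.1 (ι z) = ι (refl S.form u (refl S.form v z)) := fun z => by
    rw [hg, one v e' he0' he' hvn, ← S.coe_form]
    rw [show (2 * (S.form z v : F) / (S.form v v : F)) = ((2 * S.form z v / S.form v v : F₀) : F) by
      push_cast; rfl, ← S.smul, ← map_sub, one u e he0 he hun, ← S.coe_form,
      show (2 * (S.form (z - (2 * S.form z v / S.form v v) • v) u : F) / (S.form u u : F)) =
        ((2 * S.form (z - (2 * S.form z v / S.form v v) • v) u / S.form u u : F₀) : F) by push_cast; rfl,
      ← S.smul, ← map_sub]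
    rfl
  refine ⟨g, hM g ⟨1, one_ne_zero, fun z => ⟨_, by rw [one_smul, rat z]⟩⟩, rat, fun z h1 h2 => ?_⟩
  rw [hg, one v e' he0' he' hvn, h2, mul_zero, zero_div, zero_smul, sub_zero, one u e he0 he hun, h1, mul_zero,
    zero_div, zero_smul, sub_zero]

end OrthStructure

end HermSpace

end Cfsg.Lib.Classical
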