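import Mathlib
import Cfsg.Agent.Classical.Unitary.OrthSubFourBase

set_option autoImplicit false
set_option linter.unusedVariables false
set_option linter.unusedSimpArgs false
set_option linter.unusedSectionVars false
set_option linter.style.haveILetI false

/-!
In dimension four, with a field of at least five elements, an overgroup of the stabiliser of a symmetric
rational structure in which no rational point is a centre keeps all rational isotropic points rational.
If `g w₀ = r + τ s` is not rational, the axes at this point are real multiples of rational vectors, and a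
Siegel element of that kind produces an axis with a non-real product.
-/

namespace Cfsg.Lib.Classical

universe u v w

variable {F : Type u} [Field F] {V : Type v} [AddCommGroup V] [Module F V]

namespace HermSpace

variable {H : HermSpace F V} {F₀ : Subfield F} {K : Subgroup H.SIsom}

namespace OrthStructure

variable {V₀ : Type w} [AddCommGroup V₀] [Module F₀ V₀] {ι : V₀ →+ V} {τ : F}
  (S : H.OrthStructure F₀ ι τ)

include S

/-- A point of a conic outside a line through the origin. -/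
theorem exists_conic_point [Finite F] (h5 : 5 ≤ Nat.card F₀) {A B C P l m : F₀} (hD : A * C - B * B ≠ 0)
    (hP : P ≠ 0) (hlm : l ≠ 0 ∨ m ≠ 0) :
    ∃ α β : F₀, A * α * α + 2 * B * α * β + C * β * β = -P ∧ l * α + m * β ≠ 0 := by
  classical
  haveI : Finite F₀ := Finite.of_injective _ Subtype.val_injective
  haveI := Fintype.ofFinite F₀
  have h2 := S.two_ne_zero'
  obtain ⟨α, β, he⟩ : ∃ α β : F₀, A * α * α + 2 * B * α * β + C * β * β = -P := by
    rcases eq_or_ne A 0 with rfl | hA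
    · have hB : B ≠ 0 := fun h => hD (by rw [h]; ring)
      exact ⟨(-P - C) / (2 * B), 1, by field_simp; ring⟩
    have hodd : Fintype.card F₀ % 2 = 1 := by
      refine FiniteField.odd_card_of_char_ne_two (fun h => ?_)
      haveI : CharP F₀ 2 := h ▸ ringChar.charP F₀
      exact S.two_ne_zero' (CharTwo.two_eq_zero)
    have hC : (A * C - B * B) / A ≠ 0 := div_ne_zero hD hA
    obtain ⟨x, y, hxy⟩ := FiniteField.exists_root_sum_quadratic
      (f := Polynomial.C A * Polynomial.X ^ 2)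
      (g := Polynomial.C ((A * C - B * B) / A) * Polynomial.X ^ 2 + Polynomial.C P)
      (Polynomial.degree_C_mul_X_pow 2 hA)
      (by rw [Polynomial.degree_add_C (by rw [Polynomial.degree_C_mul_X_pow 2 hC]; decide),
        Polynomial.degree_C_mul_X_pow 2 hC]; rfl) hodd
    simp only [Polynomial.eval_mul, Polynomial.eval_add, Polynomial.eval_C, Polynomial.eval_pow,
      Polynomial.eval_X] at hxy
    refine ⟨x - B * y / A, y, ?_⟩
    field_simp at hxy ⊢
    linear_combination hxy
  by_cases hl : l * α + m * β = 0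
  swap
  · exact ⟨α, β, he, hl⟩
  obtain ⟨k, hk, hk1⟩ := S.exists_sq_ne h5 (one_ne_zero (α := F₀)) hD
  set d₁ := α + k * (B * α + C * β) with hd₁
  set d₂ := β - k * (A * α + B * β) with hd₂
  set t := -2 / (1 + k * k * (A * C - B * B)) with ht
  have ht1 : t * (1 + k * k * (A * C - B * B)) = -2 := div_mul_cancel₀ _ hk1
  have ht0 : t ≠ 0 := div_ne_zero (neg_ne_zero.mpr h2) hk1
  refine ⟨α + t * d₁, β + t * d₂, ?_, fun h => ?_⟩
  · rw [hd₁, hd₂]
    linear_combination (1 + 2 * t + t * t * (1 + k * k * (A * C - B * B))) * he - P * t * ht1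
  · have hM' : l * (B * α + C * β) - m * (A * α + B * β) = 0 := by
      refine (mul_eq_zero.mp (?_ : t * k * (l * (B * α + C * β) - m * (A * α + B * β)) = 0)).resolve_left
        (mul_ne_zero ht0 hk)
      rw [hd₁, hd₂] at h
      linear_combination h - (1 + t) * hl
    have h1 : l * P = 0 := by linear_combination (-β) * hM' - (A * α + B * β) * hl + l * he
    have h2 : m * P = 0 := by linear_combination α * hM' - (B * α + C * β) * hl + m * he
    rcases hlm with h' | h'
    · exact mul_ne_zero h' hP h1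
    · exact mul_ne_zero h' hP h2

variable (hM : ∀ g : H.SIsom, (∃ a : F, a ≠ 0 ∧ ∀ u, ∃ r, g.1.1 (ι u) = a • ι r) → g ∈ K)
  (hno : ∀ w : V₀, S.form w w = 0 → w ≠ 0 → ι w ∉ H.uCentres K)

include hno in
/-- Without rational centres axes at images of rational points have real products. -/
theorem real_of_axes {g : H.SIsom} (hg : g ∈ K) {w : V₀} (hw : S.form w w = 0) (hw0 : w ≠ 0) {y y' : V}
    (hy : H.Axes F₀ K (g.1.1 (ι w)) y) (hy' : H.Axes F₀ K (g.1.1 (ι w)) y') : H.h y y' ∈ F₀ := by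
  by_contra h
  refine hno w hw hw0 ?_
  have h1 := uCentres_map (hy.centre S.fixed_mem hy' h) (K.inv_mem hg)
  rwa [show (g⁻¹).1.1 (g.1.1 (ι w)) = ι w from H.inv_apply_self g.1 _] at h1

set_option maxHeartbeats 1000000 in
include hM hno in
/-- A Siegel element at an irrational point with axis a multiple of a rational vector is impossible. -/
theorem false_of_phase [Finite F] [FiniteDimensional F V] (h5 : 5 ≤ Nat.card F₀) {x : V} {r s p q : V₀}
    (hrs : x = ι r + τ • ι s) (hxx : H.h x x = 0)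
    (hdet : S.form r r * S.form s s - S.form r s * S.form r s ≠ 0) (hpr : S.form p r = 0) (hps : S.form p s = 0)
    (hqr : S.form q r = 0) (hqs : S.form q s = 0) (hqp : S.form q p = 0) (hpp : S.form p p ≠ 0)
    (hqq : S.form q q ≠ 0) {a : F} (ha : a ≠ 0) {g : H.SIsom} (hg : g ∈ K)
    (happ : ∀ z, g.1.1 z = z + H.h z x • (a • ι p) +
      (-(a * H.σ a * (S.form p p : F)) / 2 * H.h z x - H.σ a * H.h z (ι p)) • x) : False := by
  have hστ := eq_neg_of_add_eq_zero_right S.skew
  have h2F := S.two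
  have hτ0 := S.ne_zero
  set R : F := ↑(S.form r r) with hR
  set B : F := ↑(S.form r s) with hB
  set C : F := ↑(S.form s s) with hC
  set π : F := ↑(S.form p p) with hπ
  have fR : H.σ R = R := S.fixed _
  have fB : H.σ B = B := S.fixed _
  have fC : H.σ C = C := S.fixed _
  have fπ : H.σ π = π := S.fixed _
  have hπ0 : π ≠ 0 := fun h => hpp (Subtype.ext h)
  have hRC : R = τ * τ * C := by
    have h := hxx
    rw [hrs] at h
    simp only [H.add_left, H.add_right, H.smul_left, H.smul_right, hστ, ← S.coe_form, S.form_symm s r, ← hR, ← hB,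
      ← hC] at h
    linear_combination h
  set η : F := R + τ * B with hη
  have hη0 : η ≠ 0 := fun h => hdet (by
    obtain ⟨h1, h2⟩ := S.coef_eq_zero (A := S.form r r) (B := S.form r s) h
    rw [h1, h2]; ring)
  set ση := H.σ η with hση
  have hση' : ση = R - τ * B := by rw [hση, hη, map_add, map_mul, fR, fB, hστ]; ring
  have hση0 : ση ≠ 0 := (map_ne_zero _).mpr hη0
  set xb := ι r - τ • ι s with hxb
  set E : F → F → F → V := fun A B C => A • x + B • xb + C • ι p with hE
  have e1 : H.h x xb = 2 * η := by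
    simp only [hrs, hxb, H.add_left, H.sub_right, H.smul_left, H.smul_right, hστ, ← S.coe_form, S.form_symm s r,
      ← hR, ← hB, ← hC, hη]
    linear_combination -hRC
  have e2 : H.h xb x = 2 * ση := by rw [H.symm xb x, e1, map_mul, map_ofNat, hση]
  have e3 : H.h xb xb = 0 := by
    simp only [hrs, hxb, H.sub_left, H.sub_right, H.smul_left, H.smul_right, hστ, ← S.coe_form, S.form_symm s r,
      ← hR, ← hB, ← hC]
    linear_combination hRC
  have e4 : H.h x (ι p) = 0 := by
    rw [hrs, H.add_left, H.smul_left, S.h_eq_zero (by rw [S.form_symm, hpr]), S.h_eq_zero (by rw [S.form_symm, hps]),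
      mul_zero, add_zero]
  have e5 : H.h xb (ι p) = 0 := by
    rw [hxb, H.sub_left, H.smul_left, S.h_eq_zero (by rw [S.form_symm, hpr]), S.h_eq_zero (by rw [S.form_symm, hps]),
      mul_zero, sub_zero]
  have e6 := H.eq_zero_symm e4
  have e7 := H.eq_zero_symm e5
  have e8 : H.h (ι p) (ι p) = π := (S.coe_form p p).symm
  have hform : ∀ A₁ A₂ A₃ B₁ B₂ B₃ : F, H.h (E A₁ A₂ A₃) (E B₁ B₂ B₃) =
      2 * η * (A₁ * H.σ B₂) + 2 * ση * (A₂ * H.σ B₁) + π * (A₃ * H.σ B₃) := fun A₁ A₂ A₃ B₁ B₂ B₃ => by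
    simp only [hE, H.add_left, H.add_right, H.smul_left, H.smul_right, hxx, e1, e2, e3, e4, e5, e6, e7, e8]
    ring
  set θ := -(a * H.σ a * π) / 2 with hθ
  have hθσ : H.σ θ = θ := by
    rw [hθ, map_div₀, map_neg, map_mul, map_mul, H.conj.invol, fπ, map_ofNat]; ring
  have h2θ : 2 * θ + a * H.σ a * π = 0 := by rw [hθ]; field_simp; ring
  have gE : ∀ A₁ A₂ A₃ : F, g.1.1 (E A₁ A₂ A₃) =
      E (A₁ + θ * (2 * ση * A₂) - H.σ a * π * A₃) A₂ (A₃ + 2 * ση * A₂ * a) := fun A₁ A₂ A₃ => by
    rw [happ]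
    simp only [hE, H.add_left, H.smul_left, hxx, e2, e4, e5, e6, e8]
    module
  have hqx : H.h (ι q) x = 0 := by
    rw [hrs, H.add_right, H.smul_right, S.h_eq_zero hqr, S.h_eq_zero hqs, mul_zero, add_zero]
  have hqxb : H.h (ι q) xb = 0 := by
    rw [hxb, H.sub_right, H.smul_right, S.h_eq_zero hqr, S.h_eq_zero hqs, mul_zero, sub_zero]
  have gq : g.1.1 (ι q) = ι q := by rw [happ, hqx, S.h_eq_zero hqp]; module
  have rat : ∀ c γ : F, H.σ γ = γ → ∃ u : V₀, ι u = E c (H.σ c) γ ∧ S.form q u = 0 := by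
    intro c γ hγ
    have hα : c + H.σ c ∈ F₀ := S.fixed_mem _ (H.conj.trace_mem c)
    have hβ : τ * (c - H.σ c) ∈ F₀ := S.fixed_mem _ (by rw [map_mul, map_sub, H.conj.invol, hστ]; ring)
    refine ⟨(⟨_, hα⟩ : F₀) • r + (⟨_, hβ⟩ : F₀) • s + (⟨γ, S.fixed_mem γ hγ⟩ : F₀) • p, ?_, ?_⟩
    · rw [map_add, map_add, S.smul, S.smul, S.smul]
      simp only [hE, hrs, hxb]
      module
    · simp [hqr, hqs, hqp]
  -- the conic point
  obtain ⟨l, m, hlm⟩ := S.exists_coef a
  have hlm0 : l ≠ 0 ∨ m ≠ 0 := by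
    by_contra h
    push Not at h
    exact ha (by rw [hlm, h.1, h.2]; simp)
  obtain ⟨α, β, hαβ, hL⟩ := S.exists_conic_point h5 (A := S.form r r) (B := S.form r s) (C := S.form s s) hdet hpp
    hlm0
  set c : F := (α : F) / 2 + (β : F) / (2 * τ) with hcdef
  have hσc : H.σ c = (α : F) / 2 - (β : F) / (2 * τ) := by
    rw [hcdef, map_add, map_div₀, map_div₀, map_mul, map_ofNat, S.fixed, S.fixed, hστ]
    field_simp
    ring
  have hαβ' : R * α * α + 2 * B * α * β + C * β * β = -π := by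
    have h := congrArg (Subtype.val : F₀ → F) hαβ
    push_cast at h
    exact h
  have key : ∀ γ : F, H.σ γ = γ → γ * γ = 1 →
      (2 * η * ((c + θ * (2 * ση * H.σ c) - H.σ a * π * γ) * (c + θ * (2 * ση * H.σ c) - H.σ a * π * γ)) +
          2 * ση * (H.σ c * H.σ c) + π * ((γ + 2 * ση * H.σ c * a) * (γ + 2 * ση * H.σ c * a))) +
        H.σ (2 * η * ((c + θ * (2 * ση * H.σ c) - H.σ a * π * γ) * (c + θ * (2 * ση * H.σ c) - H.σ a * π * γ)) +
          2 * ση * (H.σ c * H.σ c) + π * ((γ + 2 * ση * H.σ c * a) * (γ + 2 * ση * H.σ c * a))) = 0 := by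
    intro γ hγ hγ1
    have hγ0 : γ ≠ 0 := fun h => zero_ne_one (α := F) (by rw [← hγ1, h, mul_zero])
    have hww : 2 * η * (c * c) + 2 * ση * (H.σ c * H.σ c) + π * (γ * γ) = 0 := by
      rw [hσc, hcdef, hη, hση', hγ1]
      have := hαβ'
      field_simp
      linear_combination (2 * τ * τ) * this + (β : F) * β * (2 : F) * hRC
    set C₁ := c + θ * (2 * ση * H.σ c) - H.σ a * π * γ with hC₁
    set C₂ := H.σ c with hC₂
    set C₃ := γ + 2 * ση * C₂ * a with hC₃
    set b := 2 * η * (C₁ * C₁) + 2 * ση * (C₂ * C₂) + π * (C₃ * C₃) with hb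
    obtain ⟨u, hu, hqu⟩ := rat c γ hγ
    have huu : S.form u u = 0 := Subtype.ext (by
      rw [S.coe_form, hu, hform, H.conj.invol, hγ, ← hC₂]
      simpa using hww)
    have hu0 : u ≠ 0 := fun h => by
      have h' := congrArg (fun z => H.h z (ι p)) hu
      simp only [hE, H.add_left, H.smul_left, e4, e5, e8, h, map_zero, H.zero_left, mul_zero, zero_add] at h'
      exact mul_ne_zero hγ0 hπ0 h'.symm
    have hgu : g.1.1 (ι u) = E C₁ C₂ C₃ := by rw [hu, gE]
    have hzz : 2 * η * (C₁ * H.σ C₂) + 2 * ση * (C₂ * H.σ C₁) + π * (C₃ * H.σ C₃) = 0 := by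
      rw [← hform, ← hgu, H.map_form, S.h_eq_zero huu]
    have hax : H.Axes F₀ K (g.1.1 (ι u)) (ι q) := by
      have := (S.axes_rational hM huu hqu).map hg
      rwa [gq] at this
    -- a second axis
    have hd : H.σ (τ * H.σ c * ση) = -(τ * c * η) := by
      rw [map_mul, map_mul, hστ, H.conj.invol, hση, H.conj.invol]; ring
    obtain ⟨u₂, hu₂, -⟩ := rat (τ * H.σ c * ση) 0 (map_zero _)
    have hu₂u : S.form u₂ u = 0 := Subtype.ext (by
      rw [S.coe_form, hu₂, hu, hform, hd, H.conj.invol, ZeroMemClass.coe_zero]; ring)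
    have hY := (S.axes_rational hM huu hu₂u).map hg
    rw [hu₂, gE] at hY
    -- the normal
    set mm := C₂ * H.σ C₃ - C₃ * H.σ C₁ with hmm
    set N := C₁ * H.σ C₁ - C₂ * H.σ C₂ with hN
    have hσm : H.σ mm = H.σ C₂ * C₃ - H.σ C₃ * C₁ := by
      rw [hmm]
      simp only [map_sub, map_mul, H.conj.invol]
    have hσN : H.σ N = N := by rw [hN, map_sub, H.conj.norm_mem, H.conj.norm_mem]
    obtain ⟨un, hun, hqn⟩ := rat (mm * ση * π) (2 * (η * ση) * N) (by
      rw [map_mul, map_mul, map_mul, map_ofNat, hσN, hση, H.conj.invol]; ring)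
    have hσn : H.σ (mm * ση * π) = H.σ mm * η * π := by rw [map_mul, map_mul, fπ, hση, H.conj.invol]
    have hσ3 : H.σ (2 * (η * ση) * N) = 2 * (η * ση) * N := by
      rw [map_mul, map_mul, map_mul, map_ofNat, hσN, hση, H.conj.invol]; ring
    have hσb : H.σ b = 2 * ση * (H.σ C₁ * H.σ C₁) + 2 * η * (H.σ C₂ * H.σ C₂) + π * (H.σ C₃ * H.σ C₃) := by
      rw [hb]
      simp only [map_add, map_mul, map_ofNat, fπ, hση, H.conj.invol]
    have hnn : H.h (ι un) (ι un) = π * (η * ση) * (b * H.σ b) := by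
      rw [hun, hform, H.conj.invol, hσn, hσ3, hσb, hσm, hb, hmm, hN]
      linear_combination (-(π * (η * ση)) *
        (2 * η * (C₁ * H.σ C₂) + 2 * ση * (C₂ * H.σ C₁) + π * (C₃ * H.σ C₃))) * hzz
    by_cases hb0 : b = 0
    · rw [hb0, map_zero, add_zero]
    have hnn0 : S.form un un ≠ 0 := fun h => by
      have := S.h_eq_zero h
      rw [hnn] at this
      exact mul_ne_zero (mul_ne_zero hπ0 (mul_ne_zero hη0 hση0)) (mul_ne_zero hb0 ((map_ne_zero _).mpr hb0)) this
    obtain ⟨k, hk, hk1⟩ := S.exists_sq_ne h5 hqq hnn0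
    set v := q + k • un with hv
    have hvq : S.form v q = S.form q q := by simp [hv, S.form_symm un q, hqn]
    have hvv : S.form v v = S.form q q + k * k * S.form un un := by
      simp [hv, S.form_symm un q, hqn]; ring
    obtain ⟨Ro, hRo, hRr, hRf⟩ := S.exists_rot hM (u := q) (v := v) hqq (by rwa [hvv])
    have hzq : H.h (g.1.1 (ι u)) (ι q) = 0 := by
      rw [hgu]
      simp only [hE, H.add_left, H.smul_left, H.eq_zero_symm hqx, H.eq_zero_symm hqxb,
        S.h_eq_zero (by rw [S.form_symm, hqp] : S.form p q = 0), mul_zero, add_zero]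
    have hzn : H.h (g.1.1 (ι u)) (ι un) = 0 := by
      rw [hgu, hun, hform, H.conj.invol, hσn, hσ3, hσm, hmm, hN]; ring
    have hRz : Ro.1.1 (g.1.1 (ι u)) = g.1.1 (ι u) := hRf _ hzq (by
      rw [hv, map_add, S.smul, H.add_right, H.smul_right, hzq, hzn, mul_zero, add_zero])
    have hax' := hax.map hRo
    rw [hRz, hRr] at hax'
    have hvv0 : S.form v v ≠ 0 := by rwa [hvv]
    have hax2 : H.Axes F₀ K (g.1.1 (ι u)) (ι un) := by
      have h1 := ((hax.smul (-1 + 2 * S.form q q / S.form v v)).sub hax').smul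
        (S.form v v / (2 * k * S.form q q))
      rw [← S.smul, ← map_sub, ← S.smul] at h1
      convert h1 using 2
      have h2 := S.two_ne_zero'
      simp only [refl, hvq, map_sub, map_smul, LinearMap.sub_apply, LinearMap.smul_apply, smul_eq_mul, hv,
        S.form_symm q (q + k • un)]
      rw [← hv, hvq]
      generalize S.form v v = D at hvv0 ⊢
      rw [hv]
      match_scalars <;> field_simp <;> ring
    have hreal := S.real_of_axes hno hg huu hu0 hY hax2
    have hval : H.h (E (τ * H.σ c * ση + θ * (2 * ση * H.σ (τ * H.σ c * ση)) - H.σ a * π * 0)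
        (H.σ (τ * H.σ c * ση)) (0 + 2 * ση * H.σ (τ * H.σ c * ση) * a)) (ι un) =
        -(τ * γ * (η * ση) * π) * H.σ b := by
      rw [hun, hform, H.conj.invol, hσn, hσ3, hσm, hd, hσb, hmm, hN, hC₁, hC₃, hC₂]
      simp only [map_add, map_sub, map_mul, map_ofNat, H.conj.invol, fπ, hθσ, hση, hγ]
      linear_combination (τ * (η * H.σ η) * π *
        (γ + 2 * η * c * H.σ a - 2 * H.σ η * a * (H.σ c + θ * (2 * η * c) - a * π * γ))) * hww +
        (4 * τ * (η * H.σ η) * π * H.σ η * η * c * γ * (H.σ c + θ * (2 * η * c) - a * π * γ)) * h2θ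
    rw [hval] at hreal
    have hfix : H.σ _ = _ := S.fixed ⟨_, hreal⟩
    simp only [map_neg, map_mul, hστ, hγ, fπ, hση, H.conj.invol] at hfix
    have h3 : (τ * γ * (η * H.σ η) * π) * (b + H.σ b) = 0 := by linear_combination hfix
    exact (mul_eq_zero.mp h3).resolve_left
      (mul_ne_zero (mul_ne_zero (mul_ne_zero hτ0 hγ0) (mul_ne_zero hη0 hση0)) hπ0)
  have k1 := key 1 (map_one _) (one_mul 1)
  have k2 := key (-1) (by rw [map_neg, map_one]) (by ring)
  simp only [map_add, map_sub, map_mul, map_ofNat, map_neg, map_one, H.conj.invol, fπ, hθσ, hση] at k1 k2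
  have h16 : (2 : F) ^ 3 * π * π * (a * H.σ a) * (η * H.σ η) * (a * c + H.σ a * H.σ c) = 0 := by
    linear_combination k1 - k2 + (8 * π * (η * H.σ η) * (a * c + H.σ a * H.σ c)) * h2θ
  have hac : a * c + H.σ a * H.σ c = ((l * α + m * β : F₀) : F) := by
    rw [hσc, hlm, hcdef, map_add, map_mul, S.fixed, S.fixed, hστ]
    push_cast
    field_simp
    ring
  rw [hac] at h16
  refine hL (Subtype.ext ((mul_eq_zero.mp h16).resolve_left ?_))
  simp [h2F, hπ0, ha, hη0]

/-- An isotropic vector has a partner. -/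
theorem exists_partner {w : V₀} (hw : S.form w w = 0) (hw0 : w ≠ 0) :
    ∃ u, S.form u u = 0 ∧ S.form u w = 1 := by
  obtain ⟨t, ht⟩ : ∃ t, S.form t w ≠ 0 := by
    by_contra hc
    push Not at hc
    exact hw0 (S.form_nondegenerate.2 w hc)
  obtain ⟨u', h1⟩ : ∃ u', S.form u' w = 1 :=
    ⟨(S.form t w)⁻¹ • t, by rw [map_smul, LinearMap.smul_apply, smul_eq_mul, inv_mul_cancel₀ ht]⟩
  refine ⟨u' - (S.form u' u' / 2) • w, ?_, ?_⟩
  · have h2 := S.two_ne_zero'
    simp only [map_sub, map_smul, LinearMap.sub_apply, LinearMap.smul_apply, h1, S.form_symm w u', hw,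
      smul_eq_mul, mul_zero, sub_zero, mul_one]
    field_simp
    ring
  · rw [map_sub, map_smul, LinearMap.sub_apply, LinearMap.smul_apply, h1, hw, smul_zero, sub_zero]

set_option maxHeartbeats 1000000 in
include hM hno in
/-- Images of rational isotropic points are rational. -/
theorem point_rational_four [Finite F] [FiniteDimensional F V] [FiniteDimensional F₀ V₀]
    (h4 : Module.finrank F₀ V₀ = 4) (h5 : 5 ≤ Nat.card F₀) {g : H.SIsom} (hg : g ∈ K)
    {w₀ : V₀} (hw₀ : S.form w₀ w₀ = 0) (hw₀0 : w₀ ≠ 0) :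
    ∃ (a : F) (p : V₀), g.1.1 (ι w₀) = a • ι p := by
  by_contra hrat
  push Not at hrat
  have hreal := fun {y y' : V} (h : H.Axes F₀ K (g.1.1 (ι w₀)) y) (h' : H.Axes F₀ K (g.1.1 (ι w₀)) y') =>
    S.real_of_axes hno hg hw₀ hw₀0 h h'
  set x := g.1.1 (ι w₀) with hx
  obtain ⟨r, s, hrs⟩ := S.span x
  have hxx : H.h x x = 0 := by rw [hx, H.map_form, S.h_eq_zero hw₀]
  have hστ := eq_neg_of_add_eq_zero_right S.skew
  have hν : τ * τ ∈ F₀ := S.fixed_mem _ (by rw [map_mul, hστ, neg_mul_neg])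
  have hQ : (S.form r r : F) = τ * τ * (S.form s s : F) := by
    have h := hxx
    rw [hrs] at h
    simp only [H.add_left, H.add_right, H.smul_left, H.smul_right, hστ, ← S.coe_form, S.form_symm s r] at h
    linear_combination h
  by_cases hdeg : S.form r r = 0 ∧ S.form r s = 0
  · obtain ⟨hrr, hrs0⟩ := hdeg
    have hss : S.form s s = 0 := by
      rw [hrr, ZeroMemClass.coe_zero] at hQ
      exact Subtype.ext ((mul_eq_zero.mp hQ.symm).resolve_left (mul_ne_zero S.ne_zero S.ne_zero))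
    obtain ⟨y, hy, hys⟩ : ∃ y, H.Axes F₀ K x y ∧ H.h y (ι s) ≠ 0 := by
      by_contra hc
      push Not at hc
      obtain ⟨p₀, -, hp₀⟩ := S.exists_partner hw₀ hw₀0
      set z := (g⁻¹).1.1 (ι s)
      have hgz : g.1.1 z = ι s := H.apply_inv_self g.1 _
      have hz : ∀ t, S.form t w₀ = 0 → H.h (ι t) z = 0 := fun t ht => by
        rw [← H.map_form g.1, hgz]
        exact hc _ ((S.axes_rational hM hw₀ ht).map hg)
      have hzw : z = H.σ (H.h (ι p₀) z) • ι w₀ := by
        refine sub_eq_zero.mp (S.eq_zero_of_orth fun t => H.eq_zero_symm ?_)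
        have ht := hz (t - S.form t w₀ • p₀) (by
          rw [map_sub, map_smul, LinearMap.sub_apply, LinearMap.smul_apply, hp₀, smul_eq_mul, mul_one, sub_self])
        rw [map_sub, S.smul, H.sub_left, H.smul_left, sub_eq_zero, S.coe_form] at ht
        rw [H.sub_right, H.smul_right, H.conj.invol, ht, mul_comm, sub_self]
      set c := H.σ (H.h (ι p₀) z)
      have hsx : ι s = c • x := by rw [← hgz, hzw, map_smul]
      rcases eq_or_ne c 0 with hc0 | hc0
      · exact hrat 1 r (by rw [hrs, hsx, hc0, zero_smul, smul_zero, add_zero, one_smul])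
      · exact hrat c⁻¹ s (by rw [hsx, smul_smul, inv_mul_cancel₀ hc0, one_smul])
    have hxr : H.h x (ι r) = 0 := by
      rw [hrs, H.add_left, H.smul_left, S.h_eq_zero hrr, S.h_eq_zero (by rw [S.form_symm, hrs0]), mul_zero,
        add_zero]
    have hxs : H.h x (ι s) = 0 := by
      rw [hrs, H.add_left, H.smul_left, S.h_eq_zero hrs0, S.h_eq_zero hss, mul_zero, add_zero]
    have hy' := S.axes_shift hM hy hrr (by rw [S.form_symm, hrs0]) hxr hxs
    have hm := S.fixed ⟨_, hreal hy hy'⟩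
    have hyr : H.h y (ι r) = τ * H.h y (ι s) := by
      have h := hy.orth
      rw [hrs, H.add_right, H.smul_right, hστ] at h
      linear_combination h
    simp only [H.add_right, H.smul_right, S.h_eq_zero hss, neg_zero, zero_div, zero_mul, zero_sub, hyr, map_add,
      map_mul, map_neg, H.conj.invol, hστ] at hm
    have : (2 : F) * 2 * τ * (H.h y (ι s) * H.σ (H.h y (ι s))) = 0 := by linear_combination hm
    simp [S.two, S.ne_zero, hys] at this
  have hdet : S.form r r * S.form s s - S.form r s * S.form r s ≠ 0 := by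
    intro h
    have hF := congrArg (Subtype.val : F₀ → F) h
    push_cast at hF
    have h' : ((S.form r r : F) - τ * (S.form r s : F)) * ((S.form r r : F) + τ * (S.form r s : F)) = 0 := by
      linear_combination (τ * τ) * hF + (S.form r r : F) * hQ
    rcases mul_eq_zero.mp h' with h'' | h''
    · have := S.coef_eq_zero (A := S.form r r) (B := -S.form r s) (by push_cast; linear_combination h'')
      exact hdeg ⟨this.1, neg_eq_zero.mp this.2⟩
    · exact hdeg (S.coef_eq_zero h'')
  obtain ⟨u₀, hu₀, huw⟩ := S.exists_partner hw₀ hw₀0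
  obtain ⟨p₀, -, hp₀w, hp₀⟩ := S.exists_aniso_perp h4 (r := u₀) (s := w₀) (by rw [hu₀, hw₀, huw]; simp)
  have hy := (S.axes_rational hM hw₀ hp₀w).map hg
  rw [← hx] at hy
  set y := g.1.1 (ι p₀) with hydef
  have hyy : H.h y y ≠ 0 := by
    rw [hydef, H.map_form, ← S.coe_form]; exact fun h => hp₀ (Subtype.ext h)
  -- the part orthogonal to the plane
  set xb := ι r - τ • ι s with hxb
  have hxxb : H.h x xb = 2 * ((S.form r r : F) + τ * (S.form r s : F)) := by
    simp only [hrs, hxb, H.add_left, H.sub_right, H.smul_left, H.smul_right, hστ, ← S.coe_form, S.form_symm s r]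
    linear_combination -hQ
  have hη0 : (2 : F) * ((S.form r r : F) + τ * (S.form r s : F)) ≠ 0 := mul_ne_zero S.two fun h =>
    hdeg (S.coef_eq_zero h)
  set c := H.h y xb / H.h x xb with hcdef
  set z₀ := y - c • x with hz₀
  have hz₀x : H.h z₀ x = 0 := by rw [hz₀, H.sub_left, H.smul_left, hy.orth, hxx, mul_zero, sub_zero]
  have hz₀xb : H.h z₀ xb = 0 := by
    rw [hz₀, H.sub_left, H.smul_left, hcdef, div_mul_cancel₀ _ (by rw [hxxb]; exact hη0), sub_self]
  have hz₀r : H.h z₀ (ι r) = 0 ∧ H.h z₀ (ι s) = 0 := by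
    have h1 := hz₀x
    have h2 := hz₀xb
    rw [hrs, H.add_right, H.smul_right, hστ] at h1
    rw [hxb, H.sub_right, H.smul_right, hστ] at h2
    have a1 : (2 : F) * H.h z₀ (ι r) = 0 := by linear_combination h1 + h2
    have a2 : (2 : F) * τ * H.h z₀ (ι s) = 0 := by linear_combination h2 - h1
    exact ⟨(mul_eq_zero.mp a1).resolve_left S.two, (mul_eq_zero.mp a2).resolve_left (mul_ne_zero S.two S.ne_zero)⟩
  have hz₀z₀ : H.h z₀ z₀ = H.h y y := by
    have := H.eq_zero_symm hy.orth
    simp only [hz₀, H.sub_left, H.sub_right, H.smul_left, H.smul_right, hy.orth, hxx, this]; ring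
  obtain ⟨p₁, p₂, hp₁₂⟩ := S.span z₀
  have hpi : ∀ t : V₀, H.h z₀ (ι t) = 0 → S.form p₁ t = 0 ∧ S.form p₂ t = 0 := fun t ht => S.coef_eq_zero (by
    rw [hp₁₂, H.add_left, H.smul_left, ← S.coe_form, ← S.coe_form] at ht; exact ht)
  obtain ⟨h1r, h2r⟩ := hpi r hz₀r.1
  obtain ⟨h1s, h2s⟩ := hpi s hz₀r.2
  obtain ⟨p, hp, hpr, hps, hpp⟩ : ∃ p, (p = p₁ ∨ p = p₂) ∧ S.form p r = 0 ∧ S.form p s = 0 ∧ S.form p p ≠ 0 := by
    by_cases h : S.form p₁ p₁ = 0
    · refine ⟨p₂, Or.inr rfl, h2r, h2s, fun h' => hyy ?_⟩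
      rw [← hz₀z₀, hp₁₂]
      simp only [H.add_left, H.add_right, H.smul_left, H.smul_right, hστ, ← S.coe_form, h, h', ZeroMemClass.coe_zero,
        S.form_symm p₂ p₁]
      ring
    · exact ⟨p₁, Or.inl rfl, h1r, h1s, h⟩
  obtain ⟨q, hqr, hqs, hqp, hqq, hdec⟩ := S.exists_frame h4 hdet hpr hps hpp
  obtain ⟨k, hk, hk1⟩ := S.exists_sq_ne h5 hpp hqq
  set v := p + k • q with hv
  have hvp : S.form p v = S.form p p := by simp [hv, S.form_symm p q, hqp]
  have hvv : S.form v v = S.form p p + k * k * S.form q q := by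
    simp [hv, S.form_symm p q, hqp]; ring
  have hvv0 : S.form v v ≠ 0 := by rwa [hvv]
  obtain ⟨Ro, hRo, hRr, hRf⟩ := S.exists_rot hM (u := p) (v := v) hpp hvv0
  have hxp : H.h x (ι p) = 0 ∧ H.h x (ι q) = 0 := by
    constructor <;>
      simp only [hrs, H.add_left, H.smul_left, ← S.coe_form, S.form_symm r p, S.form_symm s p, S.form_symm r q,
        S.form_symm s q, hpr, hps, hqr, hqs, ZeroMemClass.coe_zero, mul_zero, add_zero]
  have hRx : Ro.1.1 x = x := hRf x hxp.1 (by
    rw [hv, map_add, S.smul, H.add_right, H.smul_right, hxp.1, hxp.2, mul_zero, add_zero])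
  have hyR := hy.map hRo
  rw [hRx] at hyR
  set δ := 2 * k / S.form v v with hδ
  have hδv : δ * S.form v v = 2 * k := div_mul_cancel₀ _ hvv0
  set Rp := refl S.form p (refl S.form v p) with hRp
  set Rq := refl S.form p (refl S.form v q) with hRq
  have hRlin : ∀ A B : F₀, refl S.form p (refl S.form v (A • p + B • q)) = A • Rp + B • Rq := fun A B => by
    simp only [hRp, hRq, refl, map_add, map_sub, map_smul, LinearMap.add_apply, LinearMap.sub_apply,
      LinearMap.smul_apply, smul_eq_mul]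
    module
  have hRpq : S.form Rp q = -(δ * S.form p p * S.form q q) := by
    simp only [hRp, refl, hv, map_sub, map_add, map_smul, LinearMap.sub_apply, LinearMap.smul_apply,
      LinearMap.add_apply, smul_eq_mul, hqp, S.form_symm p q, mul_zero, add_zero, zero_add, sub_zero, zero_sub, hδ]
    field_simp
  have hRqp : S.form p Rq = δ * S.form p p * S.form q q := by
    simp only [hRq, refl, hv, map_sub, map_add, map_smul, LinearMap.sub_apply, LinearMap.smul_apply,
      LinearMap.add_apply, smul_eq_mul, hqp, S.form_symm p q, mul_zero, add_zero, zero_add, sub_zero, zero_sub, hδ]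
    field_simp
    ring
  set A₁ := S.form p₁ p / S.form p p
  set B₁ := S.form p₁ q / S.form q q with hB₁
  set A₂ := S.form p₂ p / S.form p p
  set B₂ := S.form p₂ q / S.form q q with hB₂
  have hp₁ : p₁ = A₁ • p + B₁ • q := hdec p₁ h1r h1s
  have hp₂ : p₂ = A₂ • p + B₂ • q := hdec p₂ h2r h2s
  have hz₀R : Ro.1.1 z₀ = ι (A₁ • Rp + B₁ • Rq) + τ • ι (A₂ • Rp + B₂ • Rq) := by
    rw [hp₁₂, map_add, map_smul, hRr, hRr, hp₁, hp₂, hRlin, hRlin]
  have hyRy : H.h y (Ro.1.1 y) = H.h z₀ (Ro.1.1 z₀) := by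
    have h1 : H.h x (Ro.1.1 z₀) = 0 := by rw [← hRx, H.map_form]; exact H.eq_zero_symm hz₀x
    rw [show y = z₀ + c • x by rw [hz₀]; abel, map_add, map_smul, hRx, H.add_left, H.add_right, H.add_right,
      H.smul_left, H.smul_left, H.smul_right, H.smul_right, hxx, hz₀x, h1]
    ring
  have hAB : A₁ * B₂ = A₂ * B₁ := by
    have hm := hreal hy hyR
    rw [hyRy, hz₀R, hp₁₂] at hm
    simp only [H.add_left, H.add_right, H.smul_left, H.smul_right, hστ, ← S.coe_form] at hm
    set X₁ := S.form p₁ (A₁ • Rp + B₁ • Rq)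
    set X₂ := S.form p₁ (A₂ • Rp + B₂ • Rq)
    set X₃ := S.form p₂ (A₁ • Rp + B₁ • Rq)
    set X₄ := S.form p₂ (A₂ • Rp + B₂ • Rq)
    have h0 := S.coef_eq_zero (A := X₁ - (⟨_, hν⟩ : F₀) * X₄ - ⟨_, hm⟩) (B := X₃ - X₂) (by push_cast; ring)
    have hX : (A₁ * B₂ - A₂ * B₁) * (2 * δ * S.form p p * S.form q q) = 0 := by
      have h := h0.2
      simp only [X₂, X₃, hp₁, hp₂, map_add, map_smul, LinearMap.add_apply, LinearMap.smul_apply, smul_eq_mul,
        S.form_symm q Rp, hRpq, hRqp] at h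
      linear_combination -h
    have hδ0 : 2 * δ * S.form p p * S.form q q ≠ 0 := by
      simp [S.two_ne_zero', hδ, hk, hvv0, hpp, hqq]
    exact sub_eq_zero.mp ((mul_eq_zero.mp hX).resolve_right hδ0)
  have hB12 : B₁ = 0 ∧ B₂ = 0 := by
    rcases hp with rfl | rfl
    · have h0 : B₁ = 0 := by rw [hB₁, S.form_symm, hqp, zero_div]
      have h1 : A₁ = 1 := div_self hpp
      rw [h1, h0, one_mul, mul_zero] at hAB
      exact ⟨h0, hAB⟩
    · have h0 : B₂ = 0 := by rw [hB₂, S.form_symm, hqp, zero_div]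
      have h1 : A₂ = 1 := div_self hpp
      rw [h1, h0, one_mul, mul_zero] at hAB
      exact ⟨hAB.symm, h0⟩
  set a : F := (A₁ : F) + τ * (A₂ : F) with hadef
  have hz₀a : z₀ = a • ι p := by
    simp only [hp₁₂, hp₁, hp₂, hB12.1, hB12.2, zero_smul, add_zero, S.smul, hadef]; module
  have ha : a ≠ 0 := fun h => hyy (by rw [← hz₀z₀, hz₀a, h, zero_smul, H.zero_left])
  set p' := Rp - p with hp'
  have hdiff : Ro.1.1 y - y = a • ι p' := by
    have e : y = a • ι p + c • x := by rw [← hz₀a, hz₀]; abel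
    conv_lhs => rw [e, map_add, map_smul, map_smul, hRx, hRr, ← hRp]
    rw [hp', map_sub]
    module
  have hRrp : S.form Rp r = 0 ∧ S.form Rp s = 0 := by
    constructor <;> simp [hRp, refl, hv, hpr, hps, hqr, hqs]
  have hp'r : S.form p' r = 0 := by rw [hp', map_sub, LinearMap.sub_apply, hRrp.1, hpr, sub_self]
  have hp's : S.form p' s = 0 := by rw [hp', map_sub, LinearMap.sub_apply, hRrp.2, hps, sub_self]
  have hp'p' : S.form p' p' = δ * δ * S.form v v * S.form p p * S.form q q := by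
    have e : p' = (-2 + 2 * S.form p p / S.form v v) • p - (δ * S.form p p) • q := by
      simp only [hp', hRp, refl, hvp, map_sub, map_smul, LinearMap.sub_apply, LinearMap.smul_apply, smul_eq_mul,
        S.form_symm v p]
      rw [hδ]
      generalize S.form v v = D at hvv0 ⊢
      rw [hv]
      match_scalars <;> field_simp <;> ring
    rw [e]
    simp only [map_sub, map_smul, LinearMap.sub_apply, LinearMap.smul_apply, smul_eq_mul, hqp, S.form_symm p q,
      mul_zero, sub_zero, zero_sub, hδ]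
    field_simp
    linear_combination (4 * S.form v v - 4 * S.form p p) * hvv
  have hp'0 : S.form p' p' ≠ 0 := by
    rw [hp'p']; simp [hδ, S.two_ne_zero', hk, hvv0, hpp, hqq]
  obtain ⟨q', hqr', hqs', hqp', hqq', -⟩ := S.exists_frame h4 hdet hp'r hp's hp'0
  -- the Siegel element
  obtain ⟨hxx', hy1, θ₀, hθ₀, hT⟩ := hy 1
  set T := H.sS hxx' hy1 hθ₀ with hTdef
  set T₂ := Ro * T * Ro⁻¹ with hT₂
  refine S.false_of_phase hM hno h5 hrs hxx hdet hp'r hp's hqr' hqs' hqp' hp'0 hqq' ha
    (g := T₂ * T⁻¹) (K.mul_mem (K.mul_mem (K.mul_mem hRo hT) (K.inv_mem hRo)) (K.inv_mem hT)) fun z => ?_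
  have hRyy : H.h (Ro.1.1 y) (Ro.1.1 y) = H.h y y := H.map_form _ _ _
  have hre : H.h (Ro.1.1 y) y = H.h y (Ro.1.1 y) := (H.symm (Ro.1.1 y) y).trans (S.fixed ⟨_, hreal hy hyR⟩)
  have hθ : -(a * H.σ a * (S.form p' p' : F)) / 2 = H.h y (Ro.1.1 y) - H.h y y := by
    have : H.h (a • ι p') (a • ι p') = a * H.σ a * (S.form p' p' : F) := by
      rw [H.smul_left, H.smul_right, ← S.coe_form]; ring
    rw [← this, ← hdiff]
    simp only [H.sub_left, H.sub_right, hRyy, hre]
    have := S.two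
    field_simp
    ring
  have hT₂app : ∀ z, T₂.1.1 z = z + H.h z x • Ro.1.1 y + (θ₀ * H.h z x - H.h z (Ro.1.1 y)) • x := fun z => by
    have e : ∀ t, H.h ((Ro⁻¹).1.1 z) t = H.h z (Ro.1.1 t) := fun t => by
      rw [← H.map_form Ro.1, show Ro.1.1 ((Ro⁻¹).1.1 z) = z from H.apply_inv_self Ro.1 z]
    rw [hT₂, smul_mul_apply, smul_mul_apply, hTdef, sS_apply, OneMemClass.coe_one, one_smul, map_add, map_add,
      map_smul, map_smul, hRx, show Ro.1.1 ((Ro⁻¹).1.1 z) = z from H.apply_inv_self Ro.1 z, e, e, hRx]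
  obtain ⟨u, rfl⟩ : ∃ u, T.1.1 u = z := ⟨_, H.apply_inv_self T.1 z⟩
  rw [smul_mul_apply, show (T⁻¹).1.1 (T.1.1 u) = u from H.inv_apply_self T.1 u, hT₂app, hθ,
    show H.σ a * H.h (T.1.1 u) (ι p') = H.h (T.1.1 u) (Ro.1.1 y - y) by rw [hdiff, H.smul_right], ← hdiff, hTdef,
    sS_apply, OneMemClass.coe_one, one_smul]
  simp only [H.add_left, H.sub_left, H.smul_left, H.sub_right, hxx, hy.orth, H.eq_zero_symm hy.orth,
    H.eq_zero_symm hyR.orth]
  match_scalars <;> ring

end OrthStructure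

end HermSpace

end Cfsg.Lib.Classical
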