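import Mathlib
import Cfsg.Agent.Classical.Unitary.OrthSubFourPoint

set_option autoImplicit false
set_option linter.unusedVariables false
set_option linter.unusedSimpArgs false
set_option linter.unusedSectionVars false
set_option linter.style.haveILetI false

/-! The stabiliser of a symmetric rational structure is maximal in dimension four, over at least five elements. -/

namespace Cfsg.Lib.Classical

universe u v w

variable {F : Type u} [Field F] {V : Type v} [AddCommGroup V] [Module F V]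

namespace HermSpace

variable {H : HermSpace F V} {F₀ : Subfield F} {K : Subgroup H.SIsom}

namespace OrthStructure

variable {V₀ : Type w} [AddCommGroup V₀] [Module F₀ V₀] {ι : V₀ →+ V} {τ : F}
  (S : H.OrthStructure F₀ ι τ)
  (hM : ∀ g : H.SIsom, (∃ a : F, a ≠ 0 ∧ ∀ u, ∃ r, g.1.1 (ι u) = a • ι r) → g ∈ K)

include S hM

/-- A centre spreads to orthogonal rational isotropic vectors. -/
theorem centre_step_any [FiniteDimensional F₀ V₀] {x : V} (hx : x ∈ H.uCentres K) {w : V₀} (hw : S.form w w = 0)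
    (hxw : H.h x (ι w) = 0) (hne : ∀ c : F, x ≠ c • ι w) : ι w ∈ H.uCentres K := by
  rcases eq_or_ne w 0 with rfl | hw0
  · rw [map_zero]; exact H.uCentres_zero K
  obtain ⟨v, hvw, hvx⟩ : ∃ v, S.form v w = 0 ∧ H.h (ι v) x ≠ 0 := by
    by_contra hc
    push Not at hc
    obtain ⟨u, -, huw⟩ := S.exists_partner hw hw0
    refine hne (H.σ (H.h (ι u) x)) (sub_eq_zero.mp (S.eq_zero_of_orth fun z => ?_))
    apply H.eq_zero_symm
    have hz0 := hc (z - S.form z w • u) (by
      rw [map_sub, map_smul, LinearMap.sub_apply, LinearMap.smul_apply, smul_eq_mul, huw, mul_one, sub_self])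
    rw [map_sub, S.smul, H.sub_left, H.smul_left, sub_eq_zero, S.coe_form] at hz0
    rw [H.sub_right, H.smul_right, H.conj.invol, hz0, mul_comm, sub_self]
  obtain ⟨c, hc0, hc⟩ : ∃ c : F, c ≠ 0 ∧ c + H.σ c = 0 := ⟨τ, S.ne_zero, S.skew⟩
  have h0 := S.axes_rational hM hw hvw
  have h1 := h0.map (g := H.sT hx.1 hc) (hx.2 c hc)
  rw [sT_apply, sT_apply, H.eq_zero_symm hxw, mul_zero, zero_smul, add_zero] at h1
  refine h1.centre S.fixed_mem h0 fun hmem => ?_
  rw [H.add_left, H.smul_left] at hmem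
  have hm := F₀.sub_mem hmem (S.real v v)
  rw [add_sub_cancel_left] at hm
  have e := S.fixed ⟨_, hm⟩
  simp only [map_mul, ← H.symm x (ι v), ← H.symm (ι v) x, eq_neg_of_add_eq_zero_right hc] at e
  have hxv : H.h x (ι v) ≠ 0 := fun h => hvx (H.eq_zero_symm h)
  have h2 : (2 : F) * (c * H.h (ι v) x * H.h x (ι v)) = 0 := by linear_combination -e
  exact mul_ne_zero S.two (mul_ne_zero (mul_ne_zero hc0 hvx) hxv) h2

/-- All rational isotropic vectors are centres once one is. -/
theorem rational_centres [Finite F] [FiniteDimensional F V] [FiniteDimensional F₀ V₀]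
    (h4 : Module.finrank F₀ V₀ = 4) {w₀ : V₀} (hw₀ : S.form w₀ w₀ = 0) (hw₀0 : w₀ ≠ 0)
    (hc0 : ι w₀ ∈ H.uCentres K) : ∀ u, S.form u u = 0 → ι u ∈ H.uCentres K := by
  intro u hu
  by_cases hwu : S.form w₀ u = 0
  · by_cases hex : ∃ c : F, ι w₀ = c • ι u
    · obtain ⟨c, hc⟩ := hex
      have := uCentres_smul hc0 c⁻¹
      rwa [hc, smul_smul, inv_mul_cancel₀ (fun h => hw₀0 (S.inj _ (by rw [hc, h, zero_smul]))), one_smul] at this
    push Not at hex
    exact S.centre_step_any hM hc0 hu (S.h_eq_zero hwu) hex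
  obtain ⟨v, hvw, hvu, hvv⟩ := S.exists_aniso_perp h4 (r := w₀) (s := u) (by
    rw [hw₀, hu, zero_mul, zero_sub]; exact neg_ne_zero.mpr (mul_ne_zero hwu hwu))
  set d := w₀ - u with hd
  have hdd : S.form d d = -(2 * S.form w₀ u) := by simp [hd, hw₀, hu, S.form_symm u w₀]; ring
  have hdd0 : S.form d d ≠ 0 := by rw [hdd]; exact neg_ne_zero.mpr (mul_ne_zero S.two_ne_zero' hwu)
  obtain ⟨g, hg, hgr, -⟩ := S.exists_rot hM (u := d) (v := v) hdd0 hvv
  have := uCentres_map hc0 hg
  rw [hgr] at this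
  convert this using 2
  have e1 : S.form w₀ d = -S.form w₀ u := by simp [hd, hw₀]
  simp only [refl, S.form_symm w₀ v, hvw, mul_zero, zero_div, zero_smul, sub_zero, e1, hdd]
  rw [mul_neg, neg_div_neg_eq, div_self (mul_ne_zero S.two_ne_zero' hwu), one_smul, hd]
  abel

theorem axes_self {v : V₀} (hv : ι v ∈ H.uCentres K) (φ : F) : H.Axes F₀ K (ι v) (φ • ι v) := by
  intro l
  obtain ⟨hvv, hK⟩ := hv
  have hy : H.h ((l : F) • φ • ι v) (ι v) = 0 := by rw [H.smul_left, H.smul_left, hvv, mul_zero, mul_zero]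
  have ha : (0 : F) + H.σ 0 = -H.h ((l : F) • φ • ι v) ((l : F) • φ • ι v) := by
    simp [H.smul_left, H.smul_right, hvv]
  refine ⟨hvv, hy, 0, ha, ?_⟩
  have hc : (l : F) * φ - H.σ ((l : F) * φ) + H.σ ((l : F) * φ - H.σ ((l : F) * φ)) = 0 := by
    rw [map_sub, H.conj.invol]; ring
  convert hK _ hc using 1
  refine H.sisom_ext fun z => ?_
  rw [sS_apply]
  change _ = (H.uT hvv hc).1 z
  rw [uT_apply, H.smul_right, H.smul_right, map_mul]
  module

set_option maxHeartbeats 1000000 in
/-- A rational centre gives the whole group. -/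
theorem top_of_centre_four [Finite F] [FiniteDimensional F V] [FiniteDimensional F₀ V₀]
    (hd : 4 ≤ Module.finrank F V) (h4 : Module.finrank F₀ V₀ = 4) (h5 : 5 ≤ Nat.card F₀)
    {v : V₀} (hv : S.form v v = 0) (hv0 : v ≠ 0) (hc0 : ι v ∈ H.uCentres K) : K = ⊤ := by
  have hrat := S.rational_centres hM h4 hv hv0 hc0
  refine eq_top_of_uCentres (Or.inl hd) fun y hyy => ?_
  obtain ⟨u, huu, huv⟩ := S.exists_partner hv hv0
  have hdet : S.form u u * S.form v v - S.form u v * S.form u v ≠ 0 := by rw [huu, hv, huv]; simp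
  obtain ⟨p, hpu, hpv, hpp⟩ := S.exists_aniso_perp h4 hdet
  obtain ⟨q, hqu, hqv, hqp, hqq, hdec⟩ := S.exists_frame h4 hdet hpu hpv hpp
  rcases eq_or_ne y 0 with rfl | hy0
  · exact H.uCentres_zero K
  obtain ⟨v, hv, hyv⟩ : ∃ v, S.form v v = 0 ∧ H.h y (ι v) ≠ 0 := by
    by_contra hc
    push Not at hc
    refine hy0 (S.eq_zero_of_orth fun t => ?_)
    have hyw : ∀ w, S.form w u = 0 → S.form w v = 0 → H.h y (ι w) = 0 := fun w h1 h2 => by
      have h := hc ((-(S.form w w / 2)) • v + u + w) (by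
        have h2' := S.two_ne_zero'
        simp [huu, hv, huv, S.form_symm v u, h1, h2, S.form_symm u w, S.form_symm v w]
        field_simp
        ring)
      rw [map_add, map_add, S.smul, H.add_right, H.add_right, H.smul_right, hc v hv, hc u huu] at h
      simpa using h
    set w := t - S.form t u • v - S.form t v • u with hw
    have e : t = w + S.form t u • v + S.form t v • u := by rw [hw]; abel
    rw [e, map_add, map_add, S.smul, S.smul, H.add_right, H.add_right, H.smul_right, H.smul_right, hc v hv,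
      hc u huu, hyw w (by simp [hw, huu, huv, S.form_symm v u]) (by simp [hw, hv, huv]), mul_zero, mul_zero,
      add_zero, add_zero]
  clear hpu hpv hqu hqv hqp hdec hqq hpp hdet huv huu
  have hv0 : v ≠ 0 := fun e => hyv (by rw [e, map_zero, H.zero_right])
  clear u p q
  obtain ⟨u, huu, huv⟩ := S.exists_partner hv hv0
  have hdet : S.form u u * S.form v v - S.form u v * S.form u v ≠ 0 := by rw [huu, hv, huv]; simp
  obtain ⟨p, hpu, hpv, hpp⟩ := S.exists_aniso_perp h4 hdet
  obtain ⟨q, hqu, hqv, hqp, hqq, hdec⟩ := S.exists_frame h4 hdet hpu hpv hpp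
  have hvv := S.h_eq_zero hv
  -- a centre orthogonal to `v` and not rational
  have hστ := eq_neg_of_add_eq_zero_right S.skew
  obtain ⟨z, hz, α, β, hβ, t, ht, hzv, hzp, hzq⟩ : ∃ (z : V) (_ : z ∈ H.uCentres K) (α β : F₀) (_ : β ≠ 0)
      (t : F₀) (_ : t ≠ 0), H.h z (ι v) = 0 ∧ H.h z (ι p) = ((α : F) + t * τ) * (S.form p p : F) ∧
        H.h z (ι q) = (β : F) * (S.form q q : F) := by
    have hν : τ * τ ∈ F₀ := S.fixed_mem _ (by rw [map_mul, hστ, neg_mul_neg])
    set ν : F₀ := ⟨_, hν⟩ with hνdef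
    have hνF : (ν : F) = τ * τ := rfl
    obtain ⟨t, ht, ht1⟩ := S.exists_sq_ne h5 (one_ne_zero (α := F₀))
      (fun h => S.ne_zero (mul_self_eq_zero.mp (congrArg Subtype.val h)) : ν ≠ 0)
    classical
    haveI : Finite F₀ := Finite.of_injective _ Subtype.val_injective
    haveI := Fintype.ofFinite F₀
    have hodd : Fintype.card F₀ % 2 = 1 := by
      refine FiniteField.odd_card_of_char_ne_two (fun h => ?_)
      haveI : CharP F₀ 2 := h ▸ ringChar.charP F₀
      exact S.two_ne_zero' (CharTwo.two_eq_zero)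
    obtain ⟨α₀, β, hab⟩ := FiniteField.exists_root_sum_quadratic
      (f := Polynomial.C (S.form p p) * Polynomial.X ^ 2)
      (g := Polynomial.C (S.form q q) * Polynomial.X ^ 2 + Polynomial.C (-(t * t * ν * S.form p p)))
      (Polynomial.degree_C_mul_X_pow 2 hpp)
      (by rw [Polynomial.degree_add_C (by rw [Polynomial.degree_C_mul_X_pow 2 hqq]; decide),
        Polynomial.degree_C_mul_X_pow 2 hqq]; rfl) hodd
    simp only [Polynomial.eval_mul, Polynomial.eval_add, Polynomial.eval_C, Polynomial.eval_pow,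
      Polynomial.eval_X] at hab
    -- choose the sign of `α₀` so that the two points are not orthogonal
    obtain ⟨α, hα, hne⟩ : ∃ α, α * α = α₀ * α₀ ∧ 1 + t * t * ν - 2 * α ≠ 0 := by
      by_cases h : 1 + t * t * ν - 2 * α₀ = 0
      · refine ⟨-α₀, by ring, fun h' => ht1 ?_⟩
        have : (2 : F₀) * (1 + t * t * ν) = 0 := by linear_combination h + h'
        exact (mul_eq_zero.mp this).resolve_left S.two_ne_zero'
      · exact ⟨α₀, rfl, h⟩
    have hQ : α * α * S.form p p + β * β * S.form q q = t * t * ν * S.form p p := by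
      linear_combination hab + S.form p p * hα
    have hβ : β ≠ 0 := by
      intro h
      have h1 : (α * α - t * t * ν) * S.form p p = 0 := by rw [h] at hQ; linear_combination hQ
      have hF := congrArg (Subtype.val : F₀ → F) ((mul_eq_zero.mp h1).resolve_right hpp)
      push_cast [hνF] at hF
      have h2 : ((α : F) - τ * t) * ((α : F) + τ * t) = 0 := by linear_combination hF
      rcases mul_eq_zero.mp h2 with h3 | h3
      · exact ht (neg_eq_zero.mp (S.coef_eq_zero (A := α) (B := -t) (by push_cast; linear_combination h3)).2)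
      · exact ht (S.coef_eq_zero h3).2
    set w₁ := α • p + β • q with hw₁
    set u₁ := (-(t * t * ν * S.form p p / 2)) • v + u + w₁ with hu₁
    set u₂ := (-(S.form p p / 2)) • v + u + p with hu₂
    have h2' := S.two_ne_zero'
    have f1 : S.form u₁ u₁ = 0 := by
      simp [hu₁, hw₁, huu, hv, huv, hpu, hpv, hqu, hqv, hqp, S.form_symm v u, S.form_symm u p, S.form_symm v p,
        S.form_symm u q, S.form_symm v q, S.form_symm p q]
      field_simp
      linear_combination 2 * hQ
    have f2 : S.form u₂ u₂ = 0 := by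
      simp [hu₂, huu, hv, huv, hpu, hpv, S.form_symm v u, S.form_symm u p, S.form_symm v p]
      field_simp
      ring
    have f12 : S.form u₁ u₂ = -(S.form p p) * (1 + t * t * ν - 2 * α) / 2 := by
      simp [hu₁, hw₁, hu₂, huu, hv, huv, hpu, hpv, hqu, hqv, hqp, S.form_symm v u, S.form_symm u p,
        S.form_symm v p, S.form_symm u q, S.form_symm v q, S.form_symm p q]
      field_simp
      ring
    have g11 := S.h_eq_zero f1
    have g22 := S.h_eq_zero f2
    have g12 : H.h (ι u₁) (ι u₂) = (S.form u₁ u₂ : F) := (S.coe_form _ _).symm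
    have g21 : H.h (ι u₂) (ι u₁) = (S.form u₁ u₂ : F) := by rw [S.form_symm]; exact (S.coe_form _ _).symm
    have hne12 : H.h (ι u₁) (ι u₂) ≠ 0 := by
      rw [g12]
      intro h
      have h' : S.form u₁ u₂ = 0 := Subtype.ext h
      rw [f12] at h'
      simp [hpp, hne, h2'] at h'
    set z₁ := (1 : F) • ι u₁ + ((t : F) * τ) • ι u₂ with hz₁
    have hz₁z₁ : H.h z₁ z₁ = 0 := by
      simp only [hz₁, H.add_left, H.add_right, H.smul_left, H.smul_right, g11, g22, g12, g21, map_one, map_mul,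
        S.fixed, hστ]
      ring
    have hz₁c := uCentres_span (hrat _ f1) (hrat _ f2) hne12 hz₁z₁
    have k1 : S.form u₁ u = -(t * t * ν * S.form p p / 2) := by
      simp [hu₁, hw₁, huu, hv, huv, hpu, hpv, hqu, hqv, S.form_symm v u]
    have k2 : S.form u₂ u = -(S.form p p / 2) := by simp [hu₂, huu, huv, hpu, S.form_symm v u]
    have k3 : S.form u₁ v = 1 := by simp [hu₁, hw₁, hv, huv, hpv, hqv]
    have k4 : S.form u₂ v = 1 := by simp [hu₂, hv, huv, hpv]
    have g1 : H.h z₁ (ι u) = -((t : F) * t * (τ * τ) * (S.form p p : F) / 2) -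
        (t : F) * τ * ((S.form p p : F) / 2) := by
      rw [hz₁, H.add_left, H.smul_left, H.smul_left, ← S.coe_form, ← S.coe_form, k1, k2]
      have h2c : ((2 : F₀) : F) = 2 := map_ofNat F₀.subtype 2
      push_cast [hνF, h2c]
      ring
    have g2 : H.h z₁ (ι v) = 1 + (t : F) * τ := by
      rw [hz₁, H.add_left, H.smul_left, H.smul_left, S.h_eq k3, S.h_eq k4, OneMemClass.coe_one]
      ring
    have g3 : H.h z₁ (ι u) ≠ 0 := by
      rw [g1]
      intro h
      have h' := congrArg H.σ h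
      simp only [map_sub, map_neg, map_div₀, map_mul, S.fixed, hστ, map_ofNat, map_zero] at h'
      have h3 : (t : F) * τ * (S.form p p : F) = 0 := by
        have h4 : (2 : F) * ((t : F) * τ * ((S.form p p : F) / 2)) = 0 := by linear_combination h' - h
        rw [← h4]
        have := S.two
        field_simp
      simp [S.ne_zero, ht, hpp] at h3
    set z := (1 : F) • z₁ + (-(1 + (t : F) * τ)) • ι u with hz
    have hzz : H.h z z = 0 := by
      have g1' : H.h (ι u) z₁ = H.σ (H.h z₁ (ι u)) := H.symm _ _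
      simp only [hz, H.add_left, H.add_right, H.smul_left, H.smul_right, hz₁z₁, S.h_eq_zero huu, g1', g1, map_one,
        map_neg, map_add, map_sub, map_div₀, map_mul, S.fixed, hστ, map_ofNat]
      ring
    refine ⟨z, uCentres_span hz₁c (hrat u huu) g3 hzz, α, β, hβ, t, ht, ?_, ?_, ?_⟩
    · rw [hz, H.add_left, H.smul_left, H.smul_left, g2, S.h_eq huv, OneMemClass.coe_one]
      ring
    · have l1 : S.form u₁ p = α * S.form p p := by
        simp [hu₁, hw₁, hpu, hpv, hqp, S.form_symm v p, S.form_symm u p]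
      have l2 : S.form u₂ p = S.form p p := by simp [hu₂, hpu, hpv, S.form_symm v p, S.form_symm u p]
      rw [hz, hz₁, H.add_left, H.smul_left, H.smul_left, H.add_left, H.smul_left, H.smul_left, ← S.coe_form,
        ← S.coe_form, ← S.coe_form, l1, l2, S.form_symm u p, hpu]
      push_cast
      ring
    · have l1 : S.form u₁ q = β * S.form q q := by
        simp [hu₁, hw₁, hqu, hqv, hqp, S.form_symm v q, S.form_symm u q, S.form_symm p q]
      have l2 : S.form u₂ q = 0 := by
        simp [hu₂, hqu, hqv, hqp, S.form_symm v q, S.form_symm u q, S.form_symm p q]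
      rw [hz, hz₁, H.add_left, H.smul_left, H.smul_left, H.add_left, H.smul_left, H.smul_left, ← S.coe_form,
        ← S.coe_form, ← S.coe_form, l1, l2, S.form_symm u q, hqu]
      push_cast
      ring
  -- multiples of `z` are axes at `v`
  have hzax : ∀ a : V₀, S.form a v = 0 → H.Axes F₀ K (ι v) ((τ * H.h (ι a) z) • z) := fun a ha => by
    have h0 := S.axes_rational hM hv ha
    have h1 := h0.map (g := H.sT hz.1 S.skew) (hz.2 τ S.skew)
    rw [sT_apply, sT_apply, H.eq_zero_symm hzv, mul_zero, zero_smul, add_zero] at h1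
    simpa using h1.sub h0
  have hpF : (S.form p p : F) ≠ 0 := fun h => hpp (Subtype.ext h)
  have hqF : (S.form q q : F) ≠ 0 := fun h => hqq (Subtype.ext h)
  have hβF : (β : F) ≠ 0 := fun h => hβ (Subtype.ext h)
  have hqz : H.h (ι q) z = (β : F) * (S.form q q : F) := by
    rw [H.symm, hzq, map_mul, S.fixed, S.fixed]
  have hpz : H.h (ι p) z = ((α : F) - t * τ) * (S.form p p : F) := by
    rw [H.symm, hzp, map_mul, map_add, map_mul, S.fixed, S.fixed, S.fixed, hστ]; ring
  have hν' : (t : F) * (τ * τ) ∈ F₀ := F₀.mul_mem t.2 (S.fixed_mem _ (by rw [map_mul, hστ, neg_mul_neg]))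
  have hτz : H.Axes F₀ K (ι v) (τ • z) := by
    have := (hzax q hqv).smul (β * S.form q q)⁻¹
    convert this using 1
    rw [hqz]
    push_cast
    match_scalars
    field_simp
  have hν0 : (⟨_, hν'⟩ : F₀) ≠ 0 := fun h => by
    have := congrArg Subtype.val h
    simp [S.ne_zero, ht] at this
  have hone : H.Axes F₀ K (ι v) z := by
    have := (((hτz.smul (α * S.form p p)).sub (hzax p hpv)).smul ((S.form p p)⁻¹ * (⟨_, hν'⟩ : F₀)⁻¹))
    convert this using 1
    rw [hpz]
    push_cast
    have := S.ne_zero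
    have : (t : F) ≠ 0 := fun h => ht (Subtype.ext h)
    match_scalars
    field_simp
    ring
  -- the parts of `z`
  obtain ⟨c, hzdec⟩ : ∃ c : F, z = c • ι v + ((α : F) + t * τ) • ι p + (β : F) • ι q := by
    refine ⟨H.h z (ι u), sub_eq_zero.mp (S.eq_zero_of_orth fun w => ?_)⟩
    have ew : w = S.form w u • v + S.form w v • u + (S.form w p / S.form p p) • p + (S.form w q / S.form q q) • q := by
      have := hdec (w - S.form w u • v - S.form w v • u) (by simp [huu, S.form_symm v u, huv])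
        (by simp [hv, huv])
      simp only [map_sub, map_smul, LinearMap.sub_apply, LinearMap.smul_apply, smul_eq_mul, S.form_symm v p,
        S.form_symm u p, S.form_symm v q, S.form_symm u q, hpu, hpv, hqu, hqv, mul_zero, sub_zero] at this
      linear_combination (norm := module) this
    have huv' : H.h (ι v) (ι u) = 1 := by rw [S.real', S.h_eq huv]; rfl
    have hpu' := S.h_eq_zero hpu
    have hpv' := S.h_eq_zero hpv
    have hqu' := S.h_eq_zero hqu
    have hqv' := S.h_eq_zero hqv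
    have hqp' := S.h_eq_zero hqp
    have hpp' : H.h (ι p) (ι p) = (S.form p p : F) := (S.coe_form p p).symm
    have hqq' : H.h (ι q) (ι q) = (S.form q q : F) := (S.coe_form q q).symm
    rw [ew]
    simp only [map_add, S.smul, H.add_left, H.sub_left, H.add_right, H.smul_left, H.smul_right, hzv, hzp, hzq,
      huv', hvv, hpu', hpv', hqu', hqv', hqp', H.eq_zero_symm hpv', H.eq_zero_symm hqv', H.eq_zero_symm hqp',
      hpp', hqq']
    ring
  have hax : ∀ a, S.form a v = 0 → H.Axes F₀ K (ι v) (τ • ι a) := by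
    have hτp : H.Axes F₀ K (ι v) (τ • ι p) := by
      have h1 := ((hone.sub (S.axes_self hM (hrat v hv) c)).sub
        (((S.axes_rational hM hv hpv).smul α).add ((S.axes_rational hM hv hqv).smul β))).smul t⁻¹
      convert h1 using 1
      rw [hzdec]
      push_cast
      have : (t : F) ≠ 0 := fun h => ht (Subtype.ext h)
      match_scalars <;> field_simp <;> ring
    have hτq : H.Axes F₀ K (ι v) (τ • ι q) := by
      have h1 := (((hτz.sub (S.axes_self hM (hrat v hv) (τ * c))).sub (hτp.smul α)).sub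
        ((S.axes_rational hM hv hpv).smul ⟨_, hν'⟩)).smul β⁻¹
      convert h1 using 1
      rw [hzdec]
      push_cast
      match_scalars <;> field_simp <;> ring
    intro a ha
    have e := hdec (a - S.form a u • v) (by simp [S.form_symm v u, huv]) (by simp [ha, hv])
    rw [eq_add_of_sub_eq' e, map_add, map_add, S.smul, S.smul, S.smul, smul_add, smul_add]
    refine Axes.add ?_ (Axes.add ?_ ?_)
    · rw [smul_smul]; exact S.axes_self hM (hrat v hv) _
    · rw [smul_comm]; exact hτp.smul _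
    · rw [smul_comm]; exact hτq.smul _
  have huv' : H.h (ι u) (ι v) = 1 := by rw [S.h_eq huv]; rfl
  have huu' := S.h_eq_zero huu
  set y' := (H.h y (ι v))⁻¹ • y with hy'
  have hy'v : H.h y' (ι v) = 1 := by rw [hy', H.smul_left, inv_mul_cancel₀ hyv]
  have hy'y' : H.h y' y' = 0 := by rw [hy', H.smul_left, H.smul_right, hyy, mul_zero, mul_zero]
  set w := y' - ι u with hw
  have hwv : H.h w (ι v) = 0 := by rw [hw, H.sub_left, hy'v, huv', sub_self]
  obtain ⟨p, p', hpp'⟩ := S.span w
  have hp : S.form p v = 0 ∧ S.form p' v = 0 := by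
    have h := hwv
    rw [hpp', H.add_left, H.smul_left, ← S.coe_form, ← S.coe_form] at h
    have h' := congrArg H.σ h
    rw [map_add, map_mul, S.fixed, S.fixed, map_zero, eq_neg_of_add_eq_zero_right S.skew] at h'
    have h3 : (2 : F) * (S.form p v : F) = 0 := by linear_combination h + h'
    have h4 : (S.form p v : F) = 0 := (mul_eq_zero.mp h3).resolve_left S.two
    rw [h4, zero_add] at h
    exact ⟨Subtype.ext h4, Subtype.ext ((mul_eq_zero.mp h).resolve_left S.ne_zero)⟩
  have hwA : H.Axes F₀ K (ι v) w := by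
    rw [hpp']; exact (S.axes_rational hM hv hp.1).add (hax p' hp.2)
  obtain ⟨_, hw', a, ha, hm⟩ := hwA 1
  have e1 : ((1 : F₀) : F) • w = w := by rw [OneMemClass.coe_one, one_smul]
  have hb : H.h (ι u) w + H.σ (H.h (ι u) w) = -H.h w w := by
    rw [← H.symm, hw]
    simp only [H.sub_left, H.sub_right, hy'y', huu']
    ring
  have hd' : H.h (ι u) w - a + H.σ (H.h (ι u) w - a) = 0 := by
    rw [e1] at ha
    rw [map_sub]; linear_combination hb - ha
  have hmem : H.sS hvv hwv hb ∈ K := by
    have := K.mul_mem hm ((hrat v hv).2 _ hd')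
    convert this using 1
    refine H.sisom_ext fun z => ?_
    simp only [smul_mul_apply, sS_apply, uT_apply, OneMemClass.coe_one, one_smul, H.add_left, H.smul_left, hvv,
      H.eq_zero_symm hwv]
    module
  have hC := uCentres_map (hrat u huu) hmem
  rw [sS_apply, huv', mul_one, sub_self, zero_smul, add_zero, one_smul, hw, add_sub_cancel] at hC
  have := uCentres_smul hC (H.h y (ι v))
  rwa [hy', smul_smul, mul_inv_cancel₀ hyv, one_smul] at this

/-- Moving every rational isotropic point rationally means lying in the stabiliser. -/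
theorem scaled_of_four [Finite F] [FiniteDimensional F₀ V₀] (hd : Module.finrank F₀ V₀ = 4) {g : H.SIsom}
    (h : ∀ w, S.form w w = 0 → ∃ (a : F) (p : V₀), g.1.1 (ι w) = a • ι p) :
    ∃ a : F, a ≠ 0 ∧ ∀ u, ∃ r, g.1.1 (ι u) = a • ι r := by
  obtain ⟨w₀, v₀, -, -, hw₀, hv₀, hwv⟩ := S.exists_pair (k := 0) ![] (by omega)
  obtain ⟨a, p₀, hp₀⟩ := h w₀ hw₀
  have hw0 : ι w₀ ≠ 0 := fun e => by
    rw [S.inj _ e, LinearMap.map_zero₂] at hwv; exact zero_ne_one hwv
  have ha : a ≠ 0 := fun e => H.isom_ne_zero g.1 hw0 (by rw [hp₀, e, zero_smul])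
  have hNa : ∀ {b b' : F} {p p' : V₀} {u u' : V₀}, g.1.1 (ι u) = b • ι p → g.1.1 (ι u') = b' • ι p' →
      S.form u u' ≠ 0 → b' ≠ 0 ∧ b / b' ∈ F₀ := by
    intro b b' p p' u u' he he' hne
    have h1 := H.map_form g.1 (ι u) (ι u')
    rw [he, he', H.smul_left, H.smul_right] at h1
    have hne' : H.h (ι u) (ι u') ≠ 0 := fun e => hne (Subtype.ext e)
    have hb' : b' ≠ 0 := fun e => hne' (by rw [← h1, e, map_zero]; ring)
    have hσb : H.σ b' ≠ 0 := (map_ne_zero _).mpr hb'
    have hpp : H.h (ι p) (ι p') ≠ 0 := fun e => hne' (by rw [← h1, e]; ring)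
    refine ⟨hb', ?_⟩
    rw [show b / b' = H.h (ι u) (ι u') / ((b' * H.σ b') * H.h (ι p) (ι p')) by
      rw [← h1]; field_simp]
    rw [div_eq_mul_inv]
    exact F₀.mul_mem (S.real u u')
      (F₀.inv_mem (F₀.mul_mem (S.fixed_mem _ (H.conj.norm_mem b')) (S.real p p')))
  have hmem : ∀ v, S.form v v = 0 → S.form v w₀ ≠ 0 → ∃ r, g.1.1 (ι v) = a • ι r := by
    intro v hv hne
    obtain ⟨b, p, hp⟩ := h v hv
    obtain ⟨-, hq⟩ := hNa hp hp₀ hne
    exact ⟨(⟨_, hq⟩ : F₀) • p, by rw [S.smul, smul_smul, mul_div_cancel₀ _ ha, ← hp]⟩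
  let A : Submodule F₀ V₀ :=
    { carrier := {u | ∃ r, g.1.1 (ι u) = a • ι r}
      add_mem' := fun {u u'} ⟨r, hr⟩ ⟨r', hr'⟩ => ⟨r + r', by rw [map_add, map_add, map_add, hr, hr', smul_add]⟩
      zero_mem' := ⟨0, by rw [map_zero, map_zero, smul_zero]⟩
      smul_mem' := fun c u ⟨r, hr⟩ => ⟨c • r, by rw [S.smul, S.smul, map_smul, hr, smul_comm]⟩ }
  have hv₀w : S.form v₀ w₀ = 1 := by rw [S.form_symm, hwv]
  have hvA : v₀ ∈ A := hmem v₀ hv₀ (by rw [hv₀w]; exact one_ne_zero)
  have hwA : w₀ ∈ A := ⟨p₀, hp₀⟩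
  refine ⟨a, ha, fun u => ?_⟩
  set z := u - S.form u v₀ • w₀ - S.form u w₀ • v₀ with hz
  have hzw : S.form z w₀ = 0 := by simp [hz, hw₀, hv₀w]
  have hzv : S.form z v₀ = 0 := by simp [hz, hv₀, hwv]
  set l := -(S.form z z / 2)
  have h2 := S.two_ne_zero'
  have hzA : z + v₀ + l • w₀ ∈ A := by
    refine hmem _ ?_ (by simp [hzw, hv₀w, hw₀])
    simp only [map_add, map_smul, LinearMap.add_apply, LinearMap.smul_apply, smul_eq_mul, hw₀, hv₀, hwv, hv₀w,
      hzw, hzv, S.form_symm w₀ z, S.form_symm v₀ z, l]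
    field_simp
    ring
  have e : u = (z + v₀ + l • w₀) + (S.form u v₀ - l) • w₀ + (S.form u w₀ - 1) • v₀ := by rw [hz]; module
  have : u ∈ A := by rw [e]; exact A.add_mem (A.add_mem hzA (A.smul_mem _ hwA)) (A.smul_mem _ hvA)
  exact this

omit hM in
theorem isCoatom_four [Finite F] [FiniteDimensional F V] [FiniteDimensional F₀ V₀] (hd : 4 ≤ Module.finrank F V)
    (h4 : Module.finrank F₀ V₀ = 4) (h5 : 5 ≤ Nat.card F₀) {M : Subgroup H.SIsom}
    (hM : ∀ g : H.SIsom, g ∈ M ↔ ∃ a : F, a ≠ 0 ∧ ∀ u, ∃ r, g.1.1 (ι u) = a • ι r) : IsCoatom M := by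
  refine ⟨fun htop => ?_, fun K hlt => ?_⟩
  · obtain ⟨v, w, -, -, hvv, hww, hvw⟩ := S.exists_pair (k := 0) ![] (by omega)
    obtain ⟨a, ha, hg⟩ := (hM _).mp (htop ▸ Subgroup.mem_top (H.sT (S.h_eq_zero hvv) S.skew))
    obtain ⟨r, hr⟩ := hg w
    obtain ⟨r', hr'⟩ := hg v
    rw [sT_apply, S.h_eq (by rw [S.form_symm, hvw] : S.form w v = 1), OneMemClass.coe_one, mul_one] at hr
    rw [sT_apply, S.h_eq_zero hvv, mul_zero, zero_smul, add_zero] at hr'
    have h1 := congrArg (fun x => H.h x (ι w)) hr'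
    rw [H.smul_left, S.h_eq hvw, OneMemClass.coe_one] at h1
    have hne : H.h (ι r') (ι w) ≠ 0 := fun e => one_ne_zero (h1.trans (by rw [e, mul_zero]))
    have hamem : a ∈ F₀ := by
      rw [show a = (H.h (ι r') (ι w))⁻¹ from eq_inv_of_mul_eq_one_left h1.symm]
      exact F₀.inv_mem (S.real r' w)
    have h2 := congrArg (fun x => H.h x (ι w)) hr
    rw [H.add_left, H.smul_left, H.smul_left, S.h_eq_zero hww, S.h_eq hvw, OneMemClass.coe_one, mul_one,
      zero_add] at h2
    have hτ : τ ∈ F₀ := h2 ▸ F₀.mul_mem hamem (S.real r w)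
    have h3 := S.skew
    rw [S.fixed ⟨τ, hτ⟩, ← two_mul] at h3
    exact mul_ne_zero S.two S.ne_zero h3
  have hK : ∀ g : H.SIsom, (∃ a : F, a ≠ 0 ∧ ∀ u, ∃ r, g.1.1 (ι u) = a • ι r) → g ∈ K :=
    fun g hg => hlt.le ((hM g).mpr hg)
  by_cases hno : ∀ w : V₀, S.form w w = 0 → w ≠ 0 → ι w ∉ H.uCentres K
  swap
  · push Not at hno
    obtain ⟨w, hw, hw0, hc⟩ := hno
    exact S.top_of_centre_four hK hd h4 h5 hw hw0 hc
  exfalso
  obtain ⟨g, hg, hgM⟩ := SetLike.exists_of_lt hlt
  refine hgM ((hM g).mpr (S.scaled_of_four hK h4 fun w hw => ?_))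
  rcases eq_or_ne w 0 with rfl | hw0
  · exact ⟨0, 0, by rw [map_zero, map_zero, zero_smul]⟩
  exact S.point_rational_four hK hno h4 h5 hg hw hw0

end OrthStructure

end HermSpace

end Cfsg.Lib.Classical
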