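import Mathlib
import Cfsg.Prelude.Def_GeometricClasses
import Cfsg.Agent.Classical.Unitary.OrthSubFour
import Cfsg.Agent.Classical.Unitary.SympSubMatrix

set_option autoImplicit false
set_option linter.unusedVariables false
set_option linter.unusedSimpArgs false
set_option linter.style.haveILetI false

/-! `O_4(q)` in `SU_4(q)` through matrices. -/

namespace Cfsg.Lib.Classical

universe u

open Matrix

variable {F : Type u} [Field F] [Fintype F] {q n : ℕ}

theorem isMaximalIn_orthSubfield_four (hF : Fintype.card F = q ^ 2) (hn : n = 4) (hq5 : 5 ≤ q) (hodd : Odd q) (F₀ : Subfield F)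
    (hcard : Fintype.card F = Nat.card F₀ ^ 2) (P : Matrix.GeneralLinearGroup (Fin n) F)
    (hP : Cfsg.Geo.IsFormRationalStructure (Cfsg.hermForm n F q) F₀ 1 P) :
    Cfsg.Geo.IsMaximalIn (Cfsg.GU n F q ⊓ Cfsg.Geo.specialLinear (Fin n) F)
      (Cfsg.Geo.subfieldSubgroup F₀ P ⊓ (Cfsg.GU n F q ⊓ Cfsg.Geo.specialLinear (Fin n) F)) := by
  classical
  refine isMaximalIn_of_isCoatom_comap (sunitToGL hF) (range_sunitToGL hF) ?_
  set H := stdHerm n hF
  have hq : Nat.card F₀ = q := Nat.pow_left_injective (by norm_num) (hcard.symm.trans hF)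
  haveI : Finite F₀ := Finite.of_injective _ Subtype.val_injective
  haveI : Fintype F₀ := Fintype.ofFinite _
  have hfix : ∀ a : F₀, H.σ (a : F) = a := fun a => by
    change powConj hF (a : F) = a
    have := FiniteField.pow_card a
    rw [← Nat.card_eq_fintype_card, hq] at this
    rw [powConj_apply, ← SubmonoidClass.coe_pow, this]
  have hfixmem : ∀ c, H.σ c = c → c ∈ F₀ := by
    haveI : Finite (fixedField H.σ) := Finite.of_injective _ Subtype.val_injective
    have hle : (F₀ : Set F) ⊆ (fixedField H.σ : Set F) := fun x hx => hfix ⟨x, hx⟩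
    have he := Set.eq_of_subset_of_ncard_le hle (by
      rw [← Nat.card_coe_set_eq, ← Nat.card_coe_set_eq]
      change Nat.card (fixedField H.σ) ≤ Nat.card F₀
      rw [hq]; exact (stdHerm_q hF).le)
    exact fun c hc => Set.ext_iff.mp he c |>.mpr hc
  have h2 : (2 : F) ≠ 0 := fun h => by
    haveI : CharP F 2 := CharTwo.of_one_ne_zero_of_two_eq_zero one_ne_zero h
    obtain ⟨m, -, hm⟩ := FiniteField.card F 2
    have : Odd (q ^ 2) := hodd.pow
    rw [← hF, hm] at this
    exact absurd this (by simp [Nat.even_pow, m.ne_zero])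
  obtain ⟨τ, hτ0, hτs⟩ := H.conj.exists_skew
  have hτ : τ ∉ F₀ := fun h => by
    rw [hfix ⟨τ, h⟩, ← two_mul] at hτs
    exact mul_ne_zero h2 hτ0 hτs
  let ι : (Fin n → F₀) →+ (Fin n → F) :=
    { toFun := fun u => P.val *ᵥ fun i => (u i : F)
      map_zero' := Matrix.mulVec_zero _
      map_add' := fun u v => Matrix.mulVec_add _ _ _ }
  have hιs : ∀ (a : F₀) (u : Fin n → F₀), ι (a • u) = (a : F) • ι u := fun a u =>
    Matrix.mulVec_smul P.val (a : F) fun i => (u i : F)
  have S : H.OrthStructure F₀ ι τ :=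
    { smul := hιs
      fixed := hfix
      fixed_mem := hfixmem
      real := fun u v => by
        have := hP _ _ (fun i => (u i).2) (fun i => (v i).2)
        rw [one_mul, ← stdHerm_h hF] at this
        exact this
      skew := hτs
      ne_zero := hτ0
      two := h2
      inj := fun u hu => by
        have := congrArg ((P⁻¹ : Matrix.GeneralLinearGroup (Fin n) F).val *ᵥ ·) hu
        simp only [ι, AddMonoidHom.coe_mk, ZeroHom.coe_mk, Matrix.mulVec_mulVec, ← Units.val_mul,
          inv_mul_cancel, Units.val_one, Matrix.one_mulVec, Matrix.mulVec_zero] at this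
        funext i
        exact Subtype.ext (congrFun this i)
      span := fun x => by
        set y := (P⁻¹ : Matrix.GeneralLinearGroup (Fin n) F).val *ᵥ x with hy
        have hmem : ∀ c : F, (c + H.σ c) / 2 ∈ F₀ ∧ (c - H.σ c) / (2 * τ) ∈ F₀ := fun c => by
          constructor <;> refine hfixmem _ ?_
          · rw [map_div₀, H.conj.trace_mem, map_ofNat]
          · rw [map_div₀, map_sub, H.conj.invol, map_mul, map_ofNat, eq_neg_of_add_eq_zero_right hτs, mul_neg,
              div_neg, ← neg_div, neg_sub]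
        refine ⟨fun i => ⟨_, (hmem (y i)).1⟩, fun i => ⟨_, (hmem (y i)).2⟩, ?_⟩
        change _ = P.val *ᵥ _ + τ • P.val *ᵥ _
        rw [← Matrix.mulVec_smul, ← Matrix.mulVec_add]
        conv_lhs => rw [← Matrix.one_mulVec x, ← Units.val_one, ← mul_inv_cancel P, Units.val_mul,
          ← Matrix.mulVec_mulVec, ← hy]
        congr 1
        funext i
        simp only [Pi.add_apply, Pi.smul_apply, smul_eq_mul]
        field_simp
        ring }
  refine S.isCoatom_four (by rw [Module.finrank_fin_fun]; omega) (by rw [Module.finrank_fin_fun]; exact hn)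
    (by rw [hq]; exact hq5) fun g => ?_
  rw [Subgroup.mem_comap, mem_subfieldSubgroup_iff]
  refine exists_congr fun a => and_congr_right fun _ => ⟨fun h u => ?_, fun h u hu => ?_⟩
  · obtain ⟨r, hr, he⟩ := h _ fun i => (u i).2
    rw [sunitToGL_mulVec] at he
    exact ⟨fun i => ⟨r i, hr i⟩, he⟩
  · obtain ⟨r, hr⟩ := h fun i => ⟨u i, hu i⟩
    exact ⟨fun i => (r i : F), fun i => (r i).2, by rw [sunitToGL_mulVec]; exact hr⟩

end Cfsg.Lib.Classical
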