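import Mathlib
import Cfsg.Prelude.Def_GeometricClasses
import Cfsg.Agent.Classical.Unitary.PolarPair
import Cfsg.Agent.Classical.SL
import Cfsg.Agent.Classical.Unitary.Transv

/-! Which prime order elements of the unitary group fix or exchange a polar pair. -/

set_option autoImplicit false
set_option linter.unusedSimpArgs false
set_option linter.unusedSectionVars false
set_option linter.unusedVariables false
set_option linter.style.haveILetI false
set_option linter.flexible false

namespace Cfsg.Lib.Classical.UPairElusive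

open Submodule Matrix Cfsg.Lib.Classical Cfsg.Lib.Classical.UPair

universe u v

variable {F : Type u} [Field F] [Fintype F]

section General

variable {V : Type v} [AddCommGroup V] [Module F V] [FiniteDimensional F V] (H : HermSpace F V)

/-- An isometry diagonal in an orthonormal basis. -/
theorem exists_diag {n : ℕ} (b : Module.Basis (Fin n) F V) (hb : ∀ i j, H.h (b i) (b j) = if i = j then 1 else 0)
    (d : Fin n → F) (hd : ∀ i, d i * H.σ (d i) = 1) : ∃ g : H.Isom, ∀ i, g.1 (b i) = d i • b i := by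
  have hu : ∀ i, IsUnit (d i) := fun i => IsUnit.of_mul_eq_one _ (hd i)
  let b' := b.isUnitSMul hu
  have hb'a : ∀ i, b' i = d i • b i := fun i => Module.Basis.isUnitSMul_apply hu i
  let φ := b.equiv b' (Equiv.refl _)
  have hφ : ∀ i, φ (b i) = d i • b i := fun i => (b.equiv_apply i b' _).trans (hb'a i)
  refine ⟨⟨φ, fun x y => ?_⟩, hφ⟩
  rw [← b.sum_repr x, ← b.sum_repr y]
  simp only [map_sum, map_smul, hφ, H.sum_left, H.sum_right, H.smul_left, H.smul_right, hb]
  refine Finset.sum_congr rfl fun i _ => Finset.sum_congr rfl fun j _ => ?_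
  split_ifs with h
  · subst h; linear_combination (b.repr x i * H.σ (b.repr y i)) * hd i
  · simp

theorem diag_facts {n : ℕ} (b : Module.Basis (Fin n) F V) (T : Module.End F V) (d : Fin n → F)
    (hT : ∀ i, T (b i) = d i • b i) (c : F) [DecidableEq F] :
    LinearMap.det T = ∏ i, d i ∧ Module.finrank F (eig T c) = (Finset.univ.filter fun i => d i = c).card := by
  classical
  constructor
  · rw [← LinearMap.det_toMatrix b, show LinearMap.toMatrix b b T = Matrix.diagonal d by
      ext i j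
      rw [LinearMap.toMatrix_apply, hT, map_smul, Module.Basis.repr_self]
      by_cases h : i = j
      · subst h; simp
      · simp [h, Ne.symm h], Matrix.det_diagonal]
  · have hrep : ∀ x i, b.repr (T x) i = d i * b.repr x i := fun x i => by
      have e : T x = ∑ j, (d j * b.repr x j) • b j := by
        conv_lhs => rw [← b.sum_repr x]
        simp only [map_sum, map_smul, hT, smul_smul, mul_comm]
      rw [e, b.repr_sum_self]
    have he : eig T c = span F (Set.range fun i : {i // d i = c} => b i.1) := by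
      apply le_antisymm
      · intro x hx
        rw [mem_eig] at hx
        rw [← b.sum_repr x]
        refine sum_mem fun i _ => ?_
        by_cases h : d i = c
        · exact smul_mem _ _ (subset_span ⟨⟨i, h⟩, rfl⟩)
        · have h1 := hrep x i
          rw [hx, map_smul, Finsupp.smul_apply, smul_eq_mul] at h1
          rw [(mul_eq_zero.mp (show (d i - c) * b.repr x i = 0 by linear_combination -h1)).resolve_left
            (sub_ne_zero.mpr h), zero_smul]
          exact zero_mem _
      · rw [span_le]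
        rintro _ ⟨⟨i, rfl⟩, rfl⟩
        rw [SetLike.mem_coe, mem_eig]; exact hT i
    rw [he]
    exact (finrank_span_eq_card (b.linearIndependent.comp _ Subtype.val_injective)).trans (Fintype.card_subtype _)

theorem exists_onb {n : ℕ} (hn : Module.finrank F V = n) :
    ∃ b : Module.Basis (Fin n) F V, ∀ i j, H.h (b i) (b j) = if i = j then 1 else 0 := by
  obtain ⟨b, hb⟩ := H.exists_orthonormal
  exact ⟨b.reindex (finCongr hn), fun i j => by simp [hb, Fin.ext_iff]⟩

/-- An element without an invariant pair. -/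
def Derangement (m r : ℕ) (g : H.Isom) : Prop :=
  g ∈ H.SIsom ∧ (∃ z : F, ∀ v, (g ^ r).1 v = z • v) ∧ (∀ z : F, ∃ v, g.1 v ≠ z • v) ∧
    ∀ L M, Pair H m L M → ¬ Preserves g L M

theorem derangement_of_eig {m r : ℕ} (hm : 0 < m) (hd : Module.finrank F V = 2 * m) (g : H.Isom) (hdet : LinearMap.det g.1.toLinearMap = 1)
    {z : F} (hz : ∀ v, (g ^ r).1 v = z • v) {c : F} (hc : c * H.σ c = 1)
    (hodd : Odd (Module.finrank F (eig g.1.toLinearMap c)))
    (hsw : Odd r ∨ m < Module.finrank F (eig g.1.toLinearMap c)) : Derangement H m r g := by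
  refine ⟨(HermSpace.mem_SIsom H).mpr (Units.ext (by rw [LinearEquiv.coe_det, Units.val_one]; exact hdet)), ⟨z, hz⟩,
    fun w => ?_, no_pair_of_odd g hc hodd fun L M P h1 h2 => ?_⟩
  · by_contra hcon
    push Not at hcon
    by_cases hwc : w = c
    · have : eig g.1.toLinearMap c = ⊤ := eq_top_iff.mpr fun x _ => mem_eig.mpr (hwc ▸ hcon x)
      rw [this, finrank_top, hd] at hodd
      exact Nat.not_odd_iff_even.mpr (even_two_mul m) hodd
    · have : eig g.1.toLinearMap c = ⊥ := eq_bot_iff.mpr fun x hx => by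
        rw [mem_eig] at hx
        have h := (hcon x).symm.trans hx
        rw [Submodule.mem_bot]
        exact (smul_eq_zero.mp (show (w - c) • x = 0 by rw [sub_smul, h, sub_self])).resolve_left (sub_ne_zero.mpr hwc)
      rw [this, finrank_bot] at hodd
      exact Nat.not_odd_iff_even.mpr Even.zero hodd
  · rcases hsw with h | h
    · haveI : Nontrivial V := Module.nontrivial_of_finrank_pos (R := F) (by omega)
      obtain ⟨v, hv⟩ := exists_ne (0 : V)
      have hz0 : z ≠ 0 := fun e => hv ((g ^ r).1.injective (by rw [hz, e, zero_smul, map_zero]))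
      exact swap_false_of_order g h hz0 hz P hm h1 h2
    · have := P.swap_eig g h1 c; omega

theorem exists_unipotent {m p : ℕ} [Fact p.Prime] [CharP F p] (hm : 2 ≤ m) (hd : Module.finrank F V = 2 * m) :
    ∃ g : H.Isom, Derangement H m p g := by
  classical
  obtain ⟨b, hb⟩ := exists_onb H hd
  obtain ⟨t, ht⟩ := H.conj.norm_surjective (a := (-1 : F)) (by rw [map_neg, map_one])
  set v := b ⟨0, by omega⟩ + t • b ⟨1, by omega⟩ with hv
  have hvv : H.h v v = 0 := by
    simp [hv, H.add_left, H.add_right, H.smul_left, H.smul_right, hb, Fin.ext_iff]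
    linear_combination ht
  have hv0 : v ≠ 0 := fun e => by
    have h := congrArg (fun w => b.repr w ⟨0, by omega⟩) e
    simp [hv, Fin.ext_iff] at h
  obtain ⟨c, hc0, hc⟩ := H.conj.exists_skew
  have hpow : ∀ (k : ℕ) w, ((H.uT hvv hc) ^ k).1 w = w + ((k : F) * (c * H.h w v)) • v := fun k => by
    induction k with
    | zero => intro w; simp
    | succ k ih =>
      intro w
      rw [pow_succ, HermSpace.mul_apply', ih, HermSpace.uT_apply, H.add_left, H.smul_left, hvv]
      push_cast
      module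
  have he : eig (H.uT hvv hc).1.toLinearMap 1 = H.orth (span F {v}) := by
    ext x
    rw [mem_eig, HermSpace.mem_orth_span, one_smul, LinearEquiv.coe_coe, HermSpace.uT_apply, add_eq_left, smul_eq_zero,
      mul_eq_zero]
    simp [hc0, hv0]
  refine ⟨H.uT hvv hc, derangement_of_eig H (by omega) hd _ ?_ (z := 1) ?_ (c := 1) (by rw [map_one, mul_one]) ?_ ?_⟩
  · rw [← LinearEquiv.coe_det, (HermSpace.mem_SIsom H).mp (H.uT_mem_SIsom hvv hc), Units.val_one]
  · intro w
    rw [hpow, CharP.cast_eq_zero, zero_mul, zero_smul, add_zero, one_smul]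
  · rw [he, H.finrank_orth, finrank_span_singleton hv0, hd]
    exact ⟨m - 1, by omega⟩
  · right
    rw [he, H.finrank_orth, finrank_span_singleton hv0, hd]
    omega

theorem exists_involution {m : ℕ} (hm : 2 ≤ m) (hd : Module.finrank F V = 2 * m) (h2 : (2 : F) ≠ 0) {l : F}
    (hl : l * H.σ l = 1) (hln : l ^ (2 * m) = -1) : ∃ g : H.Isom, Derangement H m 2 g := by
  classical
  obtain ⟨b, hb⟩ := exists_onb H hd
  let i₀ : Fin (2 * m) := ⟨0, by omega⟩
  let d : Fin (2 * m) → F := Function.update (fun _ => l) i₀ (-l)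
  obtain ⟨g, hg⟩ := exists_diag H b hb d fun i => by
    by_cases h : i = i₀ <;> simp [d, Function.update_apply, h, hl]
  obtain ⟨hdet, hdim⟩ := diag_facts b g.1.toLinearMap d hg l
  have hl0 : l ≠ 0 := left_ne_zero_of_mul (hl ▸ one_ne_zero)
  have hf : (Finset.univ.filter fun i => d i = l) = {i₀}ᶜ := by
    ext i
    by_cases h : i = i₀
    · subst h
      simp [d]
      intro e
      exact mul_ne_zero h2 hl0 (by linear_combination -e)
    · simp [d, Function.update_apply, h]
  rw [hf, Finset.card_compl, Finset.card_singleton, Fintype.card_fin] at hdim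
  refine ⟨g, derangement_of_eig H (by omega) hd g ?_ (z := l * l) ?_ hl ?_ ?_⟩
  · rw [hdet]
    simp only [d]
    rw [Finset.prod_update_of_mem (Finset.mem_univ i₀), Finset.prod_const, Finset.card_sdiff,
      Finset.inter_univ, Finset.card_singleton, Finset.card_univ, Fintype.card_fin, neg_mul,
      ← pow_succ', Nat.sub_add_cancel (by omega : 1 ≤ 2 * m), hln, neg_neg]
  · intro v
    have hgg : (g.1.toLinearMap.comp g.1.toLinearMap) = (l * l) • LinearMap.id := b.ext fun i => by
      show g.1 (g.1 (b i)) = (l * l) • b i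
      rw [hg, map_smul, hg, smul_smul]
      congr 1
      by_cases h : i = i₀ <;> simp [d, Function.update_apply, h]
    rw [pow_two, HermSpace.mul_apply']
    exact LinearMap.congr_fun hgg v
  · rw [hdim]; exact ⟨m - 1, by omega⟩
  · right; rw [hdim]; omega

theorem exists_torus {m r : ℕ} (hm : 2 ≤ m) (hd : Module.finrank F V = 2 * m) (hr : Odd r) {w : F}
    (hw : w * H.σ w = 1) (hwr : w ^ r = 1) (hw1 : w ≠ 1) : ∃ g : H.Isom, Derangement H m r g := by
  classical
  obtain ⟨b, hb⟩ := exists_onb H hd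
  let i₀ : Fin (2 * m) := ⟨0, by omega⟩
  let i₁ : Fin (2 * m) := ⟨1, by omega⟩
  have h01 : i₁ ≠ i₀ := by simp [i₀, i₁, Fin.ext_iff]
  let d : Fin (2 * m) → F := Function.update (Function.update (fun _ => 1) i₁ w⁻¹) i₀ w
  have hw0 : w ≠ 0 := left_ne_zero_of_mul (hw ▸ one_ne_zero)
  have hwi : w ≠ w⁻¹ := fun e => by
    have hs : w ^ 2 = 1 := by rw [pow_two]; nth_rw 2 [e]; exact mul_inv_cancel₀ hw0
    obtain ⟨k, hk⟩ := hr
    rw [hk, pow_succ, pow_mul, hs, one_pow, one_mul] at hwr
    exact hw1 hwr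
  obtain ⟨g, hg⟩ := exists_diag H b hb d fun i => by
    by_cases h : i = i₀
    · simp [d, Function.update_apply, h, hw]
    · by_cases h' : i = i₁ <;> simp [d, Function.update_apply, h, h', h01, map_inv₀, ← mul_inv, hw]
  obtain ⟨hdet, hdim⟩ := diag_facts b g.1.toLinearMap d hg w
  have hf : (Finset.univ.filter fun i => d i = w) = {i₀} := by
    ext i
    by_cases h : i = i₀
    · simp [d, h]
    · by_cases h' : i = i₁ <;> simp [d, Function.update_apply, h, h', h01, hwi.symm, Ne.symm hw1]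
  rw [hf, Finset.card_singleton] at hdim
  refine ⟨g, derangement_of_eig H (by omega) hd g ?_ (z := 1) ?_ hw (by rw [hdim]; exact odd_one) (Or.inl hr)⟩
  · rw [hdet]
    simp only [d]
    rw [Finset.prod_update_of_mem (Finset.mem_univ i₀),
      Finset.prod_update_of_mem (by simp [h01] : i₁ ∈ Finset.univ \ {i₀}), Finset.prod_const_one, mul_one,
      mul_inv_cancel₀ hw0]
  · intro v
    have hp : ∀ (k : ℕ) i, (g ^ k).1 (b i) = d i ^ k • b i := fun k => by
      induction k with
      | zero => intro i; simp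
      | succ k ih => intro i; rw [pow_succ, HermSpace.mul_apply', hg, map_smul, ih, smul_smul, pow_succ']
    have hgg : (g ^ r).1.toLinearMap = (1 : F) • LinearMap.id := b.ext fun i => by
      show (g ^ r).1 (b i) = (1 : F) • b i
      rw [hp]
      congr 1
      by_cases h : i = i₀
      · simp [d, Function.update_apply, h, hwr]
      · by_cases h' : i = i₁ <;> simp [d, Function.update_apply, h, h', h01, hwr]
    exact LinearMap.congr_fun hgg v

/-- An element of order `r` in a space too small to admit one outside is fixed point free. -/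
theorem fixed_free {r : ℕ} (hrp : (r : F) ≠ 0) {q : ℕ} (hq : H.q = q) (g : H.Isom) (hgr : g ^ r = 1)
    (hsmall : ∀ k, k < Module.finrank F V → ∀ x : ℕ, x = cardGUFormula q k → ¬ r ∣ x) (hr : r.Prime) (hg : g ≠ 1) :
    eig g.1.toLinearMap 1 = ⊥ := by
  classical
  set T : Module.End F V := g.1.toLinearMap with hT
  set U := LinearMap.range (T - 1) with hU
  set K := eig T 1 with hK
  have hTh : ∀ x y, H.h (T x) (T y) = H.h x y := g.2
  have hKU : ∀ x ∈ K, ∀ y ∈ U, H.h x y = 0 := by
    rintro x hx _ ⟨y, rfl⟩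
    rw [mem_eig, one_smul] at hx
    have h := hTh x y
    rw [hx] at h
    rw [LinearMap.sub_apply, Module.End.one_apply, H.sub_right, h, sub_self]
  have hpw : ∀ (k : ℕ) u, T ((T - 1) u) = (T - 1) u → (g ^ k).1 u = u + (k : F) • (T - 1) u := fun k u hu => by
    induction k with
    | zero => simp
    | succ k ih =>
      rw [pow_succ', HermSpace.mul_apply', ih, map_add, map_smul]
      show T u + (k : F) • T ((T - 1) u) = _
      rw [hu]
      push_cast
      rw [LinearMap.sub_apply, Module.End.one_apply]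
      module
  have hdis : K ⊓ U = ⊥ := by
    rw [eq_bot_iff]
    rintro _ ⟨hx, u, rfl⟩
    rw [SetLike.mem_coe, mem_eig, one_smul] at hx
    have h := hpw r u hx
    rw [hgr] at h
    have h' : (r : F) • (T - 1) u = 0 := by
      have := h.symm
      rw [show ((1 : H.Isom).1 : V ≃ₗ[F] V) u = u from rfl] at this
      exact (add_eq_left).mp this
    exact (Submodule.mem_bot F).mpr ((smul_eq_zero.mp h').resolve_left hrp)
  have hdim : Module.finrank F U + Module.finrank F K = Module.finrank F V := by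
    have h := LinearMap.finrank_range_add_finrank_ker (T - 1)
    rw [hK, eig, one_smul]; exact h
  have hsup : K ⊔ U = ⊤ := by
    refine Submodule.eq_top_of_finrank_eq ?_
    have := Submodule.finrank_sup_add_finrank_inf_eq K U
    rw [hdis, finrank_bot] at this
    omega
  have hnd : H.NondegOn U := fun v hv h => H.nondeg v fun x => by
    have hx : x ∈ K ⊔ U := by rw [hsup]; trivial
    obtain ⟨a, ha, b, hb, rfl⟩ := Submodule.mem_sup.mp hx
    rw [H.add_left, hKU a ha v hv, h b hb, add_zero]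
  by_contra hne
  have hlt : Module.finrank F U < Module.finrank F V := by
    have : 0 < Module.finrank F K := Nat.pos_of_ne_zero fun e => hne (Submodule.finrank_eq_zero.mp e)
    omega
  have hTU : ∀ x ∈ U, T x ∈ U := by
    rintro _ ⟨y, rfl⟩
    exact ⟨T y, by rw [LinearMap.sub_apply, LinearMap.sub_apply, map_sub, Module.End.one_apply, Module.End.one_apply]⟩
  let e : U ≃ₗ[F] U := LinearEquiv.ofInjectiveEndo (T.restrict hTU) fun a b h =>
    Subtype.ext (g.1.injective (congrArg Subtype.val h))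
  let gU : (H.restrict U hnd).Isom := ⟨e, fun x y => hTh x y⟩
  have hgU : ∀ (k : ℕ) (x : U), ((gU ^ k).1 x : V) = (g ^ k).1 x := fun k => by
    induction k with
    | zero => intro x; rfl
    | succ k ih =>
      intro x
      rw [pow_succ', pow_succ', HermSpace.mul_apply', HermSpace.mul_apply', ← ih]
      rfl
  haveI := Fact.mk hr
  haveI : Finite V := Module.finite_of_finite F
  have hord : orderOf gU = r := by
    refine orderOf_eq_prime ((H.restrict U hnd).isom_ext fun x => Subtype.ext ?_) fun h1 => hg (H.isom_ext fun x => ?_)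
    · rw [hgU, hgr]; rfl
    · have hx : x ∈ K ⊔ U := by rw [hsup]; trivial
      obtain ⟨a, ha, b, hb, rfl⟩ := Submodule.mem_sup.mp hx
      rw [mem_eig, one_smul] at ha
      have hb' := congrArg (fun k : (H.restrict U hnd).Isom => (k.1 ⟨b, hb⟩ : V)) h1
      rw [map_add]
      show T a + T b = (1 : H.Isom).1 (a + b)
      rw [ha]
      exact congrArg (a + ·) hb'
  have hdvd := orderOf_dvd_natCard gU
  rw [hord, HermSpace.card_isom] at hdvd
  exact hsmall _ hlt _ (by rw [← hq]; rfl) hdvd

end General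

section Concrete

variable {q : ℕ} (hF : Fintype.card F = q ^ 2)

include hF in
theorem one_lt_q : 1 < q := by
  have := Fintype.one_lt_card (α := F)
  rw [hF] at this
  by_contra h
  push Not at h
  interval_cases q <;> simp at this

theorem card_formula_cases {r : ℕ} (hr : r.Prime) : ∀ k, r ∣ cardGUFormula q k →
    r ∣ q ∨ ∃ j, j < k ∧ r ∣ (if Even j then q ^ (j + 1) + 1 else q ^ (j + 1) - 1) := by
  intro k h
  rw [cardGUFormula] at h
  rcases hr.dvd_mul.mp h with h | h
  · exact Or.inl (hr.dvd_of_dvd_pow h)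
  · obtain ⟨j, hj, h'⟩ := (hr.prime.dvd_finset_prod_iff _).mp h
    exact Or.inr ⟨j, Finset.mem_range.mp hj, h'⟩

/-- Minimality of `b` keeps `r` out of the smaller unitary groups. -/
theorem not_dvd_small {r : ℕ} (hr : r.Prime) (hr2 : r ≠ 2) (hrq : ¬ r ∣ q) (hq0 : 1 < q) {b : ℕ} (hb : Odd b)
    (hrb : r ∣ q ^ b + 1) (hmin : ∀ j, Odd j → j < b → ¬ r ∣ q ^ j + 1) {k : ℕ} (hk : k < b) :
    ¬ r ∣ cardGUFormula q k := by
  intro h
  haveI := Fact.mk hr
  rcases card_formula_cases hr k h with h | ⟨j, hj, h⟩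
  · exact hrq h
  by_cases he : Even j
  · rw [if_pos he] at h
    exact hmin (j + 1) (he.add_one) (by omega) h
  · rw [if_neg he] at h
    have e1 : (q : ZMod r) ^ b = -1 := by
      have := (ZMod.natCast_eq_zero_iff _ _).mpr hrb
      push_cast at this
      linear_combination this
    have e2 : (q : ZMod r) ^ (j + 1) = 1 := by
      have := (ZMod.natCast_eq_zero_iff _ _).mpr h
      rw [Nat.cast_sub (Nat.one_le_pow _ _ (by omega))] at this
      push_cast at this
      linear_combination this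
    have e3 : (q : ZMod r) ^ (b * 2) = 1 := by rw [pow_mul, e1]; ring
    have e4 := (pow_gcd_eq_one (a := (q : ZMod r)) (m := j + 1) (n := b * 2)).mpr ⟨e2, e3⟩
    obtain ⟨i, hi⟩ : Even (j + 1) := Nat.even_add_one.mpr he
    set g := Nat.gcd i b with hg
    have hgg : Nat.gcd (j + 1) (b * 2) = g * 2 := by rw [hi, ← mul_two, Nat.gcd_mul_right]
    rw [hgg, pow_mul, sq_eq_one_iff] at e4
    have hgb : g ∣ b := Nat.gcd_dvd_right i b
    have hgodd : Odd g := hb.of_dvd_nat hgb
    rcases e4 with e4 | e4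
    · obtain ⟨s, hs⟩ := hgb
      rw [hs, pow_mul, e4, one_pow] at e1
      have : ((2 : ℕ) : ZMod r) = 0 := by push_cast; linear_combination e1
      exact hr2 ((Nat.prime_dvd_prime_iff_eq hr Nat.prime_two).mp ((ZMod.natCast_eq_zero_iff _ _).mp this))
    · refine hmin g hgodd ?_ ((ZMod.natCast_eq_zero_iff _ _).mp (by push_cast; linear_combination e4))
      have := Nat.le_of_dvd (by omega) (Nat.gcd_dvd_left i b)
      rw [← hg] at this
      omega

theorem exists_block {r b k : ℕ} [Fact r.Prime] {p : ℕ} [Fact p.Prime] [CharP F p] (hr2 : r ≠ 2) (hrp : r ≠ p)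
    (hrq : ¬ r ∣ q) (hb : Odd b) (hk : Odd k) (hrb : r ∣ q ^ b + 1) (hmin : ∀ j, Odd j → j < b → ¬ r ∣ q ^ j + 1)
    (hq1 : ¬ r ∣ q + 1) {m : ℕ} (hn : b + k = 2 * m) :
    ∃ g : (stdHerm (b + k) hF).Isom, Derangement (stdHerm (b + k) hF) m r g := by
  classical
  have hr : r.Prime := Fact.out
  have hq0 := one_lt_q hF
  have hrF : (r : F) ≠ 0 := fun h => hrp
    ((Nat.prime_dvd_prime_iff_eq Fact.out hr).mp ((CharP.cast_eq_zero_iff F p r).mp h)).symm
  haveI : Finite (stdHerm b hF).Isom := Finite.of_injective _ (guEquiv b hF).injective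
  obtain ⟨y, hy⟩ : ∃ y : (stdHerm b hF).Isom, orderOf y = r := by
    refine exists_prime_orderOf_dvd_card' r ?_
    rw [HermSpace.card_isom, stdHerm_q, Module.finrank_fin_fun, cardGUFormula]
    refine Dvd.dvd.mul_left ?_ _
    have hb1 : b - 1 + 1 = b := by have := hb.pos; omega
    refine Dvd.dvd.trans ?_ (Finset.dvd_prod_of_mem _ (Finset.mem_range.mpr (show b - 1 < b by omega)))
    rw [if_pos (by rw [Nat.even_sub' hb.pos]; simp [hb]), hb1]
    exact hrb
  have hy1 : y ≠ 1 := fun e => by rw [e, orderOf_one] at hy; exact hr.ne_one hy.symm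
  have hyr : y ^ r = 1 := hy ▸ pow_orderOf_eq_one y
  have hfree := fixed_free (stdHerm b hF) hrF (stdHerm_q hF) y hyr (fun d hd x hx => by
    rw [Module.finrank_fin_fun] at hd
    rw [hx]; exact not_dvd_small hr hr2 hrq hq0 hb hrb hmin hd) hr hy1
  let A : (Fin (b + k) → F) →ₗ[F] (Fin b → F) := LinearMap.funLeft F F (Fin.castAdd k)
  let B : (Fin (b + k) → F) →ₗ[F] (Fin k → F) := LinearMap.funLeft F F (Fin.natAdd b)
  let ψ : (Fin (b + k) → F) ≃ₗ[F] (Fin b → F) × (Fin k → F) :=
    LinearEquiv.ofBijective (A.prod B) ⟨fun u v h => funext fun i => by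
      refine Fin.addCases (fun i => congrFun (congrArg Prod.fst h) i) (fun i => congrFun (congrArg Prod.snd h) i) i,
    fun w => ⟨Fin.append w.1 w.2, Prod.ext (funext fun i => Fin.append_left _ _ i) (funext fun i => Fin.append_right _ _ i)⟩⟩
  let Ψ : ((Fin b → F) ≃ₗ[F] (Fin b → F)) → ((Fin (b + k) → F) ≃ₗ[F] (Fin (b + k) → F)) := fun f =>
    ψ.trans ((f.prodCongr (LinearEquiv.refl F (Fin k → F))).trans ψ.symm)
  have hψ : ∀ u, ψ u = (A u, B u) := fun u => rfl
  have hAB : ∀ f u, A (Ψ f u) = f (A u) ∧ B (Ψ f u) = B u := fun f u => by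
    have h := ψ.apply_symm_apply ((f.prodCongr (LinearEquiv.refl F (Fin k → F))) (ψ u))
    rw [hψ] at h
    exact ⟨congrArg Prod.fst h, congrArg Prod.snd h⟩
  have hform : ∀ u v, (stdHerm (b + k) hF).h u v =
      (stdHerm b hF).h (A u) (A v) + Cfsg.hermForm k F q (B u) (B v) := fun u v => by
    rw [stdHerm_h, stdHerm_h, Cfsg.hermForm, Cfsg.hermForm, Cfsg.hermForm, Fin.sum_univ_add]
    rfl
  let g : (stdHerm (b + k) hF).Isom := ⟨Ψ y.1, fun u v => by
    rw [hform, hform, (hAB _ _).1, (hAB _ _).1, (hAB _ _).2, (hAB _ _).2, y.2]⟩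
  have hgpow : ∀ j : ℕ, ∀ u, (g ^ j).1 u = Ψ (y ^ j).1 u := fun j => by
    induction j with
    | zero => intro u; exact (ψ.symm_apply_apply u).symm
    | succ j ih =>
      intro u
      rw [pow_succ', HermSpace.mul_apply', ih]
      refine ψ.injective ?_
      rw [hψ, hψ]
      show (A (Ψ y.1 _), B (Ψ y.1 _)) = _
      rw [(hAB _ _).1, (hAB _ _).2, (hAB _ _).1, (hAB _ _).2, (hAB _ _).1, (hAB _ _).2, pow_succ']
      rfl
  have hgr : ∀ u, (g ^ r).1 u = (1 : F) • u := fun u => by
    rw [hgpow, hyr, one_smul]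
    exact ψ.symm_apply_apply u
  have hdim : Module.finrank F (eig g.1.toLinearMap 1) = k := by
    have he : eig g.1.toLinearMap 1 = LinearMap.ker A := by
      ext u
      rw [mem_eig, one_smul, LinearMap.mem_ker]
      constructor
      · intro h
        have h1 : y.1 (A u) = A u := ((hAB y.1 u).1).symm.trans (congrArg A h)
        have : A u ∈ eig y.1.toLinearMap 1 := mem_eig.mpr (by rw [one_smul]; exact h1)
        rw [hfree, Submodule.mem_bot] at this
        exact this
      · intro h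
        refine ψ.injective ?_
        rw [hψ, hψ]
        show (A (Ψ y.1 u), B (Ψ y.1 u)) = _
        rw [(hAB _ _).1, (hAB _ _).2, h, map_zero]
    have hs : LinearMap.range A = ⊤ := LinearMap.range_eq_top.mpr fun w =>
      ⟨Fin.append w 0, funext fun i => Fin.append_left w (0 : Fin k → F) i⟩
    have h := LinearMap.finrank_range_add_finrank_ker A
    rw [hs, finrank_top, ← he, Module.finrank_fin_fun, Module.finrank_fin_fun] at h
    omega
  have hdet : LinearMap.det g.1.toLinearMap = 1 := by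
    set δ := LinearMap.det g.1.toLinearMap with hδ
    have h1 : δ ^ r = 1 := by
      have e : (g.1.toLinearMap) ^ r = 1 := LinearMap.ext fun u => by
        have hp : ∀ j : ℕ, ∀ u, ((g.1.toLinearMap) ^ j) u = (g ^ j).1 u := fun j => by
          induction j with
          | zero => intro u; rfl
          | succ j ih => intro u; rw [pow_succ', pow_succ', Module.End.mul_apply, ih, HermSpace.mul_apply']; rfl
        rw [hp, hgr, one_smul]; rfl
      rw [hδ, ← map_pow, e, map_one]
    have h2 := norm_det g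
    rw [show (stdHerm (b + k) hF).σ δ = δ ^ q from powConj_apply hF δ, ← hδ, ← pow_succ'] at h2
    have h3 := (pow_gcd_eq_one (a := δ) (m := q + 1) (n := r)).mpr ⟨h2, h1⟩
    rwa [((Nat.Prime.coprime_iff_not_dvd hr).mpr hq1).symm.gcd_eq_one, pow_one] at h3
  exact ⟨g, derangement_of_eig _ (by have := hb.pos; omega) (by rw [Module.finrank_fin_fun, hn]) g hdet hgr
    (c := 1) (by rw [map_one, mul_one]) (by rw [hdim]; exact hk) (Or.inl (hr.odd_of_ne_two hr2))⟩

end Concrete

section Main

variable {q n m : ℕ} (hF : Fintype.card F = q ^ 2)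

local notation "GG" => GL (Fin n) F
local notation "MM" => Matrix (Fin n) (Fin n) F
set_option quotPrecheck false in
local notation "TT" => Cfsg.GU n F q ⊓ Cfsg.Geo.specialLinear (Fin n) F

theorem toLin_unit (g : (stdHerm n hF).Isom) :
    Matrix.toLin' ((unitToGL hF g : GG) : MM) = g.1.toLinearMap :=
  LinearMap.ext fun x => by rw [Matrix.toLin'_apply, unitToGL_mulVec]; rfl

theorem mem_T_iff (x : GG) : x ∈ TT ↔ ∃ g : (stdHerm n hF).Isom, g ∈ (stdHerm n hF).SIsom ∧ unitToGL hF g = x := by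
  rw [Subgroup.mem_inf, ← range_unitToGL hF, Cfsg.Geo.specialLinear, MonoidHom.mem_ker]
  constructor
  · rintro ⟨⟨g, rfl⟩, h⟩
    exact ⟨g, by rw [det_unitToGL] at h; exact h, rfl⟩
  · rintro ⟨g, hg, rfl⟩
    exact ⟨⟨g, rfl⟩, by rw [det_unitToGL]; exact hg⟩

variable (D : Fin 2 → Submodule F (Fin n → F)) (hD : Cfsg.Geo.IsMDecomposition (n / 2) D)
  (hDs : ∀ i, Cfsg.Geo.IsTotallySingularFor (Cfsg.hermForm n F q) (D i)) (hnm : n = 2 * m)

include hD hDs hnm in
theorem pair_D : Pair (stdHerm n hF) m (D 0) (D 1) := by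
  have hs : ∀ i, Sing (stdHerm n hF) (D i) := fun i u hu w hw => by rw [stdHerm_h]; exact hDs i u hu w hw
  refine ⟨by rw [Module.finrank_fin_fun, hnm], hs 0, hs 1, eq_top_iff.mpr ?_⟩
  rw [← hD.iSup_eq_top]
  exact iSup_le fun i => by fin_cases i; exacts [le_sup_left, le_sup_right]

include hD hDs hnm in
theorem conj_iff (hm : 0 < m) (g : (stdHerm n hF).Isom) :
    (∃ x ∈ TT, x⁻¹ * unitToGL hF g * x ∈ Cfsg.Geo.decompositionStabilizer D) ↔
      ∃ L M, Pair (stdHerm n hF) m L M ∧ Preserves g L M := by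
  classical
  have P := pair_D hF D hD hDs hnm
  constructor
  · rintro ⟨x, hx, σ, hσ⟩
    obtain ⟨k, hk, rfl⟩ := (mem_T_iff hF x).mp hx
    refine ⟨(D 0).map k.1.toLinearMap, (D 1).map k.1.toLinearMap, ⟨P.dim, ?_, ?_, ?_⟩, ?_⟩
    · rintro _ ⟨u, hu, rfl⟩ _ ⟨w, hw, rfl⟩; exact (k.2 u w).trans (P.sl u hu w hw)
    · rintro _ ⟨u, hu, rfl⟩ _ ⟨w, hw, rfl⟩; exact (k.2 u w).trans (P.sm u hu w hw)
    · rw [← Submodule.map_sup, P.top, Submodule.map_top, LinearMap.range_eq_top]; exact k.1.surjective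
    have h : ∀ i, ((D i).map k.1.toLinearMap).map g.1.toLinearMap = (D (σ i)).map k.1.toLinearMap := fun i => by
      have h := congrArg (Submodule.map k.1.toLinearMap) (hσ i)
      rw [← h]
      conv_rhs => rw [← toLin_unit hF k, ← Submodule.map_comp, ← Matrix.toLin'_mul, ← Units.val_mul, ← mul_assoc,
        ← mul_assoc, mul_inv_cancel, one_mul, Units.val_mul, Matrix.toLin'_mul, Submodule.map_comp]
      rw [toLin_unit hF, toLin_unit hF]
    have h2 : σ 0 = 0 ∧ σ 1 = 1 ∨ σ 0 = 1 ∧ σ 1 = 0 := by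
      have hne : σ 0 ≠ σ 1 := σ.injective.ne (by decide)
      revert hne
      generalize σ 0 = s; generalize σ 1 = s'
      revert s s'
      decide
    rcases h2 with ⟨e0, e1⟩ | ⟨e0, e1⟩
    · left; exact ⟨by rw [h 0, e0], by rw [h 1, e1]⟩
    · right; exact ⟨by rw [h 0, e0], by rw [h 1, e1]⟩
  · rintro ⟨L, M, P', hpres⟩
    obtain ⟨k, hk, hkL, hkM⟩ := transitive P P' hm
    refine ⟨unitToGL hF k, (mem_T_iff hF _).mpr ⟨k, hk, rfl⟩, ?_⟩
    have hback : ∀ X Y : Submodule F (Fin n → F), X.map k.1.toLinearMap = Y →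
        Y.map (Matrix.toLin' (((unitToGL hF k)⁻¹ : GG) : MM)) = X := fun X Y h => by
      rw [← h, ← toLin_unit hF, ← Submodule.map_comp, ← Matrix.toLin'_mul, ← Units.val_mul, inv_mul_cancel,
        Units.val_one, Matrix.toLin'_one, Submodule.map_id]
    have hstep : ∀ X : Submodule F (Fin n → F), X.map (Matrix.toLin' (((unitToGL hF k)⁻¹ * unitToGL hF g * unitToGL hF k : GG) : MM)) =
        (((X.map k.1.toLinearMap).map g.1.toLinearMap)).map (Matrix.toLin' (((unitToGL hF k)⁻¹ : GG) : MM)) := fun X => by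
      rw [Units.val_mul, Units.val_mul, Matrix.toLin'_mul, Matrix.toLin'_mul, Submodule.map_comp, Submodule.map_comp,
        toLin_unit, toLin_unit]
    rcases hpres with ⟨h0, h1⟩ | ⟨h0, h1⟩
    · refine ⟨1, fun i => ?_⟩
      rw [hstep]
      fin_cases i
      · show _ = D 0; rw [show D ((fun i => i) ⟨0, _⟩) = D 0 from rfl, hkL, h0, hback _ _ hkL]
      · show _ = D 1; rw [show D ((fun i => i) ⟨1, _⟩) = D 1 from rfl, hkM, h1, hback _ _ hkM]
    · refine ⟨Equiv.swap 0 1, fun i => ?_⟩
      rw [hstep]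
      fin_cases i
      · show _ = D 1; rw [show D ((fun i => i) ⟨0, _⟩) = D 0 from rfl, hkL, h0, hback _ _ hkM]
      · show _ = D 0; rw [show D ((fun i => i) ⟨1, _⟩) = D 1 from rfl, hkM, h1, hback _ _ hkL]

include hD hDs hnm in
theorem not_all (hm : 0 < m) {r : ℕ} {g : (stdHerm n hF).Isom} (hg : Derangement (stdHerm n hF) m r g) :
    ¬ (∀ x ∈ TT, (∃ z : F, ((x ^ r : GG) : MM) = z • (1 : MM)) → (∀ z : F, (x : MM) ≠ z • (1 : MM)) →
      ∃ y ∈ TT, y⁻¹ * x * y ∈ Cfsg.Geo.decompositionStabilizer D) := by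
  obtain ⟨hS, ⟨z, hz⟩, hns, hno⟩ := hg
  intro H
  obtain ⟨L, M, P, hp⟩ := (conj_iff hF D hD hDs hnm hm g).mp (H (unitToGL hF g) ((mem_T_iff hF _).mpr ⟨g, hS, rfl⟩)
    ⟨z, by
      rw [← map_pow]
      refine Matrix.ext_of_mulVec_single fun i => ?_
      rw [unitToGL_mulVec, hz, Matrix.smul_mulVec, Matrix.one_mulVec]⟩
    (fun w hw => by
      obtain ⟨v, hv⟩ := hns w
      exact hv (by rw [← unitToGL_mulVec hF, hw, Matrix.smul_mulVec, Matrix.one_mulVec])))
  exact hno L M P hp

include hF in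
theorem card_T_mul (hn : 1 ≤ n) : (q + 1) * Nat.card ↥(TT) = cardGUFormula q n := by
  have e : TT = (Cfsg.SU n F q).map (SpecialLinearGroup.toGL : SpecialLinearGroup (Fin n) F →* GG) := by
    ext g
    rw [Cfsg.Geo.specialLinear, ← range_toGL, Subgroup.mem_inf, Subgroup.mem_map]
    constructor
    · rintro ⟨hg, A, rfl⟩
      exact ⟨A, hg, rfl⟩
    · rintro ⟨A, hA, rfl⟩
      exact ⟨hA, A, rfl⟩
  rw [e, ← Nat.card_congr ((Cfsg.SU n F q).equivMapOfInjective _ toGL_injective').toEquiv]
  exact card_SU_mul hF hn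

theorem gu_even_split (q : ℕ) (hq : 1 ≤ q) : ∀ m : ℕ, ∃ a b : ℕ, cardGUFormula q (2 * m) * q ^ a =
    (∏ i : Fin m, ((q ^ 2) ^ m - (q ^ 2) ^ (i : ℕ))) * (q ^ b * ∏ i ∈ Finset.range m, (q ^ (2 * i + 1) + 1)) := by
  intro m
  have hprod : ∀ k : ℕ, ∏ j ∈ Finset.range (2 * k), (if Even j then q ^ (j + 1) + 1 else q ^ (j + 1) - 1) =
      (∏ i ∈ Finset.range k, ((q ^ 2) ^ (i + 1) - 1)) * ∏ i ∈ Finset.range k, (q ^ (2 * i + 1) + 1) := by
    intro k
    induction k with
    | zero => simp
    | succ k ih =>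
      rw [show 2 * (k + 1) = 2 * k + 1 + 1 by ring, Finset.prod_range_succ, Finset.prod_range_succ, ih,
        Finset.prod_range_succ, Finset.prod_range_succ, if_pos (even_two_mul k),
        if_neg (by simp [Nat.even_add_one]), ← pow_mul, show 2 * k + 1 + 1 = 2 * (k + 1) by ring]
      ring
  have hgl : ∏ i : Fin m, ((q ^ 2) ^ m - (q ^ 2) ^ (i : ℕ)) =
      (q ^ 2) ^ (∑ i ∈ Finset.range m, i) * ∏ i ∈ Finset.range m, ((q ^ 2) ^ (i + 1) - 1) := by
    rw [Fin.prod_univ_eq_prod_range (fun i => (q ^ 2) ^ m - (q ^ 2) ^ i),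
      ← Finset.prod_range_reflect (fun i => (q ^ 2) ^ (i + 1) - 1), ← Finset.prod_pow_eq_pow_sum, ← Finset.prod_mul_distrib]
    refine Finset.prod_congr rfl fun i hi => ?_
    rw [Finset.mem_range] at hi
    rw [Nat.mul_sub_one, ← pow_add, show i + (m - 1 - i + 1) = m by omega]
  refine ⟨2 * (∑ i ∈ Finset.range m, i), 2 * m * (2 * m - 1) / 2, ?_⟩
  rw [hgl, cardGUFormula, hprod, ← pow_mul]
  ring

include hF hD hDs hnm in
theorem dvd_index (hm : 0 < m) {r : ℕ} (hr : r.Prime) (hrq : ¬ r ∣ q)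
    (hΩ : r ∣ (Cfsg.Geo.decompositionStabilizer D).relIndex TT) : ∃ j, Odd j ∧ j < n ∧ r ∣ q ^ j + 1 := by
  classical
  have hn : 1 ≤ n := by omega
  have hq0 := one_lt_q hF
  have P := pair_D hF D hD hDs hnm
  set H := stdHerm n hF with hH
  set St := Cfsg.Geo.decompositionStabilizer D with hSt
  set Hs := St ⊓ Cfsg.GU n F q with hHs
  haveI : Finite GG := inferInstance
  -- restriction to a member
  let S : Subgroup H.Isom :=
    { carrier := {g | (D 0).map g.1.toLinearMap = D 0 ∧ (D 1).map g.1.toLinearMap = D 1}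
      one_mem' := ⟨Submodule.map_id _, Submodule.map_id _⟩
      mul_mem' := fun {a b} ha hb => by
        have e : ∀ X : Submodule F (Fin n → F), X.map (a * b).1.toLinearMap = (X.map b.1.toLinearMap).map a.1.toLinearMap :=
          fun X => Submodule.map_comp b.1.toLinearMap a.1.toLinearMap X
        exact ⟨by rw [e, hb.1, ha.1], by rw [e, hb.2, ha.2]⟩
      inv_mem' := fun {a} ha => by
        have e : ∀ X : Submodule F (Fin n → F), X.map a.1.toLinearMap = X → X.map (a⁻¹).1.toLinearMap = X := fun X h => by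
          conv_lhs => rw [← h, ← Submodule.map_comp]
          rw [show (a⁻¹).1.toLinearMap.comp a.1.toLinearMap = LinearMap.id from
            LinearMap.ext fun x => H.inv_apply_self a x, Submodule.map_id]
        exact ⟨e _ ha.1, e _ ha.2⟩ }
  let ρ : S →* (D 0 ≃ₗ[F] D 0) :=
    { toFun := fun g => g.1.1.ofSubmodules (D 0) (D 0) g.2.1
      map_one' := LinearEquiv.ext fun x => Subtype.ext rfl
      map_mul' := fun a b => LinearEquiv.ext fun x => Subtype.ext rfl }
  have hρ : Function.Surjective ρ := by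
    intro A
    let e₀ := Module.finBasisOfFinrankEq F (D 0) P.facts.1
    obtain ⟨b, hb, hbe, hbL, hbM⟩ := P.basis e₀
    obtain ⟨b', hb', hbe', hbL', hbM'⟩ := P.basis (e₀.map A)
    obtain ⟨g, hg⟩ := exists_iso_of_bases hb hb'
    have hmap : ∀ (X : Submodule F (Fin n → F)) (ι : Fin m → Fin m ⊕ Fin m), span F (Set.range fun i => b (ι i)) = X →
        span F (Set.range fun i => b' (ι i)) = X → X.map g.1.toLinearMap = X := by
      intro X ι h h'
      conv_lhs => rw [← h, Submodule.map_span]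
      conv_rhs => rw [← h']
      congr 1
      rw [← Set.range_comp]
      exact congrArg Set.range (funext fun i => hg _)
    refine ⟨⟨g, hmap _ _ hbL hbL', hmap _ _ hbM hbM'⟩, ?_⟩
    refine LinearEquiv.toLinearMap_injective (e₀.ext fun i => Subtype.ext ?_)
    show g.1 (e₀ i : Fin n → F) = _
    rw [← hbe i, hg, hbe']
    rfl
  have h1 : Nat.card (D 0 ≃ₗ[F] D 0) ∣ Nat.card Hs := by
    refine (Subgroup.card_dvd_of_surjective ρ hρ).trans ?_
    refine (dvd_of_eq (Nat.card_congr ((MonoidHom.ofInjective (f := (unitToGL hF).comp S.subtype)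
      ((unitToGL_injective hF).comp Subtype.val_injective)).toEquiv))).trans (Subgroup.card_dvd_of_le ?_)
    rintro _ ⟨g, rfl⟩
    refine ⟨⟨1, fun i => ?_⟩, range_unitToGL hF ▸ ⟨g.1, rfl⟩⟩
    show (D i).map (Matrix.toLin' ((unitToGL hF g.1 : GG) : MM)) = D i
    rw [toLin_unit]
    fin_cases i
    exacts [g.2.1, g.2.2]
  have hcardA : Nat.card (D 0 ≃ₗ[F] D 0) = ∏ i : Fin m, ((q ^ 2) ^ m - (q ^ 2) ^ (i : ℕ)) := by
    let e₀ : D 0 ≃ₗ[F] (Fin m → F) := (Module.finBasisOfFinrankEq F (D 0) P.facts.1).equivFun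
    rw [Nat.card_congr (Equiv.mk (fun A => e₀.symm.trans (A.trans e₀)) (fun A => e₀.trans (A.trans e₀.symm))
      (fun A => LinearEquiv.ext fun x => by simp) (fun A => LinearEquiv.ext fun x => by simp)),
      Nat.card_congr (linToGL (Fin m) F).toEquiv, Matrix.card_GL_field, hF]
  -- the determinant
  set TI := (St ⊓ TT : Subgroup GG) with hTI
  have h2 : Nat.card Hs ∣ Nat.card TI * (q + 1) := by
    let δ : Hs →* Fˣ := (Matrix.GeneralLinearGroup.det).comp Hs.subtype
    have hk : Nat.card δ.ker = Nat.card TI := by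
      refine Nat.card_congr ⟨fun g => ⟨g.1.1, g.1.2.1, g.1.2.2, g.2⟩, fun g => ⟨⟨g.1, g.2.1, g.2.2.1⟩, g.2.2.2⟩,
        fun g => rfl, fun g => rfl⟩
    have hr' : δ.range ≤ rootsOfUnity (q + 1) F := by
      rintro _ ⟨⟨g, hg, hgU⟩, rfl⟩
      rw [← range_unitToGL hF] at hgU
      obtain ⟨k, rfl⟩ := hgU
      rw [mem_rootsOfUnity]
      apply Units.ext
      show ((Matrix.GeneralLinearGroup.det (unitToGL hF k) ^ (q + 1) : Fˣ) : F) = 1
      rw [Units.val_pow_eq_pow_val, det_unitToGL, pow_succ']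
      have h := norm_det k
      rw [show (stdHerm n hF).σ (LinearMap.det k.1.toLinearMap) = _ from powConj_apply hF _] at h
      rw [show (((stdHerm n hF).detHom k : Fˣ) : F) = LinearMap.det k.1.toLinearMap from LinearEquiv.coe_det _]
      exact h
    have hroot : Nat.card (rootsOfUnity (q + 1) F) = q + 1 := by
      rw [card_rootsOfUnity_eq_gcd, Nat.card_eq_fintype_card, hF]
      exact Nat.gcd_eq_left ⟨q - 1, by rw [← Nat.sq_sub_sq, one_pow]⟩
    have h := δ.ker.card_mul_index
    rw [Subgroup.index_ker, hk] at h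
    rw [← h]
    exact mul_dvd_mul_left _ (hroot ▸ Subgroup.card_dvd_of_le hr')
  -- counting
  set idx := St.relIndex TT with hidx
  have hc : Nat.card ↥(TT) = idx * Nat.card TI := by
    rw [hidx, Subgroup.relIndex, mul_comm, ← Subgroup.card_mul_index (St.subgroupOf TT)]
    congr 1
    rw [← Subgroup.inf_subgroupOf_right]
    exact Nat.card_congr (Subgroup.subgroupOfEquivOfLe inf_le_right).toEquiv
  obtain ⟨a, b, hab⟩ := gu_even_split q (by omega) m
  rw [← hcardA, ← hnm, ← card_T_mul hF hn, hc] at hab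
  have h3 : r * Nat.card (D 0 ≃ₗ[F] D 0) ∣ (q + 1) * (idx * Nat.card TI) * q ^ a := by
    refine Dvd.dvd.mul_right ?_ _
    rw [show (q + 1) * (idx * Nat.card TI) = idx * (Nat.card TI * (q + 1)) by ring]
    exact mul_dvd_mul hΩ (h1.trans h2)
  rw [hab, mul_comm r] at h3
  haveI : Finite (D 0 ≃ₗ[F] D 0) := Finite.of_injective _ DFunLike.coe_injective
  have hpos : 0 < Nat.card (D 0 ≃ₗ[F] D 0) := Nat.card_pos
  rcases hr.dvd_mul.mp (Nat.dvd_of_mul_dvd_mul_left hpos h3) with h | h
  · exact absurd (hr.dvd_of_dvd_pow h) hrq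
  · obtain ⟨i, hi, hi'⟩ := (hr.prime.dvd_finset_prod_iff _).mp h
    exact ⟨2 * i + 1, odd_two_mul_add_one i, by rw [Finset.mem_range] at hi; omega, hi'⟩

include hF hD hDs hnm in
theorem main {p : ℕ} [Fact p.Prime] [CharP F p] (hm : 2 ≤ m) {r : ℕ} [Fact r.Prime]
    (hΩ : r ∣ (Cfsg.Geo.decompositionStabilizer D).relIndex TT) :
    (∀ x ∈ TT, (∃ z : F, ((x ^ r : GG) : MM) = z • (1 : MM)) → (∀ z : F, (x : MM) ≠ z • (1 : MM)) →
      ∃ y ∈ TT, y⁻¹ * x * y ∈ Cfsg.Geo.decompositionStabilizer D) ↔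
    (r = 2 ∧ Odd q ∧ padicValNat 2 (q + 1) ≤ padicValNat 2 n) := by
  classical
  have hr : r.Prime := Fact.out
  have hp : p.Prime := Fact.out
  have hm0 : 0 < m := by omega
  set H := stdHerm n hF with hH
  have hd : Module.finrank F (Fin n → F) = 2 * m := by rw [Module.finrank_fin_fun, hnm]
  have hσ : ∀ x, H.σ x = x ^ q := powConj_apply hF
  have hq0 := one_lt_q hF
  obtain ⟨e, -, hcard⟩ := FiniteField.card F p
  have hpq : ∀ s : ℕ, s.Prime → (s ∣ q ↔ s = p) := fun s hs => by
    constructor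
    · intro h
      have : s ∣ p ^ (e : ℕ) := by rw [← hcard, hF]; exact dvd_pow h two_ne_zero
      exact (Nat.prime_dvd_prime_iff_eq hs hp).mp (hs.dvd_of_dvd_pow this)
    · rintro rfl
      have : s ∣ q ^ 2 := by rw [← hF, hcard]; exact dvd_pow_self _ e.pos.ne'
      exact hs.dvd_of_dvd_pow this
  have hodd_iff : Odd q ↔ p ≠ 2 := by
    rw [← Nat.not_even_iff_odd, even_iff_two_dvd, hpq 2 Nat.prime_two]
    exact ⟨fun h e => h e.symm, fun h e => h e.symm⟩
  have h2 : p ≠ 2 → (2 : F) ≠ 0 := fun hp2 h => hp2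
    ((Nat.prime_dvd_prime_iff_eq hp Nat.prime_two).mp ((CharP.cast_eq_zero_iff F p 2).mp (by exact_mod_cast h)))
  constructor
  · intro Hall
    have hno : ∀ g : H.Isom, ¬ Derangement H m r g := fun g hg => not_all hF D hD hDs hnm hm0 hg Hall
    by_cases hrp : r = p
    · exfalso
      subst hrp
      obtain ⟨g, hg⟩ := exists_unipotent H (p := r) hm hd
      exact hno g hg
    have hrq : ¬ r ∣ q := fun h => hrp ((hpq r hr).mp h)
    by_cases hr2 : r = 2
    · subst hr2
      have hp2 : p ≠ 2 := fun e => hrp e.symm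
      refine ⟨rfl, hodd_iff.mpr hp2, ?_⟩
      by_contra hval
      push Not at hval
      set a := padicValNat 2 n with ha
      have hdvd : 2 ^ (a + 1) ∣ q + 1 := (pow_dvd_pow 2 hval).trans pow_padicValNat_dvd
      obtain ⟨ζ, hζ0, hζ⟩ := ExtraThree.exists_order (F := F) (n := 2 ^ (a + 1))
        (hdvd.trans ⟨q - 1, by rw [hF, ← Nat.sq_sub_sq, one_pow]⟩)
      obtain ⟨n', hn'⟩ : 2 ^ a ∣ n := pow_padicValNat_dvd
      have hn'o : Odd n' := by
        rw [Nat.odd_iff]
        by_contra hc
        have h2n : 2 ^ (a + 1) ∣ n := by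
          rw [hn', pow_succ]; exact mul_dvd_mul_left _ (Nat.dvd_of_mod_eq_zero (by omega))
        exact absurd h2n (by rw [ha]; exact pow_succ_padicValNat_not_dvd (by omega))
      have hz : ζ ^ (2 ^ a) = -1 := by
        have h1 : ζ ^ (2 ^ a) * ζ ^ (2 ^ a) = 1 := by
          rw [← pow_add, ← two_mul, ← pow_succ', ← hζ, pow_orderOf_eq_one]
        refine (mul_self_eq_one_iff.mp h1).resolve_left fun h => ?_
        have := Nat.le_of_dvd (Nat.two_pow_pos a) (orderOf_dvd_of_pow_eq_one h)
        rw [hζ, pow_succ] at this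
        have := Nat.two_pow_pos a
        omega
      obtain ⟨g, hg⟩ := exists_involution H hm hd (h2 hp2) (l := ζ)
        (by rw [hσ, ← pow_succ']; obtain ⟨s, hs⟩ := hdvd; rw [hs, pow_mul, ← hζ, pow_orderOf_eq_one, one_pow])
        (by rw [← hnm, hn', pow_mul, hz, hn'o.neg_one_pow])
      exact hno g hg
    · exfalso
      obtain ⟨j, hjo, hjn, hj⟩ := dvd_index hF D hD hDs hnm hm0 hr hrq hΩ
      have hrodd := hr.odd_of_ne_two hr2
      by_cases hq1 : r ∣ q + 1
      · obtain ⟨w, hw0, hw⟩ := ExtraThree.exists_order (F := F) (n := r)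
          (hq1.trans ⟨q - 1, by rw [hF, ← Nat.sq_sub_sq, one_pow]⟩)
        obtain ⟨g, hg⟩ := exists_torus H hm hd hrodd (w := w)
          (by rw [hσ, ← pow_succ']; obtain ⟨s, hs⟩ := hq1; rw [hs, pow_mul, ← hw, pow_orderOf_eq_one, one_pow])
          (hw ▸ pow_orderOf_eq_one w) (fun e => by rw [e, orderOf_one] at hw; exact hr.ne_one hw.symm)
        exact hno g hg
      · have hex : ∃ b, Odd b ∧ r ∣ q ^ b + 1 := ⟨j, hjo, hj⟩
        obtain ⟨hbo, hbr⟩ := Nat.find_spec hex
        have hbj := Nat.find_min' hex ⟨hjo, hj⟩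
        set b := Nat.find hex with hb
        have hmin : ∀ i, Odd i → i < b → ¬ r ∣ q ^ i + 1 := fun i hi hlt h => Nat.find_min hex hlt ⟨hi, h⟩
        obtain ⟨k, rfl⟩ : ∃ k, n = b + k := ⟨n - b, by omega⟩
        have hko : Odd k := by
          rcases Nat.even_or_odd k with hk | hk
          · exfalso
            obtain ⟨x, hx⟩ := hbo
            obtain ⟨y, hy⟩ := hk
            omega
          · exact hk
        obtain ⟨g, hg⟩ := exists_block hF (p := p) hr2 hrp hrq hbo hko hbr hmin hq1 (m := m) hnm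
        exact hno g hg
  · rintro ⟨rfl, hoddq, hval⟩ x hx ⟨z, hz⟩ hns
    have hp2 := hodd_iff.mp hoddq
    obtain ⟨g, hgS, rfl⟩ := (mem_T_iff hF x).mp hx
    refine (conj_iff hF D hD hDs hnm hm0 g).mpr ?_
    have hgg : ∀ v, g.1 (g.1 v) = z • v := fun v => by
      have h := congrArg (fun M : MM => M *ᵥ v) hz
      rw [← map_pow, unitToGL_mulVec, Matrix.smul_mulVec, Matrix.one_mulVec, pow_two] at h
      exact h
    haveI : Nontrivial (Fin n → F) := Module.nontrivial_of_finrank_pos (R := F) (by omega)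
    obtain ⟨v, hv⟩ := H.exists_anisotropic
    have hv0 : v ≠ 0 := fun e => hv (by rw [e, H.zero_left])
    have hz0 : z ≠ 0 := fun e => hv0 (g.1.injective (g.1.injective (by rw [hgg, e, zero_smul, map_zero, map_zero])))
    have hzn : z ^ (q + 1) = 1 := by
      have h := (g.2 (g.1 v) (g.1 v)).trans (g.2 v v)
      rw [hgg, H.smul_left, H.smul_right, hσ] at h
      exact mul_right_cancel₀ hv (by linear_combination h)
    obtain ⟨l, hl⟩ : IsSquare z := by
      rw [FiniteField.isSquare_iff (by rw [ringChar.eq F p]; exact hp2) hz0, hF]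
      obtain ⟨s, hs⟩ := hoddq
      have e : q ^ 2 / 2 = (q + 1) * s := by
        rw [hs, show (2 * s + 1) ^ 2 = 2 * ((2 * s + 1 + 1) * s) + 1 by ring]; omega
      rw [e, pow_mul, hzn, one_pow]
    refine exists_pair_of_square hm0 hd (h2 hp2) g hgS (l := l)
      (fun e => hz0 (by rw [hl, e, mul_zero])) (fun v => by rw [hgg, hl]) fun c hc hcn => ?_
    rw [← hnm] at hcn
    rw [hσ, ← pow_succ'] at hc
    have hne : (1 : F) ≠ -1 := fun e => h2 hp2 (by linear_combination e)
    have hdvd : orderOf c ∣ q + 1 := orderOf_dvd_of_pow_eq_one hc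
    have hnot : ¬ orderOf c ∣ n := fun h => hne (by rw [← hcn, orderOf_dvd_iff_pow_eq_one.mp h])
    have h2n : orderOf c ∣ n * 2 := orderOf_dvd_of_pow_eq_one (by rw [pow_mul, hcn]; ring)
    have hc0 : orderOf c ≠ 0 := fun e => by rw [e, zero_dvd_iff] at hdvd; omega
    refine hnot ((Nat.factorization_le_iff_dvd hc0 (by omega)).mp fun s => ?_)
    have f1 := (Nat.factorization_le_iff_dvd hc0 (by omega)).mpr hdvd s
    have f2 := (Nat.factorization_le_iff_dvd hc0 (by omega)).mpr h2n s
    rw [Nat.factorization_mul (by omega) (by norm_num), Finsupp.add_apply, Nat.prime_two.factorization] at f2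
    by_cases hs : s = 2
    · subst hs
      rw [Nat.factorization_def _ Nat.prime_two] at f1 ⊢
      rw [Nat.factorization_def (q + 1) Nat.prime_two] at f1
      rw [Nat.factorization_def n Nat.prime_two]
      omega
    · rw [Finsupp.single_eq_of_ne hs] at f2
      simpa using f2

end Main

end Cfsg.Lib.Classical.UPairElusive
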