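import Mathlib
import Cfsg.Agent.Classical.Unitary.Root
import Cfsg.Agent.Classical.Subfield.Core

set_option autoImplicit false
set_option linter.unusedVariables false
set_option linter.unusedSimpArgs false
set_option linter.style.haveILetI false

/-! The rational unitary group inside the special unitary group of a bigger field. -/

namespace Cfsg.Lib.Classical

universe u

variable {F : Type u} [Field F] {ι : Type} [Fintype ι] [DecidableEq ι] {F₀ : Subfield F}

namespace HermSpace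

variable {H : HermSpace F (ι → F)}

/-- The standard form, with a subfield on which the conjugation is nontrivial. -/
structure UStd (H : HermSpace F (ι → F)) (F₀ : Subfield F) : Prop where
  std : ∀ x y, H.h x y = ∑ i, x i * H.σ (y i)
  mem : ∀ a : F₀, H.σ a ∈ F₀
  ne : ∃ a : F₀, H.σ a ≠ a

namespace UStd

variable (S : H.UStd F₀)
include S

/-- The rational Hermitian space. -/
def rat : HermSpace F₀ (ι → F₀) where
  σ := (H.σ.comp (F₀.subtype : F₀ →+* F)).codRestrict F₀ S.mem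
  h u v := ∑ i, u i * (H.σ.comp (F₀.subtype : F₀ →+* F)).codRestrict F₀ S.mem (v i)
  conj := ⟨fun a => Subtype.ext (H.conj.invol _), by
    obtain ⟨a, ha⟩ := S.ne
    exact ⟨a, fun e => ha (congrArg Subtype.val e)⟩⟩
  add_left x y z := by simp [add_mul, Finset.sum_add_distrib]
  smul_left c x z := by simp [Finset.mul_sum, mul_assoc]
  symm x y := by
    rw [map_sum]
    refine Finset.sum_congr rfl fun i _ => Subtype.ext ?_
    rw [map_mul]
    push_cast
    change (x i : F) * H.σ (y i) = H.σ (y i) * H.σ (H.σ (x i : F))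
    rw [H.conj.invol, mul_comm]
  nondeg v hv := by
    funext i
    have := hv (Pi.single i 1)
    rw [Finset.sum_eq_single i (fun j _ hj => by simp [hj]) (by simp)] at this
    simpa using this

theorem coe_σ (a : F₀) : ((S.rat.σ a : F₀) : F) = H.σ a := rfl

theorem h_ratVec (u v : ι → F₀) : H.h (ratVec F₀ u) (ratVec F₀ v) = (S.rat.h u v : F) := by
  rw [S.std]
  change _ = ((∑ i, _ : F₀) : F)
  rw [AddSubmonoidClass.coe_finsetSum]
  rfl

theorem h_ratVec_eq {u v : ι → F₀} {a : F₀} (h : S.rat.h u v = a) : H.h (ratVec F₀ u) (ratVec F₀ v) = a := by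
  rw [S.h_ratVec, h]

theorem h_ratVec_zero {u v : ι → F₀} (h : S.rat.h u v = 0) : H.h (ratVec F₀ u) (ratVec F₀ v) = 0 := by
  rw [S.h_ratVec, h]; rfl

theorem rat_h_eq_zero {u v : ι → F₀} (h : H.h (ratVec F₀ u) (ratVec F₀ v) = 0) : S.rat.h u v = 0 :=
  Subtype.ext (by rw [← S.h_ratVec, h]; rfl)

theorem h_ratVec_mem (u v : ι → F₀) : H.h (ratVec F₀ u) (ratVec F₀ v) ∈ F₀ := by
  rw [S.h_ratVec]; exact SetLike.coe_mem _

theorem h_single (z : ι → F) (i : ι) : H.h z (ratVec F₀ (Pi.single i 1)) = z i := by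
  rw [S.std, Finset.sum_eq_single i (fun j _ hj => by simp [ratVec, hj]) (by simp)]
  simp [ratVec]

theorem ext_left {x : ι → F} (h : ∀ u : ι → F₀, H.h x (ratVec F₀ u) = 0) : x = 0 :=
  funext fun i => by rw [← S.h_single x i, h]; rfl

theorem rat_skew {c : F₀} (hc : c + S.rat.σ c = 0) : (c : F) + H.σ c = 0 := by
  rw [← S.coe_σ, ← Subfield.coe_add, hc]; rfl

theorem exists_rat_skew : ∃ δ : F₀, δ ≠ 0 ∧ (δ : F) + H.σ δ = 0 := by
  obtain ⟨δ, h0, h⟩ := S.rat.conj.exists_skew
  exact ⟨δ, h0, S.rat_skew h⟩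

theorem sT_exact {u : ι → F₀} (hu : H.h (ratVec F₀ u) (ratVec F₀ u) = 0) {c : F} (hc : c + H.σ c = 0)
    (hc0 : c ∈ F₀) : RatExact F₀ (H.sT hu hc).1.1.toLinearMap := fun x =>
  ⟨x + (⟨c, hc0⟩ * S.rat.h x u) • u, by
    rw [LinearEquiv.coe_coe, sT_apply, S.h_ratVec, ratVec_add, ratVec_smul]; rfl⟩

theorem sR_exact {u w : ι → F₀} (hu : H.h (ratVec F₀ u) (ratVec F₀ u) = 0)
    (hw : H.h (ratVec F₀ w) (ratVec F₀ w) = 0) (hwu : H.h (ratVec F₀ w) (ratVec F₀ u) = 0) (l : F₀) :
    RatExact F₀ (H.sR hu hw hwu (l : F)).1.1.toLinearMap := fun x =>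
  ⟨x + (l * S.rat.h x w) • u - (S.rat.σ l * S.rat.h x u) • w, by
    rw [LinearEquiv.coe_coe, sR_apply, S.h_ratVec, S.h_ratVec, ratVec_sub, ratVec_add, ratVec_smul,
      ratVec_smul]
    rfl⟩

variable {K : Subgroup H.SIsom}

/-- The rational special unitary group lifts. -/
theorem exists_lift [Finite F] (hd : 4 ≤ Fintype.card ι)
    (hM : ∀ g : H.SIsom, RatScaled F₀ g.1.1.toLinearMap → g ∈ K) (g₀ : S.rat.SIsom) :
    ∃ k ∈ K, ∀ u, k.1.1 (ratVec F₀ u) = ratVec F₀ (g₀.1.1 u) := by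
  let G₀ : Subgroup S.rat.Isom :=
    { carrier := {p | ∃ k ∈ K, ∀ u, k.1.1 (ratVec F₀ u) = ratVec F₀ (p.1 u)}
      one_mem' := ⟨1, K.one_mem, fun u => rfl⟩
      mul_mem' := by
        rintro p p' ⟨k, hk, hp⟩ ⟨k', hk', hp'⟩
        exact ⟨k * k', K.mul_mem hk hk', fun u => by rw [H.smul_mul_apply, hp', hp, S.rat.mul_apply']⟩
      inv_mem' := by
        rintro p ⟨k, hk, hp⟩
        refine ⟨k⁻¹, K.inv_mem hk, fun u => k.1.1.injective ?_⟩
        change k.1.1 ((k.1⁻¹).1 _) = _
        rw [H.apply_inv_self, hp, S.rat.apply_inv_self] }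
  haveI : Finite F₀ := Finite.of_injective _ Subtype.val_injective
  have hle : S.rat.transvGroup ≤ G₀ := by
    rw [transvGroup, Subgroup.closure_le]
    rintro _ ⟨v, hv, c, hc, rfl⟩
    refine ⟨H.sT (S.h_ratVec_zero hv) (S.rat_skew hc), hM _ (S.sT_exact _ _ c.2).scaled, fun u => ?_⟩
    rw [sT_apply, uT_apply, S.h_ratVec, ratVec_add, ratVec_smul]
    rfl
  rw [S.rat.transvGroup_eq_SIsom (Or.inl (by rw [Module.finrank_fintype_fun_eq_card]; exact hd))] at hle
  exact hle g₀.2

theorem exists_point_lift [Finite F] (hd : 4 ≤ Fintype.card ι)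
    (hM : ∀ g : H.SIsom, RatScaled F₀ g.1.1.toLinearMap → g ∈ K) {e e' : ι → F₀} (he : e ≠ 0) (he' : e' ≠ 0)
    (hee : S.rat.h e e = 0) (hee' : S.rat.h e' e' = 0) : ∃ k ∈ K, k.1.1 (ratVec F₀ e) = ratVec F₀ e' := by
  haveI : Finite F₀ := Finite.of_injective _ Subtype.val_injective
  obtain ⟨m, hm⟩ := S.rat.transitive_isotropic he he' hee hee'
  obtain ⟨w, hw1, hw2⟩ := S.rat.exists_anisotropic_orth_singleton
    (by rw [Module.finrank_fintype_fun_eq_card]; omega) e'
  obtain ⟨z, hz⟩ := S.rat.exists_SIsom_correct m hw1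
  obtain ⟨k, hk, hku⟩ := S.exists_lift hd hM ⟨_, hz⟩
  refine ⟨k, hk, ?_⟩
  rw [hku, S.rat.mul_apply', hm, S.rat.qrefl_orth hw1 z (S.rat.eq_zero_symm hw2)]

theorem sT_mem (hM : ∀ g : H.SIsom, RatScaled F₀ g.1.1.toLinearMap → g ∈ K) {u : ι → F₀}
    (hu : H.h (ratVec F₀ u) (ratVec F₀ u) = 0) {c : F} (hc : c + H.σ c = 0) (hc0 : c ∈ F₀) :
    H.sT hu hc ∈ K := hM _ (S.sT_exact hu hc hc0).scaled

theorem sR_mem (hM : ∀ g : H.SIsom, RatScaled F₀ g.1.1.toLinearMap → g ∈ K) {u w : ι → F₀}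
    (hu : H.h (ratVec F₀ u) (ratVec F₀ u) = 0) (hw : H.h (ratVec F₀ w) (ratVec F₀ w) = 0)
    (hwu : H.h (ratVec F₀ w) (ratVec F₀ u) = 0) {l : F} (hl : l ∈ F₀) : H.sR hu hw hwu l ∈ K :=
  hM _ (S.sR_exact hu hw hwu ⟨l, hl⟩).scaled

/-- A transvection outside the subfield gives the whole group. -/
theorem top_of_nonrational [Finite F] {r : ℕ} (hr : r.Prime) (hcard : Nat.card F = Nat.card F₀ ^ r)
    (hd : 4 ≤ Fintype.card ι) (hM : ∀ g : H.SIsom, RatScaled F₀ g.1.1.toLinearMap → g ∈ K)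
    {c : F} (hc : c + H.σ c = 0) (hc0 : c ∉ F₀) {e : ι → F₀} (he0 : e ≠ 0)
    (he : H.h (ratVec F₀ e) (ratVec F₀ e) = 0) (hmem : H.sT he hc ∈ K) : K = ⊤ := by
  classical
  haveI : Finite F₀ := Finite.of_injective _ Subtype.val_injective
  have hdim : Module.finrank F₀ (ι → F₀) = Fintype.card ι := Module.finrank_fintype_fun_eq_card F₀
  set L : Set F := {l | ∀ (u w : ι → F₀) (hu : H.h (ratVec F₀ u) (ratVec F₀ u) = 0)
    (hw : H.h (ratVec F₀ w) (ratVec F₀ w) = 0) (hwu : H.h (ratVec F₀ w) (ratVec F₀ u) = 0),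
    H.sR hu hw hwu l ∈ K} with hL
  have hcU : ∀ (u : ι → F₀) (hu : H.h (ratVec F₀ u) (ratVec F₀ u) = 0), H.sT hu hc ∈ K := by
    intro u hu
    rcases eq_or_ne u 0 with rfl | hu0
    · convert K.one_mem
      exact Subtype.ext (H.uT_eq_one_of_zero hc)
    obtain ⟨k, hk, hke⟩ := S.exists_point_lift (by omega) hM he0 hu0 (S.rat_h_eq_zero he) (S.rat_h_eq_zero hu)
    have := K.mul_mem (K.mul_mem hk hmem) (K.inv_mem hk)
    rw [sT_conj] at this
    rwa [H.sT_congr _ hu hc hc hke rfl] at this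
  let D : Set F := {d | d + H.σ d = 0 ∧ ∀ (u : ι → F₀) (hu : H.h (ratVec F₀ u) (ratVec F₀ u) = 0)
    (hd' : d + H.σ d = 0), H.sT hu hd' ∈ K}
  have hDL : ∀ d ∈ D, ∀ a : F₀, d * (a : F) ∈ L := fun d hd' a u w hu hw hwu => by
    obtain ⟨hds, hdK⟩ := hd'
    have hy : H.h ((a : F) • ratVec F₀ u + ratVec F₀ w) ((a : F) • ratVec F₀ u + ratVec F₀ w) = 0 := by
      simp [H.add_left, H.add_right, H.smul_left, H.smul_right, hu, hw, hwu, H.eq_zero_symm hwu]
    have h1 := H.sT_split hu hw hwu (a : F) hy hds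
    have h2 : H.sT hy hds ∈ K := by
      have e : (a : F) • ratVec F₀ u + ratVec F₀ w = ratVec F₀ (a • u + w) := by rw [ratVec_add, ratVec_smul]
      rw [H.sT_congr hy (by rw [← e]; exact hy) hds hds e rfl]
      exact hdK _ _ _
    have hau : H.h ((a : F) • ratVec F₀ u) ((a : F) • ratVec F₀ u) = 0 := by
      rw [H.smul_left, H.smul_right, hu, mul_zero, mul_zero]
    have h3 : H.sT hu (H.skew_norm_mul (a : F) hds) ∈ K := by
      rw [← H.sT_smul hu (a : F) hau hds]
      have e : (a : F) • ratVec F₀ u = ratVec F₀ (a • u) := by rw [ratVec_smul]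
      rw [H.sT_congr hau (by rw [← e]; exact hau) hds hds e rfl]
      exact hdK _ _ _
    rw [h1] at h2
    exact (K.mul_mem_cancel_left (K.mul_mem h3 (hdK w hw hds))).mp h2
  have hF0L : (F₀ : Set F) ⊆ L := fun l hl u w hu hw hwu => S.sR_mem hM hu hw hwu hl
  have hadd : ∀ x ∈ L, ∀ y ∈ L, x + y ∈ L := fun x hx y hy u w hu hw hwu => by
    rw [sR_add]; exact K.mul_mem (hx u w hu hw hwu) (hy u w hu hw hwu)
  have hneg : ∀ x ∈ L, -x ∈ L := fun x hx u w hu hw hwu => by
    rw [sR_neg]; exact K.inv_mem (hx u w hu hw hwu)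
  have hDmul : ∀ d ∈ D, ∀ d' ∈ D, ∀ μ : F₀, (μ : F) + H.σ μ = 0 → d * d' * μ ∈ D := by
    intro d hd₁ d' hd₂ μ hμ
    have hs : d * d' * μ + H.σ (d * d' * μ) = 0 := by
      rw [map_mul, map_mul, eq_neg_of_add_eq_zero_right hd₁.1, eq_neg_of_add_eq_zero_right hd₂.1,
        eq_neg_of_add_eq_zero_right hμ]
      ring
    refine ⟨hs, fun u hu hs' => ?_⟩
    obtain ⟨v, w, hvo, hwo, hvv, hww, hvw⟩ := S.rat.exists_hyperbolic_orth (Submodule.span F₀ {u}) (by
      have : Module.finrank F₀ (Submodule.span F₀ ({u} : Set (ι → F₀))) ≤ 1 := by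
        classical
        exact (finrank_span_le_card ({u} : Set (ι → F₀))).trans (by simp)
      omega)
    have hvv' := S.h_ratVec_zero hvv
    have hww' := S.h_ratVec_zero hww
    have hvu := S.h_ratVec_zero (hvo u (Submodule.mem_span_singleton_self u))
    have hwu := S.h_ratVec_zero (hwo u (Submodule.mem_span_singleton_self u))
    have hvw' : H.h (ratVec F₀ v) (ratVec F₀ w) = 1 := S.h_ratVec_eq hvw
    obtain ⟨θ, hθ⟩ := S.rat.conj.exists_trace_one
    have hθ' : (θ : F) + H.σ θ = 1 := by rw [← S.coe_σ, ← Subfield.coe_add, hθ]; rfl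
    set l := d * ((-1 : F₀) : F) with hl
    set a := d' * ((θ * μ : F₀) : F) with ha
    have hte : d * d' * μ = a * H.σ l * H.h (ratVec F₀ v) (ratVec F₀ w) - l * H.σ a * H.h (ratVec F₀ w) (ratVec F₀ v) := by
      rw [H.symm (ratVec F₀ w), hvw', map_one, hl, ha]
      push_cast
      simp only [map_mul, map_neg, map_one, eq_neg_of_add_eq_zero_right hd₁.1, eq_neg_of_add_eq_zero_right hd₂.1,
        eq_neg_of_add_eq_zero_right hμ]
      linear_combination (-(d * d' * μ)) * hθ'
    have hcomm := H.sR_comm hu hvv' hvu hww' hwu l a hs hte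
    have h1 : H.sR hu hvv' hvu l ∈ K := hDL d hd₁ (-1) u v hu hvv' hvu
    have h2 : H.sR hu hww' hwu a ∈ K := hDL d' hd₂ (θ * μ) u w hu hww' hwu
    have h3 := K.mul_mem (K.inv_mem (K.mul_mem h2 h1)) (K.mul_mem h1 h2)
    rwa [hcomm, inv_mul_cancel_left] at h3
  obtain ⟨δ, hδ0, hδ⟩ := S.exists_rat_skew
  have hδD : (δ : F) ∈ D := ⟨hδ, fun u hu h => S.sT_mem hM hu h δ.2⟩
  have hcD : c ∈ D := ⟨hc, fun u hu h => hcU u hu⟩
  let P : AddSubmonoid F := AddSubmonoid.closure {x | ∃ d ∈ D, ∃ a : F₀, x = d * a}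
  have hPL : ∀ x ∈ P, x ∈ L := fun x hx => by
    induction hx using AddSubmonoid.closure_induction with
    | mem y hy => obtain ⟨d, hd', a, rfl⟩ := hy; exact hDL d hd' a
    | zero => exact hF0L F₀.zero_mem
    | add p q _ _ hp hq => exact hadd p hp q hq
  have hPmul : ∀ x ∈ P, ∀ y ∈ P, x * y ∈ P := fun x hx y hy => by
    induction hx using AddSubmonoid.closure_induction with
    | mem x hx =>
      obtain ⟨d, hd', a, rfl⟩ := hx
      induction hy using AddSubmonoid.closure_induction with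
      | mem y hy =>
        obtain ⟨d', hd'', a', rfl⟩ := hy
        refine AddSubmonoid.subset_closure ⟨d * d' * δ, hDmul d hd' d' hd'' δ hδ, a * a' / δ, ?_⟩
        have hδ1 : (δ : F) ≠ 0 := fun h => hδ0 (Subtype.ext h)
        push_cast
        field_simp
      | zero => rw [mul_zero]; exact P.zero_mem
      | add p q _ _ hp hq => rw [mul_add]; exact P.add_mem hp hq
    | zero => rw [zero_mul]; exact P.zero_mem
    | add p q _ _ hp hq => rw [add_mul]; exact P.add_mem hp hq
  have hall : ∀ l, l ∈ L := fun l => hPL l <| eq_univ_of_mul_closed (L := (P : Set F)) hr hcard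
    (fun a (ha : a ∈ F₀) => AddSubmonoid.subset_closure ⟨δ, hδD, (⟨a, ha⟩ : F₀) / δ, by
      have hδ1 : (δ : F) ≠ 0 := fun h => hδ0 (Subtype.ext h)
      push_cast
      field_simp⟩)
    (fun x hx y hy => P.add_mem hx hy) hPmul
    (AddSubmonoid.subset_closure ⟨c, hcD, 1, by rw [OneMemClass.coe_one, mul_one]⟩) hc0 l
  -- rational isotropic vectors are centres
  obtain ⟨θ, hθ⟩ := H.conj.exists_trace_one
  have hcen : ∀ (u : ι → F₀) (hu : H.h (ratVec F₀ u) (ratVec F₀ u) = 0) {d : F} (hd : d + H.σ d = 0),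
      H.sT hu hd ∈ K := by
    intro u hu d hd'
    have h := hall (θ * d) u u hu hu hu
    have e : θ * d - H.σ (θ * d) = d := by
      rw [map_mul, eq_neg_of_add_eq_zero_right hd']; linear_combination d * hθ
    rw [H.sR_self hu _ (by rw [e]; exact hd'), H.sT_congr hu hu _ hd' rfl e] at h
    exact h
  refine eq_top_of_uCentres (Or.inl (by rw [Module.finrank_fintype_fun_eq_card]; omega)) fun x hxx => ?_
  rcases eq_or_ne x 0 with rfl | hx0
  · exact H.uCentres_zero K
  obtain ⟨v, hv, hxv⟩ : ∃ v : ι → F₀, S.rat.h v v = 0 ∧ H.h x (ratVec F₀ v) ≠ 0 := by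
    by_contra hc'
    push Not at hc'
    refine hx0 (S.ext_left fun u => ?_)
    have hu : u ∈ Submodule.span F₀ {y : ι → F₀ | S.rat.h y y = 0} := by
      rw [S.rat.span_isotropic (by omega)]; trivial
    induction hu using Submodule.span_induction with
    | mem y hy => exact hc' y hy
    | zero => rw [ratVec_zero, H.zero_right]
    | add a b _ _ ha hb => rw [ratVec_add, H.add_right, ha, hb, add_zero]
    | smul a b _ hb => rw [ratVec_smul, H.smul_right, hb, mul_zero]
  have hv0 : v ≠ 0 := fun e => hxv (by rw [e, ratVec_zero, H.zero_right])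
  have hvv := S.h_ratVec_zero hv
  -- the axes of `v`
  let A : AddSubmonoid (ι → F) :=
    { carrier := {w | ∃ hw : H.h w (ratVec F₀ v) = 0, ∀ (a : F) (ha : a + H.σ a = -H.h w w),
        (⟨H.siegel hvv hw ha, H.siegel_mem_SIsom _ _ _⟩ : H.SIsom) ∈ K}
      zero_mem' := ⟨H.zero_left _, fun a ha => by
        have ha' : a + H.σ a = 0 := by rw [ha, H.zero_left, neg_zero]
        convert hcen v hvv ha' using 1
        refine H.sisom_ext fun y => ?_
        rw [sT_apply]
        dsimp only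
        rw [siegel_apply, smul_zero, add_zero, H.zero_right, sub_zero]⟩
      add_mem' := by
        rintro w w' ⟨hw, h⟩ ⟨hw', h'⟩
        refine ⟨by rw [H.add_left, hw, hw', add_zero], fun a ha => ?_⟩
        set a₁ := -(θ * H.h w w)
        have ha₁ : a₁ + H.σ a₁ = -H.h w w := by
          rw [map_neg, map_mul, H.self_fixed]; linear_combination (-H.h w w) * hθ
        have hdef : a - a₁ + H.h w' w + H.σ (a - a₁ + H.h w' w) = -H.h w' w' := by
          rw [map_add, map_sub, ← H.symm w w']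
          simp only [H.add_left, H.add_right] at ha
          linear_combination ha - ha₁
        have := K.mul_mem (h a₁ ha₁) (h' _ hdef)
        convert this using 1
        refine Subtype.ext ?_
        exact (H.siegel_mul hvv hw hw' ha₁ hdef (by rw [H.add_left, hw, hw', add_zero]) ha (by ring)).symm }
  have hA : ∀ y : ι → F₀, S.rat.h y v = 0 → ∀ b : F, b • ratVec F₀ y ∈ A := by
    intro y hy
    have hy' := S.rat.orth_le_span_isotropic (by omega) hv0 hv
      (S.rat.mem_orth_span.mpr fun w hw => by rw [Set.mem_singleton_iff] at hw; rw [hw]; exact hy)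
    clear hy
    induction hy' using Submodule.span_induction with
    | mem y hy =>
      intro b
      have hyv := S.h_ratVec_zero hy.2
      have hyy := S.h_ratVec_zero hy.1
      refine ⟨by rw [H.smul_left, hyv, mul_zero], fun a ha => ?_⟩
      have ha' : a + H.σ a = 0 := by
        rw [ha, H.smul_left, H.smul_right, hyy, mul_zero, mul_zero, neg_zero]
      have := K.mul_mem (hall (-H.σ b) v y hvv hyy hyv) (hcen v hvv ha')
      convert this using 1
      exact H.sisom_ext fun z => by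
        rw [H.smul_mul_apply, sT_apply, sR_apply]
        dsimp only
        rw [siegel_apply, map_neg, H.conj.invol]
        simp only [H.add_left, H.smul_left, H.smul_right, hvv, H.eq_zero_symm hyv]
        module
    | zero => intro b; rw [ratVec_zero, smul_zero]; exact A.zero_mem
    | add p p' _ _ hp hp' => intro b; rw [ratVec_add, smul_add]; exact A.add_mem (hp b) (hp' b)
    | smul l p _ hp => intro b; rw [ratVec_smul, smul_smul]; exact hp _
  obtain ⟨u, hvu, huu⟩ := S.rat.exists_hyperbolic hv0 hv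
  have huv : S.rat.h u v = 1 := by rw [S.rat.symm, hvu, map_one]
  have huv' : H.h (ratVec F₀ u) (ratVec F₀ v) = 1 := S.h_ratVec_eq huv
  have huu' := S.h_ratVec_zero huu
  set x' := (H.h x (ratVec F₀ v))⁻¹ • x with hx'
  have hx'v : H.h x' (ratVec F₀ v) = 1 := by rw [hx', H.smul_left, inv_mul_cancel₀ hxv]
  have hx'x' : H.h x' x' = 0 := by rw [hx', H.smul_left, H.smul_right, hxx, mul_zero, mul_zero]
  set w := x' - ratVec F₀ u with hw
  have hwv : H.h w (ratVec F₀ v) = 0 := by rw [hw, H.sub_left, hx'v, huv', sub_self]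
  have hwA : w ∈ A := by
    have e : w = ∑ i, w i • ratVec F₀ (Pi.single i 1 - S.rat.h (Pi.single i 1) v • u) := by
      simp only [ratVec_sub, ratVec_smul, smul_sub, Finset.sum_sub_distrib, smul_smul, ← Finset.sum_smul]
      have h1 : ∑ i, w i • ratVec F₀ (Pi.single i (1 : F₀)) = w := by
        funext j
        simp [Finset.sum_apply, ratVec, Pi.single_apply, apply_ite]
      have h2 : ∑ i, w i * (S.rat.h (Pi.single i 1) v : F) = 0 := by
        rw [← hwv, ← h1, H.sum_left]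
        simp only [H.smul_left, S.h_ratVec, h1]
      rw [h1, h2, zero_smul, sub_zero]
    rw [e]
    exact A.sum_mem fun i _ => hA _ (by rw [S.rat.sub_left, S.rat.smul_left, huv, mul_one, sub_self]) _
  obtain ⟨hw', hwK⟩ := hwA
  have ha : H.h (ratVec F₀ u) w + H.σ (H.h (ratVec F₀ u) w) = -H.h w w := by
    rw [← H.symm, hw]
    simp only [H.sub_left, H.sub_right, hx'x', huu']
    ring
  have hC := uCentres_map (v := ratVec F₀ u) ⟨huu', fun d hd' => hcen u huu' hd'⟩ (hwK _ ha)
  change (H.siegel hvv hw' ha).1 (ratVec F₀ u) ∈ _ at hC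
  rw [siegel_apply, huv', mul_one, sub_self, zero_smul, add_zero, one_smul, hw, add_sub_cancel] at hC
  have := uCentres_smul hC (H.h x (ratVec F₀ v))
  rwa [hx', smul_smul, mul_inv_cancel₀ hxv, one_smul] at this

end UStd

end HermSpace

end Cfsg.Lib.Classical
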