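import Mathlib
import Cfsg.Agent.Classical.Unitary.Rational
import Cfsg.Agent.Classical.Subfield.Involution
import Cfsg.Agent.Classical.Subfield.InvolutionBad

set_option autoImplicit false
set_option linter.unusedVariables false
set_option linter.unusedSimpArgs false
set_option linter.style.haveILetI false

/-! The subfield subgroup is maximal in the special unitary group. -/

namespace Cfsg.Lib.Classical

universe u

variable {F : Type u} [Field F] {ι : Type} [Fintype ι] [DecidableEq ι] {F₀ : Subfield F}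

namespace HermSpace

variable {H : HermSpace F (ι → F)}

namespace UStd

variable (S : H.UStd F₀) {K : Subgroup H.SIsom}

include S

/-- No transvection with rational centre outside the subfield. -/
def NoNonrational (S : H.UStd F₀) (K : Subgroup H.SIsom) : Prop :=
  ∀ (e : ι → F₀) (he : H.h (ratVec F₀ e) (ratVec F₀ e) = 0) (c : F) (hc : c + H.σ c = 0),
    e ≠ 0 → H.sT he hc ∈ K → c ∈ F₀

theorem mem_of_sR [Finite F] (hd : 4 ≤ Fintype.card ι) (hM : ∀ g : H.SIsom, RatScaled F₀ g.1.1.toLinearMap → g ∈ K)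
    (hnon : S.NoNonrational K) {e u : ι → F₀} (he0 : e ≠ 0) (hu0 : u ∉ Submodule.span F₀ {e})
    (he : H.h (ratVec F₀ e) (ratVec F₀ e) = 0) (hu : H.h (ratVec F₀ u) (ratVec F₀ u) = 0)
    (hue : H.h (ratVec F₀ u) (ratVec F₀ e) = 0) {l t : F} (ht : t + H.σ t = 0)
    (hmem : H.sR he hu hue l * H.sT he ht ∈ K) : l ∈ F₀ := by
  haveI : Finite F₀ := Finite.of_injective _ Subtype.val_injective
  -- a partner of `u` orthogonal to `e`
  obtain ⟨v, hvv, hve, huv⟩ : ∃ v : ι → F₀, S.rat.h v v = 0 ∧ S.rat.h v e = 0 ∧ S.rat.h u v ≠ 0 := by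
    by_contra hc
    push Not at hc
    refine hu0 ?_
    rw [← S.rat.orth_orth (Submodule.span F₀ ({e} : Set (ι → F₀)))]
    intro x hx
    have hx' := S.rat.orth_le_span_isotropic (by rw [Module.finrank_fintype_fun_eq_card]; omega) he0
      (S.rat_h_eq_zero he) hx
    clear hx
    induction hx' using Submodule.span_induction with
    | mem y hy => exact hc y hy.1 hy.2
    | zero => exact S.rat.zero_right u
    | add a b _ _ ha hb => rw [S.rat.add_right, ha, hb, add_zero]
    | smul a b _ hb => rw [S.rat.smul_right, hb, mul_zero]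
  have hvv' := S.h_ratVec_zero hvv
  have hve' := S.h_ratVec_zero hve
  set A : F := H.h (ratVec F₀ v) (ratVec F₀ u) with hA
  have hA0 : A ∈ F₀ := S.h_ratVec_mem v u
  have hA1 : A ≠ 0 := fun h => huv (S.rat_h_eq_zero (H.eq_zero_symm h))
  have key : ∀ a : F₀, (a : F) * H.σ l * H.σ A - l * H.σ a * A ∈ F₀ := by
    intro a
    set t' : F := (a : F) * H.σ l * H.σ A - l * H.σ a * A with ht'
    have hskew : t' + H.σ t' = 0 := by
      rw [ht', map_sub, map_mul, map_mul, map_mul, map_mul, H.conj.invol, H.conj.invol, H.conj.invol]; ring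
    have hR : H.sR he hvv' hve' (a : F) ∈ K := S.sR_mem hM he hvv' hve' a.2
    have hcomm := H.sR_comm he hu hue hvv' hve' l (a : F) hskew (by rw [ht', ← H.symm])
    have hc : (H.sR he hu hue l * H.sT he ht) * H.sR he hvv' hve' a * (H.sR he hu hue l * H.sT he ht)⁻¹ *
        (H.sR he hvv' hve' a)⁻¹ = H.sT he hskew := by
      have c1 : Commute (H.sT he ht) (H.sR he hvv' hve' a) := (H.sR_sT_commute he hvv' hve' a ht).symm
      have c2 : Commute (H.sT he hskew) (H.sR he hu hue l) := (H.sR_sT_commute he hu hue l hskew).symm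
      have c3 : Commute (H.sT he hskew) (H.sR he hvv' hve' a) := (H.sR_sT_commute he hvv' hve' a hskew).symm
      calc H.sR he hu hue l * H.sT he ht * H.sR he hvv' hve' a * (H.sR he hu hue l * H.sT he ht)⁻¹ *
            (H.sR he hvv' hve' a)⁻¹ = H.sR he hu hue l * (H.sT he ht * H.sR he hvv' hve' a * (H.sT he ht)⁻¹) *
              (H.sR he hu hue l)⁻¹ * (H.sR he hvv' hve' a)⁻¹ := by group
        _ = H.sR he hvv' hve' a * (H.sR he hu hue l * H.sT he hskew * (H.sR he hu hue l)⁻¹) *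
              (H.sR he hvv' hve' a)⁻¹ := by
          rw [c1.eq, mul_inv_cancel_right, hcomm]
          group
        _ = H.sT he hskew := by rw [← c2.eq, mul_inv_cancel_right, ← c3.eq, mul_inv_cancel_right]
    exact hnon e he t' hskew he0
      (hc ▸ K.mul_mem (K.mul_mem (K.mul_mem hmem hR) (K.inv_mem hmem)) (K.inv_mem hR))
  obtain ⟨b, hb⟩ := S.ne
  have h1 := key 1
  rw [OneMemClass.coe_one, map_one, one_mul, mul_one] at h1
  have h2 := F₀.sub_mem (key b) (F₀.mul_mem b.2 h1)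
  have e3 : (b : F) * H.σ l * H.σ A - l * H.σ b * A - b * (H.σ l * H.σ A - l * A) =
      l * (((b : F) - H.σ b) * A) := by ring
  rw [e3] at h2
  have h3 : ((b : F) - H.σ b) * A ∈ F₀ := F₀.mul_mem (F₀.sub_mem b.2 (S.mem b)) hA0
  have h4 := F₀.mul_mem h2 (F₀.inv_mem h3)
  rwa [mul_assoc, mul_inv_cancel₀ (mul_ne_zero (sub_ne_zero.mpr (Ne.symm hb)) hA1), mul_one] at h4

theorem image_isotropic_of_fix [Finite F] (hd : 4 ≤ Fintype.card ι)
    (hM : ∀ g : H.SIsom, RatScaled F₀ g.1.1.toLinearMap → g ∈ K) (hnon : S.NoNonrational K) {g : H.SIsom}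
    (hg : g ∈ K) {e e' : ι → F₀} (he : e ≠ 0) (he' : e' ≠ 0) (hee : S.rat.h e e = 0) (hee' : S.rat.h e' e' = 0)
    {μ : F} (hge : g.1.1 (ratVec F₀ e) = μ • ratVec F₀ e') {v : ι → F₀} (hv : S.rat.h v v = 0)
    (hev : S.rat.h v e = 0) : ∃ p, g.1.1 (ratVec F₀ v) = μ • ratVec F₀ p := by
  haveI : Finite F₀ := Finite.of_injective _ Subtype.val_injective
  have he2 := S.h_ratVec_zero hee
  have he2' := S.h_ratVec_zero hee'
  have hv2 := S.h_ratVec_zero hv
  have hev2 := S.h_ratVec_zero hev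
  have hμ : μ ≠ 0 := fun h => ratVec_ne_zero he (g.1.1.map_eq_zero_iff.mp (by rw [hge, h, zero_smul]))
  by_cases hve : v ∈ Submodule.span F₀ {e}
  · obtain ⟨j, rfl⟩ := Submodule.mem_span_singleton.mp hve
    exact ⟨j • e', by rw [ratVec_smul, map_smul, hge, ratVec_smul, smul_comm]⟩
  obtain ⟨δ, hδ0, hδ⟩ := S.exists_rat_skew
  have hδ' : (δ : F) ≠ 0 := fun h => hδ0 (Subtype.ext h)
  -- the norm of `μ` is rational
  have hNμ : μ * H.σ μ ∈ F₀ := by
    have h1 := K.mul_mem (K.mul_mem hg (S.sT_mem hM he2 hδ δ.2)) (K.inv_mem hg)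
    rw [sT_conj, H.sT_congr _ (by rw [H.smul_left, H.smul_right, he2', mul_zero, mul_zero]) hδ hδ hge rfl,
      H.sT_smul he2' μ _ hδ (H.skew_norm_mul μ hδ)] at h1
    have h2 := F₀.mul_mem (hnon e' he2' _ _ he' h1) (F₀.inv_mem δ.2)
    rwa [mul_assoc, mul_inv_cancel₀ hδ', mul_one] at h2
  set y := g.1.1 (ratVec F₀ v) with hy
  set z := H.σ μ • y with hz
  have hzz : H.h z z = 0 := by rw [hz, H.smul_left, H.smul_right, hy, H.map_form, hv2, mul_zero, mul_zero]
  have hze : H.h z (ratVec F₀ e') = 0 := by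
    have h0 := H.map_form g.1 (ratVec F₀ v) (ratVec F₀ e)
    rw [hge, H.smul_right, hev2, mul_eq_zero] at h0
    rw [hz, H.smul_left, hy, h0.resolve_left ((map_ne_zero _).mpr hμ), mul_zero]
  have hRz : ∀ a : F₀, H.sR he2' hzz hze (a : F) ∈ K := fun a => by
    have := K.mul_mem (K.mul_mem hg (S.sR_mem hM he2 hv2 hev2 a.2)) (K.inv_mem hg)
    rw [sR_conj] at this
    convert this using 1
    refine H.sisom_ext fun x => ?_
    rw [sR_apply, sR_apply, hge, hz, H.smul_right, H.smul_right, H.conj.invol]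
    simp only [hy]
    module
  -- products of `z` with rational vectors orthogonal to `e'`
  have hlam : ∀ u : ι → F₀, S.rat.h u u = 0 → S.rat.h u e' = 0 → H.h z (ratVec F₀ u) ∈ F₀ := by
    intro u hu hue
    have hu2 := S.h_ratVec_zero hu
    have hue2 := S.h_ratVec_zero hue
    by_cases hus : u ∈ Submodule.span F₀ {e'}
    · obtain ⟨j, rfl⟩ := Submodule.mem_span_singleton.mp hus
      rw [ratVec_smul, H.smul_right, hze, mul_zero]; exact F₀.zero_mem
    set b : F := (δ : F) * H.h z (ratVec F₀ u) with hb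
    have hT := S.sT_mem hM hu2 hδ δ.2
    have h1 := K.mul_mem (K.mul_mem hT (hRz 1)) (K.inv_mem hT)
    rw [sR_conj] at h1
    have e1 : (H.sT hu2 hδ).1.1 (ratVec F₀ e') = ratVec F₀ e' := by
      rw [sT_apply, H.eq_zero_symm hue2, mul_zero, zero_smul, add_zero]
    have e2 : (H.sT hu2 hδ).1.1 z = z + b • ratVec F₀ u := by rw [sT_apply]
    have hyy : H.h (z + b • ratVec F₀ u) (z + b • ratVec F₀ u) = 0 := by rw [← e2, H.map_form, hzz]
    have hyu : H.h (z + b • ratVec F₀ u) (ratVec F₀ e') = 0 := by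
      rw [H.add_left, hze, H.smul_left, hue2, mul_zero, add_zero]
    have ht : (1 : F) * H.σ 1 * b * H.h (ratVec F₀ u) z + H.σ ((1 : F) * H.σ 1 * b * H.h (ratVec F₀ u) z) = 0 := by
      rw [map_one, one_mul, one_mul, hb, map_mul, map_mul, ← H.symm z (ratVec F₀ u),
        ← H.symm (ratVec F₀ u) z]
      linear_combination (H.h z (ratVec F₀ u) * H.h (ratVec F₀ u) z) * hδ
    rw [H.sR_congr _ _ _ he2' hyy hyu e1 e2 (OneMemClass.coe_one F₀),
      H.sR_add_right' he2' hzz hze hu2 hue2 b 1 rfl hyy hyu ht rfl, mul_assoc] at h1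
    have h1' : H.sR he2' hzz hze 1 ∈ K := by simpa using hRz 1
    have := S.mem_of_sR hd hM hnon he' hus he2' hu2 hue2 ht ((K.mul_mem_cancel_left h1').mp h1)
    rw [one_mul] at this
    have h5 : b ∈ F₀ := by
      have h6 := S.mem ⟨_, this⟩
      rwa [H.conj.invol] at h6
    have h7 := F₀.mul_mem (F₀.inv_mem δ.2) h5
    rwa [hb, inv_mul_cancel_left₀ hδ'] at h7
  have hlam' : ∀ u : ι → F₀, S.rat.h u e' = 0 → H.h z (ratVec F₀ u) ∈ F₀ := by
    intro u hu
    have hu' := S.rat.orth_le_span_isotropic (by rw [Module.finrank_fintype_fun_eq_card]; omega) he' hee'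
      (S.rat.mem_orth_span.mpr fun w hw => by rw [Set.mem_singleton_iff] at hw; rw [hw]; exact hu)
    clear hu
    induction hu' using Submodule.span_induction with
    | mem y hy => exact hlam y hy.1 hy.2
    | zero => rw [ratVec_zero, H.zero_right]; exact F₀.zero_mem
    | add a b _ _ ha hb => rw [ratVec_add, H.add_right]; exact F₀.add_mem ha hb
    | smul a b _ hb => rw [ratVec_smul, H.smul_right]; exact F₀.mul_mem (S.mem a) hb
  -- decompose `z`
  obtain ⟨u', hu', -⟩ := S.rat.exists_hyperbolic he' hee'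
  have hu'' : S.rat.h u' e' = 1 := by rw [S.rat.symm, hu', map_one]
  set p : ι → (ι → F₀) := fun i => Pi.single i 1 - S.rat.h (Pi.single i 1) e' • u'
  have hp : ∀ i, S.rat.h (p i) e' = 0 := fun i => by
    rw [S.rat.sub_left, S.rat.smul_left, hu'', mul_one, sub_self]
  set r : ι → F₀ := fun i => ⟨_, hlam' _ (hp i)⟩
  set l := H.h z (ratVec F₀ u') with hl
  have hzr : z = ratVec F₀ r + l • ratVec F₀ e' := by
    funext i
    have h1 : H.h (ratVec F₀ e') (ratVec F₀ (Pi.single i 1)) = (e' i : F) := S.h_single _ i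
    have h2 : z i = H.h z (ratVec F₀ (p i)) + H.σ (S.rat.h (Pi.single i 1) e' : F) * l := by
      rw [hl, ← H.smul_right, ← H.add_right, ← ratVec_smul, ← ratVec_add, sub_add_cancel, S.h_single]
    rw [← S.h_ratVec, ← H.symm, h1] at h2
    rw [h2, Pi.add_apply, Pi.smul_apply, smul_eq_mul, mul_comm l]
    rfl
  have hre : H.h (ratVec F₀ r) (ratVec F₀ e') = 0 := by
    have := hze
    rwa [hzr, H.add_left, H.smul_left, he2', mul_zero, add_zero] at this
  have hrr : H.h (ratVec F₀ r) (ratVec F₀ r) = 0 := by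
    have := hzz
    simpa only [hzr, H.add_left, H.add_right, H.smul_left, H.smul_right,
      he2', hre, H.eq_zero_symm hre, mul_zero, add_zero] using this
  have hrs : r ∉ Submodule.span F₀ {e'} := fun h => by
    obtain ⟨j, hj⟩ := Submodule.mem_span_singleton.mp h
    rw [← hj, ratVec_smul, ← add_smul] at hzr
    have hσμ : H.σ μ ≠ 0 := (map_ne_zero _).mpr hμ
    have hy' : g.1.1 (ratVec F₀ v) = g.1.1 ((((j : F) + l) / (H.σ μ * μ)) • ratVec F₀ e) := by
      apply smul_right_injective (ι → F) hσμ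
      change H.σ μ • y = H.σ μ • _
      rw [← hz, hzr, map_smul, hge, smul_smul, smul_smul]
      congr 1
      field_simp
    have hy'' := g.1.1.injective hy'
    obtain ⟨i, hi⟩ := Function.ne_iff.mp he
    refine hve (Submodule.mem_span_singleton.mpr ⟨v i / e i, funext fun i' => Subtype.ext ?_⟩)
    have h1 := congrFun hy'' i
    have h2 := congrFun hy'' i'
    simp only [ratVec, Pi.smul_apply, smul_eq_mul] at h1 h2
    have hei : (e i : F) ≠ 0 := fun h0 => hi (Subtype.ext h0)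
    simp only [Pi.smul_apply, smul_eq_mul]
    push_cast
    rw [h1, h2]
    field_simp
  have hle : l ∈ F₀ := by
    set c : F := (δ : F) / (μ * H.σ μ) with hc
    have hc0 : c ∈ F₀ := by rw [hc, div_eq_mul_inv]; exact F₀.mul_mem δ.2 (F₀.inv_mem hNμ)
    have hNne : μ * H.σ μ ≠ 0 := mul_ne_zero hμ ((map_ne_zero _).mpr hμ)
    have hcs : c + H.σ c = 0 := by
      rw [hc, map_div₀, H.conj.norm_mem, ← add_div, hδ, zero_div]
    have hcne : c ≠ 0 := div_ne_zero hδ' hNne
    have hy0 : H.h (l • ratVec F₀ e' + ratVec F₀ r) (l • ratVec F₀ e' + ratVec F₀ r) = 0 := by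
      rw [add_comm, ← hzr, hzz]
    have h1 := K.mul_mem (K.mul_mem hg (S.sT_mem hM hv2 hδ δ.2)) (K.inv_mem hg)
    rw [sT_conj] at h1
    have h2 : H.sT hy0 hcs ∈ K := by
      convert h1 using 1
      refine H.sisom_ext fun x => ?_
      rw [sT_apply, sT_apply, add_comm (l • _), ← hzr, hz, H.smul_right, H.conj.invol, smul_smul, ← hy]
      congr 2
      rw [hc]
      have hσμ : H.σ μ ≠ 0 := (map_ne_zero _).mpr hμ
      field_simp
    rw [H.sT_split he2' hrr hre l hy0 hcs, mul_assoc] at h2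
    have hTr := S.sT_mem hM hrr hcs hc0
    have hcomm : Commute (H.sT he2' (H.skew_norm_mul l hcs)) (H.sT hrr hcs) := H.sisom_ext fun x => by
      simp only [smul_mul_apply, sT_apply, H.add_left, H.smul_left, hre, H.eq_zero_symm hre]
      module
    rw [← mul_assoc, hcomm.eq, mul_assoc] at h2
    have h3 := (K.mul_mem_cancel_left hTr).mp h2
    rw [← (H.sR_sT_commute he2' hrr hre (c * l) (H.skew_norm_mul l hcs)).eq] at h3
    have h4 := F₀.mul_mem (F₀.inv_mem hc0) (S.mem_of_sR hd hM hnon he' hrs he2' hrr hre _ h3)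
    rwa [inv_mul_cancel_left₀ hcne] at h4
  refine ⟨(⟨_, F₀.inv_mem hNμ⟩ : F₀) • (r + (⟨l, hle⟩ : F₀) • e'), ?_⟩
  rw [ratVec_smul, ratVec_add, ratVec_smul]
  change y = μ • (μ * H.σ μ)⁻¹ • (ratVec F₀ r + l • ratVec F₀ e')
  rw [← hzr, hz, smul_smul, smul_smul]
  have hσμ : H.σ μ ≠ 0 := (map_ne_zero _).mpr hμ
  rw [show μ * (μ * H.σ μ)⁻¹ * H.σ μ = 1 by field_simp, one_smul]

theorem image_orth_of_fix [Finite F] (hd : 4 ≤ Fintype.card ι)
    (hM : ∀ g : H.SIsom, RatScaled F₀ g.1.1.toLinearMap → g ∈ K) (hnon : S.NoNonrational K) {g : H.SIsom}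
    (hg : g ∈ K) {e e' : ι → F₀} (he : e ≠ 0) (he' : e' ≠ 0) (hee : S.rat.h e e = 0) (hee' : S.rat.h e' e' = 0)
    {μ : F} (hge : g.1.1 (ratVec F₀ e) = μ • ratVec F₀ e') {v : ι → F₀} (hev : S.rat.h v e = 0) :
    ∃ p, g.1.1 (ratVec F₀ v) = μ • ratVec F₀ p := by
  haveI : Finite F₀ := Finite.of_injective _ Subtype.val_injective
  have hv := S.rat.orth_le_span_isotropic (by rw [Module.finrank_fintype_fun_eq_card]; omega) he hee
    (S.rat.mem_orth_span.mpr fun w hw => by rw [Set.mem_singleton_iff] at hw; rw [hw]; exact hev)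
  clear hev
  induction hv using Submodule.span_induction with
  | mem y hy => exact S.image_isotropic_of_fix hd hM hnon hg he he' hee hee' hge hy.1 hy.2
  | zero => exact ⟨0, by rw [ratVec_zero, map_zero, smul_zero]⟩
  | add a b _ _ ha hb =>
    obtain ⟨p, hp⟩ := ha
    obtain ⟨p', hp'⟩ := hb
    exact ⟨p + p', by rw [ratVec_add, ratVec_add, map_add, hp, hp', smul_add]⟩
  | smul a b _ hb =>
    obtain ⟨p, hp⟩ := hb
    exact ⟨a • p, by rw [ratVec_smul, ratVec_smul, map_smul, hp, smul_comm]⟩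

theorem ratScaled_of_point [Finite F] (hd : 4 ≤ Fintype.card ι)
    (hM : ∀ g : H.SIsom, RatScaled F₀ g.1.1.toLinearMap → g ∈ K) (hnon : S.NoNonrational K) {g : H.SIsom}
    (hg : g ∈ K) {e e' : ι → F₀} (he : e ≠ 0) (he' : e' ≠ 0) (hee : S.rat.h e e = 0) (hee' : S.rat.h e' e' = 0)
    {μ : F} (hge : g.1.1 (ratVec F₀ e) = μ • ratVec F₀ e') : RatScaled F₀ g.1.1.toLinearMap := by
  haveI : Finite F₀ := Finite.of_injective _ Subtype.val_injective
  have hμ : μ ≠ 0 := fun h => ratVec_ne_zero he (g.1.1.map_eq_zero_iff.mp (by rw [hge, h, zero_smul]))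
  obtain ⟨v, w, hvo, hwo, hvv, hww, hvw⟩ := S.rat.exists_hyperbolic_orth (Submodule.span F₀ {e})
    (by rw [finrank_span_singleton he, Module.finrank_fintype_fun_eq_card]; omega)
  have hev : S.rat.h v e = 0 := hvo e (Submodule.mem_span_singleton_self e)
  have hv0 : v ≠ 0 := fun h => by rw [h, S.rat.zero_left] at hvw; exact zero_ne_one hvw
  obtain ⟨p, hp⟩ := S.image_isotropic_of_fix hd hM hnon hg he he' hee hee' hge hvv hev
  have hp0 : p ≠ 0 := fun h =>
    ratVec_ne_zero hv0 (g.1.1.map_eq_zero_iff.mp (by rw [hp, h, ratVec_zero, smul_zero]))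
  have hpp : S.rat.h p p = 0 := S.rat_h_eq_zero (by
    have h0 := H.map_form g.1 (ratVec F₀ v) (ratVec F₀ v)
    rw [hp, H.smul_left, H.smul_right, S.h_ratVec_zero hvv, mul_eq_zero, mul_eq_zero] at h0
    exact (h0.resolve_left hμ).resolve_left ((map_ne_zero _).mpr hμ))
  refine ⟨μ, hμ, fun u => ?_⟩
  obtain ⟨e₁, he₁⟩ := S.rat.exists_partner he
  have he₁' : S.rat.h e₁ e = 1 := by rw [S.rat.symm, he₁, map_one]
  set x := e₁ - S.rat.h e₁ v • w
  have hxv : S.rat.h x v = 0 := by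
    rw [S.rat.sub_left, S.rat.smul_left, S.rat.symm w v, hvw, map_one, mul_one, sub_self]
  have hxe : S.rat.h x e = 1 := by
    rw [S.rat.sub_left, S.rat.smul_left, hwo e (Submodule.mem_span_singleton_self e), mul_zero, sub_zero, he₁']
  obtain ⟨p₁, hp₁⟩ := S.image_orth_of_fix hd hM hnon hg he he' hee hee' hge (v := u - S.rat.h u e • x)
    (by rw [S.rat.sub_left, S.rat.smul_left, hxe, mul_one, sub_self])
  obtain ⟨p₂, hp₂⟩ := S.image_orth_of_fix hd hM hnon hg hv0 hp0 hvv hpp hp hxv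
  refine ⟨p₁ + S.rat.h u e • p₂, ?_⟩
  rw [LinearEquiv.coe_coe, ratVec_add, ratVec_smul, smul_add, ← hp₁, smul_comm, ← hp₂, ← map_smul, ← map_add,
    ← ratVec_smul, ← ratVec_add, sub_add_cancel]

theorem ratScaled_of_orth_image [Finite F] (hd : 4 ≤ Fintype.card ι)
    (hM : ∀ g : H.SIsom, RatScaled F₀ g.1.1.toLinearMap → g ∈ K) (hnon : S.NoNonrational K) {g : H.SIsom}
    (hg : g ∈ K) {v a : ι → F₀} (hv : v ≠ 0) (ha : a ≠ 0) (hvv : S.rat.h v v = 0) (haa : S.rat.h a a = 0)
    (h : H.h (g.1.1 (ratVec F₀ v)) (ratVec F₀ a) = 0) : RatScaled F₀ g.1.1.toLinearMap := by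
  obtain ⟨δ, hδ0, hδ⟩ := S.exists_rat_skew
  have hv2 := S.h_ratVec_zero hvv
  have hs := K.mul_mem (K.mul_mem hg (S.sT_mem hM hv2 hδ δ.2)) (K.inv_mem hg)
  rw [sT_conj] at hs
  have hgv2 : H.h (g.1.1 (ratVec F₀ v)) (g.1.1 (ratVec F₀ v)) = 0 := by rw [H.map_form, hv2]
  have hsa : (H.sT hgv2 hδ).1.1 (ratVec F₀ a) = (1 : F) • ratVec F₀ a := by
    rw [sT_apply, H.eq_zero_symm h, mul_zero, zero_smul, add_zero, one_smul]
  have hse := (S.ratScaled_of_point hd hM hnon hs ha ha haa haa hsa).exact_of_fix ha (u₀ := a)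
    (by rw [LinearEquiv.coe_coe, hsa, one_smul])
  obtain ⟨u, hu⟩ : ∃ u, H.h (g.1.1 (ratVec F₀ v)) (ratVec F₀ u) ≠ 0 := by
    by_contra hc
    push Not at hc
    exact H.isom_ne_zero g.1 (ratVec_ne_zero hv) (S.ext_left hc)
  obtain ⟨w, hw⟩ := hse u
  rw [LinearEquiv.coe_coe, sT_apply] at hw
  set d := (δ : F) * H.h (ratVec F₀ u) (g.1.1 (ratVec F₀ v))
  have hd0 : d ≠ 0 := mul_ne_zero (fun h0 => hδ0 (Subtype.ext h0)) (fun h0 => hu (H.eq_zero_symm h0))
  have hgv : g.1.1 (ratVec F₀ v) = d⁻¹ • ratVec F₀ (w - u) := by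
    rw [ratVec_sub, ← hw, add_sub_cancel_left, smul_smul, inv_mul_cancel₀ hd0, one_smul]
  refine S.ratScaled_of_point hd hM hnon hg hv (fun h0 => ?_) hvv (S.rat_h_eq_zero ?_) hgv
  · rw [h0, ratVec_zero, smul_zero] at hgv
    exact H.isom_ne_zero g.1 (ratVec_ne_zero hv) hgv
  · have := hgv2
    rw [hgv, H.smul_left, H.smul_right, mul_eq_zero, mul_eq_zero] at this
    exact (this.resolve_left (inv_ne_zero hd0)).resolve_left ((map_ne_zero _).mpr (inv_ne_zero hd0))

/-- The fixed space of an exact map is spanned by rational fixed vectors. -/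
theorem exists_rat_fix [Finite F] {z : (ι → F) →ₗ[F] (ι → F)} (hz : RatExact F₀ z)
    (h2 : 2 ≤ Module.finrank F (LinearMap.ker (z - LinearMap.id))) :
    ∃ a : ι → F₀, a ≠ 0 ∧ S.rat.h a a = 0 ∧ z (ratVec F₀ a) = ratVec F₀ a := by
  haveI : Finite F₀ := Finite.of_injective _ Subtype.val_injective
  haveI : FiniteDimensional F₀ F := Module.Finite.of_finite
  let A : Submodule F₀ (ι → F₀) :=
    { carrier := {u | z (ratVec F₀ u) = ratVec F₀ u}
      add_mem' := fun {a b} ha hb => by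
        change z (ratVec F₀ (a + b)) = _
        rw [ratVec_add, map_add, ha, hb]
      zero_mem' := by change z (ratVec F₀ 0) = _; rw [ratVec_zero, map_zero]
      smul_mem' := fun c a ha => by
        change z (ratVec F₀ (c • a)) = _
        rw [ratVec_smul, map_smul, ha] }
  have hA : 2 ≤ Module.finrank F₀ A := by
    by_contra hlt
    obtain ⟨a, ha⟩ : ∃ a : A, ∀ b : A, ∃ c : F₀, c • a = b := by
      rcases Nat.lt_or_ge (Module.finrank F₀ A) 1 with h0 | h0
      · exact ⟨0, fun b => ⟨0, by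
          haveI : Subsingleton A := (Module.finrank_zero_iff (R := F₀) (M := A)).mp (by omega)
          exact Subsingleton.elim _ _⟩⟩
      · obtain ⟨a, -, ha⟩ := finrank_eq_one_iff'.mp (show Module.finrank F₀ A = 1 by omega)
        exact ⟨a, ha⟩
    have hle : LinearMap.ker (z - LinearMap.id) ≤ Submodule.span F {ratVec F₀ (a : ι → F₀)} := by
      intro x hx
      rw [LinearMap.mem_ker, LinearMap.sub_apply, LinearMap.id_apply, sub_eq_zero] at hx
      let β := Module.finBasis F₀ F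
      let y : Fin (Module.finrank F₀ F) → ι → F₀ := fun k i => β.repr (x i) k
      have hxy : x = ∑ k, β k • ratVec F₀ (y k) := by
        funext i
        conv_lhs => rw [← β.sum_repr (x i)]
        simp [ratVec, y, Subfield.smul_def, mul_comm]
      choose y' hy' using fun k => hz (y k)
      have hzx : ∑ k, β k • ratVec F₀ (y' k) = ∑ k, β k • ratVec F₀ (y k) := by
        rw [← hxy]; conv_rhs => rw [← hx, hxy]
        simp [map_sum, hy']
      have hy : ∀ k, y' k = y k := fun k => funext fun i => by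
        have h := congrArg (fun v : ι → F => β.repr (v i) k) hzx
        have hsum : ∀ w : Fin (Module.finrank F₀ F) → ι → F₀,
            (∑ k, β k • ratVec F₀ (w k)) i = ∑ k, w k i • β k := fun w => by
          simp [ratVec, Subfield.smul_def, mul_comm]
        simp only [hsum, Module.Basis.repr_sum_self] at h
        exact h
      rw [hxy]
      refine Submodule.sum_mem _ fun k _ => Submodule.smul_mem _ _ ?_
      obtain ⟨c, hc⟩ := ha ⟨y k, show z _ = _ by rw [hy', hy]⟩
      refine Submodule.mem_span_singleton.mpr ⟨(c : F), ?_⟩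
      rw [← ratVec_smul, ← Submodule.coe_smul, hc]
    have := (Submodule.finrank_mono hle).trans (finrank_span_le_card _)
    simp at this
    omega
  obtain ⟨a, haA, ha0, haa⟩ := S.rat.exists_isotropic_mem A hA
  exact ⟨a, ha0, haa, haA⟩

/-- The moved part of an exact involution of determinant one contains a rational isotropic vector. -/
theorem exists_rat_moved [Finite F] {w : H.SIsom} (hw : RatExact F₀ w.1.1.toLinearMap)
    (hww : w.1.1 * w.1.1 = 1) (hw1 : w.1.1 ≠ 1) :
    ∃ u v : ι → F₀, v ≠ 0 ∧ S.rat.h v v = 0 ∧ ratVec F₀ v = w.1.1 (ratVec F₀ u) - ratVec F₀ u := by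
  classical
  haveI : Finite F₀ := Finite.of_injective _ Subtype.val_injective
  choose r hr using hw
  let d : (ι → F₀) →ₗ[F₀] (ι → F₀) :=
    { toFun := fun u => r u - u
      map_add' := fun a b => ratVec_injective (by
        simp only [ratVec_sub, ratVec_add, ← hr, LinearEquiv.coe_coe, map_add]; abel)
      map_smul' := fun c a => ratVec_injective (by
        simp only [ratVec_sub, ratVec_smul, RingHom.id_apply, ← hr, LinearEquiv.coe_coe, map_smul, smul_sub]) }
  have hd : ∀ u, ratVec F₀ (d u) = w.1.1 (ratVec F₀ u) - ratVec F₀ u := fun u => by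
    change ratVec F₀ (r u - u) = _
    rw [ratVec_sub, ← hr]; rfl
  by_cases h2 : 2 ≤ Module.finrank F₀ (LinearMap.range d)
  · obtain ⟨v, ⟨u, hu⟩, hv0, hvv⟩ := S.rat.exists_isotropic_mem _ h2
    exact ⟨u, v, hv0, hvv, by rw [← hu, hd]⟩
  obtain ⟨u, hu⟩ : ∃ u, d u ≠ 0 := by
    by_contra hc
    push Not at hc
    refine hw1 (LinearEquiv.toLinearMap_injective (ext_on_ratVec (F₀ := F₀) fun u => ?_))
    exact sub_eq_zero.mp (by rw [LinearEquiv.coe_coe, LinearEquiv.coe_coe, LinearEquiv.coe_one, id_eq, ← hd, hc, ratVec_zero])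
  refine ⟨u, d u, hu, ?_, hd u⟩
  set v := d u with hv
  obtain ⟨i, hi⟩ := Function.ne_iff.mp hu
  have hsp : LinearMap.range d = Submodule.span F₀ {v} := by
    refine (Submodule.eq_of_le_of_finrank_le ?_ ?_).symm
    · exact (Submodule.span_singleton_le_iff_mem _ _).mpr ⟨u, hv.symm⟩
    · rw [finrank_span_singleton hu]; omega
  let φ : Module.Dual F (ι → F) :=
    ((v i : F))⁻¹ • ((LinearMap.proj i : (ι → F) →ₗ[F] F) ∘ₗ (w.1.1.toLinearMap - LinearMap.id))
  have hwφ : w.1.1.toLinearMap = LinearMap.transvection φ (ratVec F₀ v) := ext_on_ratVec (F₀ := F₀) fun x => by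
    obtain ⟨c, hc⟩ := Submodule.mem_span_singleton.mp (hsp ▸ LinearMap.mem_range_self d x)
    have h1 := hd x
    rw [← hc, ratVec_smul, eq_sub_iff_add_eq'] at h1
    have hvi : (v i : F) ≠ 0 := fun h0 => hi (Subtype.ext h0)
    rw [LinearMap.transvection.apply]
    simp only [φ, LinearMap.smul_apply, LinearMap.comp_apply, LinearMap.sub_apply, LinearMap.id_apply,
      LinearMap.proj_apply, LinearEquiv.coe_coe, smul_eq_mul, Pi.sub_apply]
    rw [← h1, Pi.add_apply, add_sub_cancel_left, Pi.smul_apply, smul_eq_mul]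
    congr 2
    change (c : F) = (v i : F)⁻¹ * ((c : F) * (v i : F))
    field_simp
  have hfix : w.1.1 (ratVec F₀ v) = ratVec F₀ v := by
    have hdet : LinearMap.det (LinearMap.transvection φ (ratVec F₀ v)) = 1 := by
      rw [← hwφ, ← LinearEquiv.coe_det, show LinearEquiv.det w.1.1 = 1 from w.2, Units.val_one]
    rw [LinearMap.transvection.det, add_eq_left] at hdet
    rw [← LinearEquiv.coe_coe, hwφ, LinearMap.transvection.apply, hdet, zero_smul, add_zero]
  refine S.rat_h_eq_zero ?_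
  have h1 := hd u
  nth_rewrite 2 [h1]
  rw [H.sub_right]
  nth_rewrite 1 [← hfix]
  rw [H.map_form, sub_self]

theorem isCoatom_subfield_of [Finite F] {r : ℕ} (hr : r.Prime) (hr2 : r ≠ 2)
    (hcard : Nat.card F = Nat.card F₀ ^ r) (hd : 4 ≤ Fintype.card ι)
    (hfin : ∀ K : Subgroup H.SIsom, (∀ g : H.SIsom, RatScaled F₀ g.1.1.toLinearMap → g ∈ K) →
      S.NoNonrational K → ∀ g ∈ K, RatScaled F₀ g.1.1.toLinearMap) (hne : ∃ c : F, c + H.σ c = 0 ∧ c ∉ F₀)
    {M : Subgroup H.SIsom} (hM : ∀ g : H.SIsom, g ∈ M ↔ RatScaled F₀ g.1.1.toLinearMap) : IsCoatom M := by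
  classical
  haveI : Nonempty ι := Fintype.card_pos_iff.mp (by omega)
  haveI : Finite F₀ := Finite.of_injective _ Subtype.val_injective
  obtain ⟨v, hv0, hvv⟩ := S.rat.exists_isotropic_of_two_le (by rw [Module.finrank_fintype_fun_eq_card]; omega)
  have hv2 := S.h_ratVec_zero hvv
  refine ⟨fun htop => ?_, fun K hlt => ?_⟩
  · obtain ⟨c, hc, hc0⟩ := hne
    have hs := (hM _).mp (htop ▸ Subgroup.mem_top (H.sT hv2 hc))
    have hex := hs.exact_of_fix (u₀ := v) (r₀ := v) hv0 (by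
      rw [LinearEquiv.coe_coe, sT_apply, hv2, mul_zero, zero_smul, add_zero])
    obtain ⟨u, hu⟩ := S.rat.exists_partner hv0
    obtain ⟨r', hr'⟩ := hex u
    have huv : H.h (ratVec F₀ u) (ratVec F₀ v) = 1 := by
      rw [S.h_ratVec, S.rat.symm, hu, map_one]; rfl
    rw [LinearEquiv.coe_coe, sT_apply, huv, mul_one] at hr'
    obtain ⟨i, hi⟩ := Function.ne_iff.mp hv0
    have h := congrFun hr' i
    simp only [Pi.add_apply, Pi.smul_apply, smul_eq_mul, ratVec] at h
    refine hc0 ?_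
    rw [show c = (((r' i - u i) / v i : F₀) : F) by
      push_cast
      rw [eq_div_iff (fun h0 => hi (Subtype.ext h0))]
      linear_combination h]
    exact SetLike.coe_mem _
  have hH : ∀ g : H.SIsom, RatScaled F₀ g.1.1.toLinearMap → g ∈ K := fun g hg => hlt.le ((hM g).mpr hg)
  by_cases hnon : S.NoNonrational K
  swap
  · simp only [NoNonrational, not_forall] at hnon
    obtain ⟨e, he, c, hc, he0, hmem, hc0⟩ := hnon
    exact S.top_of_nonrational hr hcard (by omega) hH hc hc0 he0 he hmem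
  exfalso
  obtain ⟨g, hg, hgM⟩ := SetLike.exists_of_lt hlt
  apply hgM
  rw [hM]
  exact hfin K hH hnon g hg

theorem isCoatom_subfield [Finite F] {r : ℕ} (hr : r.Prime) (hr2 : r ≠ 2)
    (hcard : Nat.card F = Nat.card F₀ ^ r) (hd : 10 ≤ Fintype.card ι)
    (e2 : Fin 2 × Bool ↪ ι) (e4 : Fin 4 × Bool ↪ ι) (hne : ∃ c : F, c + H.σ c = 0 ∧ c ∉ F₀)
    {M : Subgroup H.SIsom} (hM : ∀ g : H.SIsom, g ∈ M ↔ RatScaled F₀ g.1.1.toLinearMap) : IsCoatom M := by
  classical
  haveI : Nonempty ι := ⟨e2 (0, true)⟩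
  haveI : Finite F₀ := Finite.of_injective _ Subtype.val_injective
  refine S.isCoatom_subfield_of hr hr2 hcard (by omega) (fun K hH hnon g hg => ?_) hne hM
  set K' : Subgroup ((ι → F) ≃ₗ[F] (ι → F)) := K.map (H.Isom.subtype.comp H.SIsom.subtype) with hK'
  have hinv : ∀ g ∈ K', ∀ z ∈ K', ∀ w ∈ K', RatExact F₀ z.toLinearMap → RatExact F₀ w.toLinearMap →
      z * z = 1 → w * w = 1 → z ≠ 1 → 2 ≤ Module.finrank F (LinearMap.ker (z.toLinearMap - LinearMap.id)) →
      g * w = z * g → RatScaled F₀ g.toLinearMap := by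
    rintro _ ⟨g, hg, rfl⟩ _ ⟨z, hz, rfl⟩ _ ⟨w, hw, rfl⟩ hze hwe hzz hww hz1 hz2 he
    have happ : ∀ x, g.1.1 (w.1.1 x) = z.1.1 (g.1.1 x) := fun x => LinearEquiv.congr_fun he x
    obtain ⟨a, ha0, haa, hza⟩ := S.exists_rat_fix hze hz2
    obtain ⟨u, v', hv0', hvv', hv'⟩ := S.exists_rat_moved hwe hww (fun h => hz1 (by
      change g.1.1 * w.1.1 = z.1.1 * g.1.1 at he
      rw [h, mul_one] at he
      exact mul_eq_right.mp he.symm))
    refine S.ratScaled_of_orth_image (by omega) hH hnon hg hv0' ha0 hvv' haa ?_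
    rw [hv', map_sub, happ, H.sub_left]
    nth_rewrite 1 [← hza]
    change H.h (z.1.1 _) (z.1.1 _) - _ = 0
    rw [H.map_form, sub_self]
  have hiso : ∀ {k : ℕ} (e : Fin k × Bool ↪ ι), pairInvol F e ∈ H.Isom := by
    intro k e x y
    rw [S.std, S.std]
    simp only [pairInvol_apply]
    exact Equiv.sum_comp (pairPerm e) fun i => x i * H.σ (y i)
  have hS : ∀ {k : ℕ} (e : Fin k × Bool ↪ ι), Even k → (⟨pairInvol F e, hiso e⟩ : H.Isom) ∈ H.SIsom :=
    fun e hk => by rw [mem_SIsom, det_pairInvol, hk.neg_one_pow]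
  exact ratScaled_of_involutions' hr hr2 hcard hinv
    (i := pairInvol F e2) (j := pairInvol F e4)
    ⟨⟨_, hS e2 (by decide)⟩, hH _ (pairInvol_exact F₀ e2).scaled, rfl⟩
    ⟨⟨_, hS e4 (by decide)⟩, hH _ (pairInvol_exact F₀ e4).scaled, rfl⟩
    (pairInvol_exact F₀ e2) (pairInvol_exact F₀ e4) (pairInvol_sq e2) (pairInvol_sq e4) 2 4 (by norm_num)
    (by norm_num) (finrank_fix_pairInvol e2) (finrank_fix_pairInvol e4) (by norm_num) (by omega) (by omega)
    (by omega) ⟨g, hg, rfl⟩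

end UStd

end HermSpace

end Cfsg.Lib.Classical
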