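import Mathlib
import Cfsg.Agent.Classical.Unitary.SingPair
import Cfsg.Agent.Classical.Unitary.MaxMatrix

set_option autoImplicit false
set_option linter.unusedVariables false
set_option linter.unusedSimpArgs false
set_option linter.unusedSectionVars false
set_option linter.style.haveILetI false

/-!
The stabiliser of two complementary totally isotropic lines is maximal in `SU₄(q)` for `q ≥ 4`. The group holds
one marked pair on each transversal line; a second marked pair on a line gives a transvection.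
-/

namespace Cfsg.Lib.Classical

universe u v

variable {F : Type u} [Field F] {V : Type v} [AddCommGroup V] [Module F V]

namespace HermSpace

variable {H : HermSpace F V} {K : Subgroup H.SIsom}

/-- A scalable element with diagonal entries `d₁, d₂` on the line of a short root pair gives a centre. -/
theorem Pr.centre_of_diag [Finite F] {x y : V} (h : H.Pr K x y) (hind : ∀ a b : F, a • x + b • y = 0 → a = 0 ∧ b = 0)
    {d₁ d₂ : F} (h₁ : d₁ + H.σ d₁ = 0) (h₂ : d₂ + H.σ d₂ = 0) (hne : d₁ ≠ 0 ∨ d₂ ≠ 0)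
    (hD : ∀ (r : F) (hx : H.h x x = 0) (hy : H.h y y = 0) (e₁ : r * d₁ + H.σ (r * d₁) = 0)
      (e₂ : r * d₂ + H.σ (r * d₂) = 0), H.σ r = r → H.sT hx e₁ * H.sT hy e₂ ∈ K) :
    ∃ z ∈ H.uCentres K, z ≠ 0 := by
  obtain ⟨hx, hy, hyx, hK⟩ := h
  have hfix : ∀ {c d : F}, c + H.σ c = 0 → d + H.σ d = 0 → H.σ (c / d) = c / d := fun hc hd => by
    rw [map_div₀, eq_neg_of_add_eq_zero_right hc, eq_neg_of_add_eq_zero_right hd, neg_div_neg_eq]
  have hskew : ∀ {r d : F}, H.σ r = r → d + H.σ d = 0 → r * d + H.σ (r * d) = 0 := fun hr hd => by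
    rw [map_mul, hr, ← mul_add, hd, mul_zero]
  rcases eq_or_ne d₂ 0 with rfl | hd₂
  · have hd₁ : d₁ ≠ 0 := hne.resolve_right (not_not.mpr rfl)
    refine ⟨x, ⟨hx, fun c hc => ?_⟩, fun e => one_ne_zero (hind 1 0 (by simp [e])).1⟩
    have := hD (c / d₁) hx hy (hskew (hfix hc h₁) h₁) (hskew (hfix hc h₁) h₂) (hfix hc h₁)
    change H.sT hx hc ∈ K
    convert this using 1
    refine H.sisom_ext fun z => ?_
    simp [smul_mul_apply, sT_apply, div_mul_cancel₀ _ hd₁]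
  obtain ⟨a, ha⟩ := H.conj.norm_surjective (hfix h₁ h₂)
  have hz : H.h (a • x + y) (a • x + y) = 0 := by
    simp [H.add_left, H.add_right, H.smul_left, H.smul_right, hx, hy, hyx, H.eq_zero_symm hyx]
  refine ⟨a • x + y, ⟨hz, fun c hc => ?_⟩, fun e => one_ne_zero (hind a 1 (by rwa [one_smul])).2⟩
  change H.sT hz hc ∈ K
  rw [H.sT_split hx hy hyx a hz hc]
  have hr := hfix hc h₂
  have := hD (c / d₂) hx hy (hskew hr h₁) (hskew hr h₂) hr
  refine K.mul_mem ?_ (hK _)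
  convert this using 1
  refine H.sisom_ext fun z => ?_
  simp only [smul_mul_apply, sT_apply, H.add_left, H.smul_left, hyx, ha, div_mul_eq_mul_div,
    mul_div_assoc c d₁ d₂, div_self hd₂, mul_one]
  field_simp

/-- Two different pairs on one line give a centre. -/
theorem Pr.centre_of_two [Finite F] {x y x' y' : V} (h : H.Pr K x y) (h' : H.Pr K x' y')
    (hind : ∀ a b : F, a • x + b • y = 0 → a = 0 ∧ b = 0) {α β γ δ : F} (ex : x' = α • x + β • y)
    (ey : y' = γ • x + δ • y) (hne : α * H.σ γ ≠ 0 ∨ β * H.σ δ ≠ 0) :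
    ∃ z ∈ H.uCentres K, z ≠ 0 := by
  obtain ⟨c, hc⟩ := H.conj.ne_id
  obtain ⟨l, hl⟩ : ∃ l : F, α * H.σ γ * l - H.σ (α * H.σ γ * l) ≠ 0 ∨ β * H.σ δ * l - H.σ (β * H.σ δ * l) ≠ 0 := by
    rcases hne with h | h <;> [refine ⟨c / (α * H.σ γ), Or.inl ?_⟩; refine ⟨c / (β * H.σ δ), Or.inr ?_⟩] <;>
      rw [mul_div_cancel₀ _ h] <;> exact sub_ne_zero.mpr (Ne.symm hc)
  refine h.centre_of_diag hind (by rw [map_sub, H.conj.invol]; ring) (by rw [map_sub, H.conj.invol]; ring) hl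
    fun r hx hy e₁ e₂ hr => ?_
  obtain ⟨_, _, hyx, hK⟩ := h
  obtain ⟨hx', hy', hyx', hK'⟩ := h'
  have hm := K.mul_mem (hK' (r * l)) (K.inv_mem (hK ((r * l) * α * H.σ δ - H.σ (r * l) * γ * H.σ β)))
  convert hm using 1
  rw [eq_mul_inv_iff_mul_eq]
  refine H.sisom_ext fun z => ?_
  subst ex ey
  simp only [smul_mul_apply, sT_apply, sR_apply, H.add_left, H.sub_left, H.smul_left, H.add_right, H.smul_right,
    hx, hy, hyx, H.eq_zero_symm hyx, map_mul, map_sub, H.conj.invol, hr]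
  module

namespace SingPair

variable {W₁ W₂ : Submodule F V} (S : H.SingPair W₁ W₂ 2)
include S

variable [Finite F] [FiniteDimensional F V]

theorem exists_perp {u : V} : ∃ w ∈ W₂, w ≠ 0 ∧ H.h w u = 0 := by
  obtain ⟨v, hv, hv0⟩ := (W₂ ⊓ H.orth (Submodule.span F {u})).exists_mem_ne_zero_of_ne_bot fun h => by
    have := (S.symm.finrank_inf_orth u u).1
    rw [h, finrank_bot] at this
    omega
  exact ⟨v, hv.1, hv0, hv.2 _ (Submodule.mem_span_singleton_self u)⟩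

theorem mem_span_of_perp {v a w : V} (hv : v ∈ W₁) (hv0 : v ≠ 0) (ha : a ∈ W₁) (hw : w ∈ W₂) (hw0 : w ≠ 0)
    (h₁ : H.h w v = 0) (h₂ : H.h w a = 0) : a ∈ Submodule.span F {v} := by
  by_contra hc
  apply hw0
  refine S.symm.eq_zero hw fun p hp => H.eq_zero_symm ?_
  have hli : LinearIndependent F ![v, a] :=
    (LinearIndependent.pair_iff' hv0).mpr fun r e => hc (Submodule.mem_span_singleton.mpr ⟨r, e⟩)
  have hspan : Submodule.span F (Set.range ![v, a]) = W₁ := Submodule.eq_of_le_of_finrank_eq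
    (Submodule.span_le.mpr (by rintro _ ⟨i, rfl⟩; fin_cases i <;> simp [hv, ha]))
    (by rw [finrank_span_eq_card hli, Fintype.card_fin, S.dim₁])
  rw [← hspan, Matrix.range_cons_cons_empty, Submodule.mem_span_pair] at hp
  obtain ⟨r, t, rfl⟩ := hp
  simp [H.add_right, H.smul_right, h₁, h₂]

/-- Every totally isotropic line meets a transversal line. -/
theorem exists_transversal_point {x y : V} (hx : H.h x x = 0) (hy : H.h y y = 0) (hyx : H.h y x = 0)
    (hind : ∀ a b : F, a • x + b • y = 0 → a = 0 ∧ b = 0) :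
    ∃ σ₁ σ₂ : F, (σ₁ ≠ 0 ∨ σ₂ ≠ 0) ∧ ∃ v ∈ W₁, ∃ w ∈ W₂, v ≠ 0 ∧ w ≠ 0 ∧ H.h w v = 0 ∧
      ∃ α β : F, σ₁ • x + σ₂ • y = α • v + β • w := by
  obtain ⟨a₁, ha₁, b₁, hb₁, e₁⟩ := S.exists_split x
  obtain ⟨a₂, ha₂, b₂, hb₂, e₂⟩ := S.exists_split y
  obtain ⟨σ₁, σ₂, hσ, hab⟩ : ∃ σ₁ σ₂ : F, (σ₁ ≠ 0 ∨ σ₂ ≠ 0) ∧
      H.h (σ₁ • a₁ + σ₂ • a₂) (σ₁ • b₁ + σ₂ • b₂) = 0 := by
    rcases eq_or_ne (H.h a₁ b₁) 0 with h0 | h0
    · exact ⟨1, 0, Or.inl one_ne_zero, by simpa using h0⟩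
    have hη : ∀ {a b : V}, a ∈ W₁ → b ∈ W₂ → H.h (a + b) (a + b) = 0 → H.h a b + H.σ (H.h a b) = 0 := by
      intro a b ha hb h
      rw [H.add_left, H.add_right, H.add_right, S.h₁ ha ha, S.h₂ hb hb] at h
      rw [← H.symm b a]; linear_combination h
    have k₁ := hη ha₁ hb₁ (e₁ ▸ hx)
    have k₂ := hη ha₂ hb₂ (e₂ ▸ hy)
    have hyx' : H.h a₂ b₁ + H.h b₂ a₁ = 0 := by
      rw [e₁, e₂, H.add_left, H.add_right, H.add_right, S.h₁ ha₂ ha₁, S.h₂ hb₂ hb₁] at hyx
      linear_combination hyx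
    set m := H.h a₁ b₂ with hm
    have hm' : H.h a₂ b₁ = -H.σ m := by rw [eq_neg_iff_add_eq_zero, hm, ← H.symm b₂ a₁, hyx']
    set η := H.h a₁ b₁
    set e := H.σ (m / η) with he
    have hση : H.σ η = -η := eq_neg_of_add_eq_zero_right k₁
    obtain ⟨t, ht⟩ := H.conj.norm_surjective (a := e * H.σ e - H.h a₂ b₂ / η) (by
      rw [map_sub, H.conj.norm_mem, map_div₀, hση, eq_neg_of_add_eq_zero_right k₂, neg_div_neg_eq])
    refine ⟨t - e, 1, Or.inr one_ne_zero, ?_⟩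
    have em : H.σ e * η = m := by rw [he, H.conj.invol, div_mul_cancel₀ _ h0]
    have em' : e * η = -H.σ m := by rw [← em, map_mul, H.conj.invol, hση]; ring
    have et : t * H.σ t * η = e * H.σ e * η - H.h a₂ b₂ := by rw [ht, sub_mul, div_mul_cancel₀ _ h0]
    simp only [one_smul, H.add_left, H.add_right, H.smul_left, H.smul_right, hm', map_one, map_sub, one_mul]
    change (t - e) * ((H.σ t - H.σ e) * η) + (t - e) * m + ((H.σ t - H.σ e) * -H.σ m + H.h a₂ b₂) = 0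
    linear_combination et + (H.σ e - H.σ t) * em' + (e - t) * em
  refine ⟨σ₁, σ₂, hσ, ?_⟩
  set a := σ₁ • a₁ + σ₂ • a₂ with ha'
  set b := σ₁ • b₁ + σ₂ • b₂ with hb'
  have hs : σ₁ • x + σ₂ • y = a + b := by rw [e₁, e₂, ha', hb']; module
  have haW : a ∈ W₁ := W₁.add_mem (W₁.smul_mem _ ha₁) (W₁.smul_mem _ ha₂)
  have hbW : b ∈ W₂ := W₂.add_mem (W₂.smul_mem _ hb₁) (W₂.smul_mem _ hb₂)
  by_cases ha0 : a = 0
  · obtain ⟨v, hv, hv0, hvb⟩ := S.symm.exists_perp (u := b)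
    have hb0 : b ≠ 0 := fun hb0 => by
      rw [ha0, hb0, add_zero] at hs
      obtain ⟨h1, h2⟩ := hind _ _ hs
      exact hσ.elim (· h1) (· h2)
    exact ⟨v, hv, b, hbW, hv0, hb0, H.eq_zero_symm hvb, 0, 1, by rw [hs, ha0, zero_smul, one_smul]⟩
  by_cases hb0 : b = 0
  · obtain ⟨w, hw, hw0, hwa⟩ := S.exists_perp (u := a)
    exact ⟨a, haW, w, hw, ha0, hw0, hwa, 1, 0, by rw [hs, hb0, zero_smul, one_smul]⟩
  exact ⟨a, haW, b, hbW, ha0, hb0, H.eq_zero_symm hab, 1, 1, by rw [hs, one_smul, one_smul]⟩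

variable (hR : ∀ u ∈ W₁, ∀ w ∈ W₂, H.h w u = 0 → H.Pr K u w)
include hR

/-- A root pair off the two subspaces gives a centre. -/
theorem centre_of_pair (hq : 3 ≤ H.q) {x y : V} (h : H.Pr K x y)
    (hind : ∀ a b : F, a • x + b • y = 0 → a = 0 ∧ b = 0) (hx₁ : x ∉ W₁) (hx₂ : x ∉ W₂) :
    ∃ z ∈ H.uCentres K, z ≠ 0 := by
  classical
  obtain ⟨hx, hy, hyx, -⟩ := id h
  obtain ⟨σ₁, σ₂, hσ, v, hv, w, hw, hv0, hw0, hwv, α, β, hs⟩ := S.exists_transversal_point hx hy hyx hind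
  set s := σ₁ • x + σ₂ • y with hsdef
  have hsz : ∀ z, H.h z s = H.σ α * H.h z v + H.σ β * H.h z w := fun z => by
    rw [hs, H.add_right, H.smul_right, H.smul_right]
  have hxs : H.h x s = 0 := by rw [hsdef, H.add_right, H.smul_right, H.smul_right, hx, H.eq_zero_symm hyx]; ring
  have hys : H.h y s = 0 := by rw [hsdef, H.add_right, H.smul_right, H.smul_right, hyx, hy]; ring
  by_cases hin : H.h x w = 0 ∧ H.h x v = 0 ∧ H.h y w = 0 ∧ H.h y v = 0
  · -- the line is the transversal line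
    have mem : ∀ z, H.h z w = 0 → H.h z v = 0 → ∃ p r : F, z = p • v + r • w := by
      intro z hzw hzv
      obtain ⟨a, ha, b, hb, rfl⟩ := S.exists_split z
      rw [H.add_left, S.h₂ hb hw, add_zero] at hzw
      rw [H.add_left, S.h₁ ha hv, zero_add] at hzv
      obtain ⟨p, hp⟩ := Submodule.mem_span_singleton.mp (S.mem_span_of_perp hv hv0 ha hw hw0 hwv (H.eq_zero_symm hzw))
      obtain ⟨r, hr⟩ := Submodule.mem_span_singleton.mp
        (S.symm.mem_span_of_perp hw hw0 hb hv hv0 (H.eq_zero_symm hwv) (H.eq_zero_symm hzv))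
      exact ⟨p, r, by rw [hp, hr]⟩
    obtain ⟨α', β', ex⟩ := mem x hin.1 hin.2.1
    obtain ⟨γ', δ', ey⟩ := mem y hin.2.2.1 hin.2.2.2
    refine Pr.centre_of_two (hR v hv w hw hwv) h (fun a b e => ?_) ex ey ?_
    · have hmem : a • v = -(b • w) := eq_neg_of_add_eq_zero_left e
      have h0 : a • v = 0 := Submodule.disjoint_def.mp S.compl.disjoint _ (W₁.smul_mem _ hv)
        (by rw [hmem]; exact W₂.neg_mem (W₂.smul_mem _ hw))
      refine ⟨(smul_eq_zero.mp h0).resolve_right hv0, (smul_eq_zero.mp ?_).resolve_right hw0⟩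
      rw [h0] at e; rwa [zero_add] at e
    · by_contra hc
      push Not at hc
      have hβ : β' ≠ 0 := fun e => hx₁ (by rw [ex, e, zero_smul, add_zero]; exact W₁.smul_mem _ hv)
      have hα : α' ≠ 0 := fun e => hx₂ (by rw [ex, e, zero_smul, zero_add]; exact W₂.smul_mem _ hw)
      have hγ : γ' = 0 := H.conj.eq_zero.mp ((mul_eq_zero.mp hc.1).resolve_left hα)
      have hδ : δ' = 0 := H.conj.eq_zero.mp ((mul_eq_zero.mp hc.2).resolve_left hβ)
      exact one_ne_zero (hind 0 1 (by rw [ey, hγ, hδ]; simp)).2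
  -- a root element of the transversal line moves the pair along its line
  obtain ⟨e₁, e₂, he, he₁₂, hmove⟩ : ∃ e₁ e₂ : F, (e₁ ≠ 0 ∨ e₂ ≠ 0) ∧ σ₁ * e₁ + σ₂ * e₂ = 0 ∧
      ∀ r : F, H.σ r = r → ∃ m ∈ K, m.1.1 x = x + (r * e₁) • s ∧ m.1.1 y = y + (r * e₂) • s := by
    obtain ⟨hv', hw', hwv', hKR⟩ := hR v hv w hw hwv
    have hnot : ¬ (α = 0 ∧ β = 0) := fun h0 => by
      rw [h0.1, h0.2, zero_smul, zero_smul, add_zero] at hs
      obtain ⟨h1, h2⟩ := hind _ _ hs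
      exact hσ.elim (· h1) (· h2)
    have hsw : H.h s w = 0 := by rw [hs, H.add_left, H.smul_left, H.smul_left, H.eq_zero_symm hwv, hw']; ring
    have hsv : H.h s v = 0 := by rw [hs, H.add_left, H.smul_left, H.smul_left, hwv, hv']; ring
    -- the choice of the root parameter
    obtain ⟨l, c, hl⟩ : ∃ l c : F, ∀ z, H.h z s = 0 → ∃ E : F, (E = c * (if α = 0 then H.h z v else H.h z w)) ∧
        ((l * H.h z w) • v - (H.σ l * H.h z v) • w = E • s) ∧ (E = 0 → H.h z w = 0 ∧ H.h z v = 0) := by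
      by_cases hα : α = 0
      · have hβ : β ≠ 0 := fun h => hnot ⟨hα, h⟩
        refine ⟨1, -β⁻¹, fun z hz => ⟨-β⁻¹ * H.h z v, by rw [if_pos hα], ?_, fun hE => ?_⟩⟩ <;>
          rw [hsz, hα, map_zero, zero_mul, zero_add, mul_eq_zero, map_eq_zero] at hz
        · rw [hz.resolve_left hβ, hs, hα, map_one, one_mul]
          match_scalars <;> field_simp <;> ring
        · exact ⟨hz.resolve_left hβ,
            (mul_eq_zero.mp hE).resolve_left (neg_ne_zero.mpr (inv_ne_zero hβ))⟩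
      · by_cases hβ : β = 0
        · refine ⟨α, 1, fun z hz => ⟨H.h z w, by rw [if_neg hα, one_mul], ?_, fun hE => ⟨hE, ?_⟩⟩⟩ <;>
            rw [hsz, hβ, map_zero, zero_mul, add_zero, mul_eq_zero, map_eq_zero] at hz
          · rw [hz.resolve_left hα, hs, hβ]; module
          · exact hz.resolve_left hα
        · refine ⟨α / β, β⁻¹, fun z hz => ⟨β⁻¹ * H.h z w, by rw [if_neg hα], ?_, fun hE => ?_⟩⟩ <;>
            rw [hsz] at hz
          · have hα' : H.σ α ≠ 0 := (map_ne_zero _).mpr hα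
            have hβ' : H.σ β ≠ 0 := (map_ne_zero _).mpr hβ
            have hB : H.h z v = -(H.σ β * H.h z w) / H.σ α := by
              rw [eq_div_iff hα']; linear_combination hz
            rw [hB, hs, map_div₀]
            match_scalars <;> field_simp
          · have hA := (mul_eq_zero.mp hE).resolve_left (inv_ne_zero hβ)
            rw [hA, mul_zero, add_zero, mul_eq_zero, map_eq_zero] at hz
            exact ⟨hA, hz.resolve_left hα⟩
    obtain ⟨E₁, hE₁, a₁, z₁⟩ := hl x hxs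
    obtain ⟨E₂, hE₂, a₂, z₂⟩ := hl y hys
    refine ⟨E₁, E₂, ?_, ?_, fun r hr => ⟨H.sR hv' hw' hwv' (r * l), hKR _, ?_, ?_⟩⟩
    · by_contra hc
      push Not at hc
      exact hin ⟨(z₁ hc.1).1, (z₁ hc.1).2, (z₂ hc.2).1, (z₂ hc.2).2⟩
    · rw [hE₁, hE₂]
      have hv'' : σ₁ * H.h x v + σ₂ * H.h y v = 0 := by rw [← H.smul_left, ← H.smul_left, ← H.add_left, hsv]
      have hw'' : σ₁ * H.h x w + σ₂ * H.h y w = 0 := by rw [← H.smul_left, ← H.smul_left, ← H.add_left, hsw]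
      split_ifs
      · linear_combination c * hv''
      · linear_combination c * hw''
    · rw [sR_apply, mul_smul r E₁, ← a₁, map_mul, hr]; module
    · rw [sR_apply, mul_smul r E₂, ← a₂, map_mul, hr]; module
  -- two non-zero parameters
  obtain ⟨r₀, hr₀, hr₀0, hr₀1⟩ : ∃ r₀ : F, H.σ r₀ = r₀ ∧ r₀ ≠ 0 ∧ r₀ ≠ 1 := by
    by_contra hc
    push Not at hc
    have : Nat.card (fixedField H.σ) ≤ 2 := by
      let f : fixedField H.σ → Fin 2 := fun r => if (r : F) = 0 then 0 else 1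
      have hf : Function.Injective f := fun a b hab => by
        apply Subtype.ext
        simp only [f] at hab
        by_cases ha : (a : F) = 0 <;> by_cases hb : (b : F) = 0 <;> simp [ha, hb] at hab ⊢
        exact Subtype.ext ((hc _ a.2 ha).trans (hc _ b.2 hb).symm)
      simpa using Nat.card_le_card_of_injective f hf
    exact absurd this (by change ¬ H.q ≤ 2; omega)
  obtain ⟨r, hr, hr0, hgood⟩ : ∃ r : F, H.σ r = r ∧ r ≠ 0 ∧ (e₂ * σ₁ ≠ 0 → 1 + r * e₁ * σ₁ ≠ 0) := by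
    by_cases h1 : 1 + e₁ * σ₁ = 0
    · refine ⟨r₀, hr₀, hr₀0, fun _ h => hr₀1 ?_⟩
      linear_combination -h + r₀ * h1
    · exact ⟨1, map_one _, one_ne_zero, fun _ => by rwa [one_mul]⟩
  obtain ⟨m, hm, mx, my⟩ := hmove r hr
  refine Pr.centre_of_two h (h.map hm) hind (α := 1 + r * e₁ * σ₁) (β := r * e₁ * σ₂) (γ := r * e₂ * σ₁)
    (δ := 1 + r * e₂ * σ₂) (by rw [mx, hsdef]; module) (by rw [my, hsdef]; module) ?_
  by_cases h21 : e₂ * σ₁ = 0
  · refine Or.inr ?_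
    have hd : σ₁ = 0 ∧ σ₂ ≠ 0 ∧ e₂ = 0 ∨ e₂ = 0 ∧ σ₂ ≠ 0 ∨ False := by
      rcases mul_eq_zero.mp h21 with h | h
      · refine Or.inr (Or.inl ⟨h, fun h2 => ?_⟩)
        have h1 : σ₁ ≠ 0 := hσ.resolve_right (not_not.mpr h2)
        rw [h, mul_zero, add_zero] at he₁₂
        exact he.elim (fun e => e ((mul_eq_zero.mp he₁₂).resolve_left h1)) (fun e => e h)
      · have h2 : σ₂ ≠ 0 := hσ.resolve_left (not_not.mpr h)
        rw [h, zero_mul, zero_add] at he₁₂
        exact Or.inl ⟨h, h2, (mul_eq_zero.mp he₁₂).resolve_left h2⟩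
    obtain ⟨he2, hs2⟩ : e₂ = 0 ∧ σ₂ ≠ 0 := by rcases hd with ⟨-, b, c⟩ | h | h <;> [exact ⟨c, b⟩; exact h; exact h.elim]
    rw [he2]
    simp [hr0, hs2, he.resolve_right (not_not.mpr he2)]
  · refine Or.inl (mul_ne_zero (hgood h21) ((map_ne_zero _).mpr ?_))
    rw [mul_assoc]; exact mul_ne_zero hr0 h21

theorem centres_one {a : V} (ha : a ∈ W₁) (ha0 : a ≠ 0) (hC : a ∈ H.uCentres K) {u : V} (hu : u ∈ W₁) :
    u ∈ H.uCentres K := by
  by_cases hua : u ∈ Submodule.span F {a}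
  · obtain ⟨c, rfl⟩ := Submodule.mem_span_singleton.mp hua
    exact uCentres_smul hC c
  exact S.centres_step hR ha W₂.zero_mem (by rwa [add_zero]) ha0 hu (H.zero_right u) hua

omit hR in
/-- The torus of the stabiliser. -/
theorem exists_torus {a v : V} (ha : a ∈ W₁) (ha0 : a ≠ 0) (hv : v ∈ W₁) (hva : v ∉ Submodule.span F {a}) {c d : F}
    (hc : c ≠ 0) (hd : d ≠ 0) (hcd : H.σ (c * d) = c * d) :
    ∃ s : H.SIsom, (∀ x ∈ W₁, s.1.1 x ∈ W₁) ∧ (∀ x ∈ W₂, s.1.1 x ∈ W₂) ∧ s.1.1 a = c • a ∧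
      (∀ b ∈ W₂, H.h v b = 0 → s.1.1 b = (H.σ c)⁻¹ • b) ∧ (∀ b ∈ W₂, H.h a b = 0 → s.1.1 b = (H.σ d)⁻¹ • b) := by
  have hli : LinearIndependent F ![(⟨a, ha⟩ : W₁), ⟨v, hv⟩] := by
    rw [LinearIndependent.pair_iff' (fun e => ha0 (congrArg Subtype.val e))]
    exact fun r e => hva (Submodule.mem_span_singleton.mpr ⟨r, congrArg Subtype.val e⟩)
  let e : Module.Basis (Fin 2) F W₁ := basisOfLinearIndependentOfCardEqFinrank' _ hli
    (by rw [Fintype.card_fin, S.dim₁])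
  obtain ⟨b, hbe, hb₁, hb₂, hb⟩ := S.exists_dual_bases_of e
  have hba : b (Sum.inl 0) = a := by rw [hbe]; simp [e]
  have hbv : b (Sum.inl 1) = v := by rw [hbe]; simp [e]
  let w : Fin 2 ⊕ Fin 2 → Fˣ := Sum.elim ![Units.mk0 c hc, Units.mk0 d hd]
    ![(Units.mk0 (H.σ c) ((map_ne_zero _).mpr hc))⁻¹, (Units.mk0 (H.σ d) ((map_ne_zero _).mpr hd))⁻¹]
  let g := b.equiv (b.unitsSMul w) (Equiv.refl _)
  have hgb : ∀ i, g (b i) = (w i : F) • b i := fun i => by
    simp [g, Module.Basis.unitsSMul_apply, Units.smul_def]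
  have hG : g ∈ H.Isom := fun x y => by
    have hb' : ∀ i j, H.h (b (Sum.inr i)) (b (Sum.inl j)) = if j = i then 1 else 0 := fun i j => by
      rw [H.symm, hb]; split_ifs <;> simp
    have key : ∀ i j, H.h (g (b i)) (g (b j)) = H.h (b i) (b j) := by
      intro i j
      rw [hgb, hgb, H.smul_left, H.smul_right]
      rcases i with i | i <;> rcases j with j | j
      · rw [S.h₁ (hb₁ i) (hb₁ j)]; ring
      · rw [hb]
        by_cases hij : i = j
        · subst hij; fin_cases i <;> simp [w, H.conj.invol, hc, hd]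
        · simp [hij]
      · rw [hb']
        by_cases hij : j = i
        · subst hij; fin_cases j <;> simp [w, hc, hd]
        · simp [hij]
      · rw [S.h₂ (hb₂ i) (hb₂ j)]; ring
    rw [← b.sum_repr x, ← b.sum_repr y]
    simp only [map_sum, map_smul, H.sum_left, H.sum_right, H.smul_left, H.smul_right, key]
  have hdet : LinearEquiv.det g = 1 := Units.ext <| by
    rw [LinearEquiv.coe_det, ← LinearMap.det_toMatrix b, Units.val_one,
      show LinearMap.toMatrix b b g.toLinearMap = Matrix.diagonal (fun i => (w i : F)) from by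
        ext i j
        rw [LinearMap.toMatrix_apply, LinearEquiv.coe_coe, hgb, map_smul, b.repr_self]
        by_cases h : i = j
        · subst h; simp
        · simp [Matrix.diagonal_apply_ne _ h, Finsupp.single_eq_of_ne h],
      Matrix.det_diagonal, Fintype.prod_sum_type]
    simp [w, Fin.prod_univ_two]
    rw [← mul_inv, ← map_mul, hcd, mul_inv_cancel₀ (mul_ne_zero hc hd)]
  let s : H.SIsom := ⟨⟨g, hG⟩, hdet⟩
  have hsb : ∀ i, s.1.1 (b i) = (w i : F) • b i := hgb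
  have hexp₁ : ∀ x ∈ W₁, x = H.h x (b (Sum.inr 0)) • a + H.h x (b (Sum.inr 1)) • v := by
    intro x hx
    refine sub_eq_zero.mp (S.eq_zero (W₁.sub_mem hx (W₁.add_mem (W₁.smul_mem _ ha) (W₁.smul_mem _ hv)))
      fun y hy => ?_)
    apply H.eq_zero_symm
    obtain ⟨p, hp⟩ : ∃ p : Fin 2 → F, y = ∑ i, p i • b (Sum.inr i) := by
      refine ⟨fun i => b.repr y (Sum.inr i), ?_⟩
      conv_lhs => rw [← b.sum_repr y, Fintype.sum_sum_type]
      rw [add_eq_right]
      have h0 : ∑ i, b.repr y (Sum.inl i) • b (Sum.inl i) ∈ W₂ := by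
        have := W₂.sub_mem hy (W₂.sum_mem (t := Finset.univ) fun i _ => W₂.smul_mem (b.repr y (Sum.inr i)) (hb₂ i))
        nth_rewrite 1 [← b.sum_repr y] at this
        rwa [Fintype.sum_sum_type, add_sub_cancel_right] at this
      exact Submodule.disjoint_def.mp S.compl.disjoint _ (W₁.sum_mem fun i _ => W₁.smul_mem _ (hb₁ i)) h0
    rw [hp, Fin.sum_univ_two, ← hba, ← hbv]
    simp [H.sub_left, H.add_left, H.add_right, H.smul_left, H.smul_right, hb]
    ring
  have hexp₂ : ∀ y ∈ W₂, y = H.h y a • b (Sum.inr 0) + H.h y v • b (Sum.inr 1) := by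
    intro y hy
    refine sub_eq_zero.mp (S.symm.eq_zero (W₂.sub_mem hy (W₂.add_mem (W₂.smul_mem _ (hb₂ 0)) (W₂.smul_mem _ (hb₂ 1))))
      fun x hx => ?_)
    rw [hexp₁ x hx]
    simp [H.sub_right, H.add_left, H.add_right, H.smul_left, H.smul_right, ← hba, ← hbv, hb, ← H.symm]
  refine ⟨s, fun x hx => ?_, fun x hx => ?_, by rw [← hba, hsb]; simp [w], fun y hy hvy => ?_, fun y hy hay => ?_⟩
  · rw [hexp₁ x hx, map_add, map_smul, map_smul, ← hba, ← hbv, hsb, hsb]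
    exact W₁.add_mem (W₁.smul_mem _ (W₁.smul_mem _ (hb₁ _))) (W₁.smul_mem _ (W₁.smul_mem _ (hb₁ _)))
  · rw [hexp₂ x hx, map_add, map_smul, map_smul, hsb, hsb]
    exact W₂.add_mem (W₂.smul_mem _ (W₂.smul_mem _ (hb₂ _))) (W₂.smul_mem _ (W₂.smul_mem _ (hb₂ _)))
  · rw [hexp₂ y hy, H.eq_zero_symm hvy, zero_smul, add_zero, map_smul, hsb, smul_comm]
    simp [w]
  · rw [hexp₂ y hy, H.eq_zero_symm hay, zero_smul, zero_add, map_smul, hsb, smul_comm]
    simp [w]

variable (hT : ∀ s : H.SIsom, (∀ x ∈ W₁, s.1.1 x ∈ W₁) → (∀ x ∈ W₂, s.1.1 x ∈ W₂) → s ∈ K)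
include hT

/-- A centre gives a centre in one of the subspaces. -/
theorem centre_in (hq : 4 ≤ H.q) {z : V} (hz : z ∈ H.uCentres K) (hz0 : z ≠ 0) :
    ∃ a ∈ H.uCentres K, a ≠ 0 ∧ (a ∈ W₁ ∨ a ∈ W₂) := by
  classical
  obtain ⟨a, ha, b, hb, rfl⟩ := S.exists_split z
  by_cases ha0 : a = 0
  · subst ha0; rw [zero_add] at hz hz0; exact ⟨b, hz, hz0, Or.inr hb⟩
  by_cases hb0 : b = 0
  · subst hb0; rw [add_zero] at hz; exact ⟨a, hz, ha0, Or.inl ha⟩
  obtain ⟨f, hf, hf0, hf1, hf2⟩ : ∃ f : F, H.σ f = f ∧ f ≠ 0 ∧ f * f ≠ 1 ∧ f ≠ 1 := by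
    haveI : Fintype F := Fintype.ofFinite F
    by_contra hc
    push Not at hc
    have hsub : ∀ r : fixedField H.σ, (r : F) ∈ ({0, 1, -1} : Finset F) := fun r => by
      simp only [Finset.mem_insert, Finset.mem_singleton]
      by_cases h0 : (r : F) = 0
      · exact Or.inl h0
      by_cases h1 : (r : F) * r = 1
      · exact Or.inr (mul_self_eq_one_iff.mp h1)
      · exact Or.inr (Or.inl (hc _ r.2 h0 h1))
    have h3 := Nat.card_le_card_of_injective (fun r : fixedField H.σ => (⟨_, hsub r⟩ : ({0, 1, -1} : Finset F)))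
      fun a b h => Subtype.ext (by simpa using h)
    rw [Nat.card_eq_finsetCard] at h3
    have := Finset.card_le_three (a := (0 : F)) (b := 1) (c := -1)
    change H.q ≤ _ at h3
    omega
  have hC : ∀ {w : V}, w ∈ H.uCentres K → H.h w w = 0 := fun h => h.1
  by_cases hη : H.h a b = 0
  · obtain ⟨v, hv, hva⟩ : ∃ v ∈ W₁, v ∉ Submodule.span F {a} := SetLike.not_le_iff_exists.mp fun h => by
      have := (Submodule.finrank_mono h).trans_eq (finrank_span_singleton ha0)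
      rw [S.dim₁] at this
      omega
    obtain ⟨s, hs₁, hs₂, hsa, -, hsb⟩ := S.exists_torus ha ha0 hv hva one_ne_zero hf0 (by rw [one_mul, hf])
    have hz' := uCentres_map hz (hT s hs₁ hs₂)
    rw [map_add, hsa, hsb b hb hη, one_smul, hf] at hz'
    obtain ⟨hbb, hb', hab', hKR⟩ := (hR a ha b hb (H.eq_zero_symm hη)).symm
    refine ⟨b, ⟨hbb, fun t ht => ?_⟩, hb0, Or.inr hb⟩
    change H.sT hbb ht ∈ K
    have key : ∀ (κ : F), a + κ • b ∈ H.uCentres K → ∀ (c : F) (hc : c + H.σ c = 0),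
        H.sT hbb (H.skew_norm_mul κ hc) * H.sT hb' hc ∈ K := by
      intro κ hκ c hc
      obtain ⟨hy, hKy⟩ := hκ
      have hy' : H.h (κ • b + a) (κ • b + a) = 0 := by rwa [add_comm]
      have hmem : H.sT hy' hc ∈ K := by rw [H.sT_congr hy' hy hc hc (add_comm _ _) rfl]; exact hKy c hc
      rw [H.sT_split hbb hb' hab' κ hy' hc] at hmem
      exact (K.mul_mem_cancel_right (hKR _)).mp hmem
    set u := 1 - f⁻¹ * H.σ f⁻¹ with hu
    have hu0 : u ≠ 0 := by
      rw [hu, map_inv₀, hf, ne_eq, sub_eq_zero]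
      intro h
      rw [← mul_inv, eq_comm, inv_eq_one] at h
      exact hf1 h
    have hc : t / u + H.σ (t / u) = 0 := by
      rw [map_div₀, hu, map_sub, map_one, H.conj.norm_mem, ← add_div, ht, zero_div]
    have h1 := key 1 (by rwa [one_smul]) _ hc
    have h2 := key f⁻¹ hz' _ hc
    convert K.mul_mem h1 (K.inv_mem h2) using 1
    rw [eq_mul_inv_iff_mul_eq]
    refine H.sisom_ext fun x => ?_
    simp only [smul_mul_apply, sT_apply, H.add_left, H.smul_left, hbb, hb', hab', H.eq_zero_symm hab', map_one,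
      one_mul]
    have e : t + f⁻¹ * H.σ f⁻¹ * (t / u) = t / u := by
      rw [eq_div_iff hu0, add_mul, mul_assoc, div_mul_cancel₀ _ hu0, hu]; ring
    rw [mul_zero, add_zero, mul_zero, add_zero]
    match_scalars
    · ring
    · ring
    · linear_combination (H.h x b) * e
  · obtain ⟨v, hv, hv0, hvb⟩ := S.symm.exists_perp (u := b)
    have hva : v ∉ Submodule.span F {a} := fun h => by
      obtain ⟨r, rfl⟩ := Submodule.mem_span_singleton.mp h
      rw [H.smul_left, mul_eq_zero] at hvb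
      exact hv0 (by rw [hvb.resolve_right hη, zero_smul])
    obtain ⟨c, hc⟩ := H.conj.norm_surjective (a := f) hf
    have hc0 : c ≠ 0 := fun h => hf0 (by rw [← hc, h, zero_mul])
    obtain ⟨s, hs₁, hs₂, hsa, hsb, -⟩ := S.exists_torus ha ha0 hv hva hc0 (inv_ne_zero hc0)
      (by rw [mul_inv_cancel₀ hc0, map_one])
    have hz' := uCentres_map hz (hT s hs₁ hs₂)
    rw [map_add, hsa, hsb b hb hvb] at hz'
    have hσc : H.σ c ≠ 0 := (map_ne_zero _).mpr hc0
    have hba : H.h b a = -H.h a b := by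
      have h := hC hz
      rw [H.add_left, H.add_right, H.add_right, S.h₁ ha ha, S.h₂ hb hb] at h
      linear_combination h
    have hne : H.h (a + b) (c • a + (H.σ c)⁻¹ • b) ≠ 0 := by
      simp only [H.add_left, H.add_right, H.smul_right, S.h₁ ha ha, S.h₂ hb hb, hba, map_inv₀, H.conj.invol]
      intro h
      apply hf2
      rw [← hc]
      field_simp at h
      have h' : H.h a b * (1 - c * H.σ c) = 0 := by linear_combination h
      linear_combination -((mul_eq_zero.mp h').resolve_left hη)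
    have hd : c - (H.σ c)⁻¹ ≠ 0 := fun h => hf2 (by
      rw [← hc]; field_simp at h; linear_combination h)
    set B := (c - (H.σ c)⁻¹)⁻¹
    set A := -B * (H.σ c)⁻¹
    have e : A • (a + b) + B • (c • a + (H.σ c)⁻¹ • b) = a := by
      have h1 : A + B * c = 1 := by
        have := inv_mul_cancel₀ hd; simp only [A, B] at this ⊢; linear_combination this
      match_scalars
      · linear_combination h1
      · simp only [A]; ring
    refine ⟨a, ?_, ha0, Or.inl ha⟩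
    rw [← e]
    exact uCentres_span hz hz' hne (by rw [e]; exact S.h₁ ha ha)

omit hR hT in
/-- Two complementary totally isotropic lines. -/
theorem isCoatom_two (hq : 4 ≤ H.q) (M : Subgroup H.SIsom)
    (hM : ∀ g : H.SIsom, g ∈ M ↔ (W₁.map g.1.1.toLinearMap = W₁ ∧ W₂.map g.1.1.toLinearMap = W₂) ∨
      (W₁.map g.1.1.toLinearMap = W₂ ∧ W₂.map g.1.1.toLinearMap = W₁)) : IsCoatom M := by
  have heq : ∀ (g : H.SIsom) (A B : Submodule F V), Module.finrank F B = Module.finrank F A →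
      (∀ x ∈ A, g.1.1 x ∈ B) → A.map g.1.1.toLinearMap = B := fun g A B hd h =>
    Submodule.eq_of_le_of_finrank_eq (by rintro _ ⟨x, hx, rfl⟩; exact h x hx)
      (by rw [LinearEquiv.finrank_map_eq, hd])
  obtain ⟨u₀, hu₀, hu₀0⟩ := W₁.exists_mem_ne_zero_of_ne_bot fun h => by
    have := S.dim₁
    rw [h, finrank_bot] at this
    omega
  constructor
  · intro htop
    obtain ⟨w, hw, hwu⟩ : ∃ w ∈ W₂, H.h w u₀ ≠ 0 := by
      by_contra hc
      push Not at hc
      exact hu₀0 (S.eq_zero hu₀ hc)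
    obtain ⟨δ, hδ0, hδ⟩ := H.conj.exists_skew
    have h := (hM (H.sT (S.h₁ hu₀ hu₀) hδ)).mp (htop ▸ Subgroup.mem_top _)
    have hne : (δ * H.h w u₀) • u₀ ∉ W₂ := fun h' => by
      have := Submodule.disjoint_def.mp S.compl.disjoint _ (W₁.smul_mem _ hu₀) h'
      simp [hδ0, hwu, hu₀0] at this
    rcases h with ⟨-, h2⟩ | ⟨h1, -⟩
    · have hmem : (H.sT (S.h₁ hu₀ hu₀) hδ).1.1 w ∈ W₂ := (SetLike.ext_iff.mp h2 _).mp (Submodule.mem_map_of_mem hw)
      rw [sT_apply] at hmem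
      exact hne ((Submodule.add_mem_iff_right _ hw).mp hmem)
    · have hmem : (H.sT (S.h₁ hu₀ hu₀) hδ).1.1 u₀ ∈ W₂ := (SetLike.ext_iff.mp h1 _).mp (Submodule.mem_map_of_mem hu₀)
      rw [sT_apply, S.h₁ hu₀ hu₀, mul_zero, zero_smul, add_zero] at hmem
      exact hu₀0 (Submodule.disjoint_def.mp S.compl.disjoint u₀ hu₀ hmem)
  intro K hlt
  obtain ⟨g, hgK, hgM⟩ := SetLike.exists_of_lt hlt
  have hT : ∀ s : H.SIsom, (∀ x ∈ W₁, s.1.1 x ∈ W₁) → (∀ x ∈ W₂, s.1.1 x ∈ W₂) → s ∈ K := fun s h1 h2 =>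
    hlt.le ((hM s).mpr (Or.inl ⟨heq _ _ _ rfl h1, heq _ _ _ rfl h2⟩))
  have hR : ∀ u ∈ W₁, ∀ w ∈ W₂, H.h w u = 0 → H.Pr K u w := fun u hu w hw hwu =>
    ⟨S.h₁ hu hu, S.h₂ hw hw, hwu, fun l => hT _
      (fun x hx => by rw [sR_apply, S.h₁ hx hu, mul_zero, zero_smul, sub_zero]; exact W₁.add_mem hx (W₁.smul_mem _ hu))
      (fun x hx => by rw [sR_apply, S.h₂ hx hw, mul_zero, zero_smul, add_zero]; exact W₂.sub_mem hx (W₂.smul_mem _ hw))⟩
  obtain ⟨s, hs₁, hs₂⟩ := S.exists_swap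
  have hsK : s ∈ K := hlt.le ((hM s).mpr (Or.inr
    ⟨heq _ _ _ (by rw [S.dim₁, S.dim₂]) hs₁, heq _ _ _ (by rw [S.dim₁, S.dim₂]) hs₂⟩))
  -- some point of one of the subspaces leaves both
  obtain ⟨k, hk, u, hu, hu0, hk₁, hk₂⟩ :
      ∃ k ∈ K, ∃ u ∈ W₁, u ≠ 0 ∧ k.1.1 u ∉ W₁ ∧ k.1.1 u ∉ W₂ := by
    by_contra hc
    push Not at hc
    have pt : ∀ k ∈ K, ∀ u ∈ W₁, k.1.1 u ∈ W₁ ∨ k.1.1 u ∈ W₂ := fun k hk u hu => by
      rcases eq_or_ne u 0 with rfl | h0
      · left; rw [map_zero]; exact W₁.zero_mem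
      exact or_iff_not_imp_left.mpr fun h => hc k hk u hu h0 h
    have key : ∀ (A : Submodule F V), Module.finrank F A = 2 → (∀ x ∈ A, g.1.1 x ∈ W₁ ∨ g.1.1 x ∈ W₂) →
        A.map g.1.1.toLinearMap = W₁ ∨ A.map g.1.1.toLinearMap = W₂ := by
      intro A hA h
      by_cases h1 : ∀ x ∈ A, g.1.1 x ∈ W₁
      · exact Or.inl (heq _ _ _ (by rw [S.dim₁, hA]) h1)
      refine Or.inr (heq _ _ _ (by rw [S.dim₂, hA]) fun x hx => ?_)
      push Not at h1
      obtain ⟨y, hy, hy1⟩ := h1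
      rcases h x hx with hx1 | hx2
      swap
      · exact hx2
      rcases h (x + y) (A.add_mem hx hy) with h' | h' <;> rw [map_add] at h'
      · exact absurd ((Submodule.add_mem_iff_right _ hx1).mp h') hy1
      · exact (Submodule.add_mem_iff_left _ ((h y hy).resolve_left hy1)).mp h'
    have k1 := key W₁ S.dim₁ fun x hx => pt g hgK x hx
    have k2 := key W₂ S.dim₂ fun x hx => by
      rw [← heq s W₁ W₂ (by rw [S.dim₁, S.dim₂]) hs₁] at hx
      obtain ⟨v, hv, rfl⟩ := hx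
      exact pt (g * s) (K.mul_mem hgK hsK) v hv
    have hne12 : W₁.map g.1.1.toLinearMap ≠ W₂.map g.1.1.toLinearMap := fun h => by
      have h' := Submodule.map_injective_of_injective g.1.1.injective h
      have hd := S.compl.disjoint
      rw [← h', disjoint_self] at hd
      have := S.dim₁
      rw [hd, finrank_bot] at this
      omega
    apply hgM
    rw [hM]
    rcases k1 with k1 | k1 <;> rcases k2 with k2 | k2
    · exact absurd (k1.trans k2.symm) hne12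
    · exact Or.inl ⟨k1, k2⟩
    · exact Or.inr ⟨k1, k2⟩
    · exact absurd (k1.trans k2.symm) hne12
  obtain ⟨w, hw, hw0, hwu⟩ := S.exists_perp (u := u)
  obtain ⟨z, hz, hz0⟩ := S.centre_of_pair hR (by omega) ((hR u hu w hw hwu).map hk) (fun a b e => by
    rw [← map_smul, ← map_smul, ← map_add, LinearEquiv.map_eq_zero_iff] at e
    have h0 : a • u = 0 := Submodule.disjoint_def.mp S.compl.disjoint _ (W₁.smul_mem _ hu)
      (by rw [eq_neg_of_add_eq_zero_left e]; exact W₂.neg_mem (W₂.smul_mem _ hw))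
    refine ⟨(smul_eq_zero.mp h0).resolve_right hu0, (smul_eq_zero.mp ?_).resolve_right hw0⟩
    rw [h0] at e; rwa [zero_add] at e) hk₁ hk₂
  obtain ⟨a, haC, ha0, ha⟩ := S.centre_in hR hT hq hz hz0
  obtain ⟨a', ha', ha'0, haC'⟩ : ∃ a' ∈ W₁, a' ≠ 0 ∧ a' ∈ H.uCentres K := by
    rcases ha with h | h
    · exact ⟨a, h, ha0, haC⟩
    · exact ⟨_, hs₂ a h, H.isom_ne_zero s.1 ha0, uCentres_map haC hsK⟩
  have h1 : ∀ u ∈ W₁, u ∈ H.uCentres K := fun u hu => S.centres_one hR ha' ha'0 haC' hu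
  refine S.top_of_all h1 fun x hx => ?_
  rw [← heq s W₁ W₂ (by rw [S.dim₁, S.dim₂]) hs₁] at hx
  obtain ⟨v, hv, rfl⟩ := hx
  exact uCentres_map (h1 v hv) hsK

end SingPair

end HermSpace

variable {F : Type u} [Field F] [Fintype F]

theorem isMaximalIn_unitary_singular_pair_four {q : ℕ} (hF : Fintype.card F = q ^ 2) (hq : 4 ≤ q)
    (D : Fin 2 → Submodule F (Fin 4 → F)) (hD : Cfsg.Geo.IsMDecomposition 2 D)
    (hts : ∀ i, Cfsg.Geo.IsTotallySingularFor (Cfsg.hermForm 4 F q) (D i)) :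
    Cfsg.Geo.IsMaximalIn (Cfsg.GU 4 F q ⊓ Cfsg.Geo.specialLinear (Fin 4) F)
      (Cfsg.Geo.decompositionStabilizer D ⊓ (Cfsg.GU 4 F q ⊓ Cfsg.Geo.specialLinear (Fin 4) F)) := by
  have hc : IsCompl (D 0) (D 1) := by
    refine ⟨(hD.indep.pairwiseDisjoint (by decide)), codisjoint_iff.mpr ?_⟩
    rw [← hD.iSup_eq_top, eq_comm]
    apply le_antisymm (iSup_le (Fin.forall_fin_two.mpr ⟨le_sup_left, le_sup_right⟩))
    exact sup_le (le_iSup D 0) (le_iSup D 1)
  have S : (stdHerm 4 hF).SingPair (D 0) (D 1) 2 := ⟨hc, stdHerm_le_orth hF (hts 0),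
    stdHerm_le_orth hF (hts 1), hD.finrank_eq 0, hD.finrank_eq 1, le_rfl⟩
  refine isMaximalIn_of_isCoatom_comap (sunitToGL hF) (range_sunitToGL hF)
    (S.isCoatom_two (by rw [stdHerm_q hF]; exact hq) _ fun g => ?_)
  have e : ∀ W : Submodule F (Fin 4 → F),
      W.map (Matrix.toLin' ((sunitToGL hF g : Matrix.GeneralLinearGroup (Fin 4) F) : Matrix (Fin 4) (Fin 4) F)) =
        W.map g.1.1.toLinearMap := fun W => by
    congr 1
    exact LinearMap.ext fun x => by rw [Matrix.toLin'_apply, sunitToGL_mulVec]; rfl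
  constructor
  · rintro ⟨σ, hσ⟩
    have h0 := (e (D 0)).symm.trans (hσ 0)
    have h1 := (e (D 1)).symm.trans (hσ 1)
    have hne : σ 0 ≠ σ 1 := σ.injective.ne (by decide)
    rcases Fin.exists_fin_two.mp ⟨σ 0, rfl⟩ with a | a <;> rcases Fin.exists_fin_two.mp ⟨σ 1, rfl⟩ with b | b
    · exact absurd (a.trans b.symm) hne
    · exact Or.inl ⟨h0.trans (congrArg D a), h1.trans (congrArg D b)⟩
    · exact Or.inr ⟨h0.trans (congrArg D a), h1.trans (congrArg D b)⟩
    · exact absurd (a.trans b.symm) hne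
  · rintro (⟨a, b⟩ | ⟨a, b⟩)
    · exact ⟨1, Fin.forall_fin_two.mpr ⟨(e _).trans a, (e _).trans b⟩⟩
    · exact ⟨Equiv.swap 0 1, Fin.forall_fin_two.mpr ⟨(e _).trans (by simpa using a), (e _).trans (by simpa using b)⟩⟩

end Cfsg.Lib.Classical
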