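import Mathlib
import Cfsg.Prelude.Def_GeometricClasses
import Cfsg.Agent.Classical.Unitary.RationalSmall
import Cfsg.Agent.Classical.Unitary.MaxMatrix
import Cfsg.Agent.Classical.Subfield.LinearMain

set_option autoImplicit false
set_option linter.unusedVariables false
set_option linter.unusedSimpArgs false
set_option linter.style.haveILetI false

/-! Maximality of the subfield subgroup of `SU`, for odd prime index. -/

namespace Cfsg.Lib.Classical

universe u

open Matrix

variable {F : Type u} [Field F] [Fintype F] {F₀ : Subfield F}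

theorem isMaximalIn_subfield_su {n q : ℕ} (hF : Fintype.card F = q ^ 2) (hn : 4 ≤ n) {r : ℕ} (hr : r.Prime)
    (hro : Odd r) (hcard : Fintype.card F = Nat.card F₀ ^ r) (P : Matrix.GeneralLinearGroup (Fin n) F)
    (hP : Cfsg.Geo.IsFormRationalStructure (Cfsg.hermForm n F q) F₀ 1 P) :
    Cfsg.Geo.IsMaximalIn (Cfsg.GU n F q ⊓ Cfsg.Geo.specialLinear (Fin n) F)
      (Cfsg.Geo.subfieldSubgroup F₀ P ⊓ (Cfsg.GU n F q ⊓ Cfsg.Geo.specialLinear (Fin n) F)) := by
  classical
  haveI : Nonempty (Fin n) := ⟨⟨0, by omega⟩⟩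
  haveI : Finite F₀ := Finite.of_injective _ Subtype.val_injective
  haveI : Fintype F₀ := Fintype.ofFinite _
  set H := stdHerm n hF with hH
  have hr2 : r ≠ 2 := fun h => by rw [h] at hro; exact absurd hro (by decide)
  have hncard : Nat.card F = Nat.card F₀ ^ r := by rw [Nat.card_eq_fintype_card]; exact hcard
  have hσmem : ∀ a : F₀, H.σ a ∈ F₀ := fun a => by
    change powConj hF a ∈ F₀
    rw [powConj_apply]; exact F₀.pow_mem a.2 q
  have hσne : ∃ a : F₀, H.σ a ≠ a := by
    by_contra hc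
    push Not at hc
    have hle : F₀ ≤ fixedField H.σ := fun x hx => hc ⟨x, hx⟩
    haveI : Finite (fixedField H.σ) := Finite.of_injective _ Subtype.val_injective
    letI : Algebra F₀ (fixedField H.σ) := (Subfield.inclusion hle).toAlgebra
    haveI : Module.Finite F₀ (fixedField H.σ) := Module.Finite.of_finite
    have h1 := Module.natCard_eq_pow_finrank (K := F₀) (V := fixedField H.σ)
    have h2 : Nat.card (fixedField H.σ) = q := stdHerm_q hF
    rw [h2] at h1
    have h3 : Nat.card F₀ ^ r = Nat.card F₀ ^ (Module.finrank F₀ (fixedField H.σ) * 2) := by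
      rw [pow_mul, ← h1, ← hF, hcard]
    have h4 := (Nat.pow_right_injective (Finite.one_lt_card : 2 ≤ Nat.card F₀)) h3
    rw [h4] at hro
    exact absurd hro (by simp)
  have S : H.UStd F₀ := ⟨fun x y => rfl, hσmem, hσne⟩
  have hskew : ∃ c : F, c + H.σ c = 0 ∧ c ∉ F₀ := by
    by_contra hc
    push Not at hc
    obtain ⟨t, ht⟩ := exists_notMem_subfield hr hncard
    obtain ⟨a, ha⟩ := hσne
    obtain ⟨δ, hδ0, hδ⟩ := H.conj.exists_skew
    have hδ₀ : δ ∈ F₀ := hc δ hδ
    have hfix : ∀ x, H.σ x = x → x ∈ F₀ := fun x hx => by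
      have h := hc (δ * x) (by rw [map_mul, hx, ← add_mul, hδ, zero_mul])
      have h' := F₀.mul_mem (F₀.inv_mem hδ₀) h
      rwa [inv_mul_cancel_left₀ hδ0] at h'
    have h1 := hfix (t + H.σ t) (H.conj.trace_mem t)
    have h2 := hfix ((a : F) * t + H.σ ((a : F) * t)) (H.conj.trace_mem _)
    rw [map_mul] at h2
    have h3 := F₀.mul_mem (F₀.inv_mem (F₀.sub_mem a.2 (hσmem a)))
      (F₀.sub_mem h2 (F₀.mul_mem (hσmem a) h1))
    refine ht ?_
    convert h3 using 1
    rw [eq_comm, inv_mul_eq_iff_eq_mul₀ (sub_ne_zero.mpr (Ne.symm ha))]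
    ring
  -- the transported form
  have hmem : ∀ u v : Fin n → F₀, H.h (P.val *ᵥ ratVec F₀ u) (P.val *ᵥ ratVec F₀ v) ∈ F₀ := fun u v => by
    have := hP _ _ (fun i => (u i).2) (fun i => (v i).2)
    rwa [one_mul, ← stdHerm_h hF] at this
  let Pl : (Fin n → F) →ₗ[F] (Fin n → F) := Matrix.toLin' P.val
  have hinv' : ∀ x, P.val *ᵥ ((P⁻¹ : Matrix.GeneralLinearGroup (Fin n) F).val *ᵥ x) = x := fun x => by
    rw [Matrix.mulVec_mulVec, ← Units.val_mul, mul_inv_cancel, Units.val_one, Matrix.one_mulVec]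
  have hinv : ∀ x, (P⁻¹ : Matrix.GeneralLinearGroup (Fin n) F).val *ᵥ (P.val *ᵥ x) = x := fun x => by
    rw [Matrix.mulVec_mulVec, ← Units.val_mul, inv_mul_cancel, Units.val_one, Matrix.one_mulVec]
  let H₁ : HermSpace F₀ (Fin n → F₀) :=
    { σ := S.rat.σ
      h := fun u v => ⟨_, hmem u v⟩
      conj := S.rat.conj
      add_left := fun x y z => Subtype.ext (by
        change H.h (Pl (ratVec F₀ (x + y))) (Pl (ratVec F₀ z)) = _
        rw [ratVec_add, map_add, H.add_left]; rfl)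
      smul_left := fun c x z => Subtype.ext (by
        change H.h (Pl (ratVec F₀ (c • x))) (Pl (ratVec F₀ z)) = _
        rw [ratVec_smul, map_smul, H.smul_left]; rfl)
      symm := fun x y => Subtype.ext (H.symm _ _)
      nondeg := fun v hv => by
        have hz : Pl (ratVec F₀ v) = 0 := by
          refine H.nondeg _ fun x => ?_
          rw [← hinv' x]
          refine LinearMap.congr_fun (ext_on_ratVec (F₀ := F₀) (f := H.lin (Pl (ratVec F₀ v)) ∘ₗ Pl) (g := 0)
            fun u => ?_) _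
          exact congrArg Subtype.val (hv u)
        refine ratVec_injective ?_
        rw [← hinv (ratVec F₀ v)]
        change (P⁻¹ : Matrix.GeneralLinearGroup (Fin n) F).val *ᵥ Pl (ratVec F₀ v) = _
        rw [hz, Matrix.mulVec_zero]; rfl }
  obtain ⟨e, he⟩ := S.rat.exists_isometry H₁ rfl rfl
  let Q : Matrix.GeneralLinearGroup (Fin n) F :=
    Matrix.GeneralLinearGroup.map (F₀.subtype : F₀ →+* F) (linToGL (Fin n) F₀ e)
  have hQ : ∀ u, Q.val *ᵥ ratVec F₀ u = ratVec F₀ (e u) := fun u => by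
    rw [← linToGL_mulVec e u]
    funext i
    change ∑ j, ((linToGL _ F₀ e).val i j : F) * (u j : F) =
      ((∑ j, (linToGL _ F₀ e).val i j * u j : F₀) : F)
    rw [AddSubmonoidClass.coe_finsetSum]
    rfl
  obtain ⟨T, hT⟩ : ∃ T, T = P * Q := ⟨_, rfl⟩
  have hTform : ∀ x y, H.h (T.val *ᵥ x) (T.val *ᵥ y) = H.h x y := by
    let Tl : (Fin n → F) →ₗ[F] (Fin n → F) := Matrix.toLin' T.val
    have key : ∀ u y, H.h (Tl y) (Tl (ratVec F₀ u)) = H.h y (ratVec F₀ u) := fun u => by
      refine LinearMap.congr_fun (ext_on_ratVec (F₀ := F₀) (f := H.lin (Tl (ratVec F₀ u)) ∘ₗ Tl)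
        (g := H.lin (ratVec F₀ u)) fun v => ?_)
      rw [LinearMap.comp_apply, HermSpace.lin_apply, HermSpace.lin_apply, S.h_ratVec]
      change H.h (T.val *ᵥ ratVec F₀ v) (T.val *ᵥ ratVec F₀ u) = _
      rw [hT, Units.val_mul, ← Matrix.mulVec_mulVec, ← Matrix.mulVec_mulVec, hQ, hQ, ← he v u]

    intro x y
    rw [H.symm, H.symm x y]
    congr 1
    refine LinearMap.congr_fun (ext_on_ratVec (F₀ := F₀) (f := H.lin (Tl x) ∘ₗ Tl) (g := H.lin x) fun u => ?_) y
    rw [LinearMap.comp_apply, HermSpace.lin_apply, HermSpace.lin_apply, H.symm, key u x, ← H.symm]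
  have hTGU : T ∈ Cfsg.GU n F q := fun x y => by rw [← stdHerm_h hF, ← stdHerm_h hF]; exact hTform x y
  let φ : H.SIsom →* Matrix.GeneralLinearGroup (Fin n) F :=
    (MulAut.conj T).toMonoidHom.comp (sunitToGL hF)
  haveI hnormal : (Cfsg.Geo.specialLinear (Fin n) F).Normal := MonoidHom.normal_ker _
  have hrange : φ.range = Cfsg.GU n F q ⊓ Cfsg.Geo.specialLinear (Fin n) F := by
    rw [MonoidHom.range_comp, range_sunitToGL]
    ext A
    constructor
    · rintro ⟨g, ⟨hg, hg'⟩, rfl⟩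
      exact ⟨Subgroup.mul_mem _ (Subgroup.mul_mem _ hTGU hg) (Subgroup.inv_mem _ hTGU), hnormal.conj_mem g hg' T⟩
    · rintro ⟨hA, hA'⟩
      refine ⟨T⁻¹ * A * T, ⟨Subgroup.mul_mem _ (Subgroup.mul_mem _ (Subgroup.inv_mem _ hTGU) hA) hTGU, ?_⟩,
        by simp [mul_assoc]⟩
      simpa using hnormal.conj_mem A hA' T⁻¹
  refine isMaximalIn_of_isCoatom_comap φ hrange ?_
  refine S.isCoatom_subfield_small hr hr2 hncard (by rw [Fintype.card_fin]; exact hn)
    (finPairs n 2 (by omega)) hskew (fun g => ?_)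
  rw [Subgroup.mem_comap, ← linToGL_mem_sup_scalars_iff]
  have hQmem : Q ∈ (Matrix.GeneralLinearGroup.map (n := Fin n) (F₀.subtype : F₀ →+* F)).range ⊔
      Cfsg.Geo.scalars (Fin n) F := Subgroup.mem_sup_left ⟨_, rfl⟩
  have e1 : φ g = MulAut.conj P (Q * sunitToGL hF g * Q⁻¹) := by
    change T * sunitToGL hF g * T⁻¹ = P * (Q * sunitToGL hF g * Q⁻¹) * P⁻¹
    rw [hT]; group
  rw [e1]
  refine (Subgroup.mem_map_iff_mem (MulAut.conj P).injective).trans ?_
  rw [Subgroup.mul_mem_cancel_right _ (Subgroup.inv_mem _ hQmem), Subgroup.mul_mem_cancel_left _ hQmem]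
  rfl

end Cfsg.Lib.Classical
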