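import Mathlib
import Cfsg.Agent.Classical.Unitary.Simple
import Cfsg.Agent.Classical.Unitary.Root
import Cfsg.Agent.Classical.Unitary.Matrix
import Cfsg.Agent.Classical.SLExtra
import Cfsg.Prelude.Def_SporadicB

/-! Unitary transvections over the field with four elements form a class of 3-transpositions. -/

set_option autoImplicit false
set_option linter.unusedSectionVars false
set_option linter.style.haveILetI false

namespace Cfsg.Lib.Classical

universe u v

variable {F : Type u} [Field F] {V : Type v} [AddCommGroup V] [Module F V]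

namespace HermSpace

variable (H : HermSpace F V)

/-- The unitary transvections with parameter one. -/
def oneTransv : Set H.SIsom :=
  {t | ∃ v : V, v ≠ 0 ∧ H.h v v = 0 ∧ ∀ x, t.1.1 x = x + H.h x v • v}

variable {H}

theorem apply_eq_of_mem {t : H.SIsom} {v : V} (ht : ∀ x, t.1.1 x = x + H.h x v • v) {s : H.SIsom}
    (hs : ∀ x, s.1.1 x = x + H.h x v • v) : t = s := H.sisom_ext fun x => by rw [ht, hs]

theorem threeTransposition [Finite F] [FiniteDimensional F V] (hd : 4 ≤ Module.finrank F V)
    (h2 : (2 : F) = 0) (hN : ∀ a : F, a ≠ 0 → a * H.σ a = 1) :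
    Cfsg.IsThreeTranspositionClass H.oneTransv := by
  classical
  haveI : Fact (Nat.Prime 2) := ⟨Nat.prime_two⟩
  have htwo : ∀ a : F, a + a = 0 := fun a => by linear_combination a * h2
  have hV2 : ∀ x : V, x + x = 0 := fun x => by rw [← one_smul F x, ← add_smul, htwo, zero_smul]
  have hskew : (1 : F) + H.σ 1 = 0 := by rw [map_one]; exact htwo 1
  have hinv : ∀ t : H.SIsom, t ∈ H.oneTransv → t * t = 1 := by
    rintro t ⟨v, -, hv, ht⟩
    refine H.sisom_ext fun x => ?_
    rw [smul_mul_apply, ht, ht, H.add_left, H.smul_left, hv, mul_zero, add_zero, add_assoc, hV2, add_zero]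
    rfl
  have hne : ∀ t : H.SIsom, t ∈ H.oneTransv → t ≠ 1 := by
    rintro t ⟨v, hv0, hv, ht⟩ e
    obtain ⟨u, hu⟩ := H.exists_partner hv0
    have h1 : t.1.1 u = u := by rw [e]; rfl
    rw [ht, add_eq_left, H.symm, hu, map_one, one_smul] at h1
    exact hv0 h1
  have hconj : ∀ (g : H.SIsom) (v : V) (t : H.SIsom), (∀ x, t.1.1 x = x + H.h x v • v) →
      ∀ x, (g * t * g⁻¹).1.1 x = x + H.h x (g.1.1 v) • g.1.1 v := fun g v t ht x => by
    show g.1.1 (t.1.1 ((g⁻¹).1.1 x)) = _
    rw [ht, map_add, map_smul]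
    have hx : g.1.1 ((g⁻¹).1.1 x) = x := g.1.1.apply_symm_apply x
    rw [hx]
    congr 2
    conv_rhs => rw [← hx, H.map_form]
  refine ⟨⟨fun t ht => orderOf_eq_prime (by rw [pow_two]; exact hinv t ht) (hne t ht), ?_⟩, ?_, ?_⟩
  · intro t htD s hsD
    have hti : t⁻¹ = t := inv_eq_of_mul_eq_one_right (hinv t htD)
    have hsi : s⁻¹ = s := inv_eq_of_mul_eq_one_right (hinv s hsD)
    obtain ⟨v, hv0, hv, ht⟩ := htD
    obtain ⟨w, hw0, hw, hs⟩ := hsD
    have e1 := hconj t w s hs
    have e2 := hconj s v t ht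
    rw [hti] at e1
    rw [hsi] at e2
    by_cases ha : H.h w v = 0
    · left
      have h1 : t * s * t = s := H.sisom_ext fun x => by rw [e1, ht w, ha, zero_smul, add_zero, hs]
      rw [pow_two, ← mul_assoc, h1]
      exact hinv s ⟨w, hw0, hw, hs⟩
    · right
      have h1 : t * s * t = s * t * s := H.sisom_ext fun x => by
        rw [e1, e2, ht w, hs v]
        set a := H.h w v with hadef
        have hvw : H.h v w = H.σ a := H.symm v w
        rw [hvw]
        have haN := hN a ha
        have he : w + a • v = a • (v + H.σ a • w) := by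
          rw [smul_add, smul_smul, haN, one_smul, add_comm]
        rw [he, H.smul_right, smul_smul]
        congr 2
        linear_combination (H.h x (v + H.σ a • w)) * haN
      calc (t * s) ^ 3 = (t * s * t) * (s * t * s) := by simp only [pow_succ, pow_zero, one_mul, mul_assoc]
        _ = 1 := by
          rw [← h1]
          calc t * s * t * (t * s * t) = t * (s * (t * t) * s) * t := by simp only [mul_assoc]
            _ = 1 := by rw [hinv t ⟨v, hv0, hv, ht⟩, mul_one, hinv s ⟨w, hw0, hw, hs⟩, mul_one, hinv t ⟨v, hv0, hv, ht⟩]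
  · obtain ⟨v, hv0, hv⟩ := H.exists_isotropic_of_two_le (by omega)
    have ht : ∀ x, (H.sT hv hskew).1.1 x = x + H.h x v • v := fun x => by rw [H.sT_apply, one_mul]
    refine ⟨H.sT hv hskew, ⟨v, hv0, hv, ht⟩, Set.ext fun g => ?_⟩
    show _ ↔ g ∈ conjugatesOf _
    simp only [conjugatesOf, Set.mem_setOf_eq, isConj_iff]
    constructor
    · rintro ⟨w, hw0, hw, hg⟩
      haveI := H.isoPt_pretransitive
      obtain ⟨c, hc⟩ := MulAction.exists_smul_eq H.SIsom (H.isoMk v hv0 hv) (H.isoMk w hw0 hw)
      rw [smul_isoMk, isoMk_eq_iff] at hc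
      obtain ⟨a, ha⟩ := hc
      refine ⟨c, H.sisom_ext fun x => ?_⟩
      rw [hconj c v _ ht, hg]
      have ha0 : a ≠ 0 := by
        rintro rfl
        rw [zero_smul] at ha
        first
          | exact hw0 ha.symm
          | exact H.isom_ne_zero c.1 hv0 ha.symm
      have haN := hN a ha0
      rw [← ha, H.smul_right, smul_smul]
      congr 2
      first
        | linear_combination (H.h x w) * haN
        | linear_combination -(H.h x w) * haN
        | linear_combination (H.h x (c.1.1 v)) * haN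
        | linear_combination -(H.h x (c.1.1 v)) * haN
    · rintro ⟨c, rfl⟩
      exact ⟨c.1.1 v, H.isom_ne_zero c.1 hv0, by rw [H.map_form, hv], hconj c v _ ht⟩
  · refine (Subgroup.map_injective H.SIsom.subtype_injective) ?_
    rw [← MonoidHom.range_eq_map, Subgroup.range_subtype]
    refine le_antisymm (Subgroup.map_subtype_le _) ?_
    refine le_trans (H.transvGroup_eq_SIsom (Or.inl hd)).ge ?_
    rw [transvGroup, Subgroup.closure_le]
    rintro _ ⟨v, hv, c, hc, rfl⟩
    refine ⟨H.sT hv hc, ?_, rfl⟩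
    by_cases hc0 : c = 0 ∨ v = 0
    · rw [show H.sT hv hc = 1 from H.sisom_ext fun x => by
        rw [H.sT_apply]
        rcases hc0 with e | e <;> simp [e]]
      exact Subgroup.one_mem _
    · push Not at hc0
      have hcc : H.σ c = c := (eq_neg_of_add_eq_zero_right hc).trans (neg_eq_of_add_eq_zero_right (htwo c))
      have hc1 : c = 1 := by
        have h := hN c hc0.1
        rw [hcc] at h
        have h3 : (c + 1) * (c + 1) = 0 := by linear_combination h + (c + 1) * h2
        exact (eq_neg_of_add_eq_zero_left (mul_self_eq_zero.mp h3)).trans (neg_eq_of_add_eq_zero_right (htwo 1))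
      refine Subgroup.subset_closure ⟨v, hc0.2, hv, fun x => ?_⟩
      rw [H.sT_apply, hc1, one_mul]

end HermSpace

theorem image_threeTranspositionClass {G G' : Type*} [Group G] [Group G'] (e : G ≃* G') {D : Set G}
    (h : Cfsg.IsThreeTranspositionClass D) : Cfsg.IsThreeTranspositionClass (e '' D) := by
  obtain ⟨⟨h1, h2⟩, ⟨d, hd, hD⟩, h3⟩ := h
  refine ⟨⟨?_, ?_⟩, ⟨e d, ⟨d, hd, rfl⟩, ?_⟩, ?_⟩
  · rintro _ ⟨a, ha, rfl⟩
    rw [← h1 a ha]
    exact orderOf_injective e.toMonoidHom e.injective a
  · rintro _ ⟨a, ha, rfl⟩ _ ⟨b, hb, rfl⟩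
    rw [← map_mul, ← map_pow, ← map_pow]
    rcases h2 a ha b hb with h | h
    · left; rw [h, map_one]
    · right; rw [h, map_one]
  · ext g
    simp only [conjugatesOf, Set.mem_setOf_eq, isConj_iff]
    constructor
    · rintro ⟨a, ha, rfl⟩
      simp only [hD, conjugatesOf, Set.mem_setOf_eq, isConj_iff] at ha
      obtain ⟨c, rfl⟩ := ha
      exact ⟨e c, by simp⟩
    · rintro ⟨c, rfl⟩
      refine ⟨e.symm c * d * (e.symm c)⁻¹, ?_, by simp⟩
      simp only [hD, conjugatesOf, Set.mem_setOf_eq, isConj_iff]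
      exact ⟨_, rfl⟩
  · show Subgroup.closure (⇑e.toMonoidHom '' D) = ⊤
    rw [← MonoidHom.map_closure, h3, ← MonoidHom.range_eq_map, MonoidHom.range_eq_top]
    exact e.surjective

variable [Fintype F]

open Matrix in
theorem su_four_threeTransposition [DecidableEq F] (hF : Fintype.card F = 4) (n : ℕ) (hn : 4 ≤ n) :
    Cfsg.IsThreeTranspositionClass {g : ↥(Cfsg.SU n F 2) |
      (((g : Matrix.SpecialLinearGroup (Fin n) F) : Matrix (Fin n) (Fin n) F) - 1).rank = 1} := by
  classical
  have hF' : Fintype.card F = 2 ^ 2 := by rw [hF]; norm_num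
  set H := stdHerm n hF' with hH
  have h2 : (2 : F) = 0 := by
    obtain ⟨p, hp⟩ := CharP.exists F
    obtain ⟨m, hpp, hm⟩ := FiniteField.card F p
    rw [hF] at hm
    have hp2 : p = 2 := by
      have hd : p ∣ 2 ^ 2 := by rw [show 2 ^ 2 = 4 by norm_num, hm]; exact dvd_pow_self p m.ne_zero
      exact (Nat.prime_dvd_prime_iff_eq hpp Nat.prime_two).mp (hpp.dvd_of_dvd_pow hd)
    subst hp2
    exact_mod_cast CharP.cast_eq_zero F 2
  have hN : ∀ a : F, a ≠ 0 → a * H.σ a = 1 := fun a ha => by
    show a * powConj hF' a = 1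
    rw [powConj_apply, ← pow_succ', show 2 + 1 = Fintype.card F - 1 by omega]
    exact FiniteField.pow_card_sub_one_eq_one a ha
  have hd : 4 ≤ Module.finrank F (Fin n → F) := by rw [Module.finrank_fin_fun]; exact hn
  have h := image_threeTranspositionClass (suEquiv n hF') (HermSpace.threeTransposition (H := H) hd h2 hN)
  convert h using 1
  ext g
  obtain ⟨t, rfl⟩ := (suEquiv n hF').surjective g
  rw [(suEquiv n hF').injective.mem_set_image]
  simp only [Set.mem_setOf_eq, suEquiv_coe]
  set M : Matrix (Fin n) (Fin n) F := (unitToGL hF' t.1).val with hM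
  have hMx : ∀ x, M *ᵥ x = t.1.1 x := fun x => unitToGL_mulVec hF' t.1 x
  constructor
  · intro hr
    obtain ⟨v, w, hv0, hw0, hvw⟩ := exists_vecMulVec_of_rank_eq_one hr
    have hg : ∀ x, t.1.1 x = x + (w ⬝ᵥ x) • v := fun x => by
      rw [← hMx, ← sub_add_cancel M 1, hvw, Matrix.add_mulVec, Matrix.one_mulVec, Matrix.vecMulVec_mulVec,
        add_comm]
      funext i
      simp [mul_comm]
    have hwv : w ⬝ᵥ v = 0 := by
      have hdet : M.det = 1 := by
        have := det_unitToGL hF' t.1
        rw [MonoidHom.mem_ker.mp t.2] at this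
        exact congrArg Units.val this
      rw [← sub_add_cancel M 1, hvw, add_comm, Matrix.vecMulVec_eq Unit,
        Matrix.det_one_add_replicateCol_mul_replicateRow] at hdet
      linear_combination hdet
    have hform : ∀ x y, (w ⬝ᵥ x) * H.h v y + H.σ (w ⬝ᵥ y) * H.h x v + (w ⬝ᵥ x) * H.σ (w ⬝ᵥ y) * H.h v v = 0 :=
      fun x y => by
        have h1 := H.map_form t.1 x y
        rw [hg, hg] at h1
        simp only [H.add_left, H.add_right, H.smul_left, H.smul_right] at h1
        linear_combination h1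
    obtain ⟨x₀, hx₀⟩ : ∃ x₀, w ⬝ᵥ x₀ = 1 := by
      obtain ⟨i, hi⟩ := Function.ne_iff.mp hw0
      exact ⟨Pi.single i (w i)⁻¹, by rw [dotProduct_single, mul_inv_cancel₀ hi]⟩
    have hvv : H.h v v = 0 := by
      have h1 := hform x₀ v
      rw [hx₀, hwv, map_zero] at h1
      linear_combination h1
    set k := H.h x₀ v with hk
    have hvy : ∀ y, H.h v y = - (H.σ (w ⬝ᵥ y) * k) := fun y => by
      have h1 := hform x₀ y
      rw [hx₀, hvv] at h1
      linear_combination h1
    have hσk : H.σ k = -k := by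
      rw [hk, ← H.symm, hvy, hx₀, map_one, one_mul]
    have hk0 : k ≠ 0 := fun e => hv0 (H.nondeg v fun x => by
      rw [H.symm, hvy, e, mul_zero, neg_zero, map_zero])
    have hk1 : k = 1 := by
      have h1 := hN k hk0
      rw [hσk] at h1
      have h3 : (k + 1) * (k + 1) = 0 := by linear_combination (-1 : F) * h1 + (k + 0) * h2
      linear_combination mul_self_eq_zero.mp h3 + (-1 : F) * h2
    refine ⟨v, hv0, hvv, fun x => ?_⟩
    rw [hg]
    congr 2
    rw [H.symm x v, hvy, hk1, mul_one, map_neg, H.conj.invol]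
    linear_combination (w ⬝ᵥ x) * h2
  · rintro ⟨v, hv0, hvv, hg⟩
    have hv0' : v ≠ 0 := hv0
    have e : M - 1 = Matrix.vecMulVec v (fun i => H.h (Pi.single i 1) v) := by
      refine Matrix.toLin'.injective (LinearMap.ext fun x => ?_)
      simp only [Matrix.toLin'_apply, Matrix.sub_mulVec, Matrix.one_mulVec, Matrix.vecMulVec_mulVec, hMx, hg,
        add_sub_cancel_left]
      have hsum : H.h x v = (fun i => H.h (Pi.single i 1) v) ⬝ᵥ x := by
        conv_lhs => rw [pi_eq_sum_univ' x]
        rw [H.sum_left]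
        exact Finset.sum_congr rfl fun i _ => by rw [H.smul_left, mul_comm]
      funext i
      simp [hsum, mul_comm]
    have hle : (M - 1).rank ≤ 1 := by rw [e]; exact Matrix.rank_vecMulVec_le _ _
    have hne : (M - 1).rank ≠ 0 := fun h0 => by
      have h1 : M = 1 := sub_eq_zero.mp (Matrix.toLin'.injective (by
        rw [map_zero, ← LinearMap.range_eq_bot]
        exact Submodule.finrank_eq_zero.mp h0))
      obtain ⟨u, hu⟩ := H.exists_partner hv0'
      have h2' := hg u
      rw [← hMx, h1, Matrix.one_mulVec, H.symm, hu, map_one, one_smul, left_eq_add] at h2'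
      exact hv0' h2'
    omega

end Cfsg.Lib.Classical
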