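import Mathlib
import Cfsg.Agent.Classical.Misc.TwoSix.Unitary
import Cfsg.Agent.Classical.Misc.TwoSix.Structure
import Cfsg.Agent.Classical.Orth.Frame.SixEigen
import Cfsg.Agent.Classical.Orth.MinusSixHom
import Cfsg.Agent.Classical.MaxBridge

set_option autoImplicit false
set_option linter.unusedVariables false
set_option linter.unusedSimpArgs false
set_option linter.unusedSectionVars false
set_option linter.style.haveILetI false
set_option linter.flexible false

/-! Normalisers of `4 ∘ 2^{1+4}` in `SU₄(p)` are maximal: they stabilise a frame of six points. -/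

namespace Cfsg.Lib.Classical.TwoSixFour

open Matrix Polynomial Cfsg.Lib Cfsg.Lib.Classical
open scoped MatrixGroups

universe u

/-- A coatom from a maximal subgroup of the range. -/
theorem isCoatom_comap_of_isMaximalIn {A G : Type*} [Group A] [Group G] (φ : A →* G) {S : Subgroup G}
    (h : Cfsg.Geo.IsMaximalIn φ.range (S ⊓ φ.range)) : IsCoatom (S.comap φ) := by
  refine ⟨fun he => h.1.ne (le_antisymm inf_le_right ?_), fun H hlt => ?_⟩
  · rintro _ ⟨a, rfl⟩
    exact ⟨(he.symm ▸ Subgroup.mem_top a : a ∈ S.comap φ), a, rfl⟩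
  have hle : S ⊓ φ.range ≤ H.map φ := by
    rintro _ ⟨hs, a, rfl⟩
    exact ⟨a, hlt.le hs, rfl⟩
  rcases h.2 _ hle (Subgroup.map_le_range _ _) with e | e
  · exact absurd (fun a ha => ((e.le ⟨a, ha, rfl⟩).1 : φ a ∈ S)) hlt.not_ge
  · rw [eq_top_iff]
    have hk : φ.ker ≤ H := fun a ha => hlt.le (show φ a ∈ S by rw [show φ a = 1 from ha]; exact S.one_mem)
    intro a _
    rw [← Subgroup.comap_map_eq_self hk, Subgroup.mem_comap, e]
    exact ⟨a, rfl⟩

variable {F : Type u} [Field F] [Fintype F]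

local notation "GG" => GL (Fin 4) F
local notation "MM" => Matrix (Fin 4) (Fin 4) F

theorem det_invol (h2 : (2 : F) ≠ 0) {A : MM} (hA : A ^ 2 = 1) (ht : A.trace = 0) : A.det = 1 := by
  have h := TwoSix.invol_trace h2 hA
  rw [ht, Fintype.card_fin] at h
  obtain ⟨h1, h3, h4⟩ := TwoSix.invol_aeval h2 hA
  obtain ⟨k, hk, hd⟩ := TwoSix.charpoly_split (r := 2) (by exact_mod_cast h2) hA h1 h3 h4
  rw [natDegree_X_sub_C, one_mul, Fintype.card_fin] at hd
  have hf : TwoSix.fixDim A = 2 := by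
    have hle : TwoSix.fixDim A ≤ 4 := by omega
    push_cast at h
    by_contra hne
    interval_cases hfd : TwoSix.fixDim A <;> push_cast at h <;>
      first
      | exact hne rfl
      | exact h2 (mul_self_eq_zero.mp (show (2 : F) * 2 = 0 by linear_combination h))
      | exact h2 (mul_self_eq_zero.mp (show (2 : F) * 2 = 0 by linear_combination -h))
      | exact h2 (by linear_combination h)
      | exact h2 (by linear_combination -h)
  obtain rfl : k = 2 := by omega
  rw [Matrix.det_eq_sign_charpoly_coeff, hk, hf, Fintype.card_fin, Polynomial.coeff_zero_eq_eval_zero]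
  norm_num

theorem det_mem {R : Subgroup GG} {g : Fin 4 → GG} (S : TwoSix.Frame R g) {ic : GG} {i : F}
    (hi : i * i = -1) (he : ∀ x ∈ R, x ^ 4 = 1) {x : GG} (hx : x ∈ R) : (x : MM).det = 1 := by
  obtain ⟨e, c, hc⟩ := S.describe hx
  obtain ⟨s, hs⟩ := S.word_sq e
  have hw : (TwoSix.word g e : MM).det = 1 := by
    by_cases he0 : e = 0
    · rw [he0, TwoSix.Frame.word_zero, Units.val_one, Matrix.det_one]
    rcases TwoSix.zmod2_cases s with rfl | rfl
    · exact det_invol S.two (by rw [_root_.sq, hs, TwoSix.eps_zero, one_smul]) (S.trace_word he0)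
    · have h := det_invol S.two (A := i • (TwoSix.word g e : MM))
        (by rw [_root_.sq, smul_mul_smul_comm, hi, hs, TwoSix.eps_one, smul_smul, neg_one_mul, neg_neg, one_smul])
        (by rw [Matrix.trace_smul, S.trace_word he0, smul_zero])
      rw [Matrix.det_smul, Fintype.card_fin, show i ^ 4 = (i * i) * (i * i) by ring, hi] at h
      linear_combination h
  have hc4 : c ^ 4 = 1 := by
    have h := congrArg (fun a : GG => (a : MM)) (he x hx)
    simp only [Units.val_pow_eq_pow_val, Units.val_one] at h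
    rw [hc, _root_.smul_pow, show (TwoSix.word g e : MM) ^ 4 = ((TwoSix.word g e : MM) * TwoSix.word g e) *
      ((TwoSix.word g e : MM) * TwoSix.word g e) by simp [pow_succ, mul_assoc], hs, smul_mul_smul_comm,
      TwoSix.eps_sq, one_smul, one_mul] at h
    exact smul_left_injective F (M := MM) (m := (1 : MM)) one_ne_zero (h.trans (one_smul F (1 : MM)).symm)
  rw [hc, Matrix.det_smul, Fintype.card_fin, hc4, hw, one_mul]

set_option maxHeartbeats 800000 in
/-- The normaliser of a group `4 ∘ 2^{1+4}` is maximal in `SU₄(p)`. -/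
theorem isMaximalIn_twoSix_unitary {p : ℕ} (hp : p.Prime) (hp2 : p ≠ 2) (hF : Fintype.card F = p ^ 2)
    {R : Subgroup GG} (hRs : Cfsg.Geo.IsSymplecticTypeGroup 2 R)
    (hRi : Cfsg.Geo.ActsAbsolutelyIrreducibly (Cfsg.Geo.matrixSet R)) (hRU : R ≤ Cfsg.GU 4 F p)
    (hR6 : Nat.card R = 64) (hRZ : Nat.card (Subgroup.center R) = 4) :
    Cfsg.Geo.IsMaximalIn (Cfsg.GU 4 F p ⊓ Cfsg.Geo.specialLinear (Fin 4) F)
      (Cfsg.Geo.subgroupNormalizer R ⊓ (Cfsg.GU 4 F p ⊓ Cfsg.Geo.specialLinear (Fin 4) F)) := by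
  classical
  haveI := Fact.mk hp
  haveI : CharP F p := charP_of_card_eq_prime_pow (f := 2) hF
  have hnd2 : ¬ p ∣ 2 := fun h => hp2 ((Nat.prime_dvd_prime_iff_eq hp Nat.prime_two).mp h)
  have h2 : (2 : F) ≠ 0 := fun h => hnd2 ((CharP.cast_eq_zero_iff F p 2).mp (by exact_mod_cast h))
  have h20 : (2 : ZMod p) ≠ 0 := fun h => hnd2 ((CharP.cast_eq_zero_iff (ZMod p) p 2).mp (by exact_mod_cast h))
  obtain ⟨g, ic, i, S, hiR, hic, hi⟩ := TwoSix.frame_of_i (Fintype.card_fin 4) h2 hRs hRi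
    (by rw [hR6]; norm_num) hRZ
  have he4 : ∀ x ∈ R, x ^ 4 = 1 := fun x hx => congrArg Subtype.val (TwoSix.four_of_exponent hRs ⟨x, hx⟩)
  have hneg : (-1 : GG) ∈ R := S.neg_one_mem
  let f : Cfsg.SU 4 F p →* GG := Matrix.SpecialLinearGroup.toGL.comp (Cfsg.SU 4 F p).subtype
  have hfv : ∀ x, (f x : MM) = (x : SL(4, F)).1 := fun x => rfl
  have hfinj : Function.Injective f := fun x y h => Subtype.ext (Subtype.ext (congrArg Units.val h))
  have hrange : f.range = Cfsg.GU 4 F p ⊓ Cfsg.Geo.specialLinear (Fin 4) F := by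
    ext x
    constructor
    · rintro ⟨d, rfl⟩
      exact ⟨(TwoSix.mem_U hF _).mpr ((UnitaryConj.mem_SU hF _).mp d.2), (TwoSix.mem_SL_iff _).mpr (d : SL(4, F)).2⟩
    · intro hx
      exact ⟨⟨⟨(x : MM), (TwoSix.mem_SL_iff x).mp hx.2⟩, (UnitaryConj.mem_SU hF _).mpr ((TwoSix.mem_U hF x).mp hx.1)⟩,
        Units.ext rfl⟩
  have hR : R ≤ f.range := fun x hx =>
    hrange ▸ ⟨hRU hx, (TwoSix.mem_SL_iff x).mpr (det_mem S (ic := ic) hi he4 hx)⟩
  obtain ⟨zel, hzel⟩ := hR hneg
  set R' := R.comap f with hR'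
  have hzR : zel ∈ R' := show f zel ∈ R by rw [hzel]; exact hneg
  -- the form
  obtain ⟨n, hn⟩ := FiniteField.exists_nonsquare (F := ZMod p) (by rw [ringChar.eq (ZMod p) p]; exact hp2)
  have hab : ∀ z₁ z₂ : ZMod p, z₁ ^ 2 + 0 * z₁ * z₂ + -n * z₂ ^ 2 = 0 → z₁ = 0 ∧ z₂ = 0 := fun z₁ z₂ h => by
    by_cases hz : z₂ = 0
    · subst hz; exact ⟨pow_eq_zero_iff (n := 2) (by norm_num) |>.mp (by linear_combination h), rfl⟩
    · exact absurd ⟨z₁ / z₂, by field_simp; linear_combination -h⟩ hn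
  have hex := LowRank.exists_minus_six_hom (F := ZMod p) (K := F) (q := p) (ZMod.card p) hF h20 0 (-n) hab
  have hnd := Refl.minusForm_nondegenerate' (F := ZMod p) 2 hab
  rw [← Refl.minusForm_coe] at hex
  set Q := Refl.minusForm 2 (ZMod p) 0 (-n) with hQ
  obtain ⟨ρ, hρr, hρ1⟩ := hex
  have hker : ∀ x, ρ x = 1 ↔ x = 1 ∨ x = zel := fun x => by
    rw [hρ1]
    refine or_congr ⟨fun h => Subtype.ext (Subtype.ext h), fun h => by rw [h]; rfl⟩ ⟨fun h => ?_, fun h => ?_⟩
    · exact hfinj (Units.ext (by rw [hzel, hfv, h, Units.val_neg, Units.val_one]))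
    · rw [h, ← hfv, hzel, Units.val_neg, Units.val_one]
  have hρz : ρ zel = 1 := (hker _).mpr (Or.inr rfl)
  have hcomm : ∀ x ∈ R'.map ρ, ∀ y ∈ R'.map ρ, x * y = y * x := by
    rintro _ ⟨x, hx, rfl⟩ _ ⟨y, hy, rfl⟩
    obtain ⟨t, ht⟩ := S.signed _ hx _ hy
    rw [← map_mul, ← map_mul]
    rcases TwoSix.zmod2_cases t with rfl | rfl
    · rw [show x * y = y * x from hfinj (Units.ext (by
        rw [map_mul, map_mul, Units.val_mul, Units.val_mul]; exact TwoSix.Sg.comm.mp ht))]
    · rw [show x * y = zel * (y * x) from hfinj (Units.ext (by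
        rw [map_mul, map_mul, map_mul, hzel, Units.val_mul, Units.val_mul, Units.val_mul, Units.val_neg, Units.val_one,
          neg_one_mul]
        exact TwoSix.Sg.anti.mp ht)), map_mul, hρz, one_mul]
  have hinv : ∀ x ∈ R'.map ρ, x * x = 1 := by
    rintro _ ⟨x, hx, rfl⟩
    rw [← map_mul, hρ1, ← hfv, map_mul, Units.val_mul]
    exact TwoSix.sq_sign (Fintype.card_fin 4) S.signed hRi he4 hx
  have hcard : Nat.card (R'.map ρ) = 32 := by
    have hc : Nat.card R' = 64 := by
      rw [← hR6, ← Subgroup.card_map_of_injective hfinj, hR', Subgroup.map_comap_eq_self hR]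
    have hk : Nat.card (ρ.comp R'.subtype).ker = 2 := by
      refine (LowRank.card_kernel_pm _ (⟨zel, hzR⟩ : R') fun x => ?_).2 fun h => ?_
      · rw [MonoidHom.mem_ker, MonoidHom.comp_apply, hker]
        exact or_congr ⟨fun h => Subtype.ext h, fun h => by rw [h]; rfl⟩ ⟨fun h => Subtype.ext h, fun h => by rw [h]; rfl⟩
      · have e : (f zel : MM) = 1 := by rw [show zel = 1 from congrArg Subtype.val h, map_one, Units.val_one]
        rw [hzel, Units.val_neg, Units.val_one] at e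
        have e' := congrFun (congrFun e 0) 0
        simp at e'
        exact h2 (by linear_combination -e')
    have h := (ρ.comp R'.subtype).ker.card_mul_index
    rw [Subgroup.index_ker, hk, hc, MonoidHom.range_comp, Subgroup.range_subtype] at h
    omega
  have hΩ : R'.map ρ ≤ Cfsg.Omega (ZMod p) (⇑Q) := hρr ▸ Subgroup.map_le_range _ _
  obtain ⟨D, hD, hN⟩ := OFr.exists_eigen_frame h20 (by simp) hnd hcomm hinv hcard hΩ
  have hmax := OFr.frame_maximal_six h20 (by rw [ZMod.card]; exact hp) (by simp) hD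
  let ψ := (Cfsg.isometryGroup (ZMod p) (⇑Q)).subtype.comp ρ
  have hψ : ψ.range = Cfsg.Geo.omegaGL (⇑Q) := by rw [MonoidHom.range_comp, hρr]; rfl
  rw [← hψ] at hmax
  refine isMaximalIn_of_isCoatom_comap f hrange ?_
  have heq : (Cfsg.Geo.subgroupNormalizer R).comap f = (Cfsg.Geo.decompositionStabilizer D).comap ψ := by
    ext h
    rw [Subgroup.mem_comap, Subgroup.mem_comap]
    refine Iff.trans ?_ (hN (ρ h)).symm
    constructor
    · rintro hh _ ⟨x, hx, rfl⟩
      refine ⟨h * x * h⁻¹, ?_, by rw [map_mul, map_mul, map_inv]⟩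
      show f (h * x * h⁻¹) ∈ R
      rw [map_mul, map_mul, map_inv]
      exact (Subgroup.mem_normalizer_iff.mp hh _).mp hx
    · intro hh
      refine TwoSix.mem_normalizer fun a ha => ?_
      obtain ⟨x, rfl⟩ := hR ha
      obtain ⟨y, hy, hxy⟩ := hh (ρ x) ⟨x, ha, rfl⟩
      rw [← map_inv, ← map_mul, ← map_mul] at hxy ⊢
      have hk : ρ (y⁻¹ * (h * x * h⁻¹)) = 1 := by rw [map_mul, map_inv, hxy, inv_mul_cancel]
      have hm : y⁻¹ * (h * x * h⁻¹) ∈ R' := by
        rcases (hker _).mp hk with e | e <;> rw [e]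
        exacts [R'.one_mem, hzR]
      have := R'.mul_mem hy hm
      rwa [mul_inv_cancel_left] at this
  rw [heq]
  exact isCoatom_comap_of_isMaximalIn ψ hmax

end Cfsg.Lib.Classical.TwoSixFour
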