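import Mathlib
import Cfsg.Prelude.Def_GeometricClasses
import Cfsg.Agent.Classical.Unitary.Matrix
import Cfsg.Agent.Classical.Unitary.Transv

/-! `GU₂(2) ≀ S_t` is contained in the monomial group `GU₁(2) ≀ S_{2t}`. -/

set_option autoImplicit false
set_option linter.unusedSimpArgs false
set_option linter.style.haveILetI false

namespace Cfsg.Lib.Classical

open Matrix

universe u

theorem finrank_finset_sup_le {F : Type u} [Field F] {n t : ℕ} (D : Fin t → Submodule F (Fin n → F))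
    (s : Finset (Fin t)) : Module.finrank F ↥(s.sup D) ≤ ∑ i ∈ s, Module.finrank F ↥(D i) := by
  classical
  induction s using Finset.induction_on with
  | empty => simp
  | insert i s hi ih =>
    rw [Finset.sup_insert, Finset.sum_insert hi]
    have := Submodule.finrank_sup_add_finrank_inf_eq (D i) (s.sup D)
    omega

theorem unitary_wreath_two {F : Type u} [Field F] [Fintype F] (n : ℕ) (hF : Fintype.card F = 4) (hn : 13 ≤ n)
    {t : ℕ} (D : Fin t → Submodule F (Fin n → F))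
    (hD : Cfsg.Geo.IsNondegenerateMDecomposition (Cfsg.hermForm n F 2) 2 D) :
    ∃ K : Subgroup (Matrix.GeneralLinearGroup (Fin n) F),
      Cfsg.Geo.decompositionStabilizer D ⊓ (Cfsg.GU n F 2 ⊓ Cfsg.Geo.specialLinear (Fin n) F) < K ∧
        K < (Cfsg.GU n F 2 ⊓ Cfsg.Geo.specialLinear (Fin n) F) := by
  classical
  have hF2 : Fintype.card F = 2 ^ 2 := by rw [hF]; norm_num
  set H := stdHerm n hF2 with hH
  have hh : ∀ u v, Cfsg.hermForm n F 2 u v = H.h u v := fun u v => (stdHerm_h hF2 u v).symm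
  haveI : CharP F 2 := by
    obtain ⟨p, hp⟩ := CharP.exists F
    haveI : Fact p.Prime := ⟨CharP.char_is_prime F p⟩
    obtain ⟨k, hk, hk'⟩ := FiniteField.card F p
    have h2 : p ∣ 2 ^ 2 := ⟨p ^ ((k : ℕ) - 1), by
      rw [← hF2, hk', ← pow_succ', Nat.sub_add_cancel k.pos]⟩
    rw [← (Nat.prime_dvd_prime_iff_eq hk Nat.prime_two).mp (hk.dvd_of_dvd_pow h2)]
    exact hp
  have h11 : (1 : F) + 1 = 0 := CharTwo.add_self_eq_zero 1
  have hσ : ∀ x, H.σ x = x ^ 2 := fun x => powConj_apply hF2 x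
  have hc : (1 : F) + H.σ 1 = 0 := by rw [map_one, h11]
  have hpow3 : ∀ z : F, z ≠ 0 → z ^ 3 = 1 := fun z hz => by
    have := FiniteField.pow_card_sub_one_eq_one z hz
    rwa [hF] at this
  have hval : ∀ x : Fin n → F, H.h x x ≠ 0 → H.h x x = 1 := by
    intro x hx
    have h1 : (H.h x x) ^ 2 = H.h x x := by rw [← hσ]; exact H.self_fixed x
    rw [pow_two] at h1
    exact mul_right_cancel₀ hx (h1.trans (one_mul _).symm)
  have horth : ∀ i j, i ≠ j → ∀ x ∈ D i, ∀ y ∈ D j, H.h x y = 0 := fun i j h x hx y hy =>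
    (hh x y).symm.trans (hD.orthogonal i j h x hx y hy)
  have ht : 4 ≤ t := by
    have h := finrank_finset_sup_le D Finset.univ
    rw [Finset.sup_univ_eq_iSup, hD.decomp.iSup_eq_top, finrank_top, Module.finrank_fin_fun,
      Finset.sum_congr rfl (fun i _ => hD.decomp.finrank_eq i), Finset.sum_const, Finset.card_univ,
      Fintype.card_fin, smul_eq_mul] at h
    omega
  have hnorm : ∀ i, ∃ e, e ∈ D i ∧ H.h e e = 1 ∧ (∃ f ∈ D i, f ≠ 0 ∧ H.h f e = 0) ∧
      ∀ x ∈ D i, H.h x x ≠ 0 → (∃ a : F, x = a • e) ∨ H.h x e = 0 := by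
    intro i
    have hnd : H.NondegOn (D i) := fun v hv hvo => by
      by_contra hv0
      obtain ⟨⟨x, hx, hxv⟩, -⟩ := hD.nondegenerate i v hv hv0
      rw [hh] at hxv
      exact hxv (hvo x hx)
    haveI : Nontrivial ↥(D i) := Module.nontrivial_of_finrank_pos (R := F) (by rw [hD.decomp.finrank_eq]; norm_num)
    obtain ⟨e, he⟩ := (H.restrict (D i) hnd).exists_norm_one
    have he' : H.h e.1 e.1 = 1 := he
    obtain ⟨b, hb⟩ : ∃ b, b ∈ D i ∧ b ∉ Submodule.span F {e.1} := by
      by_contra hc'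
      push Not at hc'
      have := Submodule.finrank_mono (show D i ≤ Submodule.span F {e.1} from hc')
      have := finrank_span_singleton (K := F) (fun h : e.1 = 0 => by rw [h, H.zero_left] at he'; exact zero_ne_one he')
      rw [hD.decomp.finrank_eq] at *
      omega
    set f := b - H.h b e.1 • e.1 with hf
    have hfe : H.h f e.1 = 0 := by rw [hf, H.sub_left, H.smul_left, he', mul_one, sub_self]
    have hf0 : f ≠ 0 := fun h => hb.2 (by
      rw [sub_eq_zero.mp h]; exact Submodule.smul_mem _ _ (Submodule.mem_span_singleton_self _))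
    have hfD : f ∈ D i := Submodule.sub_mem _ hb.1 (Submodule.smul_mem _ _ e.2)
    refine ⟨e.1, e.2, he', ⟨f, hfD, hf0, hfe⟩, fun x hx hxx => ?_⟩
    by_cases ha : H.h x e.1 = 0
    · exact Or.inr ha
    left
    refine ⟨H.h x e.1, ?_⟩
    set y := x - H.h x e.1 • e.1 with hy
    have hye : H.h y e.1 = 0 := by rw [hy, H.sub_left, H.smul_left, he', mul_one, sub_self]
    by_contra hne
    have hy0 : y ≠ 0 := fun h => hne (sub_eq_zero.mp h)
    have hyD : y ∈ D i := Submodule.sub_mem _ hx (Submodule.smul_mem _ _ e.2)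
    have hyy : H.h y y ≠ 0 := by
      intro hyy0
      obtain ⟨⟨z, hz, hzy⟩, -⟩ := hD.nondegenerate i y hyD hy0
      rw [hh] at hzy
      have hli : LinearIndependent F ![e.1, y] := by
        rw [LinearIndependent.pair_iff' (fun h => by rw [h, H.zero_left] at he'; exact zero_ne_one he')]
        intro a ha'
        rw [← ha', H.smul_left, he', mul_one] at hye
        rw [hye, zero_smul] at ha'
        exact hy0 ha'.symm
      have hspan : Submodule.span F {e.1, y} = D i := by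
        refine Submodule.eq_of_le_of_finrank_eq (Submodule.span_le.mpr ?_) ?_
        · rintro _ (rfl | rfl) <;> [exact e.2; exact hyD]
        · have h2 := finrank_span_eq_card hli
          rw [Matrix.range_cons_cons_empty, Fintype.card_fin] at h2
          rw [h2, hD.decomp.finrank_eq]
      rw [← hspan] at hz
      obtain ⟨r, s, rfl⟩ := Submodule.mem_span_pair.mp hz
      rw [H.add_left, H.smul_left, H.smul_left, hyy0, H.symm e.1 y, hye, map_zero, mul_zero, mul_zero,
        add_zero] at hzy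
      exact hzy rfl
    apply hxx
    have hx' : x = H.h x e.1 • e.1 + y := by rw [hy]; abel
    conv_lhs => rw [hx']
    rw [H.add_left, H.smul_left, H.add_right, H.add_right, H.smul_right, H.smul_right, he', hye,
      H.symm e.1 y, hye, map_zero, hσ, hval y hyy]
    have h3 := hpow3 _ ha
    linear_combination h3 + h11
  choose e he hee hf hline using hnorm
  choose f hfD hf0 hfe using hf
  have hdisj : ∀ i j, ∀ x ∈ D i, x ∈ D j → H.h x x ≠ 0 → i = j := fun i j x hx hx' hxx => by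
    by_contra hne
    exact hxx (horth i j hne x hx x hx')
  let S : Set (Fin n → F) := {x | H.h x x ≠ 0 ∧ ∃ i, x ∈ D i}
  have gh : ∀ g : Matrix.GeneralLinearGroup (Fin n) F, g ∈ Cfsg.GU n F 2 → ∀ x y,
      H.h ((g : Matrix (Fin n) (Fin n) F) *ᵥ x) ((g : Matrix (Fin n) (Fin n) F) *ᵥ y) = H.h x y := by
    intro g hg x y
    rw [← hh, ← hh]
    exact hg x y
  let K : Subgroup (Matrix.GeneralLinearGroup (Fin n) F) :=
    { carrier := {g | g ∈ Cfsg.GU n F 2 ⊓ Cfsg.Geo.specialLinear (Fin n) F ∧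
        ∀ x, (g : Matrix (Fin n) (Fin n) F) *ᵥ x ∈ S ↔ x ∈ S}
      one_mem' := ⟨one_mem _, fun x => by simp⟩
      mul_mem' := fun {g k} hg hk => ⟨mul_mem hg.1 hk.1, fun x => by
        rw [Units.val_mul, ← Matrix.mulVec_mulVec, hg.2, hk.2]⟩
      inv_mem' := fun {g} hg => ⟨inv_mem hg.1, fun x => by
        conv_rhs => rw [← Matrix.one_mulVec x, ← Units.mul_inv g, ← Matrix.mulVec_mulVec, hg.2]⟩ }
  have htr : ∀ v, H.h v v = 0 → ∃ g : Matrix.GeneralLinearGroup (Fin n) F,
      g ∈ Cfsg.GU n F 2 ⊓ Cfsg.Geo.specialLinear (Fin n) F ∧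
      ∀ x, (g : Matrix (Fin n) (Fin n) F) *ᵥ x = x + H.h x v • v := by
    intro v hv
    refine ⟨unitToGL hF2 (H.uT hv hc), ⟨?_, ?_⟩, fun x => ?_⟩
    · rw [← range_unitToGL hF2]; exact ⟨_, rfl⟩
    · show Matrix.GeneralLinearGroup.det _ = 1
      rw [det_unitToGL]
      exact MonoidHom.mem_ker.mp (H.uT_mem_SIsom hv hc)
    · rw [unitToGL_mulVec, H.uT_apply, one_mul]
  let i0 : Fin t := ⟨0, by omega⟩
  let i1 : Fin t := ⟨1, by omega⟩
  let i2 : Fin t := ⟨2, by omega⟩
  let i3 : Fin t := ⟨3, by omega⟩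
  have h01 : i0 ≠ i1 := fun h => by simp [i0, i1] at h
  have h02 : i0 ≠ i2 := fun h => by simp [i0, i2] at h
  have h03 : i0 ≠ i3 := fun h => by simp [i0, i3] at h
  have h12 : i1 ≠ i2 := fun h => by simp [i1, i2] at h
  have h13 : i1 ≠ i3 := fun h => by simp [i1, i3] at h
  have h23 : i2 ≠ i3 := fun h => by simp [i2, i3] at h
  have hne : ∀ i j, i ≠ j → H.h (e i) (e j) = 0 := fun i j h => horth i j h _ (he i) _ (he j)
  set v := e i0 + e i1 with hv
  have hvv : H.h v v = 0 := by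
    rw [hv]
    simp only [H.add_left, H.add_right, hee, hne _ _ h01, hne _ _ h01.symm, add_zero, zero_add, h11]
  obtain ⟨g, hgmem, hg⟩ := htr v hvv
  have hgK : ∀ x, x ∈ S → (g : Matrix (Fin n) (Fin n) F) *ᵥ x ∈ S := by
    rintro x ⟨hxx, i, hxi⟩
    refine ⟨by rw [gh g hgmem.1]; exact hxx, ?_⟩
    rw [hg]
    have hcase : ∀ a b, a ≠ b → v = e a + e b → i = a → ∃ j, x + H.h x v • v ∈ D j := by
      intro a b hab hvab hia
      subst hia
      have hxb : H.h x (e b) = 0 := horth i b hab _ hxi _ (he b)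
      rw [hvab, H.add_right, hxb, add_zero]
      rcases hline i x hxi hxx with ⟨c, rfl⟩ | h0
      · refine ⟨b, ?_⟩
        rw [H.smul_left, hee, mul_one, smul_add, ← add_assoc, ← add_smul, CharTwo.add_self_eq_zero, zero_smul,
          zero_add]
        exact Submodule.smul_mem _ _ (he b)
      · exact ⟨i, by rw [h0, zero_smul, add_zero]; exact hxi⟩
    by_cases hi0 : i = i0
    · exact hcase i0 i1 h01 hv hi0
    by_cases hi1 : i = i1
    · exact hcase i1 i0 h01.symm (by rw [hv, add_comm]) hi1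
    refine ⟨i, ?_⟩
    rw [show H.h x v = 0 by rw [hv, H.add_right, horth i i0 hi0 _ hxi _ (he i0), horth i i1 hi1 _ hxi _ (he i1),
      add_zero], zero_smul, add_zero]
    exact hxi
  have hgg : ∀ x, (g : Matrix (Fin n) (Fin n) F) *ᵥ ((g : Matrix (Fin n) (Fin n) F) *ᵥ x) = x := fun x => by
    rw [hg ((g : Matrix (Fin n) (Fin n) F) *ᵥ x), hg, H.add_left, H.smul_left, hvv, mul_zero, add_zero, add_assoc,
      ← add_smul, CharTwo.add_self_eq_zero, zero_smul, add_zero]
  have hgKmem : g ∈ K := ⟨hgmem, fun x => ⟨fun h => hgg x ▸ hgK _ h, hgK x⟩⟩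
  refine ⟨K, SetLike.lt_iff_le_and_exists.mpr ⟨?_, g, hgKmem, ?_⟩,
    SetLike.lt_iff_le_and_exists.mpr ⟨fun k hk => hk.1, ?_⟩⟩
  · rintro k ⟨⟨σ, hσ⟩, hk⟩
    refine ⟨hk, fun x => and_congr (by rw [gh k hk.1]) ⟨?_, ?_⟩⟩
    · rintro ⟨j, hj⟩
      refine ⟨σ.symm j, ?_⟩
      have h := hσ (σ.symm j)
      rw [Equiv.apply_symm_apply] at h
      rw [← h] at hj
      obtain ⟨y, hy, hyx⟩ := hj
      rw [Matrix.toLin'_apply] at hyx
      rwa [← (Matrix.mulVec_injective_iff_isUnit.mpr k.isUnit) hyx]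
    · rintro ⟨j, hj⟩
      exact ⟨σ j, hσ j ▸ ⟨x, hj, Matrix.toLin'_apply _ _⟩⟩
  · rintro ⟨⟨σ, hσ⟩, -⟩
    have hf' : (g : Matrix (Fin n) (Fin n) F) *ᵥ f i0 ∈ D (σ i0) := hσ i0 ▸ ⟨f i0, hfD i0, Matrix.toLin'_apply _ _⟩
    have hfv : H.h (f i0) v = 0 := by
      rw [hv, H.add_right, hfe i0, horth i0 i1 h01 _ (hfD i0) _ (he i1), add_zero]
    rw [hg, hfv, zero_smul, add_zero] at hf'
    have hσ0 : σ i0 = i0 := by
      by_contra hne'
      obtain ⟨⟨z, hz, hzf⟩, -⟩ := hD.nondegenerate i0 _ (hfD i0) (hf0 i0)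
      rw [hh] at hzf
      exact hzf (horth i0 (σ i0) (Ne.symm hne') z hz _ hf')
    have he' : (g : Matrix (Fin n) (Fin n) F) *ᵥ e i0 ∈ D (σ i0) := hσ i0 ▸ ⟨e i0, he i0, Matrix.toLin'_apply _ _⟩
    rw [hg, show H.h (e i0) v = 1 by rw [hv, H.add_right, hee, hne _ _ h01, add_zero], one_smul, hv, ← add_assoc,
      show e i0 + e i0 = 0 by rw [← two_smul F, show (2 : F) = 1 + 1 by norm_num, h11, zero_smul], zero_add, hσ0] at he'
    exact h01 (hdisj i0 i1 (e i1) he' (he i1) (by rw [hee]; exact one_ne_zero))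
  · have hwsum : H.h (e i0 + e i1 + e i2 + e i3) (e i0 + e i1 + e i2 + e i3) = 0 := by
      simp only [H.add_left, H.add_right, hee, hne _ _ h01, hne _ _ h01.symm, hne _ _ h02, hne _ _ h02.symm,
        hne _ _ h03, hne _ _ h03.symm, hne _ _ h12, hne _ _ h12.symm, hne _ _ h13, hne _ _ h13.symm,
        hne _ _ h23, hne _ _ h23.symm, add_zero, zero_add, h11]
    obtain ⟨k, hkmem, hk⟩ := htr _ hwsum
    refine ⟨k, hkmem, fun hbad => ?_⟩
    obtain ⟨-, j, hj⟩ := (hbad.2 (e i0)).mpr ⟨by rw [hee]; exact one_ne_zero, i0, he i0⟩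
    have hfv : H.h (e i0) (e i0 + e i1 + e i2 + e i3) = 1 := by
      simp only [H.add_right, hee, hne _ _ h01, hne _ _ h02, hne _ _ h03, add_zero]
    rw [hk, hfv, one_smul] at hj
    by_cases hj1 : j = i1
    · have h0 := horth i2 j (by rw [hj1]; exact h12.symm) _ (he i2) _ hj
      simp only [H.add_right, hee, hne _ _ h02.symm, hne _ _ h12.symm, hne _ _ h23, zero_add, add_zero] at h0
      exact one_ne_zero h0
    · have h0 := horth i1 j (Ne.symm hj1) _ (he i1) _ hj
      simp only [H.add_right, hee, hne _ _ h01.symm, hne _ _ h12, hne _ _ h13, zero_add, add_zero] at h0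
      exact one_ne_zero h0

end Cfsg.Lib.Classical
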